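import Groth.Agent.Ega43.LimitDescendIso
import Groth.Agent.Ega43.LimDesc

/-!
# Comparison of `LimitDescend.DescendsLim` and `LimDesc.Descends`
-/

set_option autoImplicit false
set_option backward.isDefEq.respectTransparency false
set_option backward.defeqAttrib.useBackward true

universe u

open CategoryTheory AlgebraicGeometry Limits

namespace Groth.Agent.Ega43.LimitDescendCompare

open LimitDescend LimitDescendIso

theorem descends_of_descendsLim {P : MorphismProperty Scheme.{u}} (hP : DescendsLim P) :
    LimDesc.Descends P := by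
  intro I _ _ D c hc _ _ _ i₀ X₀ f₀ _ _ _ X q f hX hf
  obtain ⟨j, hj⟩ := hP (Over.forget i₀ ⋙ D) (overCone c i₀) (isLimitOverCone c hc i₀)
    (fun j ↦ D.map j.hom) (fun φ ↦ overT_w D i₀ φ) f₀ (c.π.app i₀) (fun j ↦ by simp) q f hX hf
  exact ⟨j.left, j.hom, _, pullback.fst f₀ (D.map j.hom), pullback.snd f₀ (D.map j.hom),
    IsPullback.of_hasPullback _ _, hj⟩

theorem descendsLim_of_descends {P : MorphismProperty Scheme.{u}} [P.RespectsIso]
    (hP : LimDesc.Descends P) : DescendsLim P := by
  intro J _ _ E c hc _ _ _ B X₀ t ht f₀ _ _ _ p hp X q f hX hf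
  obtain ⟨i₀⟩ := IsCofiltered.nonempty (C := J)
  obtain ⟨i, φ, Xi, pi, fi, hpb, hfi⟩ := hP E c hc i₀ (pullback.snd f₀ (t i₀)) _ f
    (isPullback_pbCone t ht f₀ c p hp q f hX i₀) hf
  exact ⟨i, prop_of_isPullback_of_isPullback hpb (isPullback_pbSnd t ht f₀ φ) (Iso.refl _)
    (by simp) hfi⟩

theorem descends_isomorphisms : LimDesc.Descends (MorphismProperty.isomorphisms Scheme.{u}) :=
  descends_of_descendsLim descendsLim_isomorphisms

theorem descends_monomorphisms : LimDesc.Descends (MorphismProperty.monomorphisms Scheme.{u}) :=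
  descends_of_descendsLim descendsLim_monomorphisms

end Groth.Agent.Ega43.LimitDescendCompare
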