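import Groth.Agent.Ega43.LimitDescendIso

/-!
# Open immersions descend to a finite stage

`exists_corestrict`: if `f : X ⟶ lim E` factors through a quasi-compact open `U` and the corestriction
`X ⟶ U` has `P`, where `P` descends, then at a finite stage `j` the morphism `X_j ⟶ E_j` factors through
a quasi-compact open `V` and the corestriction has `P`.
-/

set_option autoImplicit false
set_option backward.isDefEq.respectTransparency false
set_option backward.defeqAttrib.useBackward true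

universe u

open CategoryTheory AlgebraicGeometry Limits

namespace Groth.Agent.Ega43.LimitDescendOpen

open LimitDescend LimitDescendIso

/-- Descent of a property `P` of the corestriction of a morphism to a quasi-compact open. -/
theorem exists_corestrict {P : MorphismProperty Scheme.{u}} [P.RespectsIso]
    (hP : DescendsLim P) {J : Type u} [SmallCategory J] [IsCofiltered J] (E : J ⥤ Scheme.{u})
    (c : Cone E) (hc : IsLimit c) [∀ {i j : J} (φ : i ⟶ j), IsAffineHom (E.map φ)]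
    [∀ j, CompactSpace (E.obj j)] [∀ j, QuasiSeparatedSpace (E.obj j)]
    {B X₀ : Scheme.{u}} (t : ∀ j, E.obj j ⟶ B)
    (ht : ∀ {i j : J} (φ : i ⟶ j), E.map φ ≫ t j = t i) (f₀ : X₀ ⟶ B)
    [LocallyOfFinitePresentation f₀] [QuasiCompact f₀] [QuasiSeparated f₀]
    (p : c.pt ⟶ B) (hp : ∀ j, c.π.app j ≫ t j = p)
    {X : Scheme.{u}} (q : X ⟶ X₀) (f : X ⟶ c.pt) (hX : IsPullback q f f₀ p)
    (U : c.pt.Opens) (hU : IsCompact (U : Set c.pt)) (g : X ⟶ U) (hg : g ≫ U.ι = f) (hPg : P g) :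
    ∃ (j : J) (V : (E.obj j).Opens) (g' : pullback f₀ (t j) ⟶ V),
      IsCompact (V : Set (E.obj j)) ∧ g' ≫ V.ι = pullback.snd f₀ (t j) ∧ P g' := by
  obtain ⟨i, V, hV, hVU⟩ := exists_preimage_eq E c hc U hU
  let XE := pbDiagram t ht f₀
  let cX := pbCone t ht f₀ c p hp q f hX
  have hcX : IsLimit cX := isLimitPbCone t ht f₀ c p hp q f hX hc
  have hWtop : cX.π.app i ⁻¹ᵁ (pullback.snd f₀ (t i) ⁻¹ᵁ V) = ⊤ := by
    have h2 : cX.π.app i ≫ pullback.snd f₀ (t i) = f ≫ c.π.app i :=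
      pbCone_π_snd t ht f₀ c p hp q f hX i
    have h3 : (cX.π.app i ≫ pullback.snd f₀ (t i)) ⁻¹ᵁ V = ⊤ := by
      rw [h2, Scheme.Hom.comp_preimage, hVU, ← hg, Scheme.Hom.comp_preimage]
      simp
    exact h3
  obtain ⟨j, φ, hj⟩ := exists_map_eq_top XE cX hcX _ hWtop
  -- pass to the stage `j`
  let V' : (E.obj j).Opens := E.map φ ⁻¹ᵁ V
  have hV' : IsCompact (V' : Set (E.obj j)) := QuasiCompact.isCompact_preimage _ V.2 hV
  have hV'U : c.π.app j ⁻¹ᵁ V' = U := by
    have h3 : (c.π.app j ≫ E.map φ) ⁻¹ᵁ V = U := by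
      rw [c.w φ, hVU]
    exact h3
  have hj' : pullback.snd f₀ (t j) ⁻¹ᵁ V' = ⊤ := by
    have h2 : XE.map φ ≫ pullback.snd f₀ (t i) = pullback.snd f₀ (t j) ≫ E.map φ :=
      (isPullback_pbSnd t ht f₀ φ).w
    have h3 : (pullback.snd f₀ (t j) ≫ E.map φ) ⁻¹ᵁ V = ⊤ := by
      rw [← h2]
      exact hj
    exact h3
  have hrange : Set.range (pullback.snd f₀ (t j)) ⊆ Set.range V'.ι := by
    rw [Scheme.Opens.range_ι]
    rintro _ ⟨x, rfl⟩
    have : x ∈ pullback.snd f₀ (t j) ⁻¹ᵁ V' := by rw [hj']; trivial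
    exact this
  let g₁ : pullback f₀ (t j) ⟶ V' := IsOpenImmersion.lift V'.ι (pullback.snd f₀ (t j)) hrange
  have hg₁ : g₁ ≫ V'.ι = pullback.snd f₀ (t j) := IsOpenImmersion.lift_fac _ _ _
  have : LocallyOfFinitePresentation (g₁ ≫ V'.ι) := by rw [hg₁]; infer_instance
  have : QuasiCompact (g₁ ≫ V'.ι) := by rw [hg₁]; infer_instance
  have : QuasiSeparated (g₁ ≫ V'.ι) := by rw [hg₁]; infer_instance
  have : LocallyOfFinitePresentation g₁ := FPOfComp.locallyOfFinitePresentation_of_comp g₁ V'.ι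
  have : QuasiCompact g₁ := QuasiCompact.of_comp g₁ V'.ι
  have : QuasiSeparated g₁ := QuasiSeparated.of_comp g₁ V'.ι
  -- the diagram of opens
  have (k : Over j) : CompactSpace ((opensDiagram E j V').obj k) :=
    isCompact_iff_compactSpace.mp (QuasiCompact.isCompact_preimage _ V'.2 hV')
  have (k : Over j) : QuasiSeparatedSpace ((opensDiagram E j V').obj k) :=
    (isQuasiSeparated_iff_quasiSeparatedSpace _ (E.map _ ⁻¹ᵁ _).2).mp (.of_quasiSeparatedSpace _)
  let tV : ∀ k : Over j, (opensDiagram E j V').obj k ⟶ V' := fun k ↦ E.map k.hom ∣_ V'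
  have htV : ∀ {k l : Over j} (ψ : k ⟶ l), (opensDiagram E j V').map ψ ≫ tV l = tV k := by
    intro k l ψ
    rw [← cancel_mono V'.ι]
    have h1 : E.map ψ.left ≫ E.map l.hom = E.map k.hom := by rw [← E.map_comp, Over.w]
    simp [tV, h1]
  let g₂ : X ⟶ (c.π.app j ⁻¹ᵁ V' : c.pt.Opens) := g ≫ (c.pt.isoOfEq hV'U.symm).hom
  have hg₂ : g₂ ≫ (c.π.app j ⁻¹ᵁ V').ι = f := by
    have h1 : (c.pt.isoOfEq hV'U.symm).hom ≫ (c.π.app j ⁻¹ᵁ V').ι = U.ι :=
      Scheme.isoOfEq_hom_ι c.pt hV'U.symm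
    change (g ≫ (c.pt.isoOfEq hV'U.symm).hom) ≫ (c.π.app j ⁻¹ᵁ V').ι = f
    rw [Category.assoc, h1, hg]
  have hPg₂ : P g₂ := (P.cancel_right_of_respectsIso _ _).mpr hPg
  have hpV : ∀ k, (opensCone E c j V').π.app k ≫ tV k = c.π.app j ∣_ V' := by
    intro k
    rw [← cancel_mono V'.ι]
    simp [tV]
  have hsq : IsPullback (cX.π.app j) g₂ g₁ (c.π.app j ∣_ V') := by
    have h1 : IsPullback (cX.π.app j) f (pullback.snd f₀ (t j)) (c.π.app j) :=
      isPullback_pbCone t ht f₀ c p hp q f hX j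
    refine IsPullback.of_bot (h₃₁ := c.π.app j) (v₂₁ := (c.π.app j ⁻¹ᵁ V').ι) (v₂₂ := V'.ι)
      ?_ ?_ (isPullback_morphismRestrict (c.π.app j) V')
    · rw [hg₂, hg₁]
      exact h1
    · rw [← cancel_mono V'.ι]
      simp only [Category.assoc, hg₁, morphismRestrict_ι, reassoc_of% hg₂]
      exact h1.w
  obtain ⟨k, hk⟩ := hP (opensDiagram E j V') (opensCone E c j V') (isLimitOpensCone E c hc j V')
    tV htV g₁ (c.π.app j ∣_ V') hpV (cX.π.app j) g₂ hsq hPg₂
  -- assemble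
  have hsq' := isPullback_pbSnd t ht f₀ k.hom
  obtain ⟨l, hl1, hl2⟩ : ∃ l : pullback f₀ (t k.left) ⟶ (E.map k.hom ⁻¹ᵁ V' : (E.obj k.left).Opens),
      l ≫ (E.map k.hom ⁻¹ᵁ V').ι = pullback.snd f₀ (t k.left) ∧ IsPullback (XE.map k.hom) l g₁ (tV k) := by
    have t1 := isPullback_morphismRestrict (E.map k.hom) V'
    refine ⟨t1.lift (XE.map k.hom ≫ g₁) (pullback.snd f₀ (t k.left)) ?_, ?_, ?_⟩
    · rw [Category.assoc, hg₁]
      exact hsq'.w
    · exact t1.lift_snd _ _ _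
    · refine IsPullback.of_bot' (h₃₁ := E.map k.hom) (v₂₁ := (E.map k.hom ⁻¹ᵁ V').ι) (v₂₂ := V'.ι)
        ?_ t1
      rw [hg₁]
      exact hsq'
  refine ⟨k.left, E.map k.hom ⁻¹ᵁ V', l, QuasiCompact.isCompact_preimage _ V'.2 hV', hl1, ?_⟩
  exact prop_of_isPullback_of_isPullback (IsPullback.of_hasPullback g₁ (tV k)) hl2 (Iso.refl _)
    (by simp) hk

/-- Open immersions descend. -/
theorem descendsLim_isOpenImmersion : DescendsLim @IsOpenImmersion.{u} := by
  intro J _ _ E c hc _ _ _ B X₀ t ht f₀ _ _ _ p hp X q f hX hf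
  have : CompactSpace X := Scheme.compactSpace_of_isLimit (pbDiagram t ht f₀)
    (pbCone t ht f₀ c p hp q f hX) (isLimitPbCone t ht f₀ c p hp q f hX hc)
  have hU : IsCompact (f.opensRange : Set c.pt) := isCompact_range f.continuous
  let g : X ⟶ f.opensRange := IsOpenImmersion.lift f.opensRange.ι f (by simp)
  have hg : g ≫ f.opensRange.ι = f := IsOpenImmersion.lift_fac _ _ _
  have hgi : IsIso g := by
    have : IsOpenImmersion (g ≫ f.opensRange.ι) := by rw [hg]; infer_instance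
    have : IsOpenImmersion g := IsOpenImmersion.of_comp g f.opensRange.ι
    refine @isIso_of_isOpenImmersion_of_opensRange_eq_top _ _ g this ?_
    rw [← top_le_iff]
    rintro ⟨_, x, rfl⟩ -
    refine ⟨x, Subtype.ext ?_⟩
    exact congr($hg x)
  obtain ⟨j, V, g', hV, hg', hg'i⟩ := exists_corestrict descendsLim_isomorphisms E c hc t ht f₀ p hp q f
    hX f.opensRange hU g hg hgi
  refine ⟨j, ?_⟩
  have : IsIso g' := hg'i
  change IsOpenImmersion (pullback.snd f₀ (t j))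
  rw [← hg']
  infer_instance

end Groth.Agent.Ega43.LimitDescendOpen
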