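import Groth.Agent.Ega43.LimitDescendAffineTarget
import Groth.Agent.Ega43.LimitDescendOpen
import Groth.Agent.Ega43.LimitDescendCompare

/-!
# Closed immersions and immersions descend to a finite stage

`descendsLim_isClosedImmersion`, `descends_isClosedImmersion`.
-/

set_option autoImplicit false
set_option backward.isDefEq.respectTransparency false
set_option backward.defeqAttrib.useBackward true

universe u

open CategoryTheory AlgebraicGeometry Limits

namespace Groth.Agent.Ega43.LimitDescendClosed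

open LimitDescend LimitDescendIso LimitDescendAffineTarget LimitDescendOpen LimitDescendCompare

/-- A ring-theoretic lemma: in a pushout of rings `A → A'`, `A → C`, if `C` is generated over `A` by a
set `s` whose image in `C'` lies in the image of `A'`, then `A' → C'` is surjective. -/
lemma surjective_of_isPushout {A A' C C' : CommRingCat.{u}} {f : A ⟶ A'} {g : A ⟶ C}
    {f' : C ⟶ C'} {g' : A' ⟶ C'} (H : IsPushout f g g' f') (s : Set C)
    (hs : let _ := g.hom.toAlgebra; Algebra.adjoin A s = ⊤)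
    (h : ∀ x ∈ s, f'.hom x ∈ g'.hom.range) : Function.Surjective g'.hom := by
  let _ := g.hom.toAlgebra
  rw [← RingHom.range_eq_top, ← top_le_iff,
    ← CommRingCat.closure_range_union_range_eq_top_of_isPushout H, Subring.closure_le]
  rintro _ (⟨x, rfl⟩ | ⟨x, rfl⟩)
  · exact ⟨x, rfl⟩
  · have hx : x ∈ Algebra.adjoin A s := by rw [hs]; trivial
    induction hx using Algebra.adjoin_induction with
    | mem x hx => exact h x hx
    | algebraMap r =>
      refine ⟨f.hom r, ?_⟩
      exact congr($(H.w) r)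
    | add x y _ _ hx hy =>
      change f'.hom (x + y) ∈ g'.hom.range
      rw [map_add]
      exact add_mem hx hy
    | mul x y _ _ hx hy =>
      change f'.hom (x * y) ∈ g'.hom.range
      rw [map_mul]
      exact mul_mem hx hy

lemma appTop_appTop {X Y Z : Scheme.{u}} {f : X ⟶ Y} {g : Y ⟶ Z} {h : X ⟶ Z} (e : f ≫ g = h)
    (x : Γ(Z, ⊤)) : f.appTop.hom (g.appTop.hom x) = h.appTop.hom x := by
  subst e
  simp

theorem descendsLimAffine_isClosedImmersion : DescendsLimAffine @IsClosedImmersion.{u} := by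
  intro J _ _ E c hc _ B X₀ t ht f₀ _ _ _ p hp X q f hX hf
  have : IsAffine c.pt := Scheme.isAffine_of_isLimit c hc
  have : IsAffine X := isAffine_of_isAffineHom f
  have hfs : Function.Surjective f.appTop := (IsClosedImmersion.isAffine_surjective_of_isAffine f).2
  let XE := pbDiagram t ht f₀
  let cX := pbCone t ht f₀ c p hp q f hX
  have hcX : IsLimit cX := isLimitPbCone t ht f₀ c p hp q f hX hc
  have : IsAffine cX.pt := inferInstanceAs (IsAffine X)
  obtain ⟨k, hk⟩ := Scheme.exists_isAffine_of_isLimit XE cX hcX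
  have hk' : IsAffine (pullback f₀ (t k)) := hk
  have hft : (pullback.snd f₀ (t k)).appTop.hom.FiniteType :=
    HasRingHomProperty.appTop (P := @LocallyOfFiniteType) _ inferInstance
  let _ := (pullback.snd f₀ (t k)).appTop.hom.toAlgebra
  obtain ⟨s, hs⟩ := hft.out
  -- each element is eventually in the image
  have key : ∀ x : Γ(XE.obj k, ⊤), ∃ m, ∃ φ : m ⟶ k,
      (XE.map φ).appTop.hom x ∈ (pullback.snd f₀ (t m)).appTop.hom.range := by
    intro x
    obtain ⟨y, hy⟩ := hfs ((cX.π.app k).appTop.hom x)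
    obtain ⟨l, z, hz⟩ := exists_appTop_π_eq_of_isLimit E c hc y
    obtain ⟨m, a, b, -⟩ := IsCofilteredOrEmpty.cone_objs k l
    have h2 : cX.π.app m ≫ pullback.snd f₀ (t m) = f ≫ c.π.app m :=
      pbCone_π_snd t ht f₀ c p hp q f hX m
    have h3 : (cX.π.app m).appTop.hom ((XE.map a).appTop.hom x) =
        (cX.π.app m).appTop.hom ((pullback.snd f₀ (t m)).appTop.hom ((E.map b).appTop.hom z)) := by
      have e1 : (cX.π.app m).appTop.hom ((XE.map a).appTop.hom x) = (cX.π.app k).appTop.hom x :=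
        appTop_appTop (cX.w a) x
      have e2 : (c.π.app m).appTop.hom ((E.map b).appTop.hom z) = (c.π.app l).appTop.hom z :=
        appTop_appTop (c.w b) z
      have e3 : (cX.π.app m).appTop.hom ((pullback.snd f₀ (t m)).appTop.hom
          ((E.map b).appTop.hom z)) = (f ≫ c.π.app m).appTop.hom ((E.map b).appTop.hom z) :=
        appTop_appTop h2 _
      have e4 : f.appTop.hom ((c.π.app m).appTop.hom ((E.map b).appTop.hom z)) =
          (f ≫ c.π.app m).appTop.hom ((E.map b).appTop.hom z) := appTop_appTop rfl _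
      rw [e1, e3, ← e4, e2]
      rw [hz] at hy
      exact hy.symm
    obtain ⟨n, ψ, hn⟩ := exists_app_map_eq_map_of_isLimit XE cX hcX (i := m) (U := ⊤)
      isCompact_univ _ _ h3
    refine ⟨n, ψ ≫ a, (E.map (ψ ≫ b)).appTop.hom z, ?_⟩
    have h6 : XE.map ψ ≫ pullback.snd f₀ (t m) = pullback.snd f₀ (t n) ≫ E.map ψ :=
      (isPullback_pbSnd t ht f₀ ψ).w
    have hn' : (XE.map ψ).appTop.hom ((XE.map a).appTop.hom x) =
      (XE.map ψ).appTop.hom ((pullback.snd f₀ (t m)).appTop.hom ((E.map b).appTop.hom z)) := hn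
    have e1 : (XE.map ψ).appTop.hom ((XE.map a).appTop.hom x) = (XE.map (ψ ≫ a)).appTop.hom x :=
      appTop_appTop (XE.map_comp ψ a).symm x
    have e2 : (XE.map ψ).appTop.hom ((pullback.snd f₀ (t m)).appTop.hom
          ((E.map b).appTop.hom z)) = (pullback.snd f₀ (t n) ≫ E.map ψ).appTop.hom
          ((E.map b).appTop.hom z) := appTop_appTop h6 _
    have e3 : (pullback.snd f₀ (t n)).appTop.hom ((E.map ψ).appTop.hom
          ((E.map b).appTop.hom z)) = (pullback.snd f₀ (t n) ≫ E.map ψ).appTop.hom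
          ((E.map b).appTop.hom z) := appTop_appTop rfl _
    have e4 : (E.map ψ).appTop.hom ((E.map b).appTop.hom z) = (E.map (ψ ≫ b)).appTop.hom z :=
      appTop_appTop (E.map_comp ψ b).symm z
    rw [← e4, e3, ← e2, ← hn', e1]
  choose m φ hφ using key
  obtain ⟨n, ψ, g, hg⟩ := IsCofiltered.wideCospan (fun x : s ↦ φ x.1)
  refine ⟨n, ?_⟩
  have hn : IsAffine (XE.obj n) := isAffine_of_isAffineHom (XE.map ψ)
  have hn' : IsAffine (pullback f₀ (t n)) := hn
  refine IsClosedImmersion.of_surjective_of_isAffine (pullback.snd f₀ (t n)) ?_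
  have hpb : IsPullback (XE.map ψ) (pullback.snd f₀ (t n)) (pullback.snd f₀ (t k)) (E.map ψ) :=
    isPullback_pbSnd t ht f₀ ψ
  refine surjective_of_isPushout (isPushout_appTop_of_isPullback hpb).flip
    (s : Set Γ(pullback f₀ (t k), ⊤)) hs ?_
  intro x hx
  obtain ⟨w, hw⟩ := hφ x
  refine ⟨(E.map (g ⟨x, hx⟩)).appTop.hom w, ?_⟩
  have h6 : XE.map (g ⟨x, hx⟩) ≫ pullback.snd f₀ (t (m x)) =
    pullback.snd f₀ (t n) ≫ E.map (g ⟨x, hx⟩) := (isPullback_pbSnd t ht f₀ (g ⟨x, hx⟩)).w
  have h7 : XE.map (g ⟨x, hx⟩) ≫ XE.map (φ x) = XE.map ψ := by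
    rw [← XE.map_comp, hg ⟨x, hx⟩]
  have e1 : (pullback.snd f₀ (t n)).appTop.hom ((E.map (g ⟨x, hx⟩)).appTop.hom w) =
    (XE.map (g ⟨x, hx⟩) ≫ pullback.snd f₀ (t (m x))).appTop.hom w := appTop_appTop h6.symm w
  have e2 : (XE.map (g ⟨x, hx⟩)).appTop.hom ((pullback.snd f₀ (t (m x))).appTop.hom w) =
    (XE.map (g ⟨x, hx⟩) ≫ pullback.snd f₀ (t (m x))).appTop.hom w := appTop_appTop rfl w
  rw [e1, ← e2, hw]
  exact appTop_appTop h7 x

/-- Closed immersions descend. -/
theorem descendsLim_isClosedImmersion : DescendsLim @IsClosedImmersion.{u} :=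
  descendsLim_of_isAffine descendsLimAffine_isClosedImmersion

theorem descends_isClosedImmersion : LimDesc.Descends @IsClosedImmersion.{u} :=
  descends_of_descendsLim descendsLim_isClosedImmersion

end Groth.Agent.Ega43.LimitDescendClosed
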