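import Groth.Agent.Ega43.QSectNoeth
import Groth.Agent.S0021
import Mathlib.AlgebraicGeometry.Morphisms.Affine

/-!
# Affineness descends along universally open surjective lft morphisms (EGA IV 14.5.11)
-/

set_option autoImplicit false
universe u

open CategoryTheory AlgebraicGeometry CategoryTheory.Limits TopologicalSpace

namespace Groth.Agent.Ega43.AffineDescentQS

open QSectScheme QSectNoeth

/-- Two-step base change of `pullback.snd`. -/
lemma isPullback_snd {X Y Y' W : Scheme.{u}} (f : X ⟶ Y) (h : Y' ⟶ Y) (j : W ⟶ Y') :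
    IsPullback (pullback.lift (pullback.fst f (j ≫ h)) (pullback.snd f (j ≫ h) ≫ j)
      (by rw [pullback.condition, Category.assoc])) (pullback.snd f (j ≫ h)) (pullback.snd f h) j := by
  refine IsPullback.of_right (h₁₂ := pullback.fst f h) (h₂₂ := h) (v₁₃ := f) ?_
    (pullback.lift_snd _ _ _) (IsPullback.of_hasPullback f h)
  rw [pullback.lift_fst]
  exact IsPullback.of_hasPullback f (j ≫ h)

lemma isAffineHom_snd_snd {X Y Y' W : Scheme.{u}} (f : X ⟶ Y) (h : Y' ⟶ Y) (j : W ⟶ Y')
    (h2 : IsAffineHom (pullback.snd f (j ≫ h))) : IsAffineHom (pullback.snd (pullback.snd f h) j) := by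
  have h3 := (IsPullback.of_hasPullback (pullback.snd f h) j)
  have h4 := isPullback_snd f h j
  have h5 : pullback.snd (pullback.snd f h) j =
      (h3.isoIsPullback _ _ h4).hom ≫ pullback.snd f (j ≫ h) :=
    (IsPullback.isoIsPullback_hom_snd _ _ h3 h4).symm
  rw [h5]
  infer_instance

lemma isAffineHom_snd_comp {X Y Y' W : Scheme.{u}} (f : X ⟶ Y) (g : Y' ⟶ Y) (σ : W ⟶ Y')
    [IsAffineHom (pullback.snd f g)] : IsAffineHom (pullback.snd f (σ ≫ g)) :=
  MorphismProperty.of_isPullback (P := @IsAffineHom) (isPullback_snd f g σ) inferInstance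

/-- If `h : Y'' ⟶ Y` has local lifts through `g : Y' ⟶ Y` and `X ×_Y Y' ⟶ Y'` is affine, then
so is `X ×_Y Y'' ⟶ Y''`. -/
lemma isAffineHom_of_locSec {X Y Y' Y'' : Scheme.{u}} (f : X ⟶ Y) (g : Y' ⟶ Y) (h : Y'' ⟶ Y)
    [IsAffineHom (pullback.snd f g)] (H : ∀ y, LocSec g h y) : IsAffineHom (pullback.snd f h) := by
  choose W j hj σ hy hσ using H
  let 𝒰 : Y''.OpenCover := Scheme.Cover.mkOfCovers Y'' W j (fun y ↦ ⟨y, hy y⟩) hj
  refine (IsZariskiLocalAtTarget.iff_of_openCover (P := @IsAffineHom) 𝒰).mpr fun y ↦ ?_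
  change IsAffineHom (pullback.snd (pullback.snd f h) (j y))
  have h1 : IsAffineHom (pullback.snd f (σ y ≫ g)) := isAffineHom_snd_comp f g (σ y)
  exact isAffineHom_snd_snd f h (j y) (by rw [← hσ y]; exact h1)

/-- The case of an affine Noetherian base. -/
theorem isAffineHom_of_affine {X Y' : Scheme.{u}} {R : CommRingCat.{u}} [IsNoetherianRing R]
    (f : X ⟶ Spec R) [LocallyOfFiniteType f] (g : Y' ⟶ Spec R) [LocallyOfFiniteType g]
    [UniversallyOpen g] [Surjective g] [IsAffineHom (pullback.snd f g)] : IsAffineHom f := by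
  obtain ⟨Y'', h, hfin, hsurj, hsec⟩ := exists_finite_surjective g
  have h1 : IsAffineHom (pullback.snd f h) := isAffineHom_of_locSec f g h hsec
  have h2 : IsAffine Y'' := isAffine_of_isAffineHom h
  have h3 : IsAffine (pullback f h) := isAffine_of_isAffineHom (pullback.snd f h)
  have h4 : IsLocallyNoetherian X := LocallyOfFiniteType.isLocallyNoetherian f
  have h5 : CompactSpace X := by
    have := (pullback.fst f h).surjective.range_eq
    rw [← isCompact_univ_iff, ← this]
    exact isCompact_range (pullback.fst f h).continuous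
  have h6 : IsNoetherian X := {}
  have h7 : IsAffine X := Groth.Agent.S0021.result (pullback.fst f h)
  infer_instance

theorem isAffineHom_of_isAffineHom_baseChange {X Y Y' : Scheme.{u}} [IsLocallyNoetherian Y]
    (f : X ⟶ Y) [LocallyOfFiniteType f] (g : Y' ⟶ Y) [LocallyOfFiniteType g] [UniversallyOpen g]
    [Surjective g] [IsAffineHom (pullback.snd f g)] : IsAffineHom f := by
  have key : ∀ y : Y, ∃ (R : CommRingCat.{u}) (a : Spec R ⟶ Y), IsNoetherianRing R ∧
      IsOpenImmersion a ∧ y ∈ Set.range a := by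
    intro y
    obtain ⟨_, ⟨W, hW, rfl⟩, hyW, -⟩ := Y.isBasis_affineOpens.exists_subset_of_mem_open
      (Set.mem_univ y) isOpen_univ
    exact ⟨Γ(Y, W), hW.fromSpec, IsLocallyNoetherian.component_noetherian ⟨W, hW⟩, inferInstance,
      by rw [hW.range_fromSpec]; exact hyW⟩
  choose R a hR ha hy using key
  let 𝒰 : Y.OpenCover := Scheme.Cover.mkOfCovers Y (fun y ↦ Spec (R y)) a (fun y ↦ ⟨y, hy y⟩) ha
  refine (IsZariskiLocalAtTarget.iff_of_openCover (P := @IsAffineHom) 𝒰).mpr fun y ↦ ?_
  change IsAffineHom (pullback.snd f (a y))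
  have : IsAffineHom (pullback.snd (pullback.snd f (a y)) (pullback.snd g (a y))) := by
    apply isAffineHom_snd_snd
    rw [← pullback.condition]
    exact isAffineHom_snd_comp f g _
  exact isAffineHom_of_affine (pullback.snd f (a y)) (pullback.snd g (a y))

end Groth.Agent.Ega43.AffineDescentQS
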