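import Mathlib.RingTheory.Filtration
import Mathlib.RingTheory.Ideal.MinimalPrime.Localization
import Mathlib.RingTheory.Localization.AtPrime.Basic
import Mathlib.RingTheory.Nakayama

set_option autoImplicit false

open IsLocalRing

namespace Groth.Agent.Ega43.ArtinLocal

variable {G : Type*} [CommRing G]

/-- In a Noetherian local ring whose maximal ideal is `(t)`, an ideal containing no power of `t`
is zero. -/
theorem eq_bot_of_forall_pow_notMem [IsNoetherianRing G] [IsLocalRing G] (t : G)
    (ht : maximalIdeal G = Ideal.span {t}) (J : Ideal G) (hJ : ∀ n : ℕ, t ^ n ∉ J) : J = ⊥ := by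
  rw [eq_bot_iff]
  intro x hx
  by_contra hx0
  have hx0' : x ∉ ⨅ i : ℕ, (Ideal.span {t}) ^ i := by
    rw [Ideal.iInf_pow_eq_bot_of_isLocalRing]
    · exact hx0
    · rw [← ht]; exact (maximalIdeal.isMaximal G).ne_top
  rw [Ideal.mem_iInf] at hx0'
  push Not at hx0'
  obtain ⟨n, hn, hmin⟩ : ∃ n, x ∉ (Ideal.span {t}) ^ n ∧ ∀ m < n, x ∈ (Ideal.span {t}) ^ m := by
    classical
    exact ⟨Nat.find hx0', Nat.find_spec hx0', fun m hm => not_not.mp (Nat.find_min hx0' hm)⟩
  rcases Nat.eq_zero_or_pos n with rfl | hpos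
  · simp at hn
  · have h1 := hmin (n - 1) (Nat.sub_lt hpos one_pos)
    rw [Ideal.span_singleton_pow, Ideal.mem_span_singleton'] at h1
    obtain ⟨u, hu⟩ := h1
    have hunit : IsUnit u := by
      by_contra hnu
      have : u ∈ Ideal.span {t} := by rw [← ht]; exact hnu
      rw [Ideal.mem_span_singleton'] at this
      obtain ⟨v, rfl⟩ := this
      apply hn
      rw [Ideal.span_singleton_pow, Ideal.mem_span_singleton']
      refine ⟨v, ?_⟩
      rw [← hu, mul_assoc, ← pow_succ', Nat.sub_add_cancel hpos]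
    apply hJ (n - 1)
    obtain ⟨w, rfl⟩ := hunit
    have : t ^ (n - 1) = (↑w⁻¹ : G) * x := by rw [← hu, Units.inv_mul_cancel_left]
    rw [this]
    exact J.mul_mem_left _ hx

/-- Let `G` be a Noetherian local ring, `t` a non-zero-divisor in the maximal ideal with `(t)`
radical.  An element of `G` which vanishes in all the localizations at the minimal primes of `(t)`
is zero. -/
theorem eq_zero_of_forall_minimalPrimes [IsNoetherianRing G] [IsLocalRing G] (t : G)
    (ht : t ∈ maximalIdeal G) (hreg : t ∈ nonZeroDivisors G) (hrad : (Ideal.span {t}).IsRadical)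
    (x : G)
    (hx : ∀ (q : Ideal G) [q.IsPrime], q ∈ (Ideal.span {t}).minimalPrimes →
      algebraMap G (Localization.AtPrime q) x = 0) : x = 0 := by
  let T : Ideal G :=
    { carrier := {x | ∀ (q : Ideal G) [q.IsPrime], q ∈ (Ideal.span {t}).minimalPrimes →
        algebraMap G (Localization.AtPrime q) x = 0}
      zero_mem' := fun q _ _ => map_zero _
      add_mem' := fun {a b} ha hb q _ hq => by rw [map_add, ha q hq, hb q hq, add_zero]
      smul_mem' := fun c a ha q _ hq => by rw [smul_eq_mul, map_mul, ha q hq, mul_zero] }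
  have hT : ∀ y, y ∈ T ↔ ∀ (q : Ideal G) [q.IsPrime], q ∈ (Ideal.span {t}).minimalPrimes →
      algebraMap G (Localization.AtPrime q) y = 0 := fun y => Iff.rfl
  have hTle : T ≤ Ideal.span {t} • T := by
    intro y hy
    have hyt : y ∈ Ideal.span {t} := by
      rw [← hrad.radical, ← Ideal.sInf_minimalPrimes, Ideal.mem_sInf]
      intro q hq
      have : q.IsPrime := hq.1.1
      have h0 := (hT y).mp hy q hq
      rw [IsLocalization.map_eq_zero_iff q.primeCompl] at h0
      obtain ⟨s, hs⟩ := h0
      exact (‹q.IsPrime›.mem_or_mem (hs ▸ q.zero_mem : (s : G) * y ∈ q)).resolve_left s.2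
    rw [Ideal.mem_span_singleton'] at hyt
    obtain ⟨z, rfl⟩ := hyt
    rw [mul_comm z t]
    refine Submodule.smul_mem_smul (Ideal.mem_span_singleton_self t) ?_
    rw [hT]
    intro q _ hq
    have h0 := (hT _).mp hy q hq
    rw [IsLocalization.map_eq_zero_iff q.primeCompl] at h0 ⊢
    obtain ⟨s, hs⟩ := h0
    refine ⟨s, ?_⟩
    rw [← mul_assoc] at hs
    exact (mem_nonZeroDivisors_iff_right.mp hreg) _ hs
  have hT0 : T = ⊥ := by
    refine Submodule.eq_bot_of_le_smul_of_le_jacobson_bot (Ideal.span {t}) T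
      (IsNoetherian.noetherian T) hTle ?_
    rw [IsLocalRing.jacobson_eq_maximalIdeal ⊥ bot_ne_top]
    rw [Ideal.span_singleton_le_iff_mem]
    exact ht
  have : x ∈ T := (hT x).mpr hx
  rw [hT0] at this
  exact this

end Groth.Agent.Ega43.ArtinLocal
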