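import Groth.Agent.Flat2D.FiberStalk

/-!
# Being Cohen-Macaulay at a point is local on the source
-/

set_option autoImplicit false
universe u
open CategoryTheory AlgebraicGeometry IsLocalRing LocCoh

namespace Groth.Agent.Ega43.CMOpen

variable {U X Y : Scheme.{u}}

theorem flat_comp_ringEquiv_iff {A B C : Type*} [CommRing A] [CommRing B] [CommRing C]
    (f : A →+* B) (e : B ≃+* C) : ((e : B →+* C).comp f).Flat ↔ f.Flat := by
  constructor
  · intro h
    have h2 := RingHom.Flat.comp h (RingHom.Flat.of_bijective (f := (e.symm : C →+* B)) e.symm.bijective)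
    convert h2 using 1
    ext x
    simp
  · intro h
    exact RingHom.Flat.comp h (RingHom.Flat.of_bijective (f := (e : B →+* C)) e.bijective)

theorem flat_stalkMap_comp_iff (j : U ⟶ X) [IsOpenImmersion j] (f : X ⟶ Y) (u : U) :
    ((j ≫ f).stalkMap u).hom.Flat ↔ (f.stalkMap (j u)).hom.Flat := by
  let e := (asIso (j.stalkMap u)).commRingCatIsoToRingEquiv
  have h : ((j ≫ f).stalkMap u).hom = (e : _ →+* _).comp (f.stalkMap (j u)).hom :=
    congrArg CommRingCat.Hom.hom (Scheme.Hom.stalkMap_comp j f u)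
  rw [h]
  exact flat_comp_ringEquiv_iff (f.stalkMap (j u)).hom e

theorem isCMAt_comp_iff (j : U ⟶ X) [IsOpenImmersion j] (f : X ⟶ Y) (u : U) :
    MoreMor.IsCMAt (j ≫ f) u ↔ MoreMor.IsCMAt f (j u) := by
  rw [Flat2D.FiberStalk.moreMor_isCMAt_iff, Flat2D.FiberStalk.moreMor_isCMAt_iff,
    flat_stalkMap_comp_iff]
  refine and_congr_right fun _ ↦ ?_
  let e := (asIso (j.stalkMap u)).commRingCatIsoToRingEquiv
  have h : ((j ≫ f).stalkMap u).hom = (e : _ →+* _).comp (f.stalkMap (j u)).hom :=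
    congrArg CommRingCat.Hom.hom (Scheme.Hom.stalkMap_comp j f u)
  refine (Flat2D.FiberStalk.isCohenMacaulayLocalRing_iff_of_ringEquiv
    (Ideal.quotientEquiv _ _ e ?_)).symm
  rw [h]
  exact (Ideal.map_map _ _).symm

end Groth.Agent.Ega43.CMOpen
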