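import Mathlib.RingTheory.NoetherNormalization
import Mathlib.RingTheory.Ideal.HasGoingUp
import Mathlib.RingTheory.KrullDimension.Polynomial
import Mathlib.RingTheory.KrullDimension.Field
import Mathlib.RingTheory.KrullDimension.NonZeroDivisors
import Mathlib.RingTheory.ZariskisMainTheorem
import Mathlib.RingTheory.LocalRing.ResidueField.Fiber
import Mathlib.RingTheory.TensorProduct.MvPolynomial
import Mathlib.Algebra.MvPolynomial.Nilpotent
import Mathlib.RingTheory.Spectrum.Prime.Noetherian
import Mathlib.RingTheory.RingHom.QuasiFinite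

/-!
# Fibre dimension and quasi-finite maps to affine spaces (algebra)

* `exists_finite_algHom`: Noether normalization with a prescribed number of variables.
* `exists_quasiFinite_mvPolynomial`: if `A → B` is of finite type and the fibre over `p` has
  dimension `≤ d`, then locally around a prime `q` over `p` there is a quasi-finite
  `A[x₁,…,x_d] → B_g`.
* `ker_le_nilradical_of_quasiFinite`: conversely, if the generic fibre has dimension `≥ d` then a
  quasi-finite `A[x₁,…,x_d] → S` has nilpotent kernel.
-/

set_option autoImplicit false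
open TensorProduct
universe u v

namespace Groth.Agent.Ega43.FibreDimAlg

section dim

variable (R : Type u) (S : Type v) [CommRing R] [CommRing S] [Algebra R S]

/-- Quasi-finite algebras do not raise the dimension. -/
lemma ringKrullDim_le_of_quasiFinite [Algebra.QuasiFinite R S] :
    ringKrullDim S ≤ ringKrullDim R := by
  refine Order.krullDim_le_of_strictMono (PrimeSpectrum.comap (algebraMap R S)) ?_
  intro P Q hPQ
  refine lt_of_le_of_ne (Ideal.comap_mono hPQ.le) fun h => hPQ.ne ?_
  exact PrimeSpectrum.ext (Algebra.QuasiFinite.eq_of_le_of_under_eq (R := R) _ _ hPQ.le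
    (congrArg PrimeSpectrum.asIdeal h))

/-- Integral extensions do not lower the dimension. -/
lemma ringKrullDim_le_of_isIntegral [Algebra.IsIntegral R S]
    (hinj : Function.Injective (algebraMap R S)) :
    ringKrullDim R ≤ ringKrullDim S := by
  refine iSup_le fun l => ?_
  have hs : Function.Surjective (PrimeSpectrum.comap (algebraMap R S)) :=
    (algebraMap_isIntegral_iff.mpr inferInstance : (algebraMap R S).IsIntegral).comap_surjective hinj
  obtain ⟨P, hP⟩ := hs l.head
  have : P.asIdeal.LiesOver l.head.asIdeal := ⟨(congrArg PrimeSpectrum.asIdeal hP).symm⟩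
  obtain ⟨L, hL, -, -⟩ := Ideal.exists_ltSeries_of_hasGoingUp l P.asIdeal
  rw [← hL]
  exact le_iSup (fun l : LTSeries (PrimeSpectrum S) => (l.length : WithBot ℕ∞)) L

end dim

/-- Noether normalization with at least `dim` many variables. -/
theorem exists_finite_algHom (k : Type u) (F : Type v) [Field k] [CommRing F] [Algebra k F]
    [Algebra.FiniteType k F] [Nontrivial F] (d : ℕ) (h : ringKrullDim F ≤ d) :
    ∃ g : MvPolynomial (Fin d) k →ₐ[k] F, g.Finite := by
  obtain ⟨s, g, hinj, hfin⟩ := exists_finite_inj_algHom_of_fg k F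
  have hs : s ≤ d := by
    algebraize [g.toRingHom]
    have : Module.Finite (MvPolynomial (Fin s) k) F := hfin
    have h1 := ringKrullDim_le_of_isIntegral (MvPolynomial (Fin s) k) F hinj
    rw [MvPolynomial.ringKrullDim_of_isNoetherianRing, ringKrullDim_eq_zero_of_field, zero_add] at h1
    have h2 := h1.trans h
    simpa using h2
  let t : MvPolynomial (Fin d) k →ₐ[k] MvPolynomial (Fin s) k :=
    MvPolynomial.aeval fun i => if hi : i.1 < s then MvPolynomial.X ⟨i.1, hi⟩ else 0
  have ht : Function.Surjective t := by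
    intro p
    refine ⟨MvPolynomial.rename (Fin.castLE hs) p, ?_⟩
    change (t.comp (MvPolynomial.rename (Fin.castLE hs))) p = AlgHom.id k _ p
    congr 1
    ext i
    simp [t]
  exact ⟨g.comp t, hfin.comp (RingHom.Finite.of_surjective _ ht)⟩

/-- Lift a finite map `κ(p)[x] → κ(p) ⊗ B` to a map `A[x] → B` up to scaling the variables. -/
theorem exists_lift_finite {A : Type u} {B : Type v} [CommRing A] [CommRing B] [Algebra A B]
    (p : Ideal A) [p.IsPrime] {d : ℕ} (g : MvPolynomial (Fin d) p.ResidueField →ₐ[p.ResidueField]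
      p.Fiber B) (hg : g.Finite) :
    ∃ b : Fin d → B, (MvPolynomial.aeval (fun i => 1 ⊗ₜ[A] b i) :
      MvPolynomial (Fin d) p.ResidueField →ₐ[p.ResidueField] p.Fiber B).Finite := by
  choose r hr b hb using fun i => Ideal.Fiber.exists_smul_eq_one_tmul p (g (MvPolynomial.X i))
  have hr' : ∀ i, algebraMap A p.ResidueField (r i) ≠ 0 := fun i h =>
    hr i (Ideal.algebraMap_residueField_eq_zero.mp h)
  let τ : MvPolynomial (Fin d) p.ResidueField →ₐ[p.ResidueField]
      MvPolynomial (Fin d) p.ResidueField :=
    MvPolynomial.aeval fun i => algebraMap A p.ResidueField (r i) • MvPolynomial.X i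
  let τ' : MvPolynomial (Fin d) p.ResidueField →ₐ[p.ResidueField]
      MvPolynomial (Fin d) p.ResidueField :=
    MvPolynomial.aeval fun i => (algebraMap A p.ResidueField (r i))⁻¹ • MvPolynomial.X i
  have h1 : τ.comp τ' = AlgHom.id _ _ := by
    ext i : 1
    simp [τ, τ', -algebraMap_smul, smul_smul, inv_mul_cancel₀ (hr' i)]
  have h2 : Function.Surjective τ := fun x => ⟨τ' x, DFunLike.congr_fun h1 x⟩
  refine ⟨b, ?_⟩
  have h3 : (MvPolynomial.aeval (fun i => 1 ⊗ₜ[A] b i) :
      MvPolynomial (Fin d) p.ResidueField →ₐ[p.ResidueField] p.Fiber B) = g.comp τ := by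
    ext i : 1
    simp only [MvPolynomial.aeval_X, AlgHom.comp_apply, τ, map_smul]
    rw [← hb i, algebraMap_smul]
  rw [h3]
  exact hg.comp (RingHom.Finite.of_surjective _ h2)

attribute [local instance] MvPolynomial.algebraMvPolynomial in
lemma quasiFinite_mvPolynomial_residueField {A : Type u} [CommRing A] (p : Ideal A) [p.IsPrime]
    (d : ℕ) : Algebra.QuasiFinite (MvPolynomial (Fin d) A) (MvPolynomial (Fin d) p.ResidueField) := by
  have : Algebra.QuasiFinite (MvPolynomial (Fin d) A)
      (MvPolynomial (Fin d) A ⊗[A] p.ResidueField) := inferInstance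
  exact (Algebra.QuasiFinite.iff_of_algEquiv
    (Algebra.IsPushout.equiv A (MvPolynomial (Fin d) A) p.ResidueField
      (MvPolynomial (Fin d) p.ResidueField))).mp this

/-- If `R → B → κ(p) ⊗[A] B` is quasi-finite, then the fibres of `R → B` over primes over `p` are
finite. -/
theorem finite_fiber_of_quasiFinite_fiber {A R B : Type u} [CommRing A] [CommRing R] [CommRing B]
    [Algebra A R] [Algebra R B] [Algebra A B] [IsScalarTower A R B] (p : Ideal A) [p.IsPrime]
    (h : ((Algebra.TensorProduct.includeRight : B →ₐ[A] p.Fiber B).toRingHom.comp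
      (algebraMap R B)).QuasiFinite) (P : Ideal R) [P.IsPrime] [hP : P.LiesOver p] :
    Module.Finite P.ResidueField (P.Fiber B) := by
  letI : Algebra R (p.Fiber B) := ((Algebra.TensorProduct.includeRight :
    B →ₐ[A] p.Fiber B).toRingHom.comp (algebraMap R B)).toAlgebra
  haveI : Algebra.QuasiFinite R (p.Fiber B) := h
  haveI : Module.Finite P.ResidueField (P.Fiber (p.Fiber B)) := inferInstance
  let ι : p.ResidueField →ₐ[A] P.ResidueField :=
    Ideal.ResidueField.mapₐ p P (Algebra.ofId A R) (P.over_def p)
  let ψ₀ : p.Fiber B →ₐ[A] P.Fiber B :=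
    Algebra.TensorProduct.lift
      (((Algebra.TensorProduct.includeLeft :
        P.ResidueField →ₐ[R] P.Fiber B).restrictScalars A).comp ι)
      ((Algebra.TensorProduct.includeRight : B →ₐ[R] P.Fiber B).restrictScalars A)
      fun _ _ => .all _ _
  let ψ : p.Fiber B →ₐ[R] P.Fiber B :=
    { ψ₀ with
      commutes' := fun r => by
        change ψ₀ (1 ⊗ₜ[A] (algebraMap R B r)) = _
        simp [ψ₀] }
  let Φ : P.Fiber (p.Fiber B) →ₐ[P.ResidueField] P.Fiber B :=
    Algebra.TensorProduct.lift (Algebra.ofId _ _) ψ fun _ _ => .all _ _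
  refine Module.Finite.of_surjective Φ.toLinearMap ?_
  intro z
  induction z using TensorProduct.induction_on with
  | zero => exact ⟨0, map_zero _⟩
  | add x y hx hy =>
    obtain ⟨x, rfl⟩ := hx
    obtain ⟨y, rfl⟩ := hy
    exact ⟨x + y, map_add _ _ _⟩
  | tmul x b =>
    refine ⟨x ⊗ₜ (1 ⊗ₜ b), ?_⟩
    simp [Φ, ψ, ψ₀]

/-- Quasi-finiteness at a prime from finiteness of the fibre ring. -/
theorem quasiFiniteAt_of_finite_fiber {R B : Type u} [CommRing R] [CommRing B] [Algebra R B]
    [Algebra.FiniteType R B] (q : Ideal B) [q.IsPrime]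
    (h : Module.Finite (q.under R).ResidueField ((q.under R).Fiber B)) :
    Algebra.QuasiFiniteAt R q := by
  let P : PrimeSpectrum R := ⟨q.under R, inferInstance⟩
  let q' : PrimeSpectrum B := ⟨q, inferInstance⟩
  let Q := PrimeSpectrum.preimageEquivFiber R B P ⟨q', rfl⟩
  have hQ : Q.asIdeal.comap Algebra.TensorProduct.includeRight.toRingHom = q :=
    congrArg (fun z => z.1.asIdeal)
      ((PrimeSpectrum.preimageEquivFiber R B P).symm_apply_apply ⟨q', rfl⟩)
  have : Algebra.QuasiFiniteAt (q.under R).ResidueField Q.asIdeal := inferInstance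
  exact Algebra.QuasiFiniteAt.of_quasiFiniteAt_residueField (q.under R) q Q.asIdeal hQ

/-- Quasi-finiteness at a prime spreads out. -/
theorem exists_quasiFinite_away_of_quasiFiniteAt {R B : Type u} [CommRing R] [CommRing B]
    [Algebra R B] [Algebra.FiniteType R B] (q : Ideal B) [q.IsPrime]
    [Algebra.QuasiFiniteAt R q] :
    ∃ g ∉ q, Algebra.QuasiFinite R (Localization.Away g) := by
  obtain ⟨S', hS', r, hrp, H⟩ :=
    Algebra.QuasiFiniteAt.exists_fg_and_exists_notMem_and_awayMap_bijective (R := R) q
  have : Module.Finite R S' := ⟨(Submodule.fg_top _).mpr hS'⟩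
  have : Algebra.QuasiFinite R (Localization.Away r) := .trans _ S' _
  have : Algebra.QuasiFinite R (Localization.Away r.1) :=
    .of_surjective_algHom (Localization.awayMapₐ S'.val r) H.2
  exact ⟨r.1, hrp, this⟩

attribute [local instance] MvPolynomial.algebraMvPolynomial in
/-- If the fibre of `A → B` over the image of `q` has dimension at most `d`, then there are
`A[x₁,…,x_d] → B` and `g ∉ q` such that `A[x₁,…,x_d] → B_g` is quasi-finite. -/
theorem exists_quasiFinite_mvPolynomial {A B : Type u} [CommRing A] [CommRing B] [Algebra A B]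
    [Algebra.FiniteType A B] (q : Ideal B) [q.IsPrime] (d : ℕ)
    (h : ringKrullDim ((q.under A).Fiber B) ≤ d) :
    ∃ (φ : MvPolynomial (Fin d) A →ₐ[A] B) (g : B), g ∉ q ∧
      ((algebraMap B (Localization.Away g)).comp φ.toRingHom).QuasiFinite := by
  let P : PrimeSpectrum A := ⟨q.under A, inferInstance⟩
  let q' : PrimeSpectrum B := ⟨q, inferInstance⟩
  let Q := PrimeSpectrum.preimageEquivFiber A B P ⟨q', rfl⟩
  have hnt : Nontrivial ((q.under A).Fiber B) :=
    (PrimeSpectrum.nonempty_iff_nontrivial (R := (q.under A).Fiber B)).mp ⟨Q⟩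
  obtain ⟨g, hg⟩ := exists_finite_algHom (q.under A).ResidueField ((q.under A).Fiber B) d h
  obtain ⟨b, hb⟩ := exists_lift_finite (q.under A) g hg
  let φ : MvPolynomial (Fin d) A →ₐ[A] B := MvPolynomial.aeval b
  letI : Algebra (MvPolynomial (Fin d) A) B := φ.toRingHom.toAlgebra
  haveI : IsScalarTower A (MvPolynomial (Fin d) A) B := .of_algebraMap_eq' φ.comp_algebraMap.symm
  haveI : Algebra.FiniteType (MvPolynomial (Fin d) A) B :=
    .of_restrictScalars_finiteType A _ _
  have h1 : ((Algebra.TensorProduct.includeRight : B →ₐ[A] (q.under A).Fiber B).toRingHom.comp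
      (algebraMap (MvPolynomial (Fin d) A) B)).QuasiFinite := by
    have h2 : (Algebra.TensorProduct.includeRight : B →ₐ[A] (q.under A).Fiber B).toRingHom.comp
      (algebraMap (MvPolynomial (Fin d) A) B) = ((MvPolynomial.aeval (fun i => 1 ⊗ₜ[A] b i) :
      MvPolynomial (Fin d) (q.under A).ResidueField →ₐ[(q.under A).ResidueField]
        (q.under A).Fiber B).toRingHom).comp
        (algebraMap (MvPolynomial (Fin d) A) (MvPolynomial (Fin d) (q.under A).ResidueField)) := by
      refine MvPolynomial.ringHom_ext (fun r => ?_) (fun i => ?_)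
      · have e1 : φ.toRingHom (MvPolynomial.C r) = algebraMap A B r := by
          simp [φ]
        have e2 : (algebraMap (MvPolynomial (Fin d) A)
            (MvPolynomial (Fin d) (q.under A).ResidueField)) (MvPolynomial.C r) =
            MvPolynomial.C (algebraMap A _ r) :=
          MvPolynomial.map_C (algebraMap A (q.under A).ResidueField) r
        rw [RingHom.comp_apply, RingHom.comp_apply, e2]
        change Algebra.TensorProduct.includeRight (φ.toRingHom (MvPolynomial.C r)) = _
        rw [e1, AlgHom.commutes]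
        simp only [AlgHom.toRingHom_eq_coe, RingHom.coe_coe, MvPolynomial.aeval_C]
        exact IsScalarTower.algebraMap_apply A (q.under A).ResidueField _ r
      · have e2 : (algebraMap (MvPolynomial (Fin d) A)
            (MvPolynomial (Fin d) (q.under A).ResidueField)) (MvPolynomial.X i) =
            MvPolynomial.X i :=
          MvPolynomial.map_X (algebraMap A (q.under A).ResidueField) i
        rw [RingHom.comp_apply, RingHom.comp_apply, e2]
        change Algebra.TensorProduct.includeRight (φ (MvPolynomial.X i)) = _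
        simp [φ]
    rw [h2]
    refine RingHom.QuasiFinite.comp ?_ ?_
    · exact RingHom.QuasiFinite.of_finite hb
    · exact RingHom.quasiFinite_algebraMap.mpr (quasiFinite_mvPolynomial_residueField _ d)
  haveI : (q.under (MvPolynomial (Fin d) A)).LiesOver (q.under A) := inferInstance
  have h3 : Algebra.QuasiFiniteAt (MvPolynomial (Fin d) A) q :=
    quasiFiniteAt_of_finite_fiber q
      (finite_fiber_of_quasiFinite_fiber (q.under A) h1 (q.under (MvPolynomial (Fin d) A)))
  obtain ⟨g, hg, hg'⟩ := exists_quasiFinite_away_of_quasiFiniteAt (R := MvPolynomial (Fin d) A) q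
  refine ⟨φ, g, hg, ?_⟩
  have h4 : (algebraMap B (Localization.Away g)).comp φ.toRingHom =
    algebraMap (MvPolynomial (Fin d) A) (Localization.Away g) :=
    (IsScalarTower.algebraMap_eq (MvPolynomial (Fin d) A) B (Localization.Away g)).symm
  rw [h4]
  exact RingHom.quasiFinite_algebraMap.mpr hg'

/-- Contraction of primes from a fibre ring is injective. -/
lemma comap_includeRight_injective {A S : Type u} [CommRing A] [CommRing S] [Algebra A S]
    (N : Ideal A) [hN : N.IsPrime] :
    Function.Injective (PrimeSpectrum.comap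
      (Algebra.TensorProduct.includeRight : S →ₐ[A] N.Fiber S).toRingHom) := by
  intro Q₁ Q₂ h
  apply (PrimeSpectrum.preimageEquivFiber A S ⟨N, hN⟩).symm.injective
  exact Subtype.ext h

/-- A quasi-finite map `A[x₁,…,x_d] → S` such that the fibre of `S` over the nilpotent prime `N`
has dimension at least `d` has nilpotent kernel. -/
theorem ker_le_nilradical_of_quasiFinite {A S : Type u} [CommRing A] [CommRing S]
    (N : Ideal A) [N.IsPrime] (hN : N ≤ nilradical A) (d : ℕ) [Algebra A S]
    [Algebra (MvPolynomial (Fin d) A) S] [IsScalarTower A (MvPolynomial (Fin d) A) S]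
    [Algebra.QuasiFinite (MvPolynomial (Fin d) A) S]
    (h : (d : WithBot ℕ∞) ≤ ringKrullDim (N.Fiber S)) :
    RingHom.ker (algebraMap (MvPolynomial (Fin d) A) S) ≤
      nilradical (MvPolynomial (Fin d) A) := by
  intro f hf
  let K := N.ResidueField
  let ι : S →+* N.Fiber S := (Algebra.TensorProduct.includeRight : S →ₐ[A] N.Fiber S).toRingHom
  let Λ : MvPolynomial (Fin d) K →ₐ[K] N.Fiber S :=
    MvPolynomial.aeval fun i => ι (algebraMap (MvPolynomial (Fin d) A) S (MvPolynomial.X i))
  have hcomm : Λ.toRingHom.comp (MvPolynomial.map (algebraMap A K)) =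
      ι.comp (algebraMap (MvPolynomial (Fin d) A) S) := by
    refine MvPolynomial.ringHom_ext (fun r => ?_) (fun i => ?_)
    · have e1 : algebraMap (MvPolynomial (Fin d) A) S (MvPolynomial.C r) = algebraMap A S r :=
        (IsScalarTower.algebraMap_apply A (MvPolynomial (Fin d) A) S r).symm
      rw [RingHom.comp_apply, RingHom.comp_apply, MvPolynomial.map_C, e1]
      have e2 : ι (algebraMap A S r) = algebraMap A _ r :=
        (Algebra.TensorProduct.includeRight : S →ₐ[A] N.Fiber S).commutes r
      rw [e2]
      simp only [Λ, AlgHom.toRingHom_eq_coe, RingHom.coe_coe, MvPolynomial.aeval_C]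
      exact (IsScalarTower.algebraMap_apply A K _ r).symm
    · simp [Λ]
  have hcomm' : ∀ g, Λ (MvPolynomial.map (algebraMap A K) g) =
      ι (algebraMap (MvPolynomial (Fin d) A) S g) := fun g => RingHom.congr_fun hcomm g
  have hf0 : MvPolynomial.map (algebraMap A K) f = 0 := by
    by_contra hne
    have hΛ : Λ (MvPolynomial.map (algebraMap A K) f) = 0 := by
      rw [hcomm', RingHom.mem_ker.mp hf, map_zero]
    let I : Ideal (MvPolynomial (Fin d) K) := Ideal.span {MvPolynomial.map (algebraMap A K) f}
    let Λ' : MvPolynomial (Fin d) K ⧸ I →+* N.Fiber S := Ideal.Quotient.lift I Λ.toRingHom (by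
      intro a ha
      have : I ≤ RingHom.ker Λ.toRingHom := by
        rw [Ideal.span_singleton_le_iff_mem]; exact hΛ
      exact this ha)
    have hle : ringKrullDim (N.Fiber S) ≤ ringKrullDim (MvPolynomial (Fin d) K ⧸ I) := by
      refine Order.krullDim_le_of_strictMono (PrimeSpectrum.comap Λ') ?_
      intro Q₁ Q₂ hQ
      refine lt_of_le_of_ne (Ideal.comap_mono hQ.le) fun heq => hQ.ne ?_
      apply comap_includeRight_injective N
      have h1 : PrimeSpectrum.comap (ι.comp (algebraMap (MvPolynomial (Fin d) A) S)) Q₁ =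
          PrimeSpectrum.comap (ι.comp (algebraMap (MvPolynomial (Fin d) A) S)) Q₂ := by
        rw [← hcomm]
        have h2 : Λ.toRingHom = Λ'.comp (Ideal.Quotient.mk I) := by
          ext x <;> rfl
        rw [h2]
        simp only [PrimeSpectrum.comap_comp_apply, heq]
      exact PrimeSpectrum.ext (Algebra.QuasiFinite.eq_of_le_of_under_eq
        (R := MvPolynomial (Fin d) A) _ _ (Ideal.comap_mono hQ.le)
        (congrArg PrimeSpectrum.asIdeal h1))
    have hlt := ringKrullDim_quotient_succ_le_of_nonZeroDivisor
      (mem_nonZeroDivisors_of_ne_zero hne)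
    rw [MvPolynomial.ringKrullDim_of_isNoetherianRing, ringKrullDim_eq_zero_of_field,
      zero_add] at hlt
    have h3 : (d : WithBot ℕ∞) + 1 ≤ d := by
      refine le_trans (add_le_add_left (h.trans hle) 1) ?_
      simpa using hlt
    have h4 : ((d + 1 : ℕ) : WithBot ℕ∞) ≤ ((d : ℕ) : WithBot ℕ∞) := by exact_mod_cast h3
    have h5 : d + 1 ≤ d := by exact_mod_cast h4
    omega
  rw [mem_nilradical, MvPolynomial.isNilpotent_iff]
  intro i
  refine hN ?_
  rw [← Ideal.algebraMap_residueField_eq_zero, ← MvPolynomial.coeff_map, hf0,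
    MvPolynomial.coeff_zero]

end Groth.Agent.Ega43.FibreDimAlg
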