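import Groth.Prelude.Def_Flat
import Mathlib.AlgebraicGeometry.Fiber
import Mathlib.RingTheory.LocalRing.ResidueField.Fiber
import Mathlib.Topology.LocalAtTarget
import Mathlib.Topology.KrullDimension

/-!
# Topology of fibres: comparison with the affine case, local dimension
-/

set_option autoImplicit false
open CategoryTheory AlgebraicGeometry TensorProduct Topology
universe u

namespace Groth.Agent.Ega43.FibreTop

section localDim

variable {X : Type*} [TopologicalSpace X]

lemma localDim_le (x : X) (U : TopologicalSpace.Opens X) (hx : x ∈ U) :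
    FlatMor.localDim X x ≤ topologicalKrullDim (U : Set X) :=
  iInf_le (fun U : {U : TopologicalSpace.Opens X // x ∈ U} => topologicalKrullDim (U.1 : Set X))
    ⟨U, hx⟩

lemma exists_localDim_eq (x : X) : ∃ U : TopologicalSpace.Opens X, x ∈ U ∧
    topologicalKrullDim (U : Set X) = FlatMor.localDim X x := by
  haveI : Nonempty {U : TopologicalSpace.Opens X // x ∈ U} := ⟨⟨⊤, trivial⟩⟩
  obtain ⟨⟨U, hU⟩, h⟩ := ciInf_mem
    (fun U : {U : TopologicalSpace.Opens X // x ∈ U} => topologicalKrullDim (U.1 : Set X))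
  exact ⟨U, hU, h⟩

/-- An open embedding with image containing `x` gives an upper bound on the local dimension. -/
lemma localDim_le_of_isOpenEmbedding {Z : Type*} [TopologicalSpace Z] {θ : Z → X}
    (hθ : IsOpenEmbedding θ) {x : X} (hx : x ∈ Set.range θ) :
    FlatMor.localDim X x ≤ topologicalKrullDim Z := by
  refine (localDim_le x ⟨Set.range θ, hθ.isOpen_range⟩ hx).trans (le_of_eq ?_)
  have e : Z ≃ₜ Set.range θ := hθ.isEmbedding.toHomeomorph
  exact (IsHomeomorph.topologicalKrullDim_eq e e.isHomeomorph).symm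

end localDim

/-- The spectrum of the fibre ring embeds as an open subset of the scheme-theoretic fibre. -/
theorem exists_isOpenEmbedding_fiber {X Y : Scheme.{u}} (f : X ⟶ Y) {A C : Type u} [CommRing A]
    [CommRing C] [Algebra A C]
    (k : Spec (CommRingCat.of C) ⟶ X) [IsOpenImmersion k] (i : Spec (CommRingCat.of A) ⟶ Y)
    [IsOpenImmersion i]
    (h : k ≫ f = Spec.map (CommRingCat.ofHom (algebraMap A C)) ≫ i) (p : PrimeSpectrum A)
    (y : Y) (hy : i p = y) :
    ∃ θ : PrimeSpectrum (p.asIdeal.Fiber C) → f.fiber y, IsOpenEmbedding θ ∧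
      ∀ Q, f.fiberι _ (θ Q) = k (PrimeSpectrum.comap
        (Algebra.TensorProduct.includeRight : C →ₐ[A] p.asIdeal.Fiber C).toRingHom Q) := by
  subst hy
  let s : Set X := f ⁻¹' {i p}
  have hs : (PrimeSpectrum.comap (algebraMap A C)) ⁻¹' {p} = k ⁻¹' s := by
    ext x
    change PrimeSpectrum.comap (algebraMap A C) x = p ↔ f (k x) = i p
    rw [← Scheme.Hom.comp_apply, h, Scheme.Hom.comp_apply]
    exact (i.isOpenEmbedding.injective.eq_iff).symm
  have h1 : IsOpenEmbedding (s.restrictPreimage k) :=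
    k.isOpenEmbedding.restrictPreimage s
  refine ⟨fun Q => (f.fiberHomeo (i p)).symm (s.restrictPreimage k
    (Homeomorph.setCongr hs ((PrimeSpectrum.preimageHomeomorphFiber A C p).symm Q))), ?_, ?_⟩
  · exact (f.fiberHomeo (i p)).symm.isOpenEmbedding.comp (h1.comp
      ((Homeomorph.setCongr hs).isOpenEmbedding.comp
        (PrimeSpectrum.preimageHomeomorphFiber A C p).symm.isOpenEmbedding))
  · intro Q
    rw [Scheme.Hom.fiberι_fiberHomeo_symm]
    rfl

/-- Upper bound for the dimension of the ring-theoretic fibre in a small affine neighbourhood. -/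
lemma ringKrullDim_fiber_le {X Y : Scheme.{u}} (f : X ⟶ Y) {A C : Type u} [CommRing A]
    [CommRing C] [Algebra A C]
    (k : Spec (CommRingCat.of C) ⟶ X) [IsOpenImmersion k] (i : Spec (CommRingCat.of A) ⟶ Y)
    [IsOpenImmersion i]
    (h : k ≫ f = Spec.map (CommRingCat.ofHom (algebraMap A C)) ≫ i) (p : PrimeSpectrum A)
    (y : Y) (hy : i p = y) (W : TopologicalSpace.Opens (f.fiber y)) (O : Set X)
    (hW : (f.fiberι y) ⁻¹' O = W) (hO : Set.range k ⊆ O) :
    ringKrullDim (p.asIdeal.Fiber C) ≤ topologicalKrullDim (W : Set (f.fiber y)) := by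
  obtain ⟨θ, hθ, hθ'⟩ := exists_isOpenEmbedding_fiber f k i h p y hy
  have hmem : ∀ Q, θ Q ∈ (W : Set (f.fiber y)) := fun Q => by
    rw [← hW, Set.mem_preimage, hθ']
    exact hO ⟨_, rfl⟩
  rw [← PrimeSpectrum.topologicalKrullDim_eq_ringKrullDim]
  have : IsInducing (Set.codRestrict θ (W : Set (f.fiber y)) hmem) :=
    hθ.isInducing.codRestrict hmem
  exact this.topologicalKrullDim_le

/-- A point of `X` in the range of `k` comes from a prime of the fibre ring. -/
lemma asFiber_mem_range {X Y : Scheme.{u}} (f : X ⟶ Y) {A C : Type u} [CommRing A]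
    [CommRing C] [Algebra A C]
    (k : Spec (CommRingCat.of C) ⟶ X) [IsOpenImmersion k] (i : Spec (CommRingCat.of A) ⟶ Y)
    [IsOpenImmersion i]
    (h : k ≫ f = Spec.map (CommRingCat.ofHom (algebraMap A C)) ≫ i) (p : PrimeSpectrum A)
    (ζ : PrimeSpectrum C) (hy : i p = f (k ζ))
    (θ : PrimeSpectrum (p.asIdeal.Fiber C) → f.fiber (f (k ζ)))
    (hθ' : ∀ Q, f.fiberι _ (θ Q) = k (PrimeSpectrum.comap
        (Algebra.TensorProduct.includeRight : C →ₐ[A] p.asIdeal.Fiber C).toRingHom Q)) :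
    f.asFiber (k ζ) ∈ Set.range θ := by
  have hζ : PrimeSpectrum.comap (algebraMap A C) ζ = p := by
    apply i.isOpenEmbedding.injective
    rw [hy, ← Scheme.Hom.comp_apply, h, Scheme.Hom.comp_apply]
    rfl
  refine ⟨PrimeSpectrum.preimageEquivFiber A C p ⟨ζ, hζ⟩, ?_⟩
  have hQ : PrimeSpectrum.comap
      (Algebra.TensorProduct.includeRight : C →ₐ[A] p.asIdeal.Fiber C).toRingHom
        (PrimeSpectrum.preimageEquivFiber A C p ⟨ζ, hζ⟩) = ζ :=
    congrArg Subtype.val ((PrimeSpectrum.preimageEquivFiber A C p).symm_apply_apply ⟨ζ, hζ⟩)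
  apply (f.fiberι _).isEmbedding.injective
  rw [hθ', hQ, Scheme.Hom.fiberι_asFiber]

/-- Lower bound for the dimension of the ring-theoretic fibre. -/
lemma fibreDimAt_le_ringKrullDim {X Y : Scheme.{u}} (f : X ⟶ Y) {A C : Type u} [CommRing A]
    [CommRing C] [Algebra A C]
    (k : Spec (CommRingCat.of C) ⟶ X) [IsOpenImmersion k] (i : Spec (CommRingCat.of A) ⟶ Y)
    [IsOpenImmersion i]
    (h : k ≫ f = Spec.map (CommRingCat.ofHom (algebraMap A C)) ≫ i) (p : PrimeSpectrum A)
    (ζ : PrimeSpectrum C) (hp : i p = f (k ζ)) :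
    FlatMor.fibreDimAt f (k ζ) ≤ ringKrullDim (p.asIdeal.Fiber C) := by
  rw [← PrimeSpectrum.topologicalKrullDim_eq_ringKrullDim]
  obtain ⟨θ, hθ, hθ'⟩ := exists_isOpenEmbedding_fiber f k i h p _ hp
  exact localDim_le_of_isOpenEmbedding hθ (asFiber_mem_range f k i h p ζ hp θ hθ')

end Groth.Agent.Ega43.FibreTop
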