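import Groth.Agent.Ega43.UnibranchOpen
import Groth.Agent.Ega43.FibreDimAlg
import Groth.Agent.Ega43.FibreTop
import Mathlib.AlgebraicGeometry.Morphisms.FiniteType
import Mathlib.AlgebraicGeometry.FunctionField

/-!
# Chevalley's openness criterion (EGA IV 14.4.4), local form
-/

set_option autoImplicit false
open CategoryTheory AlgebraicGeometry TensorProduct Topology CAlg2
universe u

namespace Groth.Agent.Ega43.ChevalleyCrit

/-- The rings of sections over affine opens of a scheme with geometrically unibranch local rings. -/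
lemma allGeomUnibranch {Y : Scheme.{u}} (hY : ∀ y : Y, IsGeomUnibranch (Y.presheaf.stalk y))
    {V : Y.Opens} (hV : IsAffineOpen V) : Unibranch.AllGeomUnibranch Γ(Y, V) := by
  intro p
  exact ⟨Y.presheaf.stalk (hV.fromSpec p), inferInstance, inferInstance,
    (TopCat.Presheaf.algebra_section_stalk Y.presheaf ⟨hV.fromSpec p, (hV.isoSpec.inv p).2⟩),
    hV.isLocalization_stalk' p (hV.isoSpec.inv p).2, hY _⟩

lemma irreducibleSpace_spec {Y : Scheme.{u}} [IrreducibleSpace Y] {A : Type u} [CommRing A]
    (i : Spec (CommRingCat.of A) ⟶ Y) [IsOpenImmersion i] [Nonempty (PrimeSpectrum A)] :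
    IrreducibleSpace (PrimeSpectrum A) := by
  haveI : Nonempty (Spec (CommRingCat.of A)) := ‹Nonempty (PrimeSpectrum A)›
  exact i.isOpenEmbedding.irreducibleSpace

/-- The generic point of `Spec A`. -/
lemma isGenericPoint_nilradical {A : Type u} [CommRing A] [hN : (nilradical A).IsPrime] :
    IsGenericPoint (⟨nilradical A, hN⟩ : PrimeSpectrum A) Set.univ := by
  rw [isGenericPoint_iff_specializes]
  intro y
  simp only [Set.mem_univ, iff_true]
  rw [← PrimeSpectrum.le_iff_specializes]
  exact nilradical_le_prime _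

/-- The generic point of `Spec A` maps to the generic point of `Y`. -/
lemma map_nilradical {Y : Scheme.{u}} [IrreducibleSpace Y] {A : Type u} [CommRing A]
    (i : Spec (CommRingCat.of A) ⟶ Y) [IsOpenImmersion i] [hN : (nilradical A).IsPrime] :
    i (⟨nilradical A, hN⟩ : PrimeSpectrum A) = genericPoint Y := by
  haveI : Nonempty (PrimeSpectrum A) := ⟨⟨nilradical A, hN⟩⟩
  haveI : IrreducibleSpace (PrimeSpectrum A) := irreducibleSpace_spec i
  haveI : IrreducibleSpace (Spec (CommRingCat.of A)) := this
  rw [← genericPoint_eq_of_isOpenImmersion i]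
  congr 1
  exact (isGenericPoint_nilradical (A := A)).eq (genericPoint_spec (Spec (CommRingCat.of A)))

/-- A dominant morphism maps the generic point to the generic point. -/
lemma map_genericPoint {X Y : Scheme.{u}} [IrreducibleSpace X] [IrreducibleSpace Y] (f : X ⟶ Y)
    [IsDominant f] : f (genericPoint X) = genericPoint Y := by
  have h := (genericPoint_spec X).image f.continuous
  rw [Set.image_univ, f.denseRange.closure_eq] at h
  exact h.eq (genericPoint_spec Y)

/-- Universal openness of the restriction to the range of an open immersion. -/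
lemma universallyOpen_opensRange {X Y Z : Scheme.{u}} (k : Z ⟶ X) [IsOpenImmersion k] (f : X ⟶ Y)
    [UniversallyOpen (k ≫ f)] : UniversallyOpen (k.opensRange.ι ≫ f) := by
  rw [← Scheme.Hom.isoOpensRange_inv_comp, Category.assoc]
  infer_instance

/-- The affine form of Chevalley's criterion: ring maps `A → C` of finite type. -/
theorem exists_away_universallyOpen {A C : Type u} [CommRing A] [CommRing C] [Algebra A C]
    [Algebra.FiniteType A C] [hA : (nilradical A).IsPrime] (hC : IrreducibleSpace (PrimeSpectrum C))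
    (hAu : Unibranch.AllGeomUnibranch A)
    (q : Ideal C) [hq : q.IsPrime] (d : ℕ) (hd : ringKrullDim ((q.under A).Fiber C) ≤ d)
    (hgen : ∀ g : C, g ∉ q → (d : WithBot ℕ∞) ≤
      ringKrullDim ((nilradical A).Fiber (Localization.Away g))) :
    ∃ g ∉ q, UniversallyOpen
      (Spec.map (CommRingCat.ofHom (algebraMap A (Localization.Away g)))) := by
  obtain ⟨φ, g, hg, hqf⟩ := FibreDimAlg.exists_quasiFinite_mvPolynomial q d hd
  refine ⟨g, hg, ?_⟩
  haveI : IsDomain (red A) := Ideal.Quotient.isDomain _
  letI : Algebra (MvPolynomial (Fin d) A) (Localization.Away g) :=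
    ((algebraMap C (Localization.Away g)).comp φ.toRingHom).toAlgebra
  have hcomp : (algebraMap (MvPolynomial (Fin d) A) (Localization.Away g)).comp MvPolynomial.C =
      algebraMap A (Localization.Away g) := by
    change ((algebraMap C (Localization.Away g)).comp φ.toRingHom).comp MvPolynomial.C = _
    rw [RingHom.comp_assoc, IsScalarTower.algebraMap_eq A C (Localization.Away g)]
    congr 1
    exact φ.comp_algebraMap
  haveI : IsScalarTower A (MvPolynomial (Fin d) A) (Localization.Away g) :=
    .of_algebraMap_eq' hcomp.symm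
  haveI : Algebra.QuasiFinite (MvPolynomial (Fin d) A) (Localization.Away g) := hqf
  haveI : Algebra.FiniteType C (Localization.Away g) := inferInstance
  haveI : Algebra.FiniteType A (Localization.Away g) := .trans (inferInstanceAs
    (Algebra.FiniteType A C)) this
  haveI : Algebra.FiniteType (MvPolynomial (Fin d) A) (Localization.Away g) :=
    .of_restrictScalars_finiteType A _ _
  haveI : Nonempty (PrimeSpectrum (Localization.Away g)) := by
    obtain ⟨x, -⟩ := (PrimeSpectrum.localization_away_comap_range (Localization.Away g) g).ge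
      (show (⟨q, hq⟩ : PrimeSpectrum C) ∈ PrimeSpectrum.basicOpen g from hg)
    exact ⟨x⟩
  haveI : IrreducibleSpace (PrimeSpectrum (Localization.Away g)) :=
    (PrimeSpectrum.localization_away_isOpenEmbedding (Localization.Away g) g).irreducibleSpace
  have hker := FibreDimAlg.ker_le_nilradical_of_quasiFinite (A := A) (S := Localization.Away g)
    (nilradical A) le_rfl d (hgen g hg)
  have := UnibranchOpen.universallyOpen_comp_C hAu d hker
  rwa [hcomp] at this

/-- **Chevalley's criterion**, local form: over a geometrically unibranch irreducible base, a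
dominant morphism locally of finite type from an irreducible scheme is universally open near every
point `x` where the fibre dimension is at most the generic one. -/
theorem exists_universallyOpen_nhd {X Y : Scheme.{u}} [IrreducibleSpace X] [IrreducibleSpace Y]
    (hY : ∀ y : Y, IsGeomUnibranch (Y.presheaf.stalk y)) (f : X ⟶ Y) [LocallyOfFiniteType f]
    [IsDominant f] (x : X) (d : ℕ) (hx : FlatMor.fibreDimAt f x ≤ d)
    (hgen : (d : WithBot ℕ∞) ≤ FlatMor.fibreDimAt f (genericPoint X)) :
    ∃ U : X.Opens, x ∈ U ∧ UniversallyOpen (U.ι ≫ f) := by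
  obtain ⟨W, hxW, hW⟩ := FibreTop.exists_localDim_eq (f.asFiber x)
  obtain ⟨O, hO, hOW⟩ := (f.fiberι (f x)).isEmbedding.isInducing.isOpen_iff.mp W.isOpen
  have hxO : x ∈ O := by
    have : f.asFiber x ∈ (f.fiberι (f x)) ⁻¹' O := by rw [hOW]; exact hxW
    rwa [Set.mem_preimage, Scheme.Hom.fiberι_asFiber] at this
  obtain ⟨V', hV', hyV', -⟩ := exists_isAffineOpen_mem_and_subset
    (x := f x) (U := (⊤ : Y.Opens)) trivial
  obtain ⟨V, hV, hxV, hle⟩ := exists_isAffineOpen_mem_and_subset
    (x := x) (U := (⟨O, hO⟩ ⊓ f ⁻¹ᵁ V' : X.Opens)) ⟨hxO, hyV'⟩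
  have hVV' : V ≤ f ⁻¹ᵁ V' := fun z hz => (hle hz).2
  have hVO : (V : Set X) ⊆ O := fun z hz => (hle hz).1
  let A : Type u := Γ(Y, V')
  let C : Type u := Γ(X, V)
  letI : Algebra A C := (f.appLE V' V hVV').hom.toAlgebra
  let k : Spec (CommRingCat.of C) ⟶ X := hV.fromSpec
  let i : Spec (CommRingCat.of A) ⟶ Y := hV'.fromSpec
  have h : k ≫ f = Spec.map (CommRingCat.ofHom (algebraMap A C)) ≫ i :=
    (IsAffineOpen.SpecMap_appLE_fromSpec f hV' hV hVV').symm
  haveI : Algebra.FiniteType A C :=
    (HasRingHomProperty.appLE @LocallyOfFiniteType f inferInstance ⟨V', hV'⟩ ⟨V, hV⟩ hVV' :)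
  have hrk : Set.range k = (V : Set X) := hV.range_fromSpec
  have hri : Set.range i = (V' : Set Y) := hV'.range_fromSpec
  obtain ⟨q, hq⟩ : ∃ q : PrimeSpectrum C, k q = x := by
    have : x ∈ Set.range k := by rw [hrk]; exact hxV
    exact this
  haveI : Nonempty (PrimeSpectrum C) := ⟨q⟩
  haveI : Nonempty (PrimeSpectrum A) := ⟨PrimeSpectrum.comap (algebraMap A C) q⟩
  haveI hCirr : IrreducibleSpace (PrimeSpectrum C) := irreducibleSpace_spec k
  haveI hAirr : IrreducibleSpace (PrimeSpectrum A) := irreducibleSpace_spec i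
  haveI hN : (nilradical A).IsPrime := PrimeSpectrum.irreducibleSpace_iff_isPrime_nilradical.mp hAirr
  have hy : i (PrimeSpectrum.comap (algebraMap A C) q) = f x := by
    rw [← hq, ← Scheme.Hom.comp_apply, h, Scheme.Hom.comp_apply]
    rfl
  have hd : ringKrullDim ((q.asIdeal.under A).Fiber C) ≤ d := by
    refine (FibreTop.ringKrullDim_fiber_le f k i h (PrimeSpectrum.comap (algebraMap A C) q) (f x) hy
      W O hOW (by rw [hrk]; exact hVO)).trans ?_
    rw [hW]
    exact hx
  have hgen' : ∀ g : C, g ∉ q.asIdeal → (d : WithBot ℕ∞) ≤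
      ringKrullDim ((nilradical A).Fiber (Localization.Away g)) := by
    intro g hg
    refine hgen.trans ?_
    let k' : Spec (CommRingCat.of (Localization.Away g)) ⟶ X :=
      Spec.map (CommRingCat.ofHom (algebraMap C (Localization.Away g))) ≫ k
    have h' : k' ≫ f = Spec.map (CommRingCat.ofHom (algebraMap A (Localization.Away g))) ≫ i := by
      rw [Category.assoc, h, ← Category.assoc, ← Spec.map_comp, ← CommRingCat.ofHom_comp,
        ← IsScalarTower.algebraMap_eq]
    have hne : (Set.range k').Nonempty := by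
      obtain ⟨z, -⟩ := (PrimeSpectrum.localization_away_comap_range (Localization.Away g) g).ge
        (show q ∈ PrimeSpectrum.basicOpen g from hg)
      exact ⟨k' z, z, rfl⟩
    have hmem : genericPoint X ∈ Set.range k' := by
      rw [(genericPoint_spec X).mem_open_set_iff k'.isOpenEmbedding.isOpen_range, Set.univ_inter]
      exact hne
    obtain ⟨ζ, hζ⟩ := hmem
    have hp : i (⟨nilradical A, hN⟩ : PrimeSpectrum A) = f (k' ζ) := by
      rw [map_nilradical, hζ, map_genericPoint]
    have := FibreTop.fibreDimAt_le_ringKrullDim f k' i h' ⟨nilradical A, hN⟩ ζ hp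
    rwa [hζ] at this
  obtain ⟨g, hg, hgo⟩ := exists_away_universallyOpen hCirr (allGeomUnibranch hY hV') q.asIdeal d hd
    hgen'
  let k' : Spec (CommRingCat.of (Localization.Away g)) ⟶ X :=
    Spec.map (CommRingCat.ofHom (algebraMap C (Localization.Away g))) ≫ k
  have h' : k' ≫ f = Spec.map (CommRingCat.ofHom (algebraMap A (Localization.Away g))) ≫ i := by
    rw [Category.assoc, h, ← Category.assoc, ← Spec.map_comp, ← CommRingCat.ofHom_comp,
      ← IsScalarTower.algebraMap_eq]
  haveI : UniversallyOpen (k' ≫ f) := by rw [h']; infer_instance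
  refine ⟨k'.opensRange, ?_, universallyOpen_opensRange k' f⟩
  obtain ⟨z, hz⟩ := (PrimeSpectrum.localization_away_comap_range (Localization.Away g) g).ge
    (show q ∈ PrimeSpectrum.basicOpen g from hg)
  refine ⟨z, ?_⟩
  rw [← hq, ← hz]
  rfl

end Groth.Agent.Ega43.ChevalleyCrit
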