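import Groth.Prelude.Def_CohB1
import Groth.Agent.CohqA.ChowClosure
import Groth.Agent.CohqA.ChowAffine
import Groth.Agent.CohqA.ChowAff
import Groth.Agent.CohqA.ChowProd
import Groth.Agent.Dix.ProjProper
import Groth.Agent.Ega43.ChowPrep

/-!
# Chow's lemma over an arbitrary separated base, without Noetherian hypotheses

`exists_chow`: for `S` separated, `X/S` separated, quasi-compact, locally of finite type
(`X` compact), there are a proper surjective `X' ⟶ X` and an immersion `X' ⟶ P^n_S` over `S`.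
-/

set_option autoImplicit false
universe u

open CategoryTheory AlgebraicGeometry

namespace Groth.Agent.Ega43.ChowSep

open ChowPrep in
/-- Chow's lemma for a scheme covered by affine opens all containing a fixed dense affine open. -/
theorem exists_chow_of_good {S Z : Scheme.{u}} (f : Z ⟶ S) [IsSeparated f]
    [LocallyOfFiniteType f] [QuasiSeparatedSpace Z] {m : ℕ} (h : Good (Fin m) Z) :
    ∃ (n : ℕ) (X' : Scheme.{u}) (π : X' ⟶ Z) (j : X' ⟶ CohB1.ProjSpaceOver n S),
      IsImmersion j ∧ j ≫ CohB1.ProjSpaceOver.toBase n S = π ≫ f ∧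
      IsProper π ∧ Surjective π := by
  obtain ⟨V, W, hV, hVaff, hWV, hWd, hW⟩ := h
  have hVa : ∀ i, IsAffine (V i) := hVaff
  choose n j hj hj' using fun i ↦
    CohqA.ChowAffine.exists_immersion_affineSpace ((V i).ι ≫ f)
  choose e he he' using fun i ↦ CohqA.ChowAff.exists_immersion (n i) S
  have hprop := fun i ↦ Dix.ProjProper.isProper_toBase (n i) S
  obtain ⟨N, P, c, p, φ, hc, hp, hφ, hφ'⟩ := CohqA.ChowProd.exists_product S n (W.ι ≫ f)
    (fun i ↦ Z.homOfLE (hWV i) ≫ j i ≫ e i) (fun i ↦ by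
      simp only [Category.assoc]
      rw [he', hj', Scheme.homOfLE_ι_assoc])
  have hN := Dix.ProjProper.isProper_toBase N S
  have hWι : QuasiCompact W.ι := by
    have : IsAffine W := hW
    infer_instance
  obtain ⟨X', π, q, h1, h2, h3, h4, -⟩ := CohqA.ChowClosure.exists_of_immersions f
    (c ≫ CohB1.ProjSpaceOver.toBase N S) W hWd V
    (by
      rw [eq_top_iff]
      intro x _
      obtain ⟨i, hi⟩ := hV x
      exact (le_iSup V i) hi) hWV
    (fun i ↦ CohB1.ProjSpaceOver (n i) S) (fun i ↦ CohB1.ProjSpaceOver.toBase (n i) S)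
    p hp (fun i ↦ j i ≫ e i) (fun i ↦ by rw [Category.assoc, he', hj'])
    φ hφ' hφ
  exact ⟨N, X', π, q ≫ c, inferInstance, by rw [Category.assoc, h2], h3, h4⟩

theorem isSeparated_of_isSeparated_hom {X S : Scheme.{u}} [S.IsSeparated] (f : X ⟶ S)
    [IsSeparated f] : X.IsSeparated := by
  refine ⟨?_⟩
  have : Limits.terminal.from X = f ≫ Limits.terminal.from S := Subsingleton.elim _ _
  rw [this]
  infer_instance

open ChowPrep in
/-- **Chow's lemma** for separated schemes of finite type over an arbitrary separated base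
(no finite presentation, no Noetherian hypothesis). -/
theorem exists_chow {X S : Scheme.{u}} [S.IsSeparated] (f : X ⟶ S) [IsSeparated f]
    [LocallyOfFiniteType f] [CompactSpace X] :
    ∃ (n : ℕ) (X' : Scheme.{u}) (π : X' ⟶ X) (j : X' ⟶ CohB1.ProjSpaceOver n S),
      IsImmersion j ∧ j ≫ CohB1.ProjSpaceOver.toBase n S = π ≫ f ∧
      IsProper π ∧ Surjective π := by
  have : X.IsSeparated := isSeparated_of_isSeparated_hom f
  let 𝒰 := X.affineCover.finiteSubcover
  have hfin : Finite 𝒰.I₀ := inferInstance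
  obtain ⟨m, ⟨e⟩⟩ := Finite.exists_equiv_fin 𝒰.I₀
  obtain ⟨Z, z, hz1, hz2, hz3⟩ := exists_finite_surjective_good
    (fun i : Fin m ↦ (𝒰.f (e.symm i)).opensRange)
    (fun i ↦ isAffineOpen_opensRange _) (fun x ↦ ⟨e (𝒰.idx x), by
      rw [e.symm_apply_apply]
      exact 𝒰.covers x⟩)
  have : Z.IsSeparated := isSeparated_of_isSeparated_hom z
  obtain ⟨n, X', π, j, h1, h2, h3, h4⟩ := exists_chow_of_good (z ≫ f) hz3
  exact ⟨n, X', π ≫ z, j, h1, by rw [h2, Category.assoc], inferInstance, inferInstance⟩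

end Groth.Agent.Ega43.ChowSep
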