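import Groth.Agent.FlatA.GenericFree2
import Mathlib.RingTheory.Extension.Presentation.Core
import Mathlib.RingTheory.Flat.Stability
import Mathlib.RingTheory.LocalRing.ResidueField.Fiber
import Mathlib.RingTheory.Spectrum.Prime.ConstructibleSet
import Mathlib.Algebra.Exact.Basic

/-!
# Spreading out nonzerodivisors on fibres
-/

set_option autoImplicit false

open TensorProduct

namespace Groth.Agent.Ega43.SpreadNZD

universe u v w

/-- Multiplication by `h` is injective on `L ⊗[R] C`. -/
def MulInj (R : Type u) {C : Type v} [CommRing R] [CommRing C] [Algebra R C] (h : C) (L : Type w)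
    [CommRing L] [Algebra R L] : Prop :=
  Function.Injective (LinearMap.lTensor L (LinearMap.mulLeft R h))

theorem mulInj_iff {R : Type u} {C : Type v} [CommRing R] [CommRing C] [Algebra R C] (h : C)
    (L : Type w) [CommRing L] [Algebra R L] :
    MulInj R h L ↔ ∀ x : L ⊗[R] C, (1 ⊗ₜ[R] h) * x = 0 → x = 0 := by
  have key : ∀ x : L ⊗[R] C, LinearMap.lTensor L (LinearMap.mulLeft R h) x = (1 ⊗ₜ[R] h) * x := by
    intro x
    induction x with
    | zero => simp
    | tmul a b => simp [Algebra.TensorProduct.tmul_mul_tmul]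
    | add x y hx hy => simp only [map_add, hx, hy, mul_add]
  rw [MulInj, injective_iff_map_eq_zero]
  simp_rw [key]

section BC

variable {R S : Type*} {C : Type*} [CommRing R] [CommRing S] [CommRing C] [Algebra R C]
  [Algebra R S] (h : C) (L : Type*) [CommRing L] [Algebra R L] [Algebra S L] [IsScalarTower R S L]

theorem mulInj_baseChange_iff : MulInj S ((1 : S) ⊗ₜ[R] h) L ↔ MulInj R h L := by
  let e := AlgebraTensorModule.cancelBaseChange R S L L C
  have key : (LinearMap.lTensor L (LinearMap.mulLeft R h)) ∘ e =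
      e ∘ LinearMap.lTensor L (LinearMap.mulLeft S ((1 : S) ⊗ₜ[R] h)) := by
    funext x
    simp only [Function.comp_apply]
    induction x with
    | zero => simp
    | add x y hx hy => simp only [map_add, hx, hy]
    | tmul a x =>
      induction x with
      | zero => simp
      | add x y hx hy => simp only [tmul_add, map_add, hx, hy]
      | tmul b c => simp [e, Algebra.TensorProduct.tmul_mul_tmul]
  rw [MulInj, MulInj, ← Function.Injective.of_comp_iff' _ e.bijective, key,
    Function.Injective.of_comp_iff e.injective]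

end BC

theorem mulInj_congr {R C C' : Type*} [CommRing R] [CommRing C] [CommRing C'] [Algebra R C]
    [Algebra R C'] (e : C ≃ₐ[R] C') (h : C) (L : Type*) [CommRing L] [Algebra R L] :
    MulInj R h L ↔ MulInj R (e h) L := by
  rw [mulInj_iff, mulInj_iff]
  let e' := Algebra.TensorProduct.congr (AlgEquiv.refl : L ≃ₐ[R] L) e
  constructor
  · intro H x hx
    obtain ⟨y, rfl⟩ := e'.surjective x
    rw [H y, map_zero]
    apply e'.injective
    rw [map_mul, map_zero, ← hx]
    simp [e']
  · intro H x hx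
    apply e'.injective
    rw [map_zero]
    apply H
    have := congrArg e' hx
    rw [map_mul, map_zero] at this
    simpa [e'] using this

section domain

open Groth.Agent.FlatA.GenericFree

/-- If `1 ⊗ x` vanishes in `L ⊗ C`, where `L` is a field containing the domain `D`, then `x` is torsion. -/
theorem exists_smul_eq_zero {D C : Type*} [CommRing D] [IsDomain D] [AddCommGroup C] [Module D C]
    (L : Type*) [Field L] [Algebra D L] (hL : Function.Injective (algebraMap D L)) (x : C)
    (hx : (1 : L) ⊗ₜ[D] x = 0) : ∃ d : D, d ≠ 0 ∧ d • x = 0 := by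
  let K := FractionRing D
  let : Algebra K L := (IsFractionRing.lift (A := D) (K := K) hL).toAlgebra
  have : IsScalarTower D K L := IsScalarTower.of_algebraMap_eq fun a ↦ by
    rw [RingHom.algebraMap_toAlgebra, IsFractionRing.lift_algebraMap]
  have h1 : (1 : K) ⊗ₜ[D] x = 0 := by
    have hinj : Function.Injective (TensorProduct.mk K L (K ⊗[D] C) 1) :=
      Module.Flat.tensorProduct_mk_injective _ _ _
    apply hinj
    apply (AlgebraTensorModule.cancelBaseChange D K L L C).injective
    simpa using hx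
  have h2 := (IsLocalizedModule.eq_zero_iff (nonZeroDivisors D)
    (TensorProduct.mk D K C 1)).mp h1
  obtain ⟨c, hc⟩ := h2
  exact ⟨c, nonZeroDivisors.ne_zero c.2, hc⟩

/-- Spreading out of injectivity of multiplication by `h`, over a domain. -/
theorem exists_forall_mulInj {D C : Type u} [CommRing D] [IsDomain D] [CommRing C] [Algebra D C]
    [Algebra.FiniteType D C] (h : C) (L₀ : Type*) [Field L₀] [Algebra D L₀]
    (hL₀ : Function.Injective (algebraMap D L₀)) (hinj : MulInj D h L₀) :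
    ∃ g : D, g ≠ 0 ∧ ∀ (L : Type w) [CommRing L] [Algebra D L], IsUnit (algebraMap D L g) →
      MulInj D h L := by
  obtain ⟨f₁, hf₁, h₁⟩ := genFree_of_finiteType.{u, u, u} (R := D) C (C ⧸ Ideal.span {h})
  obtain ⟨f₂, hf₂, h₂⟩ := genFree_of_finiteType.{u, u, u} (R := D) C C
  refine ⟨f₁ * f₂, mul_ne_zero hf₁ hf₂, fun L _ _ hL ↦ ?_⟩
  have h₁' := h₁.of_dvd (Dvd.intro f₂ rfl : f₁ ∣ f₁ * f₂)
  have h₂' := h₂.of_dvd (Dvd.intro_left f₁ rfl : f₂ ∣ f₁ * f₂)
  set g := f₁ * f₂ with hg
  let Dg := Localization.Away g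
  -- multiplication by `h` is injective over `D_g`
  have c1 : MulInj D h Dg := by
    rw [mulInj_iff] at hinj ⊢
    intro y hy
    obtain ⟨⟨x, s⟩, hxs⟩ := IsLocalizedModule.surj (Submonoid.powers g)
      (TensorProduct.mk D Dg C 1) y
    have hs : (s : D) • y = (1 : Dg) ⊗ₜ[D] x := hxs
    have h3 : (TensorProduct.mk D Dg C 1) (h * x) = 0 := by
      have : (1 : Dg) ⊗ₜ[D] (h * x) = (1 ⊗ₜ[D] h) * (1 ⊗ₜ[D] x) := by
        rw [Algebra.TensorProduct.tmul_mul_tmul, one_mul]
      rw [TensorProduct.mk_apply, this, ← hs, mul_smul_comm, hy, smul_zero]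
    obtain ⟨t, ht⟩ := (IsLocalizedModule.eq_zero_iff (Submonoid.powers g)
      (TensorProduct.mk D Dg C 1)).mp h3
    have ht' : h * ((t : D) • x) = 0 := by rw [mul_smul_comm]; exact ht
    have h4 : (1 : L₀) ⊗ₜ[D] ((t : D) • x) = 0 := by
      apply hinj
      rw [Algebra.TensorProduct.tmul_mul_tmul, ht', tmul_zero]
    obtain ⟨d, hd, hd'⟩ := exists_smul_eq_zero L₀ hL₀ _ h4
    obtain ⟨k, hk⟩ := h₂'.torsion hd hd'
    have h5 : (TensorProduct.mk D Dg C 1) x = 0 := by
      rw [IsLocalizedModule.eq_zero_iff (Submonoid.powers g)]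
      refine ⟨⟨g ^ k, ⟨k, rfl⟩⟩ * t, ?_⟩
      rw [mul_smul]
      exact hk
    have h6 : (s : D) • y = 0 := hs.trans h5
    have hu : IsUnit (algebraMap D Dg s) := IsLocalization.map_units Dg s
    rw [← algebraMap_smul Dg (s : D) y] at h6
    exact (hu.smul_eq_zero).mp h6
  -- the cokernel is free over `D_g`
  let φ : Dg ⊗[D] C →ₗ[Dg] Dg ⊗[D] C := (LinearMap.mulLeft D h).baseChange Dg
  let π : C →ₗ[D] C ⧸ Ideal.span {h} := (Ideal.Quotient.mkₐ D (Ideal.span {h})).toLinearMap
  let ψ : Dg ⊗[D] C →ₗ[Dg] Dg ⊗[D] (C ⧸ Ideal.span {h}) := π.baseChange Dg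
  have hπ : Function.Surjective π := Ideal.Quotient.mk_surjective
  have hex : Function.Exact (LinearMap.mulLeft D h) π := by
    intro x
    change Ideal.Quotient.mk _ x = 0 ↔ _
    rw [Ideal.Quotient.eq_zero_iff_mem, Ideal.mem_span_singleton']
    constructor
    · rintro ⟨a, rfl⟩
      exact ⟨a, by simp [mul_comm]⟩
    · rintro ⟨a, rfl⟩
      exact ⟨a, by simp [mul_comm]⟩
  have hexg : Function.Exact φ ψ := lTensor_exact Dg hex hπ
  have hψ : Function.Surjective ψ := LinearMap.lTensor_surjective Dg hπ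
  have hfree : Module.Free Dg (Dg ⊗[D] (C ⧸ Ideal.span {h})) := h₁'.free_tensor Dg
  obtain ⟨l, hl⟩ := Module.projective_lifting_property ψ LinearMap.id hψ
  obtain ⟨r, hr⟩ := ((hexg.split_tfae c1 hψ).out 0 1 rfl rfl).mp ⟨l, hl⟩
  -- base change to `L`
  let : Algebra Dg L := (IsLocalization.Away.lift (S := Dg) g hL).toAlgebra
  have : IsScalarTower D Dg L := IsScalarTower.of_algebraMap_eq fun a ↦ by
    rw [RingHom.algebraMap_toAlgebra, IsLocalization.Away.lift_eq]
  rw [← mulInj_baseChange_iff (S := Dg) h L, MulInj]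
  have hφ : LinearMap.mulLeft Dg ((1 : Dg) ⊗ₜ[D] h) = φ := by
    ext x
    simp [φ, Algebra.TensorProduct.tmul_mul_tmul]
  rw [hφ]
  refine Function.HasLeftInverse.injective ⟨LinearMap.lTensor L r, fun x ↦ ?_⟩
  rw [← LinearMap.comp_apply, ← LinearMap.lTensor_comp, hr, LinearMap.lTensor_id,
    LinearMap.id_apply]

end domain

section model

open Algebra

/-- A finitely presented algebra together with an element descends to a Noetherian subring. -/
theorem exists_model {R C : Type u} [CommRing R] [CommRing C] [Algebra R C]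
    [Algebra.FinitePresentation R C] (h : C) :
    ∃ (R₁ : Type u) (_ : CommRing R₁) (_ : IsNoetherianRing R₁) (_ : Algebra R₁ R) (C₁ : Type u)
      (_ : CommRing C₁) (_ : Algebra R₁ C₁) (_ : Algebra.FinitePresentation R₁ C₁)
      (e : R ⊗[R₁] C₁ ≃ₐ[R] C) (h₁ : C₁), e (1 ⊗ₜ h₁) = h := by
  let P := Presentation.ofFinitePresentation R C
  obtain ⟨H, hH⟩ : ∃ H, MvPolynomial.aeval P.val H = h := P.aeval_val_surjective h
  have hN : IsNoetherianRing P.Core := Algebra.FiniteType.isNoetherianRing ℤ P.Core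
  let R₁ := Algebra.adjoin P.Core (H.coeffs : Set R)
  have hft : Algebra.FiniteType P.Core R₁ := .adjoin_of_finite (Finset.finite_toSet _)
  have hN' : IsNoetherianRing R₁ := Algebra.FiniteType.isNoetherianRing P.Core R₁
  obtain ⟨H₁, hH₁⟩ : H ∈ Set.range (MvPolynomial.map (algebraMap R₁ R)) := by
    rw [MvPolynomial.mem_range_map_iff_coeffs_subset]
    intro x hx
    exact ⟨⟨x, Algebra.subset_adjoin hx⟩, rfl⟩
  refine ⟨R₁, inferInstance, hN', inferInstance, P.ModelOfHasCoeffs R₁, inferInstance,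
    inferInstance, inferInstance, P.tensorModelOfHasCoeffsEquiv R₁, Ideal.Quotient.mk _ H₁, ?_⟩
  have h1 := P.tensorModelOfHasCoeffsEquiv_symm_tmul R₁ H₁
  rw [AlgEquiv.symm_apply_eq] at h1
  rw [← h1, ← hH, ← hH₁, MvPolynomial.aeval_map_algebraMap]

end model

section main

/-- Spreading out of nonzerodivisors on fibres: if `h` is a nonzerodivisor on `κ(p) ⊗ C`, then there is a
constructible neighbourhood `V` of `p` such that `h` is a nonzerodivisor on `κ(t) ⊗ C` for `t ∈ V`. -/
theorem exists_isConstructible_mulInj {R C : Type u} [CommRing R] [CommRing C] [Algebra R C]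
    [Algebra.FinitePresentation R C] (h : C) (p : PrimeSpectrum R)
    (hp : MulInj R h p.asIdeal.ResidueField) :
    ∃ V : Set (PrimeSpectrum R), Topology.IsConstructible V ∧ p ∈ V ∧
      ∀ t ∈ V, MulInj R h t.asIdeal.ResidueField := by
  obtain ⟨R₁, _, _, _, C₁, _, _, _, e, h₁, he⟩ := exists_model (R := R) h
  -- reduce to `C₁`
  have key : ∀ (L : Type u) [CommRing L] [Algebra R L] [Algebra R₁ L] [IsScalarTower R₁ R L],
      MulInj R h L ↔ MulInj R₁ h₁ L := by
    intro L _ _ _ _
    rw [← mulInj_baseChange_iff (S := R) h₁ L, ← he, ← mulInj_congr e]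
  let p₁ : Ideal R₁ := p.asIdeal.comap (algebraMap R₁ R)
  have hp₁ : p₁.IsPrime := Ideal.comap_isPrime _ _
  let D := R₁ ⧸ p₁
  let C' := D ⊗[R₁] C₁
  -- `κ(p)` as a `D`-algebra
  have hker : ∀ (t : PrimeSpectrum R) (ht : ∀ a ∈ p₁, algebraMap R₁ R a ∈ t.asIdeal),
      ∃ (φ : D →+* t.asIdeal.ResidueField), ∀ a : R₁, φ (Ideal.Quotient.mk p₁ a) =
        algebraMap R t.asIdeal.ResidueField (algebraMap R₁ R a) := by
    intro t ht
    refine ⟨Ideal.Quotient.lift p₁ ((algebraMap R t.asIdeal.ResidueField).comp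
      (algebraMap R₁ R)) (fun a ha ↦ ?_), fun a ↦ rfl⟩
    rw [RingHom.comp_apply, Ideal.algebraMap_residueField_eq_zero]
    exact ht a ha
  obtain ⟨φ, hφ⟩ := hker p fun a ha ↦ ha
  obtain ⟨g, hg, hmul⟩ : ∃ g : D, g ≠ 0 ∧ ∀ (L : Type u) [CommRing L] [Algebra D L],
      IsUnit (algebraMap D L g) → MulInj D ((1 : D) ⊗ₜ[R₁] h₁) L := by
    let : Algebra R₁ p.asIdeal.ResidueField :=
      ((algebraMap R p.asIdeal.ResidueField).comp (algebraMap R₁ R)).toAlgebra
    have : IsScalarTower R₁ R p.asIdeal.ResidueField := .of_algebraMap_eq fun _ ↦ rfl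
    let : Algebra D p.asIdeal.ResidueField := φ.toAlgebra
    have : IsScalarTower R₁ D p.asIdeal.ResidueField := .of_algebraMap_eq fun a ↦ (hφ a).symm
    refine exists_forall_mulInj.{u, u} (C := C') ((1 : D) ⊗ₜ[R₁] h₁) p.asIdeal.ResidueField ?_ ?_
    · rw [injective_iff_map_eq_zero]
      intro a ha
      obtain ⟨a, rfl⟩ := Ideal.Quotient.mk_surjective a
      rw [RingHom.algebraMap_toAlgebra, hφ, Ideal.algebraMap_residueField_eq_zero] at ha
      exact Ideal.Quotient.eq_zero_iff_mem.mpr ha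
    · rw [mulInj_baseChange_iff (S := D) h₁, ← key]
      exact hp
  obtain ⟨g₁, rfl⟩ := Ideal.Quotient.mk_surjective g
  have hg₁ : g₁ ∉ p₁ := fun h ↦ hg (Ideal.Quotient.eq_zero_iff_mem.mpr h)
  let V₁ : Set (PrimeSpectrum R₁) := PrimeSpectrum.zeroLocus p₁ ∩ (PrimeSpectrum.basicOpen g₁)
  have hV₁ : Topology.IsConstructible V₁ := by
    refine .inter ?_ ?_
    · obtain ⟨s, hs⟩ := (isNoetherianRing_iff_ideal_fg R₁).mp inferInstance p₁
      rw [← hs, PrimeSpectrum.zeroLocus_span, ← Topology.isConstructible_compl]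
      exact (PrimeSpectrum.isRetrocompact_zeroLocus_compl s.finite_toSet).isConstructible
        (PrimeSpectrum.isClosed_zeroLocus _).isOpen_compl
    · exact (PrimeSpectrum.isCompact_basicOpen g₁).isConstructible
        (PrimeSpectrum.basicOpen g₁).isOpen
  obtain ⟨V', hV'⟩ := PrimeSpectrum.exists_constructibleSetData_iff.mpr hV₁
  refine ⟨PrimeSpectrum.comap (algebraMap R₁ R) ⁻¹' V₁, ?_, ?_, ?_⟩
  · rw [← hV', ← PrimeSpectrum.ConstructibleSetData.toSet_map]
    exact PrimeSpectrum.ConstructibleSetData.isConstructible_toSet _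
  · exact ⟨fun a ha ↦ ha, hg₁⟩
  · rintro t ⟨ht₁, ht₂⟩
    obtain ⟨ψ, hψ⟩ := hker t fun a ha ↦ ht₁ ha
    let : Algebra R₁ t.asIdeal.ResidueField :=
      ((algebraMap R t.asIdeal.ResidueField).comp (algebraMap R₁ R)).toAlgebra
    have : IsScalarTower R₁ R t.asIdeal.ResidueField := .of_algebraMap_eq fun _ ↦ rfl
    let : Algebra D t.asIdeal.ResidueField := ψ.toAlgebra
    have : IsScalarTower R₁ D t.asIdeal.ResidueField := .of_algebraMap_eq fun a ↦ (hψ a).symm
    rw [key, ← mulInj_baseChange_iff (S := D) h₁]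
    apply hmul
    rw [RingHom.algebraMap_toAlgebra, hψ, isUnit_iff_ne_zero, Ne,
      Ideal.algebraMap_residueField_eq_zero]
    exact ht₂

end main

end Groth.Agent.Ega43.SpreadNZD
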