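import Groth.Agent.Ega43.ConsCrit
import Groth.Agent.Ega43.SpreadNZD
import Mathlib.RingTheory.Spectrum.Prime.Chevalley
import Mathlib.RingTheory.Ideal.MinimalPrime.Localization
import Mathlib.LinearAlgebra.TensorProduct.RightExactness

/-!
# The locus where the fibres of a constructible set are closed (EGA IV 9.5.4), affine case
-/

set_option autoImplicit false

open TensorProduct Topology PrimeSpectrum

namespace Groth.Agent.Ega43.ClosedLocus

open Groth.Agent.Ega43.ConsCrit Groth.Agent.Ega43.SpreadNZD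

universe u

variable {R B : Type u} [CommRing R] [CommRing B] [Algebra R B]

/-- preimages of constructible sets are constructible -/
theorem isConstructible_preimage_comap {R S : Type*} [CommRing R] [CommRing S] (f : R →+* S)
    {s : Set (PrimeSpectrum R)} (hs : IsConstructible s) : IsConstructible (comap f ⁻¹' s) := by
  obtain ⟨V', hV'⟩ := PrimeSpectrum.exists_constructibleSetData_iff.mpr hs
  rw [← hV', ← PrimeSpectrum.ConstructibleSetData.toSet_map]
  exact PrimeSpectrum.ConstructibleSetData.isConstructible_toSet _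

theorem isConstructible_zeroLocus_of_finite {R : Type*} [CommRing R] {s : Set R} (hs : s.Finite) :
    IsConstructible (zeroLocus s) := by
  rw [← Topology.isConstructible_compl]
  exact (PrimeSpectrum.isRetrocompact_zeroLocus_compl hs).isConstructible
    (PrimeSpectrum.isClosed_zeroLocus _).isOpen_compl

/-- The prime of the fibre ring corresponding to a prime over `p`. -/
noncomputable def toFib (p : PrimeSpectrum R) (z : PrimeSpectrum B)
    (hz : comap (algebraMap R B) z = p) : PrimeSpectrum (p.asIdeal.Fiber B) :=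
  preimageOrderIsoFiber R B p ⟨z, hz⟩

theorem comap_toFib (p : PrimeSpectrum R) (z : PrimeSpectrum B)
    (hz : comap (algebraMap R B) z = p) :
    comap (Algebra.TensorProduct.includeRight (R := R) (A := p.asIdeal.ResidueField) (B := B)).toRingHom
      (toFib p z hz) = z := by
  have := congrArg Subtype.val ((preimageOrderIsoFiber R B p).symm_apply_apply ⟨z, hz⟩)
  exact this

theorem comap_comap_includeRight (p : PrimeSpectrum R) (q : PrimeSpectrum (p.asIdeal.Fiber B)) :
    comap (algebraMap R B)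
      (comap (Algebra.TensorProduct.includeRight (R := R) (A := p.asIdeal.ResidueField) (B := B)).toRingHom
        q) = p :=
  ((preimageOrderIsoFiber R B p).symm q).2

theorem mem_toFib {p : PrimeSpectrum R} {z : PrimeSpectrum B}
    {hz : comap (algebraMap R B) z = p} {b : B} :
    (1 : p.asIdeal.ResidueField) ⊗ₜ[R] b ∈ (toFib p z hz).asIdeal ↔ b ∈ z.asIdeal := by
  conv_rhs => rw [← comap_toFib p z hz]
  rfl

/-- generators of an ideal of the fibre ring may be taken in the image of `B`. -/
theorem exists_generators [Algebra.FiniteType R B] (p : PrimeSpectrum R)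
    (I : Ideal (p.asIdeal.Fiber B)) :
    ∃ s : Set B, s.Finite ∧ I = Ideal.span ((fun b ↦ (1 : p.asIdeal.ResidueField) ⊗ₜ[R] b) '' s) := by
  have hN : IsNoetherianRing (p.asIdeal.Fiber B) :=
    Algebra.FiniteType.isNoetherianRing p.asIdeal.ResidueField _
  obtain ⟨t, ht⟩ := (isNoetherianRing_iff_ideal_fg _).mp hN I
  choose r hr b hb using Ideal.Fiber.exists_smul_eq_one_tmul (R := R) p.asIdeal (S := B)
  refine ⟨b '' t, t.finite_toSet.image b, le_antisymm ?_ ?_⟩
  · rw [← ht, Ideal.span_le]
    intro x hx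
    have h1 : r x • x ∈ Ideal.span ((fun b ↦ (1 : p.asIdeal.ResidueField) ⊗ₜ[R] b) '' (b '' t)) := by
      rw [hb]
      exact Ideal.subset_span ⟨_, ⟨x, hx, rfl⟩, rfl⟩
    have hu : IsUnit (algebraMap R (p.asIdeal.Fiber B) (r x)) := by
      rw [IsScalarTower.algebraMap_apply R p.asIdeal.ResidueField]
      refine IsUnit.map _ ?_
      rw [isUnit_iff_ne_zero, Ne, Ideal.algebraMap_residueField_eq_zero]
      exact hr x
    rw [Algebra.smul_def] at h1
    exact (Ideal.unit_mul_mem_iff_mem _ hu).mp h1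
  · rw [Ideal.span_le]
    rintro _ ⟨_, ⟨x, hx, rfl⟩, rfl⟩
    simp only [SetLike.mem_coe]
    rw [← hb, Algebra.smul_def]
    exact Ideal.mul_mem_left _ _ (ht ▸ Ideal.subset_span hx)

/-- The locus where `Z_p` is closed in the fibre (in terms of specializations). -/
def closedLocus (R : Type u) {B : Type u} [CommRing R] [CommRing B] [Algebra R B]
    (Z : Set (PrimeSpectrum B)) : Set (PrimeSpectrum R) :=
  {p | ∀ z x : PrimeSpectrum B, z ∈ Z → z ⤳ x → comap (algebraMap R B) z = p →
    comap (algebraMap R B) x = p → x ∈ Z}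

theorem exists_of_mem [Algebra.FinitePresentation R B] {Z : Set (PrimeSpectrum B)}
    (hZ : IsConstructible Z) {p : PrimeSpectrum R} (hp : p ∈ closedLocus R Z) :
    ∃ V : Set (PrimeSpectrum R), IsConstructible V ∧ p ∈ V ∧ V ⊆ closedLocus R Z := by
  let ι := (Algebra.TensorProduct.includeRight (R := R) (A := p.asIdeal.ResidueField)
    (B := B)).toRingHom
  have hZF : IsConstructible (comap ι ⁻¹' Z) := isConstructible_preimage_comap ι hZ
  have hst : StableUnderSpecialization (comap ι ⁻¹' Z) := by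
    intro x y hxy hx
    exact hp (comap ι x) (comap ι y) hx (hxy.map (continuous_comap ι))
      (comap_comap_includeRight p x) (comap_comap_includeRight p y)
  have hcl := isClosed_of_stableUnderSpecialization_of_isConstructible hst hZF
  obtain ⟨I, hI⟩ := (isClosed_iff_zeroLocus_ideal _).mp hcl
  obtain ⟨s, hs, rfl⟩ := exists_generators p I
  have hW : ∀ q : PrimeSpectrum B, comap (algebraMap R B) q = p → (q ∈ Z ↔ q ∈ zeroLocus s) := by
    intro q hq
    have h1 : toFib p q hq ∈ comap ι ⁻¹' Z ↔ q ∈ Z := by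
      rw [Set.mem_preimage, comap_toFib]
    rw [← h1, hI, PrimeSpectrum.zeroLocus_span]
    constructor
    · intro h b hb
      exact mem_toFib.mp (h ⟨b, hb, rfl⟩)
    · rintro h _ ⟨b, hb, rfl⟩
      exact mem_toFib.mpr (h hb)
  have hWc : IsConstructible (zeroLocus s) := isConstructible_zeroLocus_of_finite hs
  let T : Set (PrimeSpectrum B) := (Z \ zeroLocus s) ∪ (zeroLocus s \ Z)
  have hT : IsConstructible T := (hZ.sdiff hWc).union (hWc.sdiff hZ)
  have hTi := isConstructible_comap_image
    (RingHom.finitePresentation_algebraMap.mpr (inferInstance : Algebra.FinitePresentation R B)) hT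
  refine ⟨_, hTi.compl, ?_, ?_⟩
  · rintro ⟨q, hq | hq, hqp⟩
    · exact hq.2 ((hW q hqp).mp hq.1)
    · exact hq.2 ((hW q hqp).mpr hq.1)
  · intro t ht z x hz hzx hzt hxt
    have h1 : z ∈ zeroLocus s := by
      by_contra h
      exact ht ⟨z, Or.inl ⟨hz, h⟩, hzt⟩
    have h2 : x ∈ zeroLocus s := hzx.mem_closed (isClosed_zeroLocus s) h1
    by_contra h
    exact ht ⟨x, Or.inr ⟨h2, h⟩, hxt⟩

theorem exists_of_notMem [Algebra.FinitePresentation R B] {Z : Set (PrimeSpectrum B)}
    (hZ : IsConstructible Z) {p : PrimeSpectrum R} (hp : p ∉ closedLocus R Z) :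
    ∃ V : Set (PrimeSpectrum R), IsConstructible V ∧ p ∈ V ∧ V ∩ closedLocus R Z = ∅ := by
  let ι := (Algebra.TensorProduct.includeRight (R := R) (A := p.asIdeal.ResidueField)
    (B := B)).toRingHom
  simp only [closedLocus, Set.mem_ofPred_eq, not_forall] at hp
  obtain ⟨z, x, hz, hzx, hzp, hxp, hx⟩ := hp
  have hfp := RingHom.finitePresentation_algebraMap.mpr
    (inferInstance : Algebra.FinitePresentation R B)
  obtain ⟨S, rfl⟩ := PrimeSpectrum.exists_constructibleSetData_iff.mpr hZ
  obtain ⟨c, hc, hzc⟩ := Set.mem_iUnion₂.mp hz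
  obtain ⟨hzg, hzf⟩ := hzc
  have hzf : c.f ∉ z.asIdeal := by simpa using hzf
  obtain ⟨s, hs, hsp⟩ := exists_generators p (toFib p z hzp).asIdeal
  -- `s ⊆ z`
  have hsz : z ∈ zeroLocus s := by
    intro b hb
    rw [SetLike.mem_coe, ← mem_toFib (hz := hzp), hsp]
    exact Ideal.subset_span ⟨b, hb, rfl⟩
  let I : Ideal B := Ideal.span s
  have hIfg : I.FG := ⟨hs.toFinset, by simp [I]⟩
  let C := B ⧸ I
  have hCfp : Algebra.FinitePresentation R C := .quotient hIfg
  -- `f` is a nonzerodivisor on the fibre of `C`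
  have hinj : MulInj R (Ideal.Quotient.mk I c.f : C) p.asIdeal.ResidueField := by
    rw [mulInj_iff]
    intro y hy
    let g : p.asIdeal.Fiber B →ₐ[p.asIdeal.ResidueField] p.asIdeal.ResidueField ⊗[R] C :=
      Algebra.TensorProduct.map (AlgHom.id _ _) (Ideal.Quotient.mkₐ R I)
    have hg : Function.Surjective g :=
      LinearMap.lTensor_surjective _ (g := (Ideal.Quotient.mkₐ R I).toLinearMap)
        Ideal.Quotient.mk_surjective
    have hker : ∀ w, g w = 0 ↔ w ∈ (toFib p z hzp).asIdeal := by
      intro w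
      have h1 := Algebra.TensorProduct.lTensor_ker (R := R) (A := p.asIdeal.ResidueField)
        (Ideal.Quotient.mkₐ R I) Ideal.Quotient.mk_surjective
      have h2 : g w = 0 ↔ w ∈ RingHom.ker (Algebra.TensorProduct.map
          (AlgHom.id R p.asIdeal.ResidueField) (Ideal.Quotient.mkₐ R I)) := Iff.rfl
      rw [h2, h1, hsp]
      have h3 : RingHom.ker (Ideal.Quotient.mkₐ R I) = I := Ideal.mk_ker
      rw [h3, Ideal.map_span]
      rfl
    obtain ⟨w, rfl⟩ := hg y
    have h4 : g ((1 ⊗ₜ[R] c.f) * w) = 0 := by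
      rw [map_mul, ← hy]
      rfl
    rw [hker] at h4 ⊢
    exact ((toFib p z hzp).2.mem_or_mem h4).resolve_left fun h ↦ hzf (mem_toFib.mp h)
  obtain ⟨V₀, hV₀, hpV₀, hV₀'⟩ := exists_isConstructible_mulInj _ p hinj
  have hZs : IsConstructible (zeroLocus s) := isConstructible_zeroLocus_of_finite hs
  have hfc : IsConstructible (basicOpen c.f : Set (PrimeSpectrum B)) :=
    (PrimeSpectrum.isCompact_basicOpen c.f).isConstructible (PrimeSpectrum.basicOpen c.f).isOpen
  have hQ := isConstructible_comap_image hfp (hZs.sdiff hZ)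
  have hT' := isConstructible_comap_image hfp ((hZs.inter hfc).sdiff hZ)
  refine ⟨V₀ ∩ (comap (algebraMap R B) '' (zeroLocus s \ S.toSet)) ∩
    (comap (algebraMap R B) '' ((zeroLocus s ∩ basicOpen c.f) \ S.toSet))ᶜ,
    (hV₀.inter hQ).inter hT'.compl, ⟨⟨hpV₀, x, ⟨?_, hx⟩, hxp⟩, ?_⟩, ?_⟩
  · exact hzx.mem_closed (isClosed_zeroLocus s) hsz
  · rintro ⟨q, ⟨⟨hqs, hqf⟩, hqZ⟩, hqp⟩
    refine hqZ (Set.mem_iUnion₂.mpr ⟨c, hc, ?_, ?_⟩)
    · -- `z ≤ q`
      have hle : (toFib p z hzp).asIdeal ≤ (toFib p q hqp).asIdeal := by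
        rw [hsp, Ideal.span_le]
        rintro _ ⟨b, hb, rfl⟩
        exact mem_toFib.mpr (hqs hb)
      intro b hb
      exact mem_toFib.mp (hle (mem_toFib.mpr (hzg hb)))
    · simpa using hqf
  · rw [Set.eq_empty_iff_forall_notMem]
    rintro t ⟨⟨⟨htV₀, x', ⟨hx's, hx'Z⟩, hx't⟩, hT⟩, hcl⟩
    have hm := hV₀' t htV₀
    -- the point of `Spec C`
    obtain ⟨xC, rfl⟩ : x' ∈ Set.range (comap (Ideal.Quotient.mk I)) := by
      rw [range_comap_of_surjective _ _ Ideal.Quotient.mk_surjective, Ideal.mk_ker,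
        PrimeSpectrum.zeroLocus_span]
      exact hx's
    have hxC : comap (algebraMap R C) xC = t := hx't
    obtain ⟨q, hq, hqx⟩ := Ideal.exists_minimalPrimes_le (bot_le (a := (toFib t xC hxC).asIdeal))
    have hq' : q ∈ minimalPrimes (t.asIdeal.Fiber C) := hq
    let qt : PrimeSpectrum (t.asIdeal.Fiber C) := ⟨q, hq.1.1⟩
    have hqt : qt ⤳ toFib t xC hxC := (le_iff_specializes _ _).mp hqx
    have hnz : (1 : t.asIdeal.ResidueField) ⊗ₜ[R] (Ideal.Quotient.mk I c.f : C) ∈
        nonZeroDivisors (t.asIdeal.Fiber C) := by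
      rw [mulInj_iff] at hm
      rw [mem_nonZeroDivisors_iff]
      exact ⟨fun y hy ↦ hm y hy, fun y hy ↦ hm y (by rwa [mul_comm])⟩
    have hnq := (Set.disjoint_right.mp (Ideal.disjoint_nonZeroDivisors_of_mem_minimalPrimes hq')) hnz
    let ιC := (Algebra.TensorProduct.includeRight (R := R) (A := t.asIdeal.ResidueField)
      (B := C)).toRingHom
    let zC : PrimeSpectrum C := comap ιC qt
    let z' : PrimeSpectrum B := comap (Ideal.Quotient.mk I) zC
    have hzC : comap (algebraMap R C) zC = t := comap_comap_includeRight t qt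
    have hz't : comap (algebraMap R B) z' = t := hzC
    have hz'x : z' ⤳ comap (Ideal.Quotient.mk I) xC := by
      have h1 : zC ⤳ xC := by
        have := hqt.map (continuous_comap ιC)
        rwa [comap_toFib] at this
      exact h1.map (continuous_comap (Ideal.Quotient.mk I))
    have hz's : z' ∈ zeroLocus s := by
      intro b hb
      have : Ideal.Quotient.mk I b = 0 := Ideal.Quotient.eq_zero_iff_mem.mpr (Ideal.subset_span hb)
      change Ideal.Quotient.mk I b ∈ zC.asIdeal
      rw [this]
      exact zC.asIdeal.zero_mem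
    have hz'Z : z' ∈ S.toSet := by
      by_contra h
      exact hT ⟨z', ⟨⟨hz's, hnq⟩, h⟩, hz't⟩
    exact hx'Z (hcl z' _ hz'Z hz'x hz't hx't)

/-- EGA IV 9.5.4, affine case: the set of points `p` such that the trace of the constructible set `Z` on the
fibre over `p` is closed is constructible. -/
theorem isConstructible_closedLocus [Algebra.FinitePresentation R B] {Z : Set (PrimeSpectrum B)}
    (hZ : IsConstructible Z) : IsConstructible (closedLocus R Z) := by
  refine isConstructible_of_forall_exists _ fun p ↦ ?_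
  by_cases hp : p ∈ closedLocus R Z
  · obtain ⟨V, hV, hpV, hVE⟩ := exists_of_mem hZ hp
    exact ⟨V, hV, hpV, by rwa [Set.inter_eq_left.mpr hVE]⟩
  · obtain ⟨V, hV, hpV, hVE⟩ := exists_of_notMem hZ hp
    exact ⟨V, hV, hpV, by rw [hVE]; exact .empty⟩

end Groth.Agent.Ega43.ClosedLocus
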