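import Groth.Agent.Ega43.ClosedLocus
import Groth.Agent.Ega43.ResSysSch
import Groth.Agent.Ega43.Locus
import Mathlib.AlgebraicGeometry.Morphisms.Constructors

/-!
# The locus where the range of the fibre map is closed
-/

set_option autoImplicit false
universe u
open CategoryTheory AlgebraicGeometry CategoryTheory.Limits Topology TensorProduct

namespace Groth.Agent.Ega43.ClosedRange

open Groth.Agent.Ega43.Locus Groth.Agent.Ega43.ClosedLocus Groth.Agent.Ega43.ResSysSch

/-- The property that the range is closed. -/
def closedRange : MorphismProperty Scheme.{u} :=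
  topologically fun {_ _} _ _ f ↦ IsClosed (Set.range f)

theorem closedRange_iff {X Y : Scheme.{u}} (f : X ⟶ Y) : closedRange f ↔ IsClosed (Set.range f) :=
  Iff.rfl

theorem fpqcInv_closedRange : FpqcInv closedRange.{u} where
  iff_of_isPullback {X Y X' Y' f f' qX qY} h h1 h2 h3 := by
    have hr : Set.range f' = qY ⁻¹' Set.range f := by
      rw [← Scheme.Pullback.range_snd f qY, ← h.isoPullback_hom_snd, Scheme.Hom.comp_base,
        TopCat.coe_comp, Set.range_comp, Set.range_eq_univ.mpr h.isoPullback.hom.surjective,
        Set.image_univ]
    rw [closedRange_iff, closedRange_iff, hr,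
      (Flat.isQuotientMap_of_surjective qY).isClosed_preimage]

instance : closedRange.{u}.RespectsIso := fpqcInv_closedRange.respectsIso

instance : IsZariskiLocalAtTarget closedRange.{u} := by
  have : (topologically fun {_ _} _ _ f ↦ IsClosed (Set.range f) :
    MorphismProperty Scheme.{u}).RespectsIso := fpqcInv_closedRange.respectsIso
  refine topologically_isZariskiLocalAtTarget' _ ?_
  simp_rw [Set.range_restrictPreimage]
  exact fun _ _ _ hU _ ↦ hU.isClosed_iff_coe_preimage

/-- The affine form. -/
theorem isConstructible_locus_Spec {A B : Type u} [CommRing A] [CommRing B] [Algebra A B]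
    [Algebra.FinitePresentation A B] {X : Scheme.{u}} (f : X ⟶ Spec (.of B))
    [LocallyOfFinitePresentation f] [QuasiCompact f] :
    IsConstructible (locus closedRange f (Spec.map (CommRingCat.ofHom (algebraMap A B)))) := by
  have hZ : IsConstructible (Set.range f) := by
    have : CompactSpace X := QuasiCompact.compactSpace_of_compactSpace f
    rw [← Set.image_univ]
    exact f.isConstructible_image .univ
  have key : locus closedRange f (Spec.map (CommRingCat.ofHom (algebraMap A B))) =
      closedLocus A (Set.range f : Set (PrimeSpectrum B)) := by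
    ext t
    change PrimeSpectrum A at t
    refine (mem_locus_iff_residueField (R := A) f _ t).trans ?_
    let ι := (Algebra.TensorProduct.includeRight (R := A) (A := t.asIdeal.ResidueField)
      (B := B)).toRingHom
    let q : Spec (.of (t.asIdeal.Fiber B)) ⟶ Spec (.of B) := Spec.map (CommRingCat.ofHom ι)
    have hY : IsPullback q (Spec.map (CommRingCat.ofHom
        (algebraMap t.asIdeal.ResidueField (t.asIdeal.Fiber B))))
        (Spec.map (CommRingCat.ofHom (algebraMap A B)))
        (Spec.map (CommRingCat.ofHom (algebraMap A t.asIdeal.ResidueField))) := by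
      apply isPullback_SpecMap_of_isPushout
      exact (CommRingCat.isPushout_tensorProduct A t.asIdeal.ResidueField B).flip
    refine (iff_bcMap_of_isPullback (P := closedRange) hY (IsPullback.of_hasPullback f q)).symm.trans ?_
    rw [closedRange_iff, Scheme.Pullback.range_snd]
    change IsClosed (PrimeSpectrum.comap ι ⁻¹' (Set.range f : Set (PrimeSpectrum B))) ↔ _
    constructor
    · intro h z x hz hzx hzt hxt
      have h1 : toFib t z hzt ⤳ toFib t x hxt := by
        rw [← PrimeSpectrum.le_iff_specializes] at hzx ⊢
        exact (PrimeSpectrum.preimageOrderIsoFiber A B t).monotone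
          (show (⟨z, hzt⟩ : PrimeSpectrum.comap (algebraMap A B) ⁻¹' {t}) ≤ ⟨x, hxt⟩ from hzx)
      have h2 : toFib t z hzt ∈ PrimeSpectrum.comap ι ⁻¹' (Set.range f : Set (PrimeSpectrum B)) := by
        rw [Set.mem_preimage, comap_toFib]
        exact hz
      have h3 := h1.mem_closed h h2
      rwa [Set.mem_preimage, comap_toFib] at h3
    · intro h
      refine PrimeSpectrum.isClosed_of_stableUnderSpecialization_of_isConstructible ?_
        (isConstructible_preimage_comap ι hZ)
      intro x y hxy hx
      exact h (PrimeSpectrum.comap ι x) (PrimeSpectrum.comap ι y) hx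
        (hxy.map (PrimeSpectrum.continuous_comap ι))
        (comap_comap_includeRight t x) (comap_comap_includeRight t y)
  rw [key]
  exact isConstructible_closedLocus hZ

theorem isConstructible_locus_Spec' {A B : CommRingCat.{u}} (g : Spec B ⟶ Spec A)
    [LocallyOfFinitePresentation g] {X : Scheme.{u}} (f : X ⟶ Spec B)
    [LocallyOfFinitePresentation f] [QuasiCompact f] :
    IsConstructible (locus closedRange f g) := by
  obtain ⟨φ, rfl⟩ := Spec.map_surjective g
  have h6 : LocallyOfFinitePresentation (Spec.map φ) := inferInstance
  rw [HasRingHomProperty.Spec_iff (P := @LocallyOfFinitePresentation)] at h6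
  algebraize [φ.hom]
  exact isConstructible_locus_Spec (A := A) f

/-- EGA IV 9.5.4 for the range of a morphism of finite presentation: the set of `s` such that
`f_s (X_s)` is closed in `Y_s` is locally constructible. -/
theorem isLocallyConstructible_locus_closedRange {X Y S : Scheme.{u}} (f : X ⟶ Y) (g : Y ⟶ S)
    [LocallyOfFinitePresentation f] [QuasiCompact f] [LocallyOfFinitePresentation g]
    [QuasiCompact g] : IsLocallyConstructible (locus closedRange f g) := by
  refine isLocallyConstructible_locus fpqcInv_closedRange f g fun A t _ ↦ ?_
  set f' := bcMap f g t with hf'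
  set g' := pullback.snd g t with hg'
  have h1 : LocallyOfFinitePresentation f' :=
    MorphismProperty.of_isPullback (isPullback_bcMap f g t) inferInstance
  have h2 : QuasiCompact f' := MorphismProperty.of_isPullback (isPullback_bcMap f g t) inferInstance
  have h3 : LocallyOfFinitePresentation g' := inferInstance
  have h4 : QuasiCompact g' := inferInstance
  clear_value f' g'
  have : CompactSpace ↥(pullback g t) := QuasiCompact.compactSpace_of_compactSpace g'
  let 𝒰 := (pullback g t).affineCover.finiteSubcover
  have h5 : locus closedRange f' g' =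
      ⋂ i : 𝒰.I₀, locus closedRange (pullback.snd f' (𝒰.f i)) (𝒰.f i ≫ g') := by
    ext s
    rw [Set.mem_iInter]
    exact mem_locus_iff_openCover_target f' g' 𝒰 s
  rw [h5]
  refine IsConstructible.iInter fun i ↦ ?_
  have h6 : LocallyOfFinitePresentation (𝒰.f i ≫ g') := inferInstance
  have h7 : LocallyOfFinitePresentation (pullback.snd f' (𝒰.f i)) := inferInstance
  have h8 : QuasiCompact (pullback.snd f' (𝒰.f i)) := inferInstance
  exact @isConstructible_locus_Spec' _ _ (𝒰.f i ≫ g') h6 _ (pullback.snd f' (𝒰.f i)) h7 h8

end Groth.Agent.Ega43.ClosedRange
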