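import Mathlib.AlgebraicGeometry.Noetherian
import Mathlib.AlgebraicGeometry.Morphisms.UniversallyOpen
import Mathlib.RingTheory.RegularLocalRing.Defs
import Mathlib.RingTheory.Flat.TorsionFree
import Mathlib.RingTheory.DiscreteValuationRing.TFAE
import Groth.Agent.Ega43.MaxPoints

set_option autoImplicit false
open CategoryTheory AlgebraicGeometry Limits
universe u
namespace Groth.Agent.Ega43.DedekindOpen

open IsLocalRing

lemma isDomain_isPrincipalIdealRing_of_regular_dim_le_one (R : Type*) [CommRing R] [IsRegularLocalRing R]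
    (h : ringKrullDim R ≤ 1) : IsDomain R ∧ IsPrincipalIdealRing R := by
  have h1 := IsRegularLocalRing.spanFinrank_maximalIdeal (R := R)
  have hle : (maximalIdeal R).spanFinrank ≤ 1 := by
    rw [← h1] at h
    exact_mod_cast h
  have hfg : (maximalIdeal R).FG := IsNoetherian.noetherian _
  have hdom : IsDomain R := by
    rcases Nat.le_one_iff_eq_zero_or_eq_one.mp hle with h0 | h1'
    · rw [Submodule.spanFinrank_eq_zero_iff_eq_bot hfg] at h0
      have : IsField R := IsLocalRing.isField_iff_maximalIdeal_eq.mpr h0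
      exact this.isDomain
    · obtain ⟨⟨t, ht⟩, hne⟩ := (Submodule.spanFinrank_eq_one_iff _).mp h1'
      rw [h1'] at h1
      obtain ⟨P, hP, hPm⟩ : ∃ P : Ideal R, P.IsPrime ∧ ¬ P.IsMaximal := by
        by_contra hcon
        push Not at hcon
        have : Ring.KrullDimLE 0 R := Ring.krullDimLE_zero_iff.mpr hcon
        have := Ring.krullDimLE_iff.mp this
        rw [← h1] at this
        norm_num at this
      have htP : t ∉ P := by
        intro htP
        apply hPm
        have : maximalIdeal R ≤ P := by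
          rw [ht]
          simpa [Ideal.submodule_span_eq, Ideal.span_le] using htP
        rw [← (maximalIdeal.isMaximal R).eq_of_le hP.ne_top this]
        infer_instance
      have hPle : P ≤ maximalIdeal R • P := by
        intro a ha
        have : a ∈ maximalIdeal R := IsLocalRing.le_maximalIdeal hP.ne_top ha
        rw [ht, Submodule.mem_span_singleton] at this
        obtain ⟨b, rfl⟩ := this
        have hb : b ∈ P := (hP.mem_or_mem (show b * t ∈ P from ha)).resolve_right htP
        have htm : t ∈ maximalIdeal R := by rw [ht]; exact Submodule.mem_span_singleton_self t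
        have := Ideal.mul_mem_mul htm hb
        rw [Ideal.smul_eq_mul, smul_eq_mul, mul_comm b t]
        exact this
      have hP0 : P = ⊥ := Submodule.eq_bot_of_le_smul_of_le_jacobson_bot _ P
        (IsNoetherian.noetherian _) hPle (IsLocalRing.maximalIdeal_le_jacobson _)
      rw [hP0] at hP
      exact IsDomain.of_bot_isPrime R
  refine ⟨hdom, ?_⟩
  apply ((tfae_of_isNoetherianRing_of_isLocalRing_of_isDomain R).out 0 4).mpr
  rcases Nat.le_one_iff_eq_zero_or_eq_one.mp hle with h0 | h1'
  · rw [Submodule.spanFinrank_eq_zero_iff_eq_bot hfg] at h0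
    rw [h0]; infer_instance
  · exact ((Submodule.spanFinrank_eq_one_iff _).mp h1').1

lemma flat_of_minimalPrimes_comap_eq_bot {R S : Type*} [CommRing R] [IsDomain R] [IsPrincipalIdealRing R]
    [CommRing S] [IsReduced S] [Algebra R S]
    (h : ∀ p ∈ minimalPrimes S, p.comap (algebraMap R S) = ⊥) : Module.Flat R S := by
  rw [Module.Flat.flat_iff_torsion_eq_bot_of_isBezout, ← Submodule.isTorsionFree_iff_torsion_eq_bot]
  refine ⟨fun r hr => ?_⟩
  rw [isSMulRegular_iff_right_eq_zero_of_smul]
  intro s hs
  have hr0 : r ≠ 0 := hr.ne_zero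
  have : s ∈ sInf (Ideal.minimalPrimes (⊥ : Ideal S)) := by
    rw [Ideal.mem_sInf]
    intro p hp
    change p ∈ minimalPrimes S at hp
    have hpr : p.IsPrime := hp.1.1
    rw [Algebra.smul_def] at hs
    have h0 : algebraMap R S r * s ∈ p := by rw [hs]; exact p.zero_mem
    rcases hpr.mem_or_mem h0 with h1 | h1
    · exfalso
      have : r ∈ p.comap (algebraMap R S) := h1
      rw [h p hp] at this
      exact hr0 this
    · exact h1
  rw [Ideal.sInf_minimalPrimes] at this
  have h2 : s ∈ nilradical S := this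
  rw [nilradical_eq_zero] at h2
  exact h2

open MaxPoints

lemma flat_of_isMaxPt {W Y : Scheme.{u}} (g : W ⟶ Y) [AlgebraicGeometry.IsReduced W]
    (hY : ∀ y : Y, IsDomain (Y.presheaf.stalk y) ∧ IsPrincipalIdealRing (Y.presheaf.stalk y))
    (h : ∀ w : W, IsMaxPt w → IsMaxPt (g w)) : Flat g := by
  rw [Flat.iff_flat_stalkMap]
  intro u
  algebraize [(g.stalkMap u).hom]
  obtain ⟨_, _⟩ := hY (g u)
  change Module.Flat _ _
  apply flat_of_minimalPrimes_comap_eq_bot
  intro p hp
  have hpr : p.IsPrime := hp.1.1
  let P : Spec (W.presheaf.stalk u) := ⟨p, hpr⟩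
  have hmax := h _ (isMaxPt_fromSpecStalk P hp)
  have e : g (W.fromSpecStalk u P) = Y.fromSpecStalk (g u) (Spec.map (g.stalkMap u) P) := by
    rw [← Scheme.Hom.comp_apply, ← Scheme.Hom.comp_apply, Scheme.SpecMap_stalkMap_fromSpecStalk]
  let B : Spec (Y.presheaf.stalk (g u)) := ⟨⊥, Ideal.isPrime_bot⟩
  have hB : B ⤳ Spec.map (g.stalkMap u) P :=
    (PrimeSpectrum.le_iff_specializes B (Spec.map (g.stalkMap u) P)).mp
      (bot_le (a := (Spec.map (g.stalkMap u) P).asIdeal))
  have hB2 := hB.map (Y.fromSpecStalk (g u)).continuous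
  rw [← e] at hB2
  have hB3 := hmax _ hB2
  rw [e] at hB3
  have hB4 := (Y.fromSpecStalk (g u)).isEmbedding.injective hB3
  have := congr_arg PrimeSpectrum.asIdeal hB4
  exact this.symm

theorem universallyOpen_of_isMaxPt {W Y : Scheme.{u}} (g : W ⟶ Y) [IsLocallyNoetherian Y]
    [LocallyOfFiniteType g]
    (hY : ∀ y : Y, IsDomain (Y.presheaf.stalk y) ∧ IsPrincipalIdealRing (Y.presheaf.stalk y))
    (h : ∀ w : W, IsMaxPt w → IsMaxPt (g w)) : UniversallyOpen g := by
  wlog hW : ∃ S, W = Spec S
  · rw [IsZariskiLocalAtSource.iff_of_openCover (P := @UniversallyOpen) W.affineCover]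
    intro i
    refine this _ hY (fun w hw => ?_) ⟨_, rfl⟩
    rw [Scheme.Hom.comp_apply]
    exact h _ (IsMaxPt.map_of_isEmbedding (W.affineCover.f i).isEmbedding
      (W.affineCover.f i).isOpenEmbedding.isOpen_range.stableUnderGeneralization hw)
  obtain ⟨S, rfl⟩ := hW
  let j : Spec (.of (S ⧸ nilradical S)) ⟶ Spec S := Spec.map (CommRingCat.ofHom (Ideal.Quotient.mk (nilradical S)))
  have hj : Surjective j := by
    refine ⟨fun x => ?_⟩
    have : (x : PrimeSpectrum S) ∈ Set.range (PrimeSpectrum.comap (Ideal.Quotient.mk (nilradical S))) := by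
      rw [range_comap_of_surjective _ _ Ideal.Quotient.mk_surjective, Ideal.mk_ker]
      exact nilradical_le_prime x.asIdeal
    exact this
  have hred : _root_.IsReduced (S ⧸ nilradical S) :=
    (Ideal.isRadical_iff_quotient_reduced _).mp (Ideal.radical_isRadical _)
  have : AlgebraicGeometry.IsReduced (Spec (.of (S ⧸ nilradical S))) := inferInstance
  have : Flat (j ≫ g) := by
    apply flat_of_isMaxPt _ hY
    intro w hw
    rw [Scheme.Hom.comp_apply]
    apply h
    apply IsMaxPt.map_of_isEmbedding j.isEmbedding _ hw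
    rw [j.surjective.range_eq]
    exact stableUnderGeneralization_univ
  exact universallyOpen_of_comp_surjective j g

end Groth.Agent.Ega43.DedekindOpen
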