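import Groth.Agent.VarietyB.KrullAkizuki
import Mathlib.RingTheory.DedekindDomain.Dvr
import Mathlib.RingTheory.Ideal.KrullsHeightTheorem
import Mathlib.RingTheory.Ideal.GoingUp
import Mathlib.RingTheory.IntegralClosure.IntegrallyClosed
import Mathlib.RingTheory.LocalRing.ResidueField.Ideal

/-!
# Discrete valuation rings over a Noetherian local ring with integral residue extension

Let `R` be a Noetherian local ring whose maximal ideal is not minimal and `r` a non nilpotent element.
Then there are a discrete valuation ring `V` and a local homomorphism `R → V` which does not kill `r` nor the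
maximal ideal, and such that the residue field of `V` is integral over `R`.
-/

set_option autoImplicit false
universe u

namespace Groth.Agent.Ega43.DvrIntegral

open IsLocalRing

/-- A Noetherian local domain in which every nonzero prime contains a fixed `f ≠ 0` has dimension `≤ 1`. -/
theorem isMaximal_of_forall_mem {D : Type u} [CommRing D] [IsDomain D] [IsNoetherianRing D]
    [IsLocalRing D] (f : D) (hf : f ≠ 0) (h : ∀ p : Ideal D, p.IsPrime → p ≠ ⊥ → f ∈ p)
    (p : Ideal D) (hp0 : p ≠ ⊥) (hp : p.IsPrime) : p.IsMaximal := by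
  have hfp := h p hp hp0
  have hfm : f ∈ maximalIdeal D := le_maximalIdeal hp.ne_top hfp
  by_contra hpm
  have hlt : p < maximalIdeal D := lt_of_le_of_ne (le_maximalIdeal hp.ne_top) (fun e => hpm (by
    rw [e]; infer_instance))
  have hbp : (⊥ : Ideal D) < p := bot_lt_iff_ne_bot.2 hp0
  have hS : (Ideal.span {f}).minimalPrimes.Finite := Ideal.finite_minimalPrimes_of_isNoetherianRing D _
  have hht : ∀ q ∈ (Ideal.span {f}).minimalPrimes, q.height ≤ 1 := fun q hq =>
    Ideal.height_le_one_of_isPrincipal_of_mem_minimalPrimes (Ideal.span {f}) q hq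
  have hh2 : ∀ q q' : Ideal D, q.IsPrime → q'.IsPrime → ⊥ < q → q < q' → ¬ q'.height ≤ 1 := by
    intro q q' hq hq' h1 h2 h3
    have e1 := Ideal.height_add_one_le_of_lt_of_isPrime h1
    have e2 := Ideal.height_add_one_le_of_lt_of_isPrime h2
    rw [Ideal.height_bot] at e1
    have e3 : (0 : ℕ∞) + 1 + 1 ≤ 1 := (add_le_add_left e1 1).trans (e2.trans h3)
    norm_num at e3
  have hnm : ∀ q ∈ (Ideal.span {f}).minimalPrimes, ¬ maximalIdeal D ≤ q := by
    intro q hq hmq
    have hqp := hq.isPrime
    have e : q = maximalIdeal D := le_antisymm (le_maximalIdeal hqp.ne_top) hmq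
    exact hh2 p (maximalIdeal D) hp inferInstance hbp hlt (e ▸ hht q hq)
  -- prime avoidance
  have hav : ¬ ((maximalIdeal D : Set D) ⊆ ⋃ q ∈ (Ideal.span {f}).minimalPrimes, (q : Set D)) := by
    intro hsub
    obtain ⟨q, hq, hq'⟩ := (Ideal.subset_union_prime_finite hS (f := id) ⊥ ⊥
      (fun q hq _ _ => hq.isPrime)).1 hsub
    exact hnm q hq hq'
  obtain ⟨g, hgm, hg⟩ := Set.not_subset.1 hav
  simp only [Set.mem_iUnion, not_exists] at hg
  obtain ⟨Q, hQ, hQm⟩ := Ideal.exists_minimalPrimes_le (I := Ideal.span {g}) (J := maximalIdeal D)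
    ((Ideal.span_singleton_le_iff_mem _).2 hgm)
  have hQp := hQ.isPrime
  have hgQ : g ∈ Q := hQ.le (Ideal.mem_span_singleton_self g)
  obtain ⟨q₀, hq₀, _⟩ := Ideal.exists_minimalPrimes_le (I := Ideal.span {f}) (J := maximalIdeal D)
    ((Ideal.span_singleton_le_iff_mem _).2 hfm)
  have hg0 : g ≠ 0 := fun e => hg q₀ hq₀ (e ▸ q₀.zero_mem)
  have hQ0 : Q ≠ ⊥ := fun e => hg0 (by rw [e] at hgQ; exact hgQ)
  have hfQ : f ∈ Q := h Q hQp hQ0
  obtain ⟨q, hq, hqQ⟩ := Ideal.exists_minimalPrimes_le (I := Ideal.span {f}) (J := Q)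
    ((Ideal.span_singleton_le_iff_mem _).2 hfQ)
  have hqp := hq.isPrime
  have hfq : f ∈ q := hq.le (Ideal.mem_span_singleton_self f)
  have hq0 : ⊥ < q := bot_lt_iff_ne_bot.2 (fun e => hf (by rw [e] at hfq; exact hfq))
  have hqQ' : q < Q := lt_of_le_of_ne hqQ (fun e => hg q hq (e ▸ hgQ))
  exact hh2 q Q hqp hQp hq0 hqQ' (Ideal.height_le_one_of_isPrincipal_of_mem_minimalPrimes _ Q hQ)

/-- A DVR over a one-dimensional Noetherian local domain `D` (localization of the normalization). -/
theorem exists_dvr_of_dimLEOne {D : Type u} [CommRing D] [IsDomain D] [IsNoetherianRing D]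
    [IsLocalRing D] (hD : ∀ p : Ideal D, p ≠ ⊥ → p.IsPrime → p.IsMaximal)
    (hDf : maximalIdeal D ≠ ⊥) :
    ∃ (V : Type u) (_ : CommRing V) (_ : IsDomain V) (_ : IsDiscreteValuationRing V)
      (_ : Algebra D V) (_ : IsLocalHom (algebraMap D V)),
      Function.Injective (algebraMap D V) ∧
        Algebra.IsIntegral D (ResidueField V) := by
  haveI hdim : Ring.DimensionLEOne D := ⟨fun {p} h1 h2 => hD p h1 h2⟩
  haveI : Ring.KrullDimLE 1 D := inferInstance
  let K := FractionRing D
  let N : Subalgebra D K := integralClosure D K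
  haveI : IsNoetherianRing N :=
    Groth.Agent.VarietyB.KrullAkizuki.krullAkizuki (R := D) (K := K) (L := K) (A := N)
      (Subtype.val_injective)
  haveI : Algebra.IsAlgebraic D K := IsLocalization.isAlgebraic K (nonZeroDivisors D)
  haveI : IsFractionRing N K := integralClosure.isFractionRing_of_algebraic (fun x hx => by
    have := (IsFractionRing.injective D K)
    exact (map_eq_zero_iff _ this).1 hx)
  haveI : IsDedekindDomain N := by
    rw [isDedekindDomain_iff N K]
    refine ⟨inferInstance, inferInstance, inferInstance, fun {x} hx => ?_⟩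
    have h0 : IsIntegral D x := isIntegral_trans x hx
    exact ⟨⟨x, h0⟩, rfl⟩
  have hinj : Function.Injective (algebraMap D N) := by
    intro x y hxy
    exact IsFractionRing.injective D K (congrArg Subtype.val hxy)
  -- a maximal ideal over the maximal ideal
  obtain ⟨P, hP, hPm⟩ := Ideal.exists_ideal_over_maximal_of_isIntegral (S := N) (maximalIdeal D)
    (by rw [(RingHom.injective_iff_ker_eq_bot _).1 hinj]; exact bot_le)
  have hP0 : P ≠ ⊥ := by
    intro e
    apply hDf
    rw [← hPm, e, eq_bot_iff]
    intro x hx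
    exact (map_eq_zero_iff _ hinj).1 hx
  haveI := hP.isPrime
  let V := Localization.AtPrime P
  haveI : IsDiscreteValuationRing V :=
    IsLocalization.AtPrime.isDiscreteValuationRing_of_dedekind_domain N hP0 V
  have hNV : Function.Injective (algebraMap N V) :=
    IsLocalization.injective V P.primeCompl_le_nonZeroDivisors
  refine ⟨V, inferInstance, inferInstance, inferInstance, inferInstance, ?_, ?_, ?_⟩
  · constructor
    intro x hx
    by_contra hxu
    have h1 : algebraMap D N x ∈ P := by
      have : x ∈ P.comap (algebraMap D N) := by rw [hPm]; exact hxu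
      exact this
    have h2 : algebraMap N V (algebraMap D N x) ∈ maximalIdeal V :=
      (IsLocalization.AtPrime.to_map_mem_maximal_iff V P _).2 h1
    rw [IsScalarTower.algebraMap_apply D N V] at hx
    exact h2 hx
  · rw [IsScalarTower.algebraMap_eq D N V]
    exact hNV.comp hinj
  · have h3 : Function.Surjective (algebraMap N P.ResidueField) := by
      have h4 := (Ideal.bijective_algebraMap_quotient_residueField P).2
      rw [IsScalarTower.algebraMap_eq N (N ⧸ P) P.ResidueField]
      exact h4.comp Ideal.Quotient.mk_surjective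
    constructor
    intro x
    obtain ⟨n, rfl⟩ := h3 x
    have h5 : IsIntegral D n := Algebra.IsIntegral.isIntegral n
    exact h5.map (IsScalarTower.toAlgHom D N P.ResidueField)

/-- Main existence theorem: DVR with integral residue extension not killing a given non nilpotent element. -/
theorem exists_dvr {R : Type u} [CommRing R] [IsLocalRing R] [IsNoetherianRing R]
    (hR : maximalIdeal R ∉ minimalPrimes R) (r : R) (hr : ¬ IsNilpotent r) :
    ∃ (V : Type u) (_ : CommRing V) (_ : IsDomain V) (_ : IsDiscreteValuationRing V)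
      (_ : Algebra R V) (_ : IsLocalHom (algebraMap R V)),
      algebraMap R V r ≠ 0 ∧ (maximalIdeal R).map (algebraMap R V) ≠ ⊥ ∧
        Algebra.IsIntegral R (ResidueField V) := by
  -- a minimal prime not containing `r`
  obtain ⟨P, hP, hrP⟩ : ∃ P ∈ minimalPrimes R, r ∉ P := by
    by_contra hcon
    push Not at hcon
    apply hr
    rw [← mem_nilradical, nilradical, Submodule.zero_eq_bot, ← Ideal.sInf_minimalPrimes,
      Ideal.mem_sInf]
    exact fun {Q} hQ => hcon Q hQ
  haveI := hP.isPrime
  have hPm : P ≠ maximalIdeal R := fun e => hR (e ▸ hP)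
  -- an element of the maximal ideal not in `P`
  obtain ⟨s, hsm, hsP⟩ : ∃ s ∈ maximalIdeal R, s ∉ P := by
    by_contra hcon
    push Not at hcon
    exact hPm (le_antisymm (le_maximalIdeal hP.isPrime.ne_top) hcon)
  have hf : r * s ∉ P := fun h => (hP.isPrime.mem_or_mem h).elim hrP hsP
  -- a prime maximal among those not containing any power of `f := r s`
  obtain ⟨p, hp, hPp, hpdisj⟩ := Ideal.exists_le_prime_disjoint P (Submonoid.powers (r * s)) (by
    rw [Set.disjoint_left]
    rintro x hx ⟨n, rfl⟩
    exact hf (hP.isPrime.mem_of_pow_mem n hx))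
  -- choose it maximal
  obtain ⟨p, ⟨hp, hpf⟩, hmax⟩ := set_has_maximal_iff_noetherian.2
    (inferInstance : IsNoetherian R R) {p : Ideal R | p.IsPrime ∧ r * s ∉ p} ⟨P, hP.isPrime, hf⟩
  haveI := hp
  let D := R ⧸ p
  haveI : IsLocalRing D := IsLocalRing.of_surjective' (Ideal.Quotient.mk p) Ideal.Quotient.mk_surjective
  have hlocD : IsLocalHom (algebraMap R D) :=
    IsLocalHom.of_surjective (algebraMap R D) Ideal.Quotient.mk_surjective
  let f : D := Ideal.Quotient.mk p (r * s)
  have hf0 : f ≠ 0 := fun e => hpf (Ideal.Quotient.eq_zero_iff_mem.1 e)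
  have hD := isMaximal_of_forall_mem f hf0 (fun q hq hq0 => by
    by_contra hfq
    have h1 : p < q.comap (Ideal.Quotient.mk p) := by
      refine lt_of_le_of_ne ?_ ?_
      · intro x hx
        rw [Ideal.mem_comap, Ideal.Quotient.eq_zero_iff_mem.2 hx]
        exact q.zero_mem
      · intro e
        apply hq0
        rw [eq_bot_iff]
        intro x hx
        obtain ⟨x, rfl⟩ := Ideal.Quotient.mk_surjective x
        have : x ∈ p := by rw [e]; exact hx
        exact Ideal.Quotient.eq_zero_iff_mem.2 this
    exact hmax _ ⟨Ideal.IsPrime.comap _, hfq⟩ h1)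
  have hsD : Ideal.Quotient.mk p s ∈ maximalIdeal D := by
    rw [mem_maximalIdeal, mem_nonunits_iff]
    intro hu
    exact hsm (isUnit_of_map_unit (algebraMap R D) s hu)
  have hsD0 : Ideal.Quotient.mk p s ≠ 0 := fun e =>
    hpf (Ideal.mul_mem_left p _ (Ideal.Quotient.eq_zero_iff_mem.1 e))
  have hrD0 : Ideal.Quotient.mk p r ≠ 0 := fun e =>
    hpf (Ideal.mul_mem_right _ p (Ideal.Quotient.eq_zero_iff_mem.1 e))
  have hDf : maximalIdeal D ≠ ⊥ := fun e => hsD0 (by rw [e] at hsD; exact hsD)
  obtain ⟨V, _, _, _, _, _, hinj, hint⟩ := exists_dvr_of_dimLEOne hD hDf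
  letI : Algebra R V := ((algebraMap D V).comp (algebraMap R D)).toAlgebra
  haveI : IsScalarTower R D V := IsScalarTower.of_algebraMap_eq fun x => rfl
  haveI : IsLocalHom (algebraMap R V) := RingHom.isLocalHom_comp (algebraMap D V) (algebraMap R D)
  refine ⟨V, inferInstance, inferInstance, inferInstance, inferInstance, inferInstance, ?_, ?_, ?_⟩
  · intro e
    apply hrD0
    apply hinj
    rw [map_zero]
    exact e
  · intro e
    have h2 : algebraMap R V s ∈ (maximalIdeal R).map (algebraMap R V) :=
      Ideal.mem_map_of_mem _ hsm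
    rw [e] at h2
    apply hsD0
    apply hinj
    rw [map_zero]
    exact h2
  · constructor
    intro x
    obtain ⟨g, hg, hgx⟩ := hint.isIntegral x
    obtain ⟨g', hg', _, hg'm⟩ := Polynomial.lifts_and_degree_eq_and_monic
      (f := Ideal.Quotient.mk p) (p := g) (Polynomial.map_surjective _ Ideal.Quotient.mk_surjective g)
      hg
    refine ⟨g', hg'm, ?_⟩
    have h6 : algebraMap R (ResidueField V) =
      (algebraMap D (ResidueField V)).comp (Ideal.Quotient.mk p) := rfl
    rw [h6, ← Polynomial.eval₂_map, hg', hgx]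

end Groth.Agent.Ega43.DvrIntegral
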