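import Groth.Agent.Ega43.UnivOpenFlat
import Mathlib.RingTheory.Localization.BaseChange

set_option autoImplicit false

open IsLocalRing TensorProduct

namespace Groth.Agent.Ega43.UnivOpenFlat

universe u

/-- To check `DVROpen` for `B_z` it is enough to look at the primes of `R ⊗_A B` over `z`. -/
theorem dvrOpen_atPrime {A B : Type u} [CommRing A] [CommRing B] [Algebra A B]
    (z : Ideal B) [z.IsPrime]
    (H : ∀ (R : Type u) [CommRing R] [IsDomain R] [IsDiscreteValuationRing R] [Algebra A R]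
      (Q : Ideal (R ⊗[A] B)) [Q.IsPrime],
      Q.comap (Algebra.TensorProduct.includeRight : B →ₐ[A] R ⊗[A] B) = z →
      Q.comap (algebraMap R (R ⊗[A] B)) = maximalIdeal R →
      ∀ t : R, t ≠ 0 → ∀ s : R ⊗[A] B, s ∉ Q → ∀ n : ℕ,
        (algebraMap R (R ⊗[A] B) t) ^ n * s ≠ 0) :
    DVROpen A (Localization.AtPrime z) := by
  intro R _ _ _ _ Q _ hQB hQR t ht s hs n hts
  let C := Localization.AtPrime z
  let φ : R ⊗[A] B →ₐ[R] R ⊗[A] C :=
    Algebra.TensorProduct.map (AlgHom.id R R) (IsScalarTower.toAlgHom A B C)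
  let _ : Algebra (R ⊗[A] B) (R ⊗[A] C) := φ.toRingHom.toAlgebra
  have hst : IsScalarTower R (R ⊗[A] B) (R ⊗[A] C) :=
    IsScalarTower.of_algebraMap_eq' φ.comp_algebraMap.symm
  have hφ : ∀ b : B, φ ((1 : R) ⊗ₜ[A] b) = (1 : R) ⊗ₜ[A] algebraMap B C b := fun b => rfl
  have hl := IsLocalization.tensorProduct_tensorProduct_right A R z.primeCompl C (by
        ext b
        change φ ((1 : R) ⊗ₜ b) = (1 : R) ⊗ₜ algebraMap B C b
        rfl)
  let Q₀ : Ideal (R ⊗[A] B) := Q.comap (algebraMap (R ⊗[A] B) (R ⊗[A] C))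
  have hQ₀ : Q₀.IsPrime := Ideal.IsPrime.comap _
  have h1 : Q₀.comap (Algebra.TensorProduct.includeRight : B →ₐ[A] R ⊗[A] B) = z := by
    ext b
    change φ ((1 : R) ⊗ₜ[A] b) ∈ Q ↔ b ∈ z
    rw [hφ]
    have h2 : (1 : R) ⊗ₜ[A] algebraMap B C b ∈ Q ↔ algebraMap B C b ∈ maximalIdeal C := by
      rw [← hQB]
      rfl
    rw [h2]
    exact IsLocalization.AtPrime.to_map_mem_maximal_iff C z b
  have h2 : Q₀.comap (algebraMap R (R ⊗[A] B)) = maximalIdeal R := by
    rw [← hQR]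
    ext r
    change algebraMap (R ⊗[A] B) (R ⊗[A] C) (algebraMap R (R ⊗[A] B) r) ∈ Q ↔ _
    rw [← IsScalarTower.algebraMap_apply]
    rfl
  obtain ⟨⟨s₀, c⟩, hs₀⟩ := IsLocalization.surj
    (z.primeCompl.map (Algebra.TensorProduct.includeRight (R := A) (A := R))) s
  have hcQ : (c : R ⊗[A] B) ∉ Q₀ := by
    obtain ⟨b, hb, hbc⟩ := c.2
    rw [← hbc]
    intro hmem
    have : b ∈ Q₀.comap (Algebra.TensorProduct.includeRight : B →ₐ[A] R ⊗[A] B) := hmem
    rw [h1] at this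
    exact hb this
  have hs₀Q : s₀ ∉ Q₀ := by
    intro hmem
    have h3 : s * algebraMap (R ⊗[A] B) (R ⊗[A] C) c ∈ Q := by
      rw [hs₀]; exact hmem
    rcases Ideal.IsPrime.mem_or_mem ‹Q.IsPrime› h3 with h4 | h4
    · exact hs h4
    · exact hcQ h4
  have h3 : algebraMap (R ⊗[A] B) (R ⊗[A] C) ((algebraMap R (R ⊗[A] B) t) ^ n * s₀) = 0 := by
    rw [map_mul, ← hs₀, map_pow, ← IsScalarTower.algebraMap_apply, ← mul_assoc, hts, zero_mul]
  obtain ⟨c', hc'⟩ := (IsLocalization.map_eq_zero_iff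
    (z.primeCompl.map (Algebra.TensorProduct.includeRight (R := A) (A := R)))
    (R ⊗[A] C) _).mp h3
  have hcQ' : (c' : R ⊗[A] B) ∉ Q₀ := by
    obtain ⟨b, hb, hbc⟩ := c'.2
    rw [← hbc]
    intro hmem
    have : b ∈ Q₀.comap (Algebra.TensorProduct.includeRight : B →ₐ[A] R ⊗[A] B) := hmem
    rw [h1] at this
    exact hb this
  refine H R Q₀ h1 h2 t ht (c' * s₀) ?_ n ?_
  · intro hmem
    rcases hQ₀.mem_or_mem hmem with h4 | h4
    · exact hcQ' h4
    · exact hs₀Q h4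
  · rw [mul_left_comm]
    exact hc'

end Groth.Agent.Ega43.UnivOpenFlat
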