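import Mathlib.AlgebraicGeometry.Morphisms.QuasiFinite
import Mathlib.AlgebraicGeometry.Morphisms.Flat
import Mathlib.AlgebraicGeometry.Noetherian
import Mathlib.AlgebraicGeometry.Morphisms.UniversallyOpen
import Mathlib.RingTheory.KrullDimension.Field
import Mathlib.Topology.KrullDimension
import Groth.Agent.Ega4B.DimFT

/-!
# Components of a scheme flat and quasi-finite over affine space over a field
-/

set_option autoImplicit false
universe u
open CategoryTheory AlgebraicGeometry TopologicalSpace Topology Order

namespace Groth.Agent.Ega43.EquidimFibre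

attribute [local instance] specializationOrder

theorem topologicalKrullDim_eq_krullDim (X : Type*) [TopologicalSpace X] [QuasiSober X]
    [T0Space X] : topologicalKrullDim X = krullDim X :=
  krullDim_eq_of_orderIso irreducibleSetEquivPoints

theorem krullDim_le_of_discrete_fibres {X T : Type*} [TopologicalSpace X] [TopologicalSpace T]
    [T0Space X] [T0Space T] (h : X → T) (hc : Continuous h)
    (hd : ∀ z z' : X, z ⤳ z' → h z = h z' → z = z') : krullDim X ≤ krullDim T := by
  refine krullDim_le_of_strictMono h fun a b hab ↦ ?_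
  have h1 : b ⤳ a := hab.le
  refine lt_of_le_of_ne (show h b ⤳ h a from h1.map hc) fun he ↦ hab.ne' (hd b a h1 he.symm)

theorem exists_ltSeries_lift {X T : Type*} [TopologicalSpace X] [TopologicalSpace T]
    [T0Space X] [T0Space T] (h : X → T) (hg : GeneralizingMap h) (n : ℕ) :
    ∀ (z : X) (p : LTSeries T), p.head = h z → p.length = n →
      ∃ q : LTSeries X, q.head = z ∧ q.length = n := by
  induction n with
  | zero => exact fun z _ _ _ ↦ ⟨RelSeries.singleton _ z, rfl, rfl⟩
  | succ n ih =>
    intro z p hp hn
    have hn0 : p.length ≠ 0 := by omega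
    have h1 : p.head < (p.tail hn0).head := by
      rw [RelSeries.head_tail]
      exact p.strictMono (by simp [Fin.lt_def, Nat.mod_eq_of_lt (show 1 < p.length + 1 by omega)])
    have h2 : (p.tail hn0).head ⤳ h z := by
      rw [← hp]; exact h1.le
    obtain ⟨z', hz', hz'e⟩ := hg h2
    obtain ⟨q, hq, hqn⟩ := ih z' (p.tail hn0) hz'e.symm (by simp [RelSeries.tail_length, hn])
    have hlt : z < z' := by
      refine lt_of_le_of_ne (show z' ⤳ z from hz') ?_
      rintro rfl
      rw [hp, hz'e] at h1
      exact h1.ne rfl
    exact ⟨q.cons z (hq ▸ hlt), rfl, by simp [hqn]⟩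

/-- In a locally Noetherian scheme every irreducible component contains a nonempty open set. -/
theorem exists_open_subset_irreducibleComponent {X : Scheme.{u}} [IsLocallyNoetherian X]
    {Z : Set X} (hZ : Z ∈ irreducibleComponents X) :
    ∃ o : Set X, IsOpen o ∧ o.Nonempty ∧ o ⊆ Z := by
  obtain ⟨z, hz⟩ := hZ.1.nonempty
  obtain ⟨V, hV, hzV, -⟩ := exists_isAffineOpen_mem_and_subset (U := ⊤) (x := z) (by trivial)
  have hR : IsNoetherianRing Γ(X, V) := IsLocallyNoetherian.component_noetherian ⟨V, hV⟩
  have hN : NoetherianSpace V := noetherianSpace_of_isAffineOpen V hV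
  have hZV : (Subtype.val ⁻¹' Z : Set V) ∈ irreducibleComponents V :=
    preimage_mem_irreducibleComponents hZ V.isOpen.isOpenEmbedding_subtypeVal ⟨z, hz, ⟨z, hzV⟩, rfl⟩
  obtain ⟨o, ho, hne, hsub⟩ :=
    NoetherianSpace.exists_isOpen_nonempty_subset_irreducibleComponent _ hZV
  refine ⟨Subtype.val '' o, V.isOpen.isOpenMap_subtype_val _ ho, hne.image _, ?_⟩
  rintro _ ⟨y, hy, rfl⟩
  exact hsub hy

theorem topologicalKrullDim_irreducibleComponent {κ : Type u} [Field κ] {F T : Scheme.{u}} (d : ℕ)
    (e : T ≅ Spec (.of (MvPolynomial (Fin d) κ))) (h : F ⟶ T) [Flat h] [LocallyQuasiFinite h]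
    [LocallyOfFiniteType h] {Z : Set F} (hZ : Z ∈ irreducibleComponents F) :
    topologicalKrullDim Z = d := by
  have hN : IsLocallyNoetherian F := by
    have : IsLocallyNoetherian T := LocallyOfFiniteType.isLocallyNoetherian e.hom
    exact LocallyOfFiniteType.isLocallyNoetherian h
  have hJT : JacobsonSpace T := LocallyOfFiniteType.jacobsonSpace e.hom
  have hJ : JacobsonSpace F := LocallyOfFiniteType.jacobsonSpace h
  have hcoh (t : T) (ht : IsClosed {t}) : coheight t = (d : ℕ∞) := by
    have h1 : coheight (e.hom t) = coheight t := coheight_eq_of_isOpenImmersion e.hom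
    rw [← h1, ← idealHeight_eq_coheight]
    have : (e.hom t).asIdeal.IsMaximal := by
      rw [← PrimeSpectrum.isClosed_singleton_iff_isMaximal]
      have := (Scheme.homeoOfIso e).isClosedMap _ ht
      rwa [Set.image_singleton] at this
    exact Groth.Agent.Ega4B.DimFT.height_eq_of_isMaximal_mvPolynomial_fin κ d _
  apply le_antisymm
  · refine (topologicalKrullDim_subspace_le F Z).trans ?_
    rw [topologicalKrullDim_eq_krullDim]
    refine (krullDim_le_of_discrete_fibres h h.continuous ?_).trans ?_
    · intro z z' hzz' he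
      have h1 := h.isDiscrete_preimage_singleton (h z')
      have h2 : DiscreteTopology (h ⁻¹' {h z'}) := isDiscrete_iff_discreteTopology.mp h1
      have h3 : (⟨z, he⟩ : h ⁻¹' {h z'}) ⤳ ⟨z', rfl⟩ := by
        rwa [subtype_specializes_iff]
      exact congrArg Subtype.val h3.eq
    · rw [← topologicalKrullDim_eq_krullDim,
        IsHomeomorph.topologicalKrullDim_eq _ (Scheme.homeoOfIso e).isHomeomorph]
      change topologicalKrullDim (PrimeSpectrum (MvPolynomial (Fin d) κ)) ≤ _
      rw [PrimeSpectrum.topologicalKrullDim_eq_ringKrullDim,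
        MvPolynomial.ringKrullDim_of_isNoetherianRing, ringKrullDim_eq_zero_of_field]
      simp
  · obtain ⟨o, ho, hne, hsub⟩ := exists_open_subset_irreducibleComponent hZ
    obtain ⟨z, hzo, hz⟩ := nonempty_inter_closedPoints hne ho.isLocallyClosed
    have hcl := h.closePoints_subset_preimage_closedPoints hz
    obtain ⟨p, hp, hpn⟩ := exists_series_of_le_coheight (h z) (hcoh _ hcl).ge
    obtain ⟨q, hq, hqn⟩ := exists_ltSeries_lift h (Flat.generalizingMap h) d z p hp hpn
    have hqZ : ∀ i, q i ∈ Z := by
      intro i
      apply hsub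
      have : q i ⤳ z := hq ▸ q.monotone (Fin.zero_le i)
      exact this.mem_open ho hzo
    have : QuasiSober Z :=
      (isClosed_of_mem_irreducibleComponents Z hZ).isClosedEmbedding_subtypeVal.quasiSober
    rw [topologicalKrullDim_eq_krullDim]
    let q' : @LTSeries Z (specializationOrder Z).toPreorder :=
      { length := q.length
        toFun := fun i ↦ ⟨q i, hqZ i⟩
        step := fun i ↦ by
          have h1 : q i.castSucc < q i.succ := q.step i
          refine @lt_of_le_of_ne Z (specializationOrder Z) _ _ ?_
            fun he ↦ h1.ne (congrArg Subtype.val he)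
          change (⟨q i.succ, _⟩ : Z) ⤳ ⟨q i.castSucc, _⟩
          rw [subtype_specializes_iff]
          exact h1.le }
    have := @LTSeries.length_le_krullDim Z (specializationOrder Z).toPreorder q'
    change (q.length : WithBot ℕ∞) ≤ _ at this
    rwa [hqn] at this

end Groth.Agent.Ega43.EquidimFibre
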