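import Groth.Agent.Ega43.EquidimFibre
import Groth.Agent.Ega43.Locus
import Groth.Prelude.Def_EGA43
import Mathlib.AlgebraicGeometry.AffineSpace
import Mathlib.AlgebraicGeometry.Fiber

/-!
# Flat quasi-finite morphisms to affine space and equidimensionality
-/

set_option autoImplicit false
universe u
open CategoryTheory AlgebraicGeometry TopologicalSpace Topology Order Limits

namespace Groth.Agent.Ega43.EquidimSch

open EquidimFibre Locus

theorem nonempty_fibre_affineSpace_iso {Y : Scheme.{u}} (d : ℕ) {K : Type u} [Field K]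
    (t : Spec (.of K) ⟶ Y) :
    Nonempty (pullback (𝔸(ULift.{u} (Fin d); Y) ↘ Y) t ≅ Spec (.of (MvPolynomial (Fin d) K))) := by
  have h := AffineSpace.isPullback_map (n := ULift.{u} (Fin d)) t
  let e1 : pullback (𝔸(ULift.{u} (Fin d); Y) ↘ Y) t ≅ 𝔸(ULift.{u} (Fin d); Spec (.of K)) :=
    h.isoPullback.symm
  let e2 := AffineSpace.SpecIso (ULift.{u} (Fin d)) (.of K)
  let e3 : MvPolynomial (ULift.{u} (Fin d)) K ≃+* MvPolynomial (Fin d) K :=
    (MvPolynomial.renameEquiv K Equiv.ulift).toRingEquiv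
  exact ⟨e1 ≪≫ e2 ≪≫ (Scheme.Spec.mapIso e3.toCommRingCatIso.op).symm⟩

theorem topologicalKrullDim_fiber {X Y : Scheme.{u}} (f : X ⟶ Y) (d : ℕ)
    (g : X ⟶ 𝔸(ULift.{u} (Fin d); Y)) (hg : g ≫ (𝔸(ULift.{u} (Fin d); Y) ↘ Y) = f) [Flat g]
    [LocallyQuasiFinite g] [LocallyOfFiniteType f] (y : Y)
    {Z : Set (f.fiber y)} (hZ : Z ∈ irreducibleComponents (f.fiber y)) :
    topologicalKrullDim Z = d := by
  subst hg
  have hft : LocallyOfFiniteType g := locallyOfFiniteType_of_comp g (𝔸(ULift.{u} (Fin d); Y) ↘ Y)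
  have hP := isPullback_bcMap g (𝔸(ULift.{u} (Fin d); Y) ↘ Y) (Y.fromSpecResidueField y)
  set b := bcMap g (𝔸(ULift.{u} (Fin d); Y) ↘ Y) (Y.fromSpecResidueField y)
  have h1 : Flat b := MorphismProperty.of_isPullback hP ‹Flat g›
  have h2 : LocallyQuasiFinite b := MorphismProperty.of_isPullback hP ‹LocallyQuasiFinite g›
  have h3 : LocallyOfFiniteType b := MorphismProperty.of_isPullback hP hft
  obtain ⟨e⟩ := nonempty_fibre_affineSpace_iso d (Y.fromSpecResidueField y)
  exact @topologicalKrullDim_irreducibleComponent _ _ _ _ d e b h1 h2 h3 _ hZ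

/-- Small neighbourhoods in a locally Noetherian scheme: every point of `V` has a generization
which is also a generization of `x`. -/
theorem exists_opens_small {X : Scheme.{u}} [IsLocallyNoetherian X] (x : X) (O : X.Opens)
    (hx : x ∈ O) : ∃ V : X.Opens, x ∈ V ∧ V ≤ O ∧ ∀ z ∈ V, ∃ η : X, η ⤳ z ∧ η ⤳ x := by
  obtain ⟨V₀, hV₀, hxV₀, hV₀O⟩ := exists_isAffineOpen_mem_and_subset (U := O) (x := x) hx
  have hR : IsNoetherianRing Γ(X, V₀) := IsLocallyNoetherian.component_noetherian ⟨V₀, hV₀⟩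
  have hN : NoetherianSpace V₀ := noetherianSpace_of_isAffineOpen V₀ hV₀
  let S : Set (Set V₀) := {Z ∈ irreducibleComponents V₀ | (⟨x, hxV₀⟩ : V₀) ∉ Z}
  have hS : S.Finite := NoetherianSpace.finite_irreducibleComponents.subset fun _ h ↦ h.1
  have hclosed : IsClosed (⋃₀ S) := by
    rw [Set.sUnion_eq_biUnion]
    exact hS.isClosed_biUnion fun W hW ↦ isClosed_of_mem_irreducibleComponents W hW.1
  refine ⟨⟨Subtype.val '' (⋃₀ S)ᶜ, V₀.isOpen.isOpenMap_subtype_val _ hclosed.isOpen_compl⟩, ?_, ?_, ?_⟩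
  · exact ⟨⟨x, hxV₀⟩, fun ⟨Z, hZ, hxZ⟩ ↦ hZ.2 hxZ, rfl⟩
  · rintro _ ⟨z, -, rfl⟩
    exact hV₀O z.2
  · rintro _ ⟨z, hz, rfl⟩
    have hQ : QuasiSober ↥V₀ := V₀.isOpen.isOpenEmbedding_subtypeVal.quasiSober
    have hZ := irreducibleComponent_mem_irreducibleComponents z
    have hxZ : (⟨x, hxV₀⟩ : V₀) ∈ irreducibleComponent z := by
      by_contra h
      exact hz ⟨_, ⟨hZ, h⟩, mem_irreducibleComponent⟩
    have hg := hZ.1.isGenericPoint_genericPoint (isClosed_of_mem_irreducibleComponents _ hZ)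
    refine ⟨hZ.1.genericPoint.1, ?_, ?_⟩
    · exact (hg.specializes mem_irreducibleComponent).map continuous_subtype_val
    · exact (hg.specializes hxZ).map continuous_subtype_val

theorem flat_affineSpace (n : Type u) (S : Scheme.{u}) : Flat (𝔸(n; S) ↘ S) := by
  wlog hS : ∃ R, S = Spec R
  · refine (IsZariskiLocalAtTarget.iff_of_openCover
      (P := @Flat) S.affineCover).mpr ?_
    intro i
    have := this n (S.affineCover.X i) ⟨_, rfl⟩
    rwa [← (AffineSpace.isPullback_map (n := n) (S.affineCover.f i)).isoPullback_hom_snd,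
      MorphismProperty.cancel_left_of_respectsIso (P := @Flat)] at this
  obtain ⟨R, rfl⟩ := hS
  rw [← MorphismProperty.cancel_left_of_respectsIso (P := @Flat)
    (AffineSpace.SpecIso n R).inv, AffineSpace.SpecIso_inv_over, Flat.SpecMap_iff]
  exact RingHom.flat_algebraMap_iff.mpr (inferInstanceAs (Module.Flat R (MvPolynomial n R)))

/-- A flat locally quasi-finite morphism from an open neighbourhood to affine space over the base
makes a morphism equidimensional. -/
theorem isEquidimAt_of_flat_quasiFinite {X Y : Scheme.{u}} [IsLocallyNoetherian X] (f : X ⟶ Y)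
    [LocallyOfFiniteType f] (x : X) (d : ℕ) {U : Scheme.{u}} (j : U ⟶ X) [IsOpenImmersion j]
    (hx : x ∈ Set.range j)
    (g : U ⟶ 𝔸(ULift.{u} (Fin d); Y)) (hg : g ≫ (𝔸(ULift.{u} (Fin d); Y) ↘ Y) = j ≫ f)
    [Flat g] [LocallyQuasiFinite g] : EGA43.IsEquidimAt f x := by
  obtain ⟨V, hxV, hVU, hV⟩ := exists_opens_small x j.opensRange hx
  let l : (V : Scheme.{u}) ⟶ U := IsOpenImmersion.lift j V.ι (by
    rw [Scheme.Opens.range_ι]; exact hVU)
  have hl : l ≫ j = V.ι := IsOpenImmersion.lift_fac _ _ _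
  have hlo : IsOpenImmersion l := by
    have : IsOpenImmersion (l ≫ j) := hl ▸ inferInstance
    exact IsOpenImmersion.of_comp l j
  have hglf : (l ≫ g) ≫ (𝔸(ULift.{u} (Fin d); Y) ↘ Y) = V.ι ≫ f := by
    rw [Category.assoc, hg, reassoc_of% hl]
  have hflat : Flat (V.ι ≫ f) := by
    have := flat_affineSpace (ULift.{u} (Fin d)) Y
    rw [← hglf]
    infer_instance
  have hgen := Flat.generalizingMap (V.ι ≫ f)
  refine ⟨d, V, hxV, ?_, ?_⟩
  · intro Z hZ
    have hQ : QuasiSober ↥V := V.isOpen.isOpenEmbedding_subtypeVal.quasiSober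
    let ζ : V := hZ.1.genericPoint
    have hζ : IsGenericPoint ζ Z :=
      hZ.1.isGenericPoint_genericPoint (isClosed_of_mem_irreducibleComponents _ hZ)
    have hmax : ∀ ξ : V, ξ ⤳ ζ → ξ = ζ := by
      intro ξ hξ
      have h1 : closure {ξ} ≤ Z := by
        refine hZ.2 isIrreducible_singleton.closure ?_
        rw [← hζ.def]
        exact hξ.closure_subset
      have h2 : ζ ⤳ ξ := hζ.specializes (h1 (subset_closure rfl))
      exact (hξ.antisymm h2).eq
    have hymax : ∀ y : Y, y ⤳ (V.ι ≫ f) ζ → y = (V.ι ≫ f) ζ := by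
      intro y hy
      obtain ⟨ξ, hξ, rfl⟩ := hgen hy
      rw [hmax ξ hξ]
    have hζx : (ζ : X) ⤳ x := by
      obtain ⟨η, h1, h2⟩ := hV ζ ζ.2
      have hη : η ∈ V := h1.mem_open V.isOpen ζ.2
      have := hmax ⟨η, hη⟩ ((subtype_specializes_iff _ _).mpr h1)
      rwa [← this]
    refine ⟨closure {(V.ι ≫ f) ζ}, ⟨isIrreducible_singleton.closure, ?_⟩, ?_, ?_⟩
    · intro b hb hle
      have hbc := hb.closure
      have hg := hbc.isGenericPoint_genericPoint isClosed_closure
      have h1 : hbc.genericPoint ⤳ (V.ι ≫ f) ζ :=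
        hg.specializes (subset_closure (hle (subset_closure rfl)))
      rw [← hymax _ h1, hg.def]
      exact subset_closure
    · have : f (ζ : X) ⤳ f x := hζx.map f.continuous
      exact specializes_iff_mem_closure.mp this
    · apply le_antisymm
      · refine closure_minimal ?_ isClosed_closure
        rw [← hζ.def]
        refine (image_closure_subset_closure_image (V.ι ≫ f).continuous).trans ?_
        exact closure_mono (Set.image_singleton (f := (V.ι ≫ f)) (a := ζ)).subset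
      · exact closure_mono (Set.singleton_subset_iff.mpr ⟨ζ, hζ.mem, rfl⟩)
  · intro x' Z hZ
    exact topologicalKrullDim_fiber (V.ι ≫ f) d (l ≫ g) hglf _ hZ

end Groth.Agent.Ega43.EquidimSch
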