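import Mathlib.RingTheory.Etale.Basic
import Mathlib.RingTheory.Smooth.Flat
import Mathlib.RingTheory.Unramified.Field
import Mathlib.RingTheory.TensorProduct.Pi
import Mathlib.RingTheory.Ideal.MinimalPrime.Noetherian
import Mathlib.RingTheory.LocalRing.ResidueField.Ideal
import Mathlib.RingTheory.Flat.Basic
import Mathlib.RingTheory.Polynomial.Basic
import Mathlib.Algebra.MvPolynomial.Nilpotent

set_option autoImplicit false

open TensorProduct

namespace Groth.Agent.Ega43.EtaleReduced

/-- A flat algebra over a reduced ring with finitely many minimal primes is reduced as soon as its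
fibres at the minimal primes are reduced. -/
theorem isReduced_of_flat (R S : Type*) [CommRing R] [CommRing S] [Algebra R S]
    [Module.Flat R S] [IsReduced R] (hfin : (minimalPrimes R).Finite)
    (h : ∀ (p : Ideal R) [p.IsPrime], p ∈ minimalPrimes R → IsReduced (S ⊗[R] p.ResidueField)) :
    IsReduced S := by
  classical
  have hfin : Finite (minimalPrimes R) := hfin.to_subtype
  have := Fintype.ofFinite (minimalPrimes R)
  have hp : ∀ p : minimalPrimes R, p.1.IsPrime := fun p => p.2.1.1
  let K : minimalPrimes R → Type _ := fun p => p.1.ResidueField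
  let : ∀ p, CommRing (K p) := fun p => inferInstanceAs (CommRing p.1.ResidueField)
  let : ∀ p, Algebra R (K p) := fun p => inferInstanceAs (Algebra R p.1.ResidueField)
  have hinj : Function.Injective (algebraMap R (∀ p, K p)) := by
    rw [injective_iff_map_eq_zero]
    intro r hr
    have hr' : r ∈ sInf (minimalPrimes R) := by
      rw [Ideal.mem_sInf]
      intro p hpm
      have h1 := congrFun hr ⟨p, hpm⟩
      have h2 : algebraMap R (K ⟨p, hpm⟩) r = 0 := h1
      have := hp ⟨p, hpm⟩
      exact (Ideal.algebraMap_residueField_eq_zero (I := p)).mp h2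
    have h3 : sInf (minimalPrimes R) = nilradical R := Ideal.sInf_minimalPrimes
    rw [h3, nilradical_eq_bot_iff.mpr inferInstance] at hr'
    exact hr'
  constructor
  intro x hx
  have hincl : Function.Injective
      (Algebra.TensorProduct.includeLeft : S →ₐ[R] S ⊗[R] (∀ p, K p)) :=
    Algebra.TensorProduct.includeLeft_injective hinj
  apply hincl
  rw [map_zero]
  apply (Algebra.TensorProduct.piRight R R S K).injective
  rw [map_zero]
  ext p
  have := h p.1 p.2
  have hn : IsNilpotent (((Algebra.TensorProduct.piRight R R S K)
      ((Algebra.TensorProduct.includeLeft : S →ₐ[R] S ⊗[R] (∀ p, K p)) x)) p) := by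
    have h1 : IsNilpotent ((Pi.evalRingHom _ p) ((Algebra.TensorProduct.piRight R R S K)
      ((Algebra.TensorProduct.includeLeft : S →ₐ[R] S ⊗[R] (∀ p, K p)) x))) :=
      ((hx.map _).map _).map _
    exact h1
  have hr : IsReduced (S ⊗[R] K p) := h p.1 p.2
  exact hn.eq_zero

/-- An étale algebra over a reduced Noetherian ring is reduced. -/
theorem isReduced_of_etale (R S : Type*) [CommRing R] [CommRing S] [Algebra R S]
    [Algebra.Etale R S] [IsReduced R] [IsNoetherianRing R] : IsReduced S := by
  refine isReduced_of_flat R S (minimalPrimes.finite_of_isNoetherianRing R) ?_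
  intro p _ _
  have e : S ⊗[R] p.ResidueField ≃ₐ[R] p.ResidueField ⊗[R] S := Algebra.TensorProduct.comm R _ _
  have : IsReduced (p.ResidueField ⊗[R] S) :=
    Algebra.FormallyUnramified.isReduced_of_field p.ResidueField _
  exact isReduced_of_injective e e.injective

/-- An étale algebra over a polynomial ring over a reduced Noetherian ring is reduced. -/
theorem isReduced_of_etale_mvPolynomial (R S : Type*) [CommRing R] [CommRing S] (n : ℕ)
    [Algebra (MvPolynomial (Fin n) R) S]
    [Algebra.Etale (MvPolynomial (Fin n) R) S] [IsReduced R] [IsNoetherianRing R] :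
    IsReduced S :=
  isReduced_of_etale (MvPolynomial (Fin n) R) S

end Groth.Agent.Ega43.EtaleReduced
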