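import Groth.Prelude.Def_EGA4b
import Groth.Agent.Ega4C.FibreTower
import Groth.Agent.FlatA.FibreQF
import Groth.Agent.CalgC.LocalDim
import Groth.Agent.Ega4B.DimFT2
import Groth.Agent.VarietyB.DimTop

/-!
# Chevalley's semicontinuity in terms of heights in the fibres of a polynomial ring

`isClosed_E`: for `Z` closed in the spectrum of `P = A[X_1, …, X_N]`, the set of the primes `Q` having a
generization `Q' ∈ Z` in the same fibre with `dim (FibLocRing A P Q') ≤ e` is closed.
-/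

set_option autoImplicit false
universe u

open TensorProduct

namespace Groth.Agent.Ega43.FibChev

theorem ringKrullDim_quotient_comap {R S : Type*} [CommRing R] [CommRing S] (f : R →+* S)
    (hf : Function.Surjective f) (J : Ideal S) :
    ringKrullDim (R ⧸ J.comap f) = ringKrullDim (S ⧸ J) := by
  have h := (RingEquiv.ofBijective (Ideal.quotientMap J f le_rfl)
    ⟨Ideal.quotientMap_injective, Ideal.quotientMap_surjective hf⟩)
  exact ringKrullDim_eq_of_ringEquiv h

section Field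

theorem le_localDim_iff (k : Type u) {T : Type u} [Field k] [CommRing T] [Algebra k T]
    [Algebra.FiniteType k T] (p : Ideal T) [hp : p.IsPrime] (n : WithBot ℕ∞) :
    n ≤ FlatMor.localDim (PrimeSpectrum T) ⟨p, hp⟩ ↔
      ∃ t : Ideal T, t.IsPrime ∧ t ≤ p ∧ n ≤ ringKrullDim (T ⧸ t) := by
  have hN : IsNoetherianRing T := Algebra.FiniteType.isNoetherianRing k T
  rw [CalgC.LocalDim.localDim_eq_height_add k p]
  constructor
  · intro h
    obtain ⟨q, hq, M, hM, hcomap, hMm⟩ := CalgC.LocalDim.exists_minimalPrimes_height_eq p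
    have hqp : q.IsPrime := hq.1.1
    refine ⟨q, hqp, ?_, ?_⟩
    · rw [← hcomap]
      intro x hx
      rw [Ideal.mem_comap, Ideal.Quotient.eq_zero_iff_mem.mpr hx]
      exact M.zero_mem
    · rw [← Ega4B.DimFT2.height_add_dim k (T ⧸ q) M, hMm,
        ← ringKrullDim_quotient_comap (Ideal.Quotient.mk q) Ideal.Quotient.mk_surjective M]
      convert h
  · rintro ⟨t, ht, htp, h⟩
    refine h.trans ?_
    let M : Ideal (T ⧸ t) := p.map (Ideal.Quotient.mk t)
    have hcomap : M.comap (Ideal.Quotient.mk t) = p := Ideal.comap_map_mk htp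
    have hM : M.IsPrime := by
      refine Ideal.map_isPrime_of_surjective Ideal.Quotient.mk_surjective ?_
      rwa [Ideal.mk_ker]
    rw [← Ega4B.DimFT2.height_add_dim k (T ⧸ t) M,
      ← ringKrullDim_quotient_comap (Ideal.Quotient.mk t) Ideal.Quotient.mk_surjective M]
    have h1 : M.height ≤ p.height := by
      have h3 := CalgC.DimFT.height_add_height_le_comap t M
      have h4 : (M.comap (Ideal.Quotient.mk t)).height = p.height := by rw [hcomap]
      rw [h4] at h3
      exact le_trans le_add_self h3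
    have h2 : ringKrullDim (T ⧸ M.comap (Ideal.Quotient.mk t)) = ringKrullDim (T ⧸ p) := by
      exact ringKrullDim_eq_of_ringEquiv (Ideal.quotEquivOfEq hcomap)
    rw [h2]
    gcongr
    exact_mod_cast h1

end Field

section Fibre

open EGA4 Groth.Agent.Ega4C.FibreTower

theorem ctr_le_iff {A B : Type u} [CommRing A] [CommRing B] [Algebra A B] (p : Ideal A) [p.IsPrime]
    (s t : Ideal (p.Fiber B)) [hs : s.IsPrime] [ht : t.IsPrime] : ctr p s ≤ ctr p t ↔ s ≤ t :=
  (PrimeSpectrum.preimageOrderIsoFiber A B ⟨p, inferInstance⟩).symm.le_iff_le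
    (x := ⟨s, hs⟩) (y := ⟨t, ht⟩)

theorem ringKrullDim_fibLocRing {A B : Type u} [CommRing A] [CommRing B] [Algebra A B] (p : Ideal A)
    [p.IsPrime] (t : Ideal (p.Fiber B)) [t.IsPrime] :
    ringKrullDim (FibLocRing A B (ctr p t)) = t.height := by
  rw [← ringKrullDim_eq_of_ringEquiv (locFibreEquiv p t)]
  exact IsLocalization.AtPrime.ringKrullDim_eq_height t (Localization.AtPrime t)

theorem dim_fibLocRing_congr {A B : Type u} [CommRing A] [CommRing B] [Algebra A B]
    {q₁ q₂ : Ideal B} [q₁.IsPrime] [q₂.IsPrime] (h : q₁ = q₂) :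
    ringKrullDim (FibLocRing A B q₁) = ringKrullDim (FibLocRing A B q₂) := by
  subst h
  rfl

variable {A : Type u} [CommRing A] {N : ℕ}

theorem ringKrullDim_fiber (p : Ideal A) [p.IsPrime] :
    ringKrullDim (p.Fiber (MvPolynomial (Fin N) A)) = N := by
  rw [ringKrullDim_eq_of_ringEquiv
    (MvPolynomial.algebraTensorAlgEquiv A p.ResidueField).toRingEquiv,
    FlatA.DimFin.ringKrullDim_mvPolynomial_fin]

theorem height_add_dim (p : Ideal A) [p.IsPrime] (t : Ideal (p.Fiber (MvPolynomial (Fin N) A)))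
    [t.IsPrime] : (t.height : WithBot ℕ∞) +
      ringKrullDim (p.Fiber (MvPolynomial (Fin N) A) ⧸ t) = N := by
  have : IsDomain (p.Fiber (MvPolynomial (Fin N) A)) :=
    (MvPolynomial.algebraTensorAlgEquiv A p.ResidueField).toRingEquiv.toMulEquiv.isDomain _
  rw [Ega4B.DimFT2.height_add_dim p.ResidueField, ringKrullDim_fiber]

/-- `height ≤ e` iff `N - e ≤ dim`. -/
theorem height_le_iff (p : Ideal A) [p.IsPrime] (t : Ideal (p.Fiber (MvPolynomial (Fin N) A)))
    [t.IsPrime] (e : ℕ) : (t.height : WithBot ℕ∞) ≤ e ↔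
      ((N - e : ℕ) : WithBot ℕ∞) ≤ ringKrullDim (p.Fiber (MvPolynomial (Fin N) A) ⧸ t) := by
  have h := height_add_dim p t
  obtain ⟨a, ha, hd⟩ := Ega4B.DimFT.exists_dim p.ResidueField
    (p.Fiber (MvPolynomial (Fin N) A) ⧸ t)
  rw [hd] at h ⊢
  have h1 : t.height + a = N := by exact_mod_cast h
  obtain ⟨b, hb⟩ : ∃ b : ℕ, t.height = b := by
    refine ⟨t.height.toNat, (ENat.natCast_toNat ?_).symm⟩
    intro h2
    rw [h2, top_add] at h1
    exact absurd h1 (ENat.top_ne_natCast N)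
  rw [hb] at h1 ⊢
  have h2 : b + a = N := by exact_mod_cast h1
  have h3 : ((b : ℕ∞) : WithBot ℕ∞) ≤ ((e : ℕ) : WithBot ℕ∞) ↔ b ≤ e := by
    norm_cast
  have h4 : (((N - e : ℕ) : ℕ) : WithBot ℕ∞) ≤ ((a : ℕ) : WithBot ℕ∞) ↔ N - e ≤ a := by
    norm_cast
  rw [h3, h4]
  omega

/-- The primes having a generization in `Z`, in the same fibre, of height at most `e` in the fibre. -/
def E (Z : Set (PrimeSpectrum (MvPolynomial (Fin N) A))) (e : ℕ) :
    Set (PrimeSpectrum (MvPolynomial (Fin N) A)) :=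
  {Q | ∃ Q' ∈ Z, Q' ≤ Q ∧ PrimeSpectrum.comap (algebraMap A (MvPolynomial (Fin N) A)) Q' =
    PrimeSpectrum.comap (algebraMap A (MvPolynomial (Fin N) A)) Q ∧
    ringKrullDim (FibLocRing A (MvPolynomial (Fin N) A) Q'.asIdeal) ≤ e}

/-- The surjection of fibre rings induced by a surjection of algebras. -/
noncomputable def fiberMap {B S : Type u} [CommRing B] [Algebra A B] [CommRing S] [Algebra A S]
    (p : Ideal A) [p.IsPrime] (φ : B →ₐ[A] S) : p.Fiber B →+* p.Fiber S :=
  (Algebra.TensorProduct.map (AlgHom.id A p.ResidueField) φ).toRingHom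

theorem fiberMap_tmul {B S : Type u} [CommRing B] [Algebra A B] [CommRing S] [Algebra A S]
    (p : Ideal A) [p.IsPrime] (φ : B →ₐ[A] S) (x : p.ResidueField) (b : B) :
    fiberMap p φ (x ⊗ₜ b) = x ⊗ₜ[A] φ b := rfl

theorem fiberMap_surjective {B S : Type u} [CommRing B] [Algebra A B] [CommRing S] [Algebra A S]
    (p : Ideal A) [p.IsPrime] (φ : B →ₐ[A] S) (hφ : Function.Surjective φ) :
    Function.Surjective (fiberMap p φ) := by
  intro x
  induction x using TensorProduct.induction_on with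
  | zero => exact ⟨0, map_zero _⟩
  | tmul x y =>
    obtain ⟨b, rfl⟩ := hφ y
    exact ⟨x ⊗ₜ b, fiberMap_tmul p φ x b⟩
  | add x y hx hy =>
    obtain ⟨a, rfl⟩ := hx
    obtain ⟨b, rfl⟩ := hy
    exact ⟨a + b, map_add _ _ _⟩

theorem ctr_fiberMap {B S : Type u} [CommRing B] [Algebra A B] [CommRing S] [Algebra A S]
    (p : Ideal A) [p.IsPrime] (φ : B →ₐ[A] S) (t : Ideal (p.Fiber S)) :
    ctr p (t.comap (fiberMap p φ)) = (ctr p t).comap φ := by
  ext x
  simp only [Ideal.mem_comap]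
  rfl

theorem dim_le_iff {S : Type u} [CommRing S] [Algebra A S] (φ : MvPolynomial (Fin N) A →ₐ[A] S)
    (hφ : Function.Surjective φ) (p : Ideal A) [p.IsPrime] (t : Ideal (p.Fiber S)) [t.IsPrime]
    (e : ℕ) :
    ringKrullDim (FibLocRing A (MvPolynomial (Fin N) A) (ctr p (t.comap (fiberMap p φ)))) ≤ e ↔
      ((N - e : ℕ) : WithBot ℕ∞) ≤ ringKrullDim (p.Fiber S ⧸ t) := by
  rw [ringKrullDim_fibLocRing, height_le_iff,
    ringKrullDim_quotient_comap _ (fiberMap_surjective p φ hφ)]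

theorem mem_E_iff {S : Type u} [CommRing S] [Algebra A S] (φ : MvPolynomial (Fin N) A →ₐ[A] S)
    (hφ : Function.Surjective φ) (e : ℕ) (q : PrimeSpectrum S) :
    PrimeSpectrum.comap φ.toRingHom q ∈ E (Set.range (PrimeSpectrum.comap φ.toRingHom)) e ↔
    ((N - e : ℕ) : WithBot ℕ∞) ≤ FlatMor.localDim (PrimeSpectrum.comap (algebraMap A S) ⁻¹'
      {PrimeSpectrum.comap (algebraMap A S) q}) ⟨q, rfl⟩ := by
  have : Algebra.FiniteType A S := Algebra.FiniteType.of_surjective φ hφ
  set p : PrimeSpectrum A := PrimeSpectrum.comap (algebraMap A S) q with hp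
  rw [VarietyB.DimTop.localDim_eq_of_homeomorph (PrimeSpectrum.preimageHomeomorphFiber A S p)]
  set t₀ := PrimeSpectrum.preimageHomeomorphFiber A S p ⟨q, rfl⟩ with ht₀
  have hctr₀ : ctr p.asIdeal t₀.asIdeal = q.asIdeal := by
    have : (PrimeSpectrum.preimageOrderIsoFiber A S p).symm t₀ = ⟨q, rfl⟩ :=
      (PrimeSpectrum.preimageOrderIsoFiber A S p).symm_apply_apply _
    exact congrArg (fun x ↦ x.1.asIdeal) this
  have hle := le_localDim_iff (T := p.asIdeal.Fiber S) p.asIdeal.ResidueField t₀.asIdeal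
    ((N - e : ℕ) : WithBot ℕ∞)
  refine Iff.trans ?_ hle.symm
  have hcomap : ∀ q' : PrimeSpectrum S, PrimeSpectrum.comap (algebraMap A (MvPolynomial (Fin N) A))
      (PrimeSpectrum.comap φ.toRingHom q') = PrimeSpectrum.comap (algebraMap A S) q' := by
    intro q'
    rw [← PrimeSpectrum.comap_comp_apply]
    congr 1
    exact φ.comp_algebraMap
  constructor
  · rintro ⟨Q', hQ'Z, hQ'le, hQ'c, hQ'd⟩
    obtain ⟨q', rfl⟩ := hQ'Z
    rw [hcomap, hcomap] at hQ'c
    obtain ⟨t, ht, htq⟩ := exists_prime_fibre p.asIdeal q'.asIdeal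
      (congrArg PrimeSpectrum.asIdeal hQ'c)
    refine ⟨t, ht, ?_, ?_⟩
    · rw [← ctr_le_iff p.asIdeal, htq, hctr₀]
      rw [← PrimeSpectrum.asIdeal_le_asIdeal] at hQ'le
      exact (Ideal.comap_le_comap_iff_of_surjective _ hφ _ _).mp hQ'le
    · rw [← dim_le_iff φ hφ]
      have h1 := ctr_fiberMap p.asIdeal φ t
      rw [htq] at h1
      exact (dim_fibLocRing_congr h1).le.trans hQ'd
  · rintro ⟨t, ht, htt₀, htd⟩
    refine ⟨⟨ctr p.asIdeal (t.comap (fiberMap p.asIdeal φ)), inferInstance⟩, ?_, ?_, ?_, ?_⟩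
    · refine ⟨⟨ctr p.asIdeal t, inferInstance⟩, ?_⟩
      apply PrimeSpectrum.ext
      exact (ctr_fiberMap p.asIdeal φ t).symm
    · rw [← PrimeSpectrum.asIdeal_le_asIdeal]
      change ctr p.asIdeal (t.comap (fiberMap p.asIdeal φ)) ≤ q.asIdeal.comap _
      rw [ctr_fiberMap]
      refine Ideal.comap_mono ?_
      rw [← hctr₀]
      exact Ideal.comap_mono htt₀
    · rw [hcomap, ← hp]
      apply PrimeSpectrum.ext
      exact ctr_comap p.asIdeal (t.comap (fiberMap p.asIdeal φ))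
    · exact (dim_le_iff φ hφ p.asIdeal t e).mpr htd

theorem zero_le_localDim {X : Type*} [TopologicalSpace X] (x : X) : 0 ≤ FlatMor.localDim X x := by
  refine le_iInf fun U ↦ ?_
  have : Nonempty (TopologicalSpace.IrreducibleCloseds U.1) :=
    ⟨⟨closure {⟨x, U.2⟩}, isIrreducible_singleton.closure, isClosed_closure⟩⟩
  exact Order.krullDim_nonneg

theorem lt_succ_iff (x : WithBot ℕ∞) (n : ℕ) :
    x < ((n + 1 : ℕ) : WithBot ℕ∞) ↔ x ≤ ((n : ℕ) : WithBot ℕ∞) := by
  rcases x with _ | x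
  · exact ⟨fun _ ↦ bot_le, fun _ ↦ WithBot.bot_lt_coe _⟩
  · change (WithBot.some x : WithBot ℕ∞) < WithBot.some ((n + 1 : ℕ) : ℕ∞) ↔
      (WithBot.some x : WithBot ℕ∞) ≤ WithBot.some ((n : ℕ) : ℕ∞)
    rw [WithBot.coe_lt_coe, WithBot.coe_le_coe]
    push_cast
    exact ENat.lt_natCast_add_one_iff

theorem isClosed_le_localDim {A S : Type u} [CommRing A] [CommRing S] [Algebra A S]
    [Algebra.FiniteType A S] (n : ℕ) :
    IsClosed {q : PrimeSpectrum S | (n : WithBot ℕ∞) ≤ FlatMor.localDim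
      (PrimeSpectrum.comap (algebraMap A S) ⁻¹'
      {PrimeSpectrum.comap (algebraMap A S) q}) ⟨q, rfl⟩} := by
  rcases n with _ | n
  · convert isClosed_univ
    rw [Set.eq_univ_iff_forall]
    intro q
    exact zero_le_localDim (X := PrimeSpectrum.comap (algebraMap A S) ⁻¹'
      {PrimeSpectrum.comap (algebraMap A S) q}) _
  · rw [← isOpen_compl_iff]
    convert FlatA.FibreQF.isOpen_localDim_fibre_le (R := A) (S := S) n using 1
    ext q
    simp only [Set.mem_compl_iff, Set.mem_ofPred_eq, not_le]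
    exact lt_succ_iff _ _

theorem isClosed_E (Z : Set (PrimeSpectrum (MvPolynomial (Fin N) A))) (hZ : IsClosed Z) (e : ℕ) :
    IsClosed (E Z e) := by
  obtain ⟨I, rfl⟩ := (PrimeSpectrum.isClosed_iff_zeroLocus_ideal Z).mp hZ
  let φ : MvPolynomial (Fin N) A →ₐ[A] MvPolynomial (Fin N) A ⧸ I := Ideal.Quotient.mkₐ A I
  have hφ : Function.Surjective φ := Ideal.Quotient.mk_surjective
  have hft : Algebra.FiniteType A (MvPolynomial (Fin N) A ⧸ I) :=
    Algebra.FiniteType.of_surjective φ hφ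
  have hr : Set.range (PrimeSpectrum.comap φ.toRingHom) = PrimeSpectrum.zeroLocus (I : Set _) := by
    rw [range_comap_of_surjective _ _ hφ]
    congr 2
    exact Ideal.mk_ker
  rw [← hr]
  have hE : E (Set.range (PrimeSpectrum.comap φ.toRingHom)) e =
      PrimeSpectrum.comap φ.toRingHom '' {q | ((N - e : ℕ) : WithBot ℕ∞) ≤ FlatMor.localDim
      (PrimeSpectrum.comap (algebraMap A _) ⁻¹'
      {PrimeSpectrum.comap (algebraMap A _) q}) ⟨q, rfl⟩} := by
    ext Q
    constructor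
    · intro hQ
      obtain ⟨Q', hQ'Z, hQ'le, hQ'c, hQ'd⟩ := hQ
      have hQZ : Q ∈ Set.range (PrimeSpectrum.comap φ.toRingHom) := by
        rw [hr] at hQ'Z ⊢
        exact ((PrimeSpectrum.le_iff_specializes _ _).mp hQ'le).mem_closed
          (PrimeSpectrum.isClosed_zeroLocus _) hQ'Z
      obtain ⟨q, rfl⟩ := hQZ
      exact ⟨q, (mem_E_iff φ hφ e q).mp ⟨Q', hQ'Z, hQ'le, hQ'c, hQ'd⟩, rfl⟩
    · rintro ⟨q, hq, rfl⟩
      exact (mem_E_iff φ hφ e q).mpr hq
  rw [hE]
  exact (PrimeSpectrum.isClosedEmbedding_comap_of_surjective _ φ.toRingHom hφ).isClosedMap _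
    (isClosed_le_localDim _)

end Fibre

end Groth.Agent.Ega43.FibChev
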