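import Groth.Prelude.Def_EGA4b
import Groth.Agent.Ega43.FibChev
import Groth.Agent.Ega4A.SuppTensor
import Groth.Agent.Ega4B.FibLoc
import Mathlib.RingTheory.RegularLocalRing.Polynomial

/-!
# Spectrum of the fibre local rings, regularity for polynomial rings
-/

set_option autoImplicit false
universe u

open TensorProduct EGA4

namespace Groth.Agent.Ega43.FibSpec

section Order

variable (A : Type u) {B : Type u} [CommRing A] [CommRing B] [Algebra A B]

theorem comap_le_comap_iff (q : Ideal B) [q.IsPrime] (t t' : Ideal (FibLocRing A B q)) :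
    t.comap (algebraMap B (FibLocRing A B q)) ≤ t'.comap (algebraMap B (FibLocRing A B q)) ↔
      t ≤ t' := by
  have h1 : ∀ t : Ideal (FibLocRing A B q), t.comap (algebraMap B (FibLocRing A B q)) =
      (t.comap (Ideal.Quotient.mk _)).comap (algebraMap B (Localization.AtPrime q)) := by
    intro t
    rw [Ideal.comap_comap]
    rfl
  rw [h1, h1]
  refine ((IsLocalization.orderEmbedding q.primeCompl (Localization.AtPrime q)).le_iff_le).trans ?_
  exact Ideal.comap_le_comap_iff_of_surjective _ Ideal.Quotient.mk_surjective _ _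

theorem comap_mem (q : Ideal B) [q.IsPrime] (t : Ideal (FibLocRing A B q)) [ht : t.IsPrime] :
    t.comap (algebraMap B (FibLocRing A B q)) ≤ q ∧
      (t.comap (algebraMap B (FibLocRing A B q))).comap (algebraMap A B) =
        q.comap (algebraMap A B) := by
  have h1 : t.comap (algebraMap B (FibLocRing A B q)) ≤ q := by
    intro x hx
    by_contra hxq
    have hu : IsUnit (algebraMap B (FibLocRing A B q) x) := by
      have : IsUnit (algebraMap B (Localization.AtPrime q) x) :=
        IsLocalization.map_units (Localization.AtPrime q) (⟨x, hxq⟩ : q.primeCompl)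
      exact this.map (Ideal.Quotient.mk _)
    exact ht.ne_top (t.eq_top_of_isUnit_mem hx hu)
  refine ⟨h1, le_antisymm (Ideal.comap_mono h1) ?_⟩
  intro a ha
  rw [Ideal.mem_comap, Ideal.mem_comap]
  have : algebraMap B (FibLocRing A B q) (algebraMap A B a) = 0 := by
    change Ideal.Quotient.mk _ (algebraMap B (Localization.AtPrime q) (algebraMap A B a)) = 0
    rw [Ideal.Quotient.eq_zero_iff_mem, ← IsScalarTower.algebraMap_apply]
    exact Ideal.mem_map_of_mem _ ha
  rw [this]
  exact t.zero_mem

theorem exists_comap_eq (q q' : Ideal B) [q.IsPrime] [hq' : q'.IsPrime] (hle : q' ≤ q)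
    (h : q'.comap (algebraMap A B) = q.comap (algebraMap A B)) :
    ∃ t : Ideal (FibLocRing A B q), t.IsPrime ∧
      t.comap (algebraMap B (FibLocRing A B q)) = q' := by
  have hd : Disjoint (q.primeCompl : Set B) (q' : Set B) := by
    rw [Set.disjoint_left]
    intro x hx hxq
    exact hx (hle hxq)
  have hP : (q'.map (algebraMap B (Localization.AtPrime q))).IsPrime :=
    IsLocalization.isPrime_of_isPrime_disjoint q.primeCompl _ q' hq' hd
  have hc : (q'.map (algebraMap B (Localization.AtPrime q))).comap
      (algebraMap B (Localization.AtPrime q)) = q' :=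
    IsLocalization.under_map_of_isPrime_disjoint q.primeCompl _ hq' hd
  have hJ : (q.comap (algebraMap A B)).map (algebraMap A (Localization.AtPrime q)) ≤
      q'.map (algebraMap B (Localization.AtPrime q)) := by
    rw [Ideal.map_le_iff_le_comap]
    intro a ha
    rw [Ideal.mem_comap, IsScalarTower.algebraMap_apply A B (Localization.AtPrime q)]
    refine Ideal.mem_map_of_mem _ ?_
    rw [← h] at ha
    exact ha
  refine ⟨(q'.map (algebraMap B (Localization.AtPrime q))).map (Ideal.Quotient.mk _), ?_, ?_⟩
  · refine Ideal.map_isPrime_of_surjective Ideal.Quotient.mk_surjective ?_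
    rwa [Ideal.mk_ker]
  · have h1 : ∀ t : Ideal (FibLocRing A B q), t.comap (algebraMap B (FibLocRing A B q)) =
      (t.comap (Ideal.Quotient.mk _)).comap (algebraMap B (Localization.AtPrime q)) := by
      intro t
      rw [Ideal.comap_comap]
      rfl
    rw [h1, Ideal.comap_map_mk hJ, hc]

/-- The spectrum of the fibre local ring. -/
noncomputable def orderIso (q : PrimeSpectrum B) : PrimeSpectrum (FibLocRing A B q.asIdeal) ≃o
    {q' : PrimeSpectrum B | q' ≤ q ∧ PrimeSpectrum.comap (algebraMap A B) q' =
      PrimeSpectrum.comap (algebraMap A B) q} where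
  toFun t := ⟨PrimeSpectrum.comap (algebraMap B _) t, (comap_mem A q.asIdeal t.asIdeal).1,
    PrimeSpectrum.ext (comap_mem A q.asIdeal t.asIdeal).2⟩
  invFun q' := ⟨(exists_comap_eq A q.asIdeal q'.1.asIdeal q'.2.1
    (congrArg PrimeSpectrum.asIdeal q'.2.2)).choose, (exists_comap_eq A q.asIdeal q'.1.asIdeal q'.2.1
    (congrArg PrimeSpectrum.asIdeal q'.2.2)).choose_spec.1⟩
  left_inv t := by
    apply PrimeSpectrum.ext
    have h := (exists_comap_eq A q.asIdeal (PrimeSpectrum.comap (algebraMap B _) t).asIdeal
      (comap_mem A q.asIdeal t.asIdeal).1 (comap_mem A q.asIdeal t.asIdeal).2).choose_spec.2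
    exact le_antisymm ((comap_le_comap_iff A q.asIdeal _ _).mp h.le)
      ((comap_le_comap_iff A q.asIdeal _ _).mp h.ge)
  right_inv q' := by
    apply Subtype.ext
    apply PrimeSpectrum.ext
    exact (exists_comap_eq A q.asIdeal q'.1.asIdeal q'.2.1
      (congrArg PrimeSpectrum.asIdeal q'.2.2)).choose_spec.2
  map_rel_iff' := by
    intro t t'
    exact comap_le_comap_iff A q.asIdeal _ _

theorem orderIso_apply (q : PrimeSpectrum B) (t : PrimeSpectrum (FibLocRing A B q.asIdeal)) :
    (orderIso A q t).1 = PrimeSpectrum.comap (algebraMap B _) t := rfl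

/-- The height of a prime of the fibre local ring. -/
theorem height_eq (q : PrimeSpectrum B) (t : PrimeSpectrum (FibLocRing A B q.asIdeal)) :
    ringKrullDim (FibLocRing A B (PrimeSpectrum.comap (algebraMap B _) t).asIdeal) =
      t.asIdeal.height := by
  rw [PrimeSpectrum.height_eq_orderHeight, Order.height_eq_krullDim_Iic, ringKrullDim]
  refine Order.krullDim_eq_of_orderIso ?_
  refine (orderIso A (PrimeSpectrum.comap (algebraMap B _) t)).trans ?_
  have hm := (orderIso A q t).2
  rw [orderIso_apply] at hm
  refine
    { toFun := fun x ↦ ⟨(orderIso A q).symm ⟨x.1, x.2.1.trans hm.1, x.2.2.trans hm.2⟩, ?_⟩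
      invFun := fun y ↦ ⟨(orderIso A q y.1).1, ?_, ?_⟩
      left_inv := ?_
      right_inv := ?_
      map_rel_iff' := ?_ }
  · rw [Set.mem_Iic, OrderIso.symm_apply_le]
    exact x.2.1
  · exact (orderIso A q).monotone y.2
  · exact (orderIso A q y.1).2.2.trans hm.2.symm
  · intro x
    apply Subtype.ext
    simp
  · intro y
    apply Subtype.ext
    simp
  · intro a b
    simp only [Equiv.coe_fn_mk, Subtype.mk_le_mk, OrderIso.le_iff_le]
    rfl

end Order

section Supp

variable (A : Type u) {B : Type u} [CommRing A] [CommRing B] [Algebra A B]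
  (M : Type u) [AddCommGroup M] [Module B M]

theorem isBaseChange_mkQ {R : Type u} [CommRing R] (I : Ideal R) (N : Type u) [AddCommGroup N]
    [Module R N] : IsBaseChange (R ⧸ I) ((I • (⊤ : Submodule R N)).mkQ) := by
  refine IsBaseChange.of_equiv ((TensorProduct.quotTensorEquivQuotSMul N I).extendScalarsOfSurjective
    (S := R ⧸ I) Ideal.Quotient.mk_surjective) ?_
  intro x
  exact TensorProduct.quotTensorEquivQuotSMul_mk_one_tmul I x

theorem isBaseChange_fib (q : Ideal B) [q.IsPrime] :
    IsBaseChange (FibLocRing A B q)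
      (((((q.comap (algebraMap A B)).map (algebraMap A (Localization.AtPrime q)) •
      (⊤ : Submodule (Localization.AtPrime q) (LocalizedModule q.primeCompl M))).mkQ).restrictScalars
        B).comp (LocalizedModule.mkLinearMap q.primeCompl M)) := by
  have h1 : IsBaseChange (Localization.AtPrime q) (LocalizedModule.mkLinearMap q.primeCompl M) :=
    IsLocalizedModule.isBaseChange q.primeCompl (Localization.AtPrime q) _
  exact h1.comp (isBaseChange_mkQ _ _)

theorem support_fib [Module.Finite B M] (q : Ideal B) [q.IsPrime] :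
    Module.support (FibLocRing A B q) (FibLocMod A B q M) =
      PrimeSpectrum.comap (algebraMap B (FibLocRing A B q)) ⁻¹' Module.support B M := by
  rw [← Ega4A.SuppTensor.support_baseChange]
  exact ((isBaseChange_fib A M q).equiv.support_eq).symm

end Supp

section Regular

variable {A : Type u} [CommRing A] {N : ℕ}

theorem isRegularLocalRing_fib (Q : Ideal (MvPolynomial (Fin N) A)) [Q.IsPrime] :
    IsRegularLocalRing (FibLocRing A (MvPolynomial (Fin N) A) Q) := by
  obtain ⟨q', hq', -, ⟨e⟩⟩ := Ega4B.FibLoc.exists_fibLocRing_equiv A (MvPolynomial (Fin N) A) Q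
  have h1 : IsRegularRing
      (MvPolynomial (Fin N) (Q.comap (algebraMap A (MvPolynomial (Fin N) A))).ResidueField) :=
    inferInstance
  have h2 : IsRegularRing
      ((Q.comap (algebraMap A (MvPolynomial (Fin N) A))).Fiber (MvPolynomial (Fin N) A)) :=
    IsRegularRing.of_ringEquiv (MvPolynomial.algebraTensorAlgEquiv A
      (Q.comap (algebraMap A (MvPolynomial (Fin N) A))).ResidueField).symm.toRingEquiv
  have h3 : IsRegularLocalRing (Localization.AtPrime q') := inferInstance
  exact IsRegularLocalRing.of_ringEquiv (R := Localization.AtPrime q') e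

end Regular

end Groth.Agent.Ega43.FibSpec
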