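import Groth.Prelude.Def_EGA4b
import Groth.Agent.Flat2A.LiftNilp
import Groth.Agent.Divis.FlatExt
import Groth.Agent.FlatA.FlatLocalize
import Mathlib.RingTheory.Spectrum.Prime.FreeLocus
import Mathlib.Algebra.Category.ModuleCat.ProjectiveDimension
import Mathlib.Algebra.Module.LocalizedModule.Exact
import Mathlib.RingTheory.LocalRing.Module

/-!
# Openness of `{pd of the fibre module ≤ n}` for modules flat over the base
-/

set_option autoImplicit false
universe u

open CategoryTheory TensorProduct

namespace Groth.Agent.Ega43.FibPd

section Local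

variable {A C : Type u} [CommRing A] [CommRing C] [Algebra A C]

/-- Flatness of the cokernel over `A`: `ker π ∩ J F = J ker π` for ideals `J` extended from `A`. -/
theorem mem_smul_ker (I : Ideal A) {F M : Type u} [AddCommGroup F] [Module A F] [Module C F]
    [IsScalarTower A C F] [AddCommGroup M] [Module A M] [Module C M] [IsScalarTower A C M]
    [Module.Flat A M] (π : F →ₗ[C] M) (hπ : Function.Surjective π) (x : LinearMap.ker π)
    (hx : (x : F) ∈ (I.map (algebraMap A C) • ⊤ : Submodule C F)) :
    x ∈ (I.map (algebraMap A C) • ⊤ : Submodule C (LinearMap.ker π)) := by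
  have h1 : (x : F) ∈ (I • ⊤ : Submodule A F) := by
    have := Ideal.smul_restrictScalars (R := A) (S := C) (M := F) I ⊤
    rw [Submodule.restrictScalars_top] at this
    rw [← this]
    exact hx
  have h2 := Flat2A.LiftNilp.mem_smul_ker_of_mem_smul I (π.restrictScalars A) hπ ⟨x.1, x.2⟩ h1
  have h3 := Ideal.smul_restrictScalars (R := A) (S := C) (M := LinearMap.ker π) I ⊤
  rw [Submodule.restrictScalars_top] at h3
  have h4 : x ∈ (I • ⊤ : Submodule A (LinearMap.ker π)) := h2
  rw [← h3] at h4
  exact h4

/-- If the reduction of a finitely presented module, flat over `A`, modulo an ideal extended from `A` is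
free, then the module is free. -/
theorem free_of_free_quotient [IsLocalRing C] (I : Ideal A)
    (hI : I.map (algebraMap A C) ≤ IsLocalRing.maximalIdeal C)
    (N : Type u) [AddCommGroup N] [Module A N] [Module C N] [IsScalarTower A C N]
    [Module.FinitePresentation C N] [Module.Flat A N]
    [hfree : Module.Free (C ⧸ I.map (algebraMap A C))
      (N ⧸ (I.map (algebraMap A C) • ⊤ : Submodule C N))] :
    Module.Free C N := by
  set J := I.map (algebraMap A C) with hJ
  have hnt : Nontrivial (C ⧸ J) := Ideal.Quotient.nontrivial_iff.mpr
    (fun h ↦ (IsLocalRing.maximalIdeal.isMaximal C).ne_top (top_le_iff.mp (h ▸ hI)))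
  have hfin : Module.Finite C (N ⧸ (J • ⊤ : Submodule C N)) := inferInstance
  have hfin' : Module.Finite (C ⧸ J) (N ⧸ (J • ⊤ : Submodule C N)) :=
    Module.Finite.of_restrictScalars_finite C _ _
  let b := Module.Free.chooseBasis (C ⧸ J) (N ⧸ (J • ⊤ : Submodule C N))
  choose n hn using fun i ↦ Submodule.Quotient.mk_surjective _ (b i)
  let π : (Module.Free.ChooseBasisIndex (C ⧸ J) (N ⧸ (J • ⊤ : Submodule C N)) → C) →ₗ[C] N :=
    Fintype.linearCombination C n
  have hmk : ∀ x, Submodule.Quotient.mk (p := (J • ⊤ : Submodule C N)) (π x) =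
      ∑ i, (Ideal.Quotient.mk J (x i)) • b i := by
    intro x
    simp only [π, Fintype.linearCombination_apply]
    rw [← Submodule.mkQ_apply, map_sum]
    refine Finset.sum_congr rfl fun i _ ↦ ?_
    rw [map_smul, Submodule.mkQ_apply, hn]
    rfl
  have hπ : Function.Surjective π := by
    rw [← LinearMap.range_eq_top]
    have : (⊤ : Submodule C N) ≤ LinearMap.range π ⊔ J • ⊤ := by
      intro y _
      obtain ⟨c, hc⟩ : ∃ c : _ → C ⧸ J, ∑ i, c i • b i =
          Submodule.Quotient.mk (p := (J • ⊤ : Submodule C N)) y :=
        ⟨b.repr (Submodule.Quotient.mk y), b.sum_repr _⟩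
      choose x hx using fun i ↦ Ideal.Quotient.mk_surjective (c i)
      have h : Submodule.Quotient.mk (p := (J • ⊤ : Submodule C N)) (π x) =
          Submodule.Quotient.mk y := by
        rw [hmk, ← hc]
        exact Finset.sum_congr rfl fun i _ ↦ by rw [hx]
      rw [Submodule.Quotient.eq] at h
      have : y = π x + -(π x - y) := by abel
      rw [this]
      exact Submodule.add_mem_sup (LinearMap.mem_range_self _ _) (neg_mem h)
    refine top_le_iff.mp (Submodule.le_of_le_smul_of_le_jacobson_bot (I := J)
      Module.Finite.fg_top ?_ this)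
    rw [IsLocalRing.jacobson_eq_maximalIdeal ⊥ bot_ne_top]
    exact hI
  have hker : LinearMap.ker π = ⊥ := by
    have hfg : (LinearMap.ker π).FG := Module.FinitePresentation.fg_ker π hπ
    have hle : (⊤ : Submodule C (LinearMap.ker π)) ≤ J • ⊤ := by
      intro x _
      refine mem_smul_ker I π hπ x ?_
      have h0 : ∑ i, (Ideal.Quotient.mk J (x.1 i)) • b i = 0 := by
        rw [← hmk, x.2]
        rfl
      have h1 := Fintype.linearIndependent_iff.mp b.linearIndependent _ h0
      have h2 : ∀ i, x.1 i ∈ J := fun i ↦ Ideal.Quotient.eq_zero_iff_mem.mp (h1 i)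
      rw [pi_eq_sum_univ' x.1]
      refine Submodule.sum_mem _ fun i _ ↦ ?_
      exact Submodule.smul_mem_smul (h2 i) trivial
    have hfin2 : Module.Finite C (LinearMap.ker π) := Module.Finite.iff_fg.mpr hfg
    have hbot : (⊤ : Submodule C (LinearMap.ker π)) = ⊥ :=
      Submodule.eq_bot_of_le_smul_of_le_jacobson_bot J ⊤ Module.Finite.fg_top hle (by
        rw [IsLocalRing.jacobson_eq_maximalIdeal ⊥ bot_ne_top]
        exact hI)
    rw [eq_bot_iff]
    intro x hx
    have : (⟨x, hx⟩ : LinearMap.ker π) ∈ (⊤ : Submodule C (LinearMap.ker π)) := trivial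
    rw [hbot, Submodule.mem_bot] at this
    exact congrArg Subtype.val this
  exact Module.Free.of_equiv (LinearEquiv.ofBijective π ⟨LinearMap.ker_eq_bot.mp hker, hπ⟩)

end Local

section Exact

variable {A C : Type u} [CommRing A] [CommRing C] [Algebra A C]
  {K F M : Type u} [AddCommGroup K] [Module C K] [AddCommGroup F] [Module A F] [Module C F]
  [IsScalarTower A C F] [AddCommGroup M] [Module A M] [Module C M] [IsScalarTower A C M]

theorem reduce_injective (I : Ideal A) [Module.Flat A M] (ι : K →ₗ[C] F) (π : F →ₗ[C] M)
    (hι : Function.Injective ι) (hex : Function.Exact ι π) (hπ : Function.Surjective π) :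
    Function.Injective (ι.reduceModIdeal (I.map (algebraMap A C))) := by
  rw [injective_iff_map_eq_zero]
  intro x hx
  obtain ⟨k, rfl⟩ := Submodule.Quotient.mk_surjective _ x
  rw [LinearMap.reduceModIdeal_apply, Submodule.Quotient.mk_eq_zero] at hx
  rw [Submodule.Quotient.mk_eq_zero]
  let e : K ≃ₗ[C] LinearMap.ker π := LinearEquiv.ofBijective
    (ι.codRestrict _ (fun k ↦ hex.apply_apply_eq_zero k))
    ⟨fun a b h ↦ hι (congrArg Subtype.val h), fun ⟨y, hy⟩ ↦ by
      obtain ⟨z, hz⟩ := (hex y).mp hy
      exact ⟨z, Subtype.ext hz⟩⟩
  have h1 : e k ∈ (I.map (algebraMap A C) • ⊤ : Submodule C (LinearMap.ker π)) :=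
    mem_smul_ker I π hπ (e k) hx
  have h2 : e.symm (e k) ∈ ((I.map (algebraMap A C) • ⊤ : Submodule C (LinearMap.ker π)).map
      e.symm.toLinearMap) := Submodule.mem_map_of_mem h1
  rw [Submodule.map_smul'', e.symm_apply_apply] at h2
  exact Submodule.smul_mono le_rfl le_top h2

theorem reduce_exact (J : Ideal C) {M' : Type u} [AddCommGroup M'] [Module C M']
    {F' : Type u} [AddCommGroup F'] [Module C F'] (ι : K →ₗ[C] F') (π : F' →ₗ[C] M')
    (hex : Function.Exact ι π) (hπ : Function.Surjective π) :
    Function.Exact (ι.reduceModIdeal J) (π.reduceModIdeal J) := by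
  intro y
  obtain ⟨y, rfl⟩ := Submodule.Quotient.mk_surjective _ y
  constructor
  · intro h
    rw [LinearMap.reduceModIdeal_apply, Submodule.Quotient.mk_eq_zero] at h
    have h1 : (J • ⊤ : Submodule C M') = (J • ⊤ : Submodule C F').map π := by
      rw [Submodule.map_smul'', Submodule.map_top, LinearMap.range_eq_top.mpr hπ]
    rw [h1] at h
    obtain ⟨z, hz, hzy⟩ := h
    obtain ⟨k, hk⟩ := (hex (y - z)).mp (by rw [map_sub, hzy, sub_self])
    refine ⟨Submodule.Quotient.mk k, ?_⟩
    rw [LinearMap.reduceModIdeal_apply, hk, Submodule.Quotient.eq]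
    have : y - z - y = -z := by abel
    rw [this]
    exact neg_mem hz
  · rintro ⟨x, hx⟩
    obtain ⟨x, rfl⟩ := Submodule.Quotient.mk_surjective _ x
    rw [← hx, LinearMap.reduceModIdeal_apply, LinearMap.reduceModIdeal_apply,
      hex.apply_apply_eq_zero]
    rfl

theorem reduce_surjective (J : Ideal C) {M' : Type u} [AddCommGroup M'] [Module C M']
    {F' : Type u} [AddCommGroup F'] [Module C F'] (π : F' →ₗ[C] M')
    (hπ : Function.Surjective π) : Function.Surjective (π.reduceModIdeal J) := by
  intro y
  obtain ⟨y, rfl⟩ := Submodule.Quotient.mk_surjective _ y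
  obtain ⟨x, rfl⟩ := hπ y
  exact ⟨Submodule.Quotient.mk x, rfl⟩

theorem free_reduce (J : Ideal C) (N : Type u) [AddCommGroup N] [Module C N] [Module.Free C N] :
    Module.Free (C ⧸ J) (N ⧸ (J • ⊤ : Submodule C N)) := by
  let e := (TensorProduct.quotTensorEquivQuotSMul N J).extendScalarsOfSurjective (S := C ⧸ J)
    Ideal.Quotient.mk_surjective
  exact Module.Free.of_equiv e

end Exact

section Open

open EGA4

variable (A P : Type u) [CommRing A] [CommRing P] [Algebra A P]

/-- Kernels of surjections from finite free modules onto finitely presented `A`-flat `P`-modules are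
finitely presented. -/
def KerFP : Prop :=
  ∀ (M : Type u) [AddCommGroup M] [Module A M] [Module P M] [IsScalarTower A P M]
    [Module.FinitePresentation P M] [Module.Flat A M] (m : ℕ) (f : (Fin m → P) →ₗ[P] M),
    Function.Surjective f → Module.FinitePresentation P (LinearMap.ker f)

theorem isOpen_pd [Module.Flat A P] (hK : KerFP A P) (n : ℕ) :
    ∀ (M : Type u) [AddCommGroup M] [Module A M] [Module P M] [IsScalarTower A P M]
      [Module.FinitePresentation P M] [Module.Flat A M],
      IsOpen {Q : PrimeSpectrum P | HasProjectiveDimensionLE (ModuleCat.of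
        (FibLocRing A P Q.asIdeal) (FibLocMod A P Q.asIdeal M)) n} := by
  induction n with
  | zero =>
    intro M _ _ _ _ _ _
    have : {Q : PrimeSpectrum P | HasProjectiveDimensionLE (ModuleCat.of
        (FibLocRing A P Q.asIdeal) (FibLocMod A P Q.asIdeal M)) 0} = Module.freeLocus P M := by
      ext Q
      rw [Set.mem_ofPred_eq, Module.mem_freeLocus]
      simp only [HasProjectiveDimensionLE, zero_add]
      rw [← projective_iff_hasProjectiveDimensionLT_one, ← IsProjective.iff_projective]
      set q := Q.asIdeal
      set C := Localization.AtPrime q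
      have hle : (q.comap (algebraMap A P)).map (algebraMap A C) ≤ IsLocalRing.maximalIdeal C := by
        rw [Ideal.map_le_iff_le_comap]
        intro a ha
        rw [Ideal.mem_comap, IsScalarTower.algebraMap_apply A P C]
        exact (IsLocalization.AtPrime.to_map_mem_maximal_iff C q _).mpr ha
      have hnt : Nontrivial (C ⧸ (q.comap (algebraMap A P)).map (algebraMap A C)) :=
        Ideal.Quotient.nontrivial_iff.mpr
          (fun h ↦ (IsLocalRing.maximalIdeal.isMaximal C).ne_top (top_le_iff.mp (h ▸ hle)))
      have hfl : Module.Flat A (LocalizedModule q.primeCompl M) :=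
        FlatA.FlatLocalize.flat_of_isLocalizedModule_tower q.primeCompl
          (LocalizedModule.mkLinearMap q.primeCompl M)
      constructor
      · intro h
        have hloc : IsLocalRing (C ⧸ (q.comap (algebraMap A P)).map (algebraMap A C)) :=
          IsLocalRing.of_surjective' _ Ideal.Quotient.mk_surjective
        have hfree : Module.Free (C ⧸ (q.comap (algebraMap A P)).map (algebraMap A C))
            (LocalizedModule q.primeCompl M ⧸ ((q.comap (algebraMap A P)).map (algebraMap A C) •
              (⊤ : Submodule C (LocalizedModule q.primeCompl M)))) := by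
          have : Module.Finite (C ⧸ (q.comap (algebraMap A P)).map (algebraMap A C))
            (LocalizedModule q.primeCompl M ⧸ ((q.comap (algebraMap A P)).map (algebraMap A C) •
              (⊤ : Submodule C (LocalizedModule q.primeCompl M)))) :=
            Module.Finite.of_restrictScalars_finite C _ _
          exact Module.free_of_flat_of_isLocalRing
        exact free_of_free_quotient (q.comap (algebraMap A P)) hle _
      · intro h
        have := free_reduce ((q.comap (algebraMap A P)).map (algebraMap A C))
          (LocalizedModule q.primeCompl M)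
        infer_instance
    rw [this]
    exact Module.isOpen_freeLocus
  | succ n ih =>
    intro M _ _ _ _ _ _
    obtain ⟨m, f, hf⟩ := Module.Finite.exists_fin' P M
    have := hK M m f hf
    have hflk : Module.Flat A (LinearMap.ker f) := by
      have : Module.Flat A (Fin m → P) :=
        Module.Flat.trans A P (Fin m → P)
      exact Divis.FlatExt.flat_of_exact_left (f := (LinearMap.ker f).subtype.restrictScalars A)
        (g := f.restrictScalars A) (Submodule.injective_subtype _)
        (LinearMap.exact_subtype_ker_map f) hf
    have := ih (LinearMap.ker f)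
    convert this using 1
    ext Q
    simp only [Set.mem_ofPred_eq]
    set q := Q.asIdeal
    set S := q.primeCompl
    set C := Localization.AtPrime q
    set J := (q.comap (algebraMap A P)).map (algebraMap A C)
    have hex : Function.Exact (LinearMap.ker f).subtype f := LinearMap.exact_subtype_ker_map f
    have hex' : Function.Exact (LocalizedModule.map S (LinearMap.ker f).subtype)
        (LocalizedModule.map S f) := LocalizedModule.map_exact S _ _ hex
    have hinj : Function.Injective (LocalizedModule.map S (LinearMap.ker f).subtype) :=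
      LocalizedModule.map_injective S (LinearMap.ker f).subtype (Submodule.injective_subtype _)
    have hsurj : Function.Surjective (LocalizedModule.map S f) :=
      LocalizedModule.map_surjective S f hf
    have hfl : Module.Flat A (LocalizedModule q.primeCompl M) :=
      FlatA.FlatLocalize.flat_of_isLocalizedModule_tower q.primeCompl
        (LocalizedModule.mkLinearMap q.primeCompl M)
    let g1 : ModuleCat.of (FibLocRing A P q) (FibLocMod A P q (LinearMap.ker f)) ⟶
        ModuleCat.of (FibLocRing A P q) (FibLocMod A P q (Fin m → P)) :=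
      ModuleCat.ofHom ((LocalizedModule.map S (LinearMap.ker f).subtype).reduceModIdeal J)
    let g2 : ModuleCat.of (FibLocRing A P q) (FibLocMod A P q (Fin m → P)) ⟶
        ModuleCat.of (FibLocRing A P q) (FibLocMod A P q M) :=
      ModuleCat.ofHom ((LocalizedModule.map S f).reduceModIdeal J)
    let l1 : LocalizedModule S (LinearMap.ker f) →ₗ[C] LocalizedModule S (Fin m → P) :=
      LocalizedModule.map S (LinearMap.ker f).subtype
    let l2 : LocalizedModule S (Fin m → P) →ₗ[C] LocalizedModule S M := LocalizedModule.map S f
    have hex2 := reduce_exact (C := C) (K := LocalizedModule S (LinearMap.ker f))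
      (F' := LocalizedModule S (Fin m → P)) (M' := LocalizedModule S M) J l1 l2 hex' hsurj
    have hinj2 := reduce_injective (A := A) (C := C) (K := LocalizedModule S (LinearMap.ker f))
      (F := LocalizedModule S (Fin m → P)) (M := LocalizedModule S M)
      (q.comap (algebraMap A P)) l1 l2 hinj hex' hsurj
    have hsurj2 := reduce_surjective J _ hsurj
    have hz : g1 ≫ g2 = 0 := by
      apply ModuleCat.hom_ext
      apply LinearMap.ext
      intro x
      exact hex2.apply_apply_eq_zero x
    let T : ShortComplex (ModuleCat.{u} (FibLocRing A P q)) :=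
      ShortComplex.mk g1 g2 hz
    have hT : T.ShortExact := by
      refine ShortComplex.ShortExact.mk' ?_ ?_ ?_
      · rw [CategoryTheory.ShortComplex.ShortExact.moduleCat_exact_iff_function_exact]
        exact hex2
      · rw [ModuleCat.mono_iff_injective]
        exact hinj2
      · rw [ModuleCat.epi_iff_surjective]
        exact hsurj2
    have hproj : Projective T.X₂ := by
      rw [← IsProjective.iff_projective]
      have h1 : Module.Free C (LocalizedModule S (Fin m → P)) :=
        Module.free_of_isLocalizedModule S (LocalizedModule.mkLinearMap S (Fin m → P))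
      have := free_reduce J (LocalizedModule S (Fin m → P))
      infer_instance
    exact hT.hasProjectiveDimensionLT_X₃_iff n hproj

end Open

end Groth.Agent.Ega43.FibPd
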