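import Groth.Agent.FlatA.ModelFlat
import Groth.Agent.Etbase.FlatStageModule
import Groth.Agent.Divis.FlatExt
import Groth.Agent.Ega43.FibPd

/-!
# Finitely presented flat modules: global Noetherian models and finitely presented syzygies

* `exists_model_flat_global`: a finitely presented module over a finitely presented algebra, flat over
  the base, comes from a flat one over a finitely generated subring.
* `kerFP`: the kernel of a surjection from a finite free module onto such a module is finitely
  presented.
-/

set_option autoImplicit false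
universe u

open TensorProduct

namespace Groth.Agent.Ega43.FlatKer

open Groth.Agent.FlatA.ModelFlat Groth.Agent.FlatA.FlatDescent Groth.Agent.FlatA.Model

theorem exists_model_flat_global {R S M : Type u} [CommRing R] [CommRing S] [Algebra R S]
    [Algebra.FinitePresentation R S] [AddCommGroup M] [Module S M] [Module R M]
    [IsScalarTower R S M] [Module.FinitePresentation S M] [Module.Flat R M] :
    ∃ (R₀ : Subalgebra ℤ R) (S₀ M₀ : Type u) (_ : CommRing S₀) (_ : Algebra R₀ S₀)
      (_ : Algebra S₀ S) (_ : IsScalarTower R₀ S₀ S) (_ : AddCommGroup M₀) (_ : Module S₀ M₀)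
      (_ : Module R₀ M₀) (_ : IsScalarTower R₀ S₀ M₀) (_ : Module S₀ M) (_ : IsScalarTower S₀ S M)
      (g : M₀ →ₗ[S₀] M),
      R₀.FG ∧ Algebra.IsPushout R₀ R S₀ S ∧
      Algebra.FinitePresentation R₀ S₀ ∧
      Module.FinitePresentation S₀ M₀ ∧ IsBaseChange S g ∧
      Module.Flat R₀ M₀ := by
  obtain ⟨A, B, N, _, _, _, _, _, _, _, _, _, _, g, hA, hT, hpush, hB, hT', hN, hg⟩ :=
    exists_model (R := R) (S := S) (M := M) ∅ ∅
  have : Algebra.FiniteType ℤ A := A.fg_iff_finiteType.mp hA
  have : IsNoetherianRing A := Algebra.FiniteType.isNoetherianRing ℤ A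
  have : IsScalarTower A R M := inferInstance
  have : IsScalarTower A B M := by
    refine IsScalarTower.of_algebraMap_smul fun r x ↦ ?_
    rw [← algebraMap_smul S (algebraMap A B r) x, ← IsScalarTower.algebraMap_apply A B S,
      IsScalarTower.algebraMap_apply A R S, algebraMap_smul, algebraMap_smul]
  have hbc : IsBaseChange R (g.restrictScalars A) := isBaseChange_restrictScalars (R := R) g hg
  have hfl : Module.Flat R (R ⊗[A] N) := Module.Flat.of_linearEquiv hbc.equiv
  obtain ⟨s, hs⟩ := Etbase.FlatStageModule.exists_flat_stage (A₀ := A) (A := R) B N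
  set A₁ := Algebra.adjoin A (s : Set R) with hA₁d
  have hA₁ : A₁.FG := ⟨s, rfl⟩
  obtain ⟨B₁, N₁, _, _, _, _, _, _, _, _, _, _, _, _, _, _, _, _, g₁, hg₁⟩ :=
    exists_level_model (A := A) (B := B) (N := N) (R := R) (S := S) A₁
  let _ : Module A N₁ := Module.compHom N₁ (algebraMap A A₁)
  have _ : IsScalarTower A A₁ N₁ := IsScalarTower.of_algebraMap_smul fun _ _ ↦ rfl
  have _ : IsScalarTower A B N₁ := by
    refine IsScalarTower.of_algebraMap_smul fun r x ↦ ?_
    rw [← algebraMap_smul B₁ (algebraMap A B r) x, ← IsScalarTower.algebraMap_apply A B B₁,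
      IsScalarTower.algebraMap_apply A A₁ B₁, algebraMap_smul, algebraMap_smul]
  have hbc₁ : IsBaseChange A₁ (g₁.restrictScalars A) := isBaseChange_restrictScalars (R := A₁) g₁ hg₁
  have hflat : Module.Flat A₁ N₁ := Module.Flat.of_linearEquiv hbc₁.equiv.symm
  obtain ⟨_, _, h₁, hh₁, -⟩ := exists_top_map (A := A) g hg g₁ hg₁
  have _ : IsScalarTower A B₁ S := IsScalarTower.of_algebraMap_eq fun x ↦ by
    rw [IsScalarTower.algebraMap_apply A B B₁, ← IsScalarTower.algebraMap_apply B B₁ S,
      ← IsScalarTower.algebraMap_apply A B S]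
  have i1 : Algebra.IsPushout A₁ R B₁ S :=
    (Algebra.IsPushout.comp_iff (R := A) (S := A₁) (R' := B) (S' := B₁) (T := R)
      (T' := S)).mp hpush
  have i2 : Algebra.FinitePresentation A₁ B₁ := finitePresentation_of_isPushout (A := A) (B := B)
  have i3 : Module.FinitePresentation B₁ N₁ :=
    FinitePresentation.of_isBaseChange g₁ hg₁
  let R₁ : Subalgebra ℤ R := A₁.restrictScalars ℤ
  let _ : Algebra R₁ B₁ := ‹Algebra A₁ B₁›
  have _ : IsScalarTower R₁ B₁ S := ‹IsScalarTower A₁ B₁ S›
  let _ : Module R₁ N₁ := ‹Module A₁ N₁›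
  have _ : IsScalarTower R₁ B₁ N₁ := ‹IsScalarTower A₁ B₁ N₁›
  refine ⟨R₁, B₁, N₁, inferInstance, inferInstance, inferInstance, inferInstance,
    inferInstance, inferInstance, inferInstance, inferInstance, inferInstance, inferInstance,
    h₁, ?_, i1, i2, i3, hh₁, hflat⟩
  have : Algebra.FiniteType A A₁ := A₁.fg_iff_finiteType.mp hA₁
  have : Algebra.FiniteType ℤ A₁ := Algebra.FiniteType.trans (S := A) inferInstance inferInstance
  exact R₁.fg_iff_finiteType.mpr this

/-- A presentation with finitely presented kernel can be exchanged for any other one. -/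
theorem ker_finitePresentation_of_exists {P M : Type u} [CommRing P] [AddCommGroup M] [Module P M]
    {F F' : Type u} [AddCommGroup F] [Module P F] [Module.Finite P F] [Module.Projective P F]
    [AddCommGroup F'] [Module P F'] [Module.Finite P F'] [Module.Projective P F']
    (π : F →ₗ[P] M) (hπ : Function.Surjective π) (π' : F' →ₗ[P] M) (hπ' : Function.Surjective π')
    [Module.FinitePresentation P (LinearMap.ker π')] :
    Module.FinitePresentation P (LinearMap.ker π) := by
  obtain ⟨l, hl⟩ := Module.projective_lifting_property π' π hπ'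
  obtain ⟨l', hl'⟩ := Module.projective_lifting_property π π' hπ
  have hl1 : ∀ x, π' (l x) = π x := fun x ↦ DFunLike.congr_fun hl x
  have hl1' : ∀ x, π (l' x) = π' x := fun x ↦ DFunLike.congr_fun hl' x
  let φ : (LinearMap.ker π' × F) →ₗ[P] LinearMap.ker π :=
    LinearMap.codRestrict _ ((l' ∘ₗ (LinearMap.ker π').subtype ∘ₗ LinearMap.fst P _ _) +
      (LinearMap.id - l' ∘ₗ l) ∘ₗ LinearMap.snd P _ _) (by
        intro x
        simp only [LinearMap.add_apply, LinearMap.comp_apply, LinearMap.sub_apply,
          LinearMap.id_apply, LinearMap.fst_apply, LinearMap.snd_apply, Submodule.subtype_apply,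
          LinearMap.mem_ker, map_add, map_sub, hl1, hl1', sub_self, add_zero]
        exact x.1.2)
  have hφ : ∀ x, (φ x : F) = l' x.1 + (x.2 - l' (l x.2)) := fun x ↦ rfl
  have hsurj : Function.Surjective φ := by
    intro k
    refine ⟨(⟨l k, by rw [LinearMap.mem_ker, hl1, k.2]⟩, k), ?_⟩
    apply Subtype.ext
    rw [hφ]
    simp
  have hker : (LinearMap.ker φ).FG := by
    let ψ : F' →ₗ[P] (LinearMap.ker π' × F) :=
      LinearMap.prod (LinearMap.codRestrict _ (l ∘ₗ l' - LinearMap.id) (by
        intro y
        simp only [LinearMap.sub_apply, LinearMap.comp_apply, LinearMap.id_apply,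
          LinearMap.mem_ker, map_sub, hl1, hl1', sub_self])) l'
    have : LinearMap.ker φ = LinearMap.range ψ := by
      ext x
      rw [LinearMap.mem_ker, LinearMap.mem_range]
      constructor
      · intro hx
        have hx' : l' x.1 + (x.2 - l' (l x.2)) = 0 := by rw [← hφ, hx]; rfl
        have h2 : l' (l x.2 - x.1) = x.2 := by
          rw [map_sub]
          have : x.2 = l' (l x.2) - l' x.1 + (l' x.1 + (x.2 - l' (l x.2))) := by abel
          rw [hx', add_zero] at this
          exact this.symm
        refine ⟨l x.2 - x.1, ?_⟩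
        refine Prod.ext (Subtype.ext ?_) h2
        change l (l' (l x.2 - x.1)) - (l x.2 - x.1) = x.1
        rw [h2]
        abel
      · rintro ⟨y, rfl⟩
        apply Subtype.ext
        rw [hφ]
        change l' (l (l' y) - y) + (l' y - l' (l (l' y))) = 0
        rw [map_sub]
        abel
    rw [this, LinearMap.range_eq_map]
    exact Module.Finite.fg_top.map ψ
  have : Module.FinitePresentation P F := Module.finitePresentation_of_projective P F
  exact Module.finitePresentation_of_surjective φ hsurj hker

/-- Base change of an exact sequence with flat cokernel over the bottom of a pushout square. -/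
theorem lTensor_injective {R₀ R S₀ S : Type u} [CommRing R₀] [CommRing R] [CommRing S₀] [CommRing S]
    [Algebra R₀ R] [Algebra R₀ S₀] [Algebra R S] [Algebra S₀ S] [Algebra R₀ S]
    [IsScalarTower R₀ S₀ S] [IsScalarTower R₀ R S] [Algebra.IsPushout R₀ R S₀ S]
    {K F M : Type u} [AddCommGroup K] [AddCommGroup F] [AddCommGroup M]
    [Module S₀ K] [Module S₀ F] [Module S₀ M] [Module R₀ K] [Module R₀ F] [Module R₀ M]
    [IsScalarTower R₀ S₀ K] [IsScalarTower R₀ S₀ F] [IsScalarTower R₀ S₀ M]
    [Module.Flat R₀ M] (ι : K →ₗ[S₀] F) (π : F →ₗ[S₀] M) (hι : Function.Injective ι)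
    (hex : Function.Exact ι π) (hπ : Function.Surjective π) :
    Function.Injective (ι.lTensor S) := by
  have h1 : Function.Injective ((ι.restrictScalars R₀).lTensor R) :=
    Divis.FlatExt.lTensor_injective_of_flat (f := ι.restrictScalars R₀)
      (g := π.restrictScalars R₀) hι hex hπ R
  let eK := Algebra.IsPushout.cancelBaseChange R₀ R S₀ S K
  let eF := Algebra.IsPushout.cancelBaseChange R₀ R S₀ S F
  have h2 : ∀ x, ι.lTensor S (eK.symm x) = eF.symm ((ι.restrictScalars R₀).lTensor R x) := by
    intro x
    induction x using TensorProduct.induction_on with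
    | zero => simp
    | add x y hx hy => simp only [map_add, hx, hy]
    | tmul a k =>
      rw [Algebra.IsPushout.cancelBaseChange_symm_tmul, LinearMap.lTensor_tmul,
        LinearMap.lTensor_tmul, Algebra.IsPushout.cancelBaseChange_symm_tmul]
      rfl
  intro x y hxy
  have h3 := h2 (eK x)
  have h4 := h2 (eK y)
  rw [LinearEquiv.symm_apply_apply] at h3 h4
  rw [h3, h4] at hxy
  exact eK.injective (h1 (eF.symm.injective hxy))

/-- Kernels of surjections from finite free modules to finitely presented modules which are flat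
over the base are finitely presented. -/
theorem kerFP (R S : Type u) [CommRing R] [CommRing S] [Algebra R S]
    [Algebra.FinitePresentation R S] : FibPd.KerFP R S := by
  intro M _ _ _ _ _ _ m f hf
  obtain ⟨R₀, S₀, M₀, _, _, _, _, _, _, _, _, _, _, g, hR₀, hpush, hS₀, hM₀, hg, hflat⟩ :=
    exists_model_flat_global (R := R) (S := S) (M := M)
  have : Algebra.FiniteType ℤ R₀ := R₀.fg_iff_finiteType.mp hR₀
  have : IsNoetherianRing R₀ := Algebra.FiniteType.isNoetherianRing ℤ R₀
  have : IsNoetherianRing S₀ := Algebra.FiniteType.isNoetherianRing R₀ S₀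
  obtain ⟨r, π₀, hπ₀⟩ := Module.Finite.exists_fin' S₀ M₀
  have hfp : Module.FinitePresentation S₀ (LinearMap.ker π₀) := Module.finitePresentation_of_finite _ _
  let π' : (S ⊗[S₀] (Fin r → S₀)) →ₗ[S] M := hg.equiv.toLinearMap ∘ₗ π₀.baseChange S
  have hπ' : Function.Surjective π' :=
    hg.equiv.surjective.comp (LinearMap.lTensor_surjective S hπ₀)
  have hexS : Function.Exact ((LinearMap.ker π₀).subtype.lTensor S) (π₀.lTensor S) :=
    lTensor_exact S (LinearMap.exact_subtype_ker_map π₀) hπ₀
  have hinj : Function.Injective ((LinearMap.ker π₀).subtype.lTensor S) :=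
    lTensor_injective (R₀ := R₀) (R := R) (LinearMap.ker π₀).subtype π₀
      (Submodule.injective_subtype _) (LinearMap.exact_subtype_ker_map π₀) hπ₀
  let e : (S ⊗[S₀] LinearMap.ker π₀) ≃ₗ[S] LinearMap.ker π' := by
    refine LinearEquiv.ofBijective (((LinearMap.ker π₀).subtype.baseChange S).codRestrict _ ?_)
      ⟨?_, ?_⟩
    · intro x
      rw [LinearMap.mem_ker]
      change hg.equiv (π₀.lTensor S ((LinearMap.ker π₀).subtype.lTensor S x)) = 0
      rw [hexS.apply_apply_eq_zero, map_zero]
    · intro x y hxy
      exact hinj (congrArg Subtype.val hxy)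
    · rintro ⟨y, hy⟩
      rw [LinearMap.mem_ker] at hy
      have hy' : π₀.lTensor S y = 0 := hg.equiv.injective (by rw [map_zero]; exact hy)
      obtain ⟨x, hx⟩ := (hexS y).mp hy'
      exact ⟨x, Subtype.ext hx⟩
  have hfp' : Module.FinitePresentation S (S ⊗[S₀] LinearMap.ker π₀) := inferInstance
  have : Module.FinitePresentation S (LinearMap.ker π') :=
    Module.FinitePresentation.of_equiv (R := S) (M := S ⊗[S₀] LinearMap.ker π₀)
      (N := LinearMap.ker π') e
  exact ker_finitePresentation_of_exists f hf π' hπ'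

end Groth.Agent.Ega43.FlatKer
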