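import Mathlib.RingTheory.Regular.RegularSequence
import Mathlib.RingTheory.Localization.BaseChange
import Mathlib.RingTheory.LocalRing.ResidueField.Ideal
import Mathlib.RingTheory.IsTensorProduct
import Mathlib.LinearAlgebra.Basis.VectorSpace

/-!
Descent of fibrewise regularity along a base change of the base ring.
-/

set_option autoImplicit false
set_option linter.unusedSectionVars false

open RingTheory.Sequence TensorProduct Function

namespace Groth.Agent.Ega43.FibReg

section Crit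

variable {B N L : Type*} [CommRing B] [AddCommGroup N] [Module B N] [AddCommGroup L] [Module B L]
  (T : Submonoid B) (f : N →ₗ[B] L) [IsLocalizedModule T f]

theorem mem_smul_top_iff (I : Ideal B) (n : N) :
    f n ∈ (I • ⊤ : Submodule B L) ↔ ∃ s ∈ T, s • n ∈ (I • ⊤ : Submodule B N) := by
  constructor
  · intro h
    have key : ∀ z ∈ (I • ⊤ : Submodule B L), ∃ m ∈ (I • ⊤ : Submodule B N), ∃ s ∈ T,
        s • z = f m := by
      intro z hz
      refine Submodule.smul_induction_on hz ?_ ?_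
      · intro r hr x _
        obtain ⟨⟨m, s⟩, hm⟩ := IsLocalizedModule.surj T f x
        refine ⟨r • m, Submodule.smul_mem_smul hr trivial, s, s.2, ?_⟩
        rw [smul_comm, map_smul, ← hm]
        rfl
      · rintro x y ⟨m, hm, s, hs, h1⟩ ⟨m', hm', s', hs', h2⟩
        refine ⟨s' • m + s • m', add_mem (Submodule.smul_mem _ _ hm) (Submodule.smul_mem _ _ hm'),
          s * s', T.mul_mem hs hs', ?_⟩
        rw [map_add, map_smul, map_smul, ← h1, ← h2, smul_add, smul_smul, smul_smul, mul_comm s' s]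
    obtain ⟨m, hm, s, hs, h1⟩ := key _ h
    rw [← map_smul] at h1
    obtain ⟨u, hu⟩ := (IsLocalizedModule.eq_iff_exists T f).1 h1
    refine ⟨u * s, T.mul_mem u.2 hs, ?_⟩
    rw [mul_smul]
    have hu' : (u : B) • s • n = (u : B) • m := hu
    rw [hu']
    exact Submodule.smul_mem _ _ hm
  · rintro ⟨s, hs, h⟩
    have key : ∀ m ∈ (I • ⊤ : Submodule B N), f m ∈ (I • ⊤ : Submodule B L) := by
      intro m hm
      have : f m ∈ Submodule.map f (I • ⊤ : Submodule B N) := ⟨m, hm, rfl⟩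
      rw [Submodule.map_smul''] at this
      exact Submodule.smul_mono le_rfl le_top this
    have h1 := key _ h
    -- divide by `s`
    have hdiv : ∀ z ∈ (I • ⊤ : Submodule B L), ∃ w ∈ (I • ⊤ : Submodule B L), s • w = z := by
      intro z hz
      refine Submodule.smul_induction_on hz ?_ ?_
      · intro r hr x _
        obtain ⟨y, hy⟩ := (IsLocalizedModule.map_units (S := T) f ⟨s, hs⟩)
          |> (Module.End.isUnit_iff _).1 |>.2 x
        refine ⟨r • y, Submodule.smul_mem_smul hr trivial, ?_⟩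
        rw [smul_comm]
        exact congrArg _ hy
      · rintro x y ⟨w, hw, rfl⟩ ⟨w', hw', rfl⟩
        exact ⟨w + w', add_mem hw hw', smul_add _ _ _⟩
    obtain ⟨w, hw, hw'⟩ := hdiv _ h1
    have : w = f n := by
      have h2 := (IsLocalizedModule.map_units (S := T) f ⟨s, hs⟩) |> (Module.End.isUnit_iff _).1 |>.1
      apply h2
      show s • w = s • f n
      rw [hw', map_smul]
    rwa [← this]

include f in
theorem isWeaklyRegular_iff (fs : List B) :
    IsWeaklyRegular L fs ↔ ∀ (i : ℕ) (hi : i < fs.length) (n : N),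
      fs[i] • n ∈ (Ideal.ofList (fs.take i) • ⊤ : Submodule B N) →
        ∃ s ∈ T, s • n ∈ (Ideal.ofList (fs.take i) • ⊤ : Submodule B N) := by
  rw [RingTheory.Sequence.isWeaklyRegular_iff]
  refine forall_congr' fun i => forall_congr' fun hi => ?_
  rw [isSMulRegular_iff_right_eq_zero_of_smul]
  constructor
  · intro h n hn
    rw [← mem_smul_top_iff T f, ← Submodule.Quotient.mk_eq_zero]
    apply h
    rw [← Submodule.Quotient.mk_smul, Submodule.Quotient.mk_eq_zero, ← map_smul,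
      mem_smul_top_iff T f]
    exact ⟨1, T.one_mem, by rwa [one_smul]⟩
  · intro h x hx
    obtain ⟨x, rfl⟩ := Submodule.Quotient.mk_surjective _ x
    rw [← Submodule.Quotient.mk_smul, Submodule.Quotient.mk_eq_zero] at hx
    rw [Submodule.Quotient.mk_eq_zero]
    obtain ⟨⟨m, s⟩, hm⟩ := IsLocalizedModule.surj T f x
    have hm' : (s : B) • x = f m := hm
    have h1 : f (fs[i] • m) ∈ (Ideal.ofList (fs.take i) • ⊤ : Submodule B L) := by
      rw [map_smul, ← hm', smul_comm]
      exact Submodule.smul_mem _ _ hx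
    rw [mem_smul_top_iff T f] at h1
    obtain ⟨s', hs', h2⟩ := h1
    rw [smul_comm] at h2
    obtain ⟨s'', hs'', h3⟩ := h _ h2
    have h4 : f m ∈ (Ideal.ofList (fs.take i) • ⊤ : Submodule B L) :=
      (mem_smul_top_iff T f _ _).2 ⟨s'' * s', T.mul_mem hs'' hs', by rwa [mul_smul]⟩
    -- divide by `s`
    obtain ⟨⟨m', s₁⟩, hm₁⟩ := IsLocalizedModule.surj T f x
    rw [← hm'] at h4
    -- `s` is invertible on `L`
    have hdiv : ∀ z ∈ (Ideal.ofList (fs.take i) • ⊤ : Submodule B L),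
        ∃ w ∈ (Ideal.ofList (fs.take i) • ⊤ : Submodule B L), (s : B) • w = z := by
      intro z hz
      refine Submodule.smul_induction_on hz ?_ ?_
      · intro r hr x _
        obtain ⟨y, hy⟩ := (IsLocalizedModule.map_units (S := T) f s)
          |> (Module.End.isUnit_iff _).1 |>.2 x
        refine ⟨r • y, Submodule.smul_mem_smul hr trivial, ?_⟩
        rw [smul_comm]
        exact congrArg _ hy
      · rintro x y ⟨w, hw, rfl⟩ ⟨w', hw', rfl⟩
        exact ⟨w + w', add_mem hw hw', smul_add _ _ _⟩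
    obtain ⟨w, hw, hw'⟩ := hdiv _ h4
    have h2 := (IsLocalizedModule.map_units (S := T) f s) |> (Module.End.isUnit_iff _).1 |>.1
    have : w = x := h2 hw'
    rwa [← this]

end Crit

section Core

variable {R₁ R B₁ B k₁ k ι : Type*} [CommRing R₁] [CommRing R] [CommRing B₁] [CommRing B]
  [Algebra R₁ R] [Algebra R₁ B₁] [Algebra R B] [Algebra B₁ B] [Algebra R₁ B]
  [IsScalarTower R₁ R B] [IsScalarTower R₁ B₁ B]
  [Field k₁] [Field k] [Algebra R₁ k₁] [Algebra R k] [Algebra R₁ k] [Algebra k₁ k]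
  [IsScalarTower R₁ R k] [IsScalarTower R₁ k₁ k]
  (c : Module.Basis ι k₁ k)

variable (R₁ R B₁ B) in
/-- `(b_i) ↦ Σ c_i ⊗ b_i`. -/
noncomputable def psi : (ι →₀ B₁) →ₗ[R₁] k ⊗[R] B :=
  Finsupp.lsum R₁ fun i =>
    { toFun := fun b => c i ⊗ₜ algebraMap B₁ B b
      map_add' := fun x y => by rw [map_add, tmul_add]
      map_smul' := fun r x => by
        rw [RingHom.id_apply, Algebra.smul_def, map_mul, ← IsScalarTower.algebraMap_apply,
          IsScalarTower.algebraMap_apply R₁ R B, ← Algebra.smul_def, TensorProduct.tmul_smul,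
          TensorProduct.smul_tmul', TensorProduct.smul_tmul', algebraMap_smul] }

theorem psi_single (i : ι) (b : B₁) :
    psi R₁ R B₁ B c (Finsupp.single i b) = c i ⊗ₜ algebraMap B₁ B b := by
  simp [psi]

theorem exists_rep (hpush : Algebra.IsPushout R₁ R B₁ B)
    (hfrac : ∀ x : k₁, ∃ a d : R₁, algebraMap R₁ k₁ d ≠ 0 ∧
      algebraMap R₁ k₁ d * x = algebraMap R₁ k₁ a) (z : k ⊗[R] B) :
    ∃ (d : R₁) (τ : ι →₀ B₁), algebraMap R₁ k₁ d ≠ 0 ∧ d • z = psi R₁ R B₁ B c τ := by
  have hadd : ∀ z₁ z₂ : k ⊗[R] B,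
      (∃ (d : R₁) (τ : ι →₀ B₁), algebraMap R₁ k₁ d ≠ 0 ∧ d • z₁ = psi R₁ R B₁ B c τ) →
      (∃ (d : R₁) (τ : ι →₀ B₁), algebraMap R₁ k₁ d ≠ 0 ∧ d • z₂ = psi R₁ R B₁ B c τ) →
      (∃ (d : R₁) (τ : ι →₀ B₁), algebraMap R₁ k₁ d ≠ 0 ∧ d • (z₁ + z₂) = psi R₁ R B₁ B c τ) := by
    rintro z₁ z₂ ⟨d₁, τ₁, h₁, e₁⟩ ⟨d₂, τ₂, h₂, e₂⟩
    refine ⟨d₁ * d₂, d₂ • τ₁ + d₁ • τ₂, by rw [map_mul]; exact mul_ne_zero h₁ h₂, ?_⟩
    rw [map_add, map_smul, map_smul, ← e₁, ← e₂, smul_add, smul_smul, smul_smul, mul_comm d₂ d₁]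
  have hzero : ∃ (d : R₁) (τ : ι →₀ B₁), algebraMap R₁ k₁ d ≠ 0 ∧
      d • (0 : k ⊗[R] B) = psi R₁ R B₁ B c τ := ⟨1, 0, by simp, by simp⟩
  induction z using TensorProduct.induction_on with
  | zero => exact hzero
  | add x y hx hy => exact hadd x y hx hy
  | tmul x b =>
    revert x
    refine hpush.out.inductionOn b (fun b => ∀ x : k, ∃ (d : R₁) (τ : ι →₀ B₁),
      algebraMap R₁ k₁ d ≠ 0 ∧ d • (x ⊗ₜ[R] b) = psi R₁ R B₁ B c τ) ?_ ?_ ?_ ?_
    · intro x
      rw [tmul_zero]
      exact hzero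
    · intro b₁ x
      have hx : x ∈ Submodule.span k₁ (Set.range c) := by rw [c.span_eq]; trivial
      induction hx using Submodule.span_induction with
      | mem x hx =>
        obtain ⟨i, rfl⟩ := hx
        exact ⟨1, Finsupp.single i b₁, by simp, by rw [one_smul, psi_single]; rfl⟩
      | zero => rw [zero_tmul]; exact hzero
      | add x y _ _ hx hy => rw [add_tmul]; exact hadd _ _ hx hy
      | smul a x _ hx =>
        obtain ⟨d, τ, hd, e⟩ := hx
        obtain ⟨a', d', hd', e'⟩ := hfrac a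
        refine ⟨d' * d, a' • τ, by rw [map_mul]; exact mul_ne_zero hd' hd, ?_⟩
        rw [map_smul, ← e, TensorProduct.smul_tmul', TensorProduct.smul_tmul',
          TensorProduct.smul_tmul']
        congr 1
        rw [← algebraMap_smul k₁ (d' * d), ← algebraMap_smul k₁ a', ← algebraMap_smul k₁ d,
          smul_smul, smul_smul, ← e', map_mul]
        ring_nf
    · intro r b h x
      rw [TensorProduct.tmul_smul, TensorProduct.smul_tmul']
      exact h (r • x)
    · intro b b' h h' x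
      rw [tmul_add]
      exact hadd _ _ (h x) (h' x)

variable {M₁ M : Type*} [AddCommGroup M₁] [Module R₁ M₁] [Module B₁ M₁] [IsScalarTower R₁ B₁ M₁]
  [AddCommGroup M] [Module R M] [Module B M] [IsScalarTower R B M] [Module B₁ M]
  [IsScalarTower B₁ B M]

variable (k) in
/-- The comparison `M₁ ⊗ k ≃ M ⊗ k`. -/
theorem exists_equiv (hpush : Algebra.IsPushout R₁ R B₁ B) (g : M₁ →ₗ[B₁] M)
    (hg : IsBaseChange B g) : ∃ E : M₁ ⊗[R₁] k ≃+ M ⊗[R] k, (∀ m x, E (m ⊗ₜ x) = g m ⊗ₜ x) ∧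
      ∀ (b : B₁) z, E (b • z) = algebraMap B₁ B b • E z := by
  let _ : Module R₁ M := Module.compHom M (algebraMap R₁ R)
  have : IsScalarTower R₁ R M := IsScalarTower.of_algebraMap_smul fun r x => rfl
  have : IsScalarTower R₁ B₁ M := IsScalarTower.of_algebraMap_smul fun r x => by
    rw [← algebraMap_smul B, ← IsScalarTower.algebraMap_apply, IsScalarTower.algebraMap_apply R₁ R B,
      algebraMap_smul]
    rfl
  let e₁ : R ⊗[R₁] M₁ ≃ₗ[R] M := (Algebra.IsPushout.cancelBaseChange R₁ R B₁ B M₁).symm.trans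
    (hg.equiv.restrictScalars R)
  have he₁ : ∀ m, e₁ (1 ⊗ₜ m) = g m := by
    intro m
    simp [e₁, hg.equiv_tmul]
  have h1 : IsBaseChange R (g.restrictScalars R₁) := IsBaseChange.of_equiv e₁ he₁
  have h2 : IsBaseChange k (((TensorProduct.mk R k M 1).restrictScalars R₁).comp
      (g.restrictScalars R₁)) := h1.comp (TensorProduct.isBaseChange R M k)
  let E : M₁ ⊗[R₁] k ≃+ M ⊗[R] k :=
    ((TensorProduct.comm R₁ M₁ k).toAddEquiv.trans h2.equiv.toAddEquiv).trans
      (TensorProduct.comm R k M).toAddEquiv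
  have hE : ∀ m x, E (m ⊗ₜ x) = g m ⊗ₜ x := by
    intro m x
    show (TensorProduct.comm R k M) (h2.equiv (x ⊗ₜ m)) = _
    rw [h2.equiv_tmul]
    show (TensorProduct.comm R k M) (x • ((1 : k) ⊗ₜ[R] g m)) = _
    rw [TensorProduct.smul_tmul', smul_eq_mul, mul_one, TensorProduct.comm_tmul]
  refine ⟨E, hE, fun b z => ?_⟩
  induction z using TensorProduct.induction_on with
  | zero => simp
  | add x y hx hy => rw [smul_add, map_add, hx, hy, map_add, smul_add]
  | tmul m x =>
    rw [TensorProduct.smul_tmul', hE, hE, TensorProduct.smul_tmul', map_smul, algebraMap_smul]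

variable (R₁ B₁ k₁) in
/-- `m ⊗ a ↦ m ⊗ (a c)`. -/
noncomputable def smap (M₁ : Type*) [AddCommGroup M₁] [Module R₁ M₁] [Module B₁ M₁]
    [IsScalarTower R₁ B₁ M₁] (x : k) : M₁ ⊗[R₁] k₁ →ₗ[B₁] M₁ ⊗[R₁] k :=
  AlgebraTensorModule.lTensor B₁ M₁ ((LinearMap.toSpanSingleton k₁ k x).restrictScalars R₁)

theorem smap_tmul (x : k) (m : M₁) (a : k₁) :
    smap R₁ B₁ k₁ M₁ x (m ⊗ₜ a) = m ⊗ₜ (a • x) := rfl

variable (R₁ B₁ k₁) in
/-- `m ⊗ x ↦ m ⊗ λ x`. -/
noncomputable def pmap (M₁ : Type*) [AddCommGroup M₁] [Module R₁ M₁] [Module B₁ M₁]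
    [IsScalarTower R₁ B₁ M₁] (l : k →ₗ[k₁] k₁) : M₁ ⊗[R₁] k →ₗ[B₁] M₁ ⊗[R₁] k₁ :=
  AlgebraTensorModule.lTensor B₁ M₁ (l.restrictScalars R₁)

theorem pmap_tmul (l : k →ₗ[k₁] k₁) (m : M₁) (x : k) :
    pmap R₁ B₁ k₁ M₁ l (m ⊗ₜ x) = m ⊗ₜ (l x) := rfl

theorem pmap_smap_basis [DecidableEq ι] (i j : ι) (y : M₁ ⊗[R₁] k₁) :
    pmap R₁ B₁ k₁ M₁ (c.coord i) (smap R₁ B₁ k₁ M₁ (c j) y) = if j = i then y else 0 := by
  classical
  induction y using TensorProduct.induction_on with
  | zero => simp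
  | add x y hx hy => rw [map_add, map_add, hx, hy]; split_ifs <;> simp
  | tmul m a =>
    rw [smap_tmul, pmap_tmul, map_smul, Module.Basis.coord_apply, Module.Basis.repr_self,
      Finsupp.single_apply]
    split_ifs <;> simp

/-- The key formula. -/
theorem smul_smap (g : M₁ →ₗ[B₁] M) (E : M₁ ⊗[R₁] k ≃+ M ⊗[R] k)
    (hE : ∀ m x, E (m ⊗ₜ x) = g m ⊗ₜ x) (d : R₁) (t : B) (τ : ι →₀ B₁)
    (h : d • ((1 : k) ⊗ₜ[R] t) = psi R₁ R B₁ B c τ) (n : M₁ ⊗[R₁] k₁) :
    (algebraMap R₁ B d * t) • E (smap R₁ B₁ k₁ M₁ 1 n) =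
      E (τ.sum fun i b => b • smap R₁ B₁ k₁ M₁ (c i) n) := by
  induction n using TensorProduct.induction_on with
  | zero => simp
  | add x y hx hy =>
    rw [map_add, map_add, smul_add, hx, hy, ← map_add, ← Finsupp.sum_add]
    congr 1
    refine Finsupp.sum_congr fun i _ => ?_
    rw [map_add, smul_add]
  | tmul m a =>
    -- the action map
    let act : k ⊗[R] B →ₗ[R] M ⊗[R] k :=
      (TensorProduct.comm R k M).toLinearMap ∘ₗ
        TensorProduct.map (LinearMap.mulRight R (algebraMap k₁ k a))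
          ((LinearMap.toSpanSingleton B M (g m)).restrictScalars R)
    have hact : ∀ y b, act (y ⊗ₜ b) = (b • g m) ⊗ₜ (y * algebraMap k₁ k a) := fun y b => rfl
    have h1 := congrArg act h
    rw [← algebraMap_smul R d, map_smul, hact, one_mul] at h1
    rw [smap_tmul, hE, mul_smul, TensorProduct.smul_tmul',
      IsScalarTower.algebraMap_apply R₁ R B, algebraMap_smul, Algebra.smul_def a, mul_one, h1,
      map_finsuppSum]
    unfold psi
    rw [Finsupp.lsum_apply, map_finsuppSum]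
    refine Finsupp.sum_congr fun i _ => ?_
    show act (c i ⊗ₜ algebraMap B₁ B (τ i)) = _
    rw [hact, smap_tmul, TensorProduct.smul_tmul', hE, map_smul, algebraMap_smul, mul_comm,
      ← Algebra.smul_def]

theorem mem_of_equiv_mem (E : M₁ ⊗[R₁] k ≃+ M ⊗[R] k)
    (hE : ∀ (b : B₁) z, E (b • z) = algebraMap B₁ B b • E z) (I : Ideal B₁)
    (z : M₁ ⊗[R₁] k)
    (h : E z ∈ (I.map (algebraMap B₁ B) • ⊤ : Submodule B (M ⊗[R] k))) :
    z ∈ (I • ⊤ : Submodule B₁ (M₁ ⊗[R₁] k)) := by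
  have hsymm : ∀ (b : B₁) y, E.symm (algebraMap B₁ B b • y) = b • E.symm y := by
    intro b y
    rw [AddEquiv.symm_apply_eq, hE, AddEquiv.apply_symm_apply]
  have key : ∀ y ∈ (I.map (algebraMap B₁ B) • ⊤ : Submodule B (M ⊗[R] k)),
      E.symm y ∈ (I • ⊤ : Submodule B₁ (M₁ ⊗[R₁] k)) := by
    intro y hy
    refine Submodule.smul_induction_on hy ?_ ?_
    · intro r hr x _
      revert x
      refine Submodule.span_induction (p := fun r _ => ∀ x ∈ (⊤ : Submodule B (M ⊗[R] k)),
        E.symm (r • x) ∈ (I • ⊤ : Submodule B₁ (M₁ ⊗[R₁] k))) ?_ ?_ ?_ ?_ hr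
      · rintro _ ⟨b, hb, rfl⟩ x _
        rw [hsymm]
        exact Submodule.smul_mem_smul hb trivial
      · intro x _
        rw [zero_smul, map_zero]
        exact Submodule.zero_mem _
      · intro r r' _ _ h h' x hx
        rw [add_smul, map_add]
        exact add_mem (h x hx) (h' x hx)
      · intro a r _ h x _
        rw [smul_eq_mul, mul_comm, mul_smul]
        exact h _ trivial
    · intro x y hx hy
      rw [map_add]
      exact add_mem hx hy
  have := key _ h
  rwa [AddEquiv.symm_apply_apply] at this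

/-- Descent of torsion statements along the field extension `k₁ → k`. -/
theorem exists_smul_mem (hpush : Algebra.IsPushout R₁ R B₁ B)
    (hfrac : ∀ x : k₁, ∃ a d : R₁, algebraMap R₁ k₁ d ≠ 0 ∧
      algebraMap R₁ k₁ d * x = algebraMap R₁ k₁ a)
    (g : M₁ →ₗ[B₁] M) (E : M₁ ⊗[R₁] k ≃+ M ⊗[R] k)
    (hE : ∀ m x, E (m ⊗ₜ x) = g m ⊗ₜ x)
    (hE' : ∀ (b : B₁) z, E (b • z) = algebraMap B₁ B b • E z)
    {K : Type*} [Field K] (φ : k →+* K) (ψ : B →+* K)
    (hφψ : ∀ r, φ (algebraMap R k r) = ψ (algebraMap R B r))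
    (I : Ideal B₁) (n : M₁ ⊗[R₁] k₁) (t : B) (ht : ψ t ≠ 0)
    (h : t • E (smap R₁ B₁ k₁ M₁ 1 n) ∈
      (I.map (algebraMap B₁ B) • ⊤ : Submodule B (M ⊗[R] k))) :
    ∃ t₁ : B₁, ψ (algebraMap B₁ B t₁) ≠ 0 ∧ t₁ • n ∈ (I • ⊤ : Submodule B₁ (M₁ ⊗[R₁] k₁)) := by
  classical
  let c := Module.Basis.ofVectorSpace k₁ k
  obtain ⟨d, τ, hd, hτ⟩ := exists_rep c hpush hfrac ((1 : k) ⊗ₜ[R] t)
  -- module side
  have h1 : (algebraMap R₁ B d * t) • E (smap R₁ B₁ k₁ M₁ 1 n) ∈
      (I.map (algebraMap B₁ B) • ⊤ : Submodule B (M ⊗[R] k)) := by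
    rw [mul_smul]
    exact Submodule.smul_mem _ _ h
  rw [smul_smap c g E hE d t τ hτ n] at h1
  have h2 := mem_of_equiv_mem E hE' I _ h1
  have h3 : ∀ i, τ i • n ∈ (I • ⊤ : Submodule B₁ (M₁ ⊗[R₁] k₁)) := by
    intro i
    have h4 : pmap R₁ B₁ k₁ M₁ (c.coord i) (τ.sum fun i b => b • smap R₁ B₁ k₁ M₁ (c i) n) ∈
        Submodule.map (pmap R₁ B₁ k₁ M₁ (c.coord i)) (I • ⊤) := ⟨_, h2, rfl⟩
    rw [Submodule.map_smul''] at h4
    have h5 := Submodule.smul_mono le_rfl le_top h4
    rw [map_finsuppSum] at h5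
    have h6 : (τ.sum fun j b => pmap R₁ B₁ k₁ M₁ (c.coord i) (b • smap R₁ B₁ k₁ M₁ (c j) n)) =
        τ i • n := by
      rw [Finsupp.sum, Finset.sum_eq_single i]
      · rw [map_smul, pmap_smap_basis, if_pos rfl]
      · intro j _ hj
        rw [map_smul, pmap_smap_basis, if_neg hj, smul_zero]
      · intro hi
        rw [Finsupp.notMem_support_iff.1 hi, zero_smul, map_zero]
    rwa [h6] at h5
  -- ring side
  let _ : Algebra R K := (φ.comp (algebraMap R k)).toAlgebra
  let Φ : k ⊗[R] B →ₐ[R] K := Algebra.TensorProduct.lift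
    ({ toRingHom := φ, commutes' := fun r => rfl } : k →ₐ[R] K)
    ({ toRingHom := ψ, commutes' := fun r => (hφψ r).symm } : B →ₐ[R] K)
    (fun _ _ => Commute.all _ _)
  have hΦ : ∀ x b, Φ (x ⊗ₜ b) = φ x * ψ b := fun x b => rfl
  have h7 := congrArg Φ hτ
  by_contra hcon
  push Not at hcon
  have h8 : ∀ i, ψ (algebraMap B₁ B (τ i)) = 0 := by
    intro i
    by_contra hi
    exact hcon _ hi (h3 i)
  rw [← algebraMap_smul R d, map_smul, hΦ, map_one, one_mul] at h7
  unfold psi at h7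
  rw [Finsupp.lsum_apply, map_finsuppSum] at h7
  have h9 : (τ.sum fun i b => Φ (c i ⊗ₜ algebraMap B₁ B b)) = 0 := by
    refine Finset.sum_eq_zero fun i _ => ?_
    show Φ (c i ⊗ₜ algebraMap B₁ B (τ i)) = 0
    rw [hΦ, h8, mul_zero]
  have h10 : (algebraMap R₁ R d) • ψ t = 0 := h7.trans h9
  rw [Algebra.smul_def] at h10
  have h11 : φ (algebraMap R k (algebraMap R₁ R d)) ≠ 0 := by
    rw [← IsScalarTower.algebraMap_apply, IsScalarTower.algebraMap_apply R₁ k₁ k]
    rw [map_ne_zero, map_ne_zero]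
    exact hd
  rcases mul_eq_zero.1 h10 with h12 | h12
  · exact h11 h12
  · exact ht h12

end Core

section Main

universe u

theorem exists_frac {A : Type*} [CommRing A] (p : Ideal A) [p.IsPrime] (x : p.ResidueField) :
    ∃ a d : A, algebraMap A p.ResidueField d ≠ 0 ∧
      algebraMap A p.ResidueField d * x = algebraMap A p.ResidueField a := by
  obtain ⟨⟨a, d⟩, h⟩ := IsLocalization.surj (nonZeroDivisors (A ⧸ p)) x
  obtain ⟨a, rfl⟩ := Ideal.Quotient.mk_surjective a
  obtain ⟨d, hd⟩ := d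
  obtain ⟨d, rfl⟩ := Ideal.Quotient.mk_surjective d
  refine ⟨a, d, ?_, ?_⟩
  · rw [Ne, Ideal.algebraMap_residueField_eq_zero]
    intro h1
    rw [Ideal.Quotient.eq_zero_iff_mem.2 h1] at hd
    exact zero_notMem_nonZeroDivisors hd
  · rw [mul_comm]
    exact h

variable {R₁ R B₁ B M₁ M : Type*} [CommRing R₁] [CommRing R] [CommRing B₁] [CommRing B]
  [Algebra R₁ R] [Algebra R₁ B₁] [Algebra R B] [Algebra B₁ B] [Algebra R₁ B]
  [IsScalarTower R₁ R B] [IsScalarTower R₁ B₁ B]
  [AddCommGroup M₁] [Module R₁ M₁] [Module B₁ M₁] [IsScalarTower R₁ B₁ M₁]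
  [AddCommGroup M] [Module R M] [Module B M] [IsScalarTower R B M] [Module B₁ M]
  [IsScalarTower B₁ B M]

/-- **Descent of fibrewise regularity.** `B = B₁ ⊗_{R₁} R`, `M = M₁ ⊗_{R₁} R`, `q` a prime of `B`
with contractions `q₁`, `p`, `p₁`: if `fs` is weakly regular on `(M ⊗ κ(p))_q` then it is weakly
regular on `(M₁ ⊗ κ(p₁))_{q₁}`. -/
theorem isWeaklyRegular_fibre [hpush : Algebra.IsPushout R₁ R B₁ B] (g : M₁ →ₗ[B₁] M)
    (hg : IsBaseChange B g) (q : Ideal B) [q.IsPrime] (fs : List B₁)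
    (hreg : IsWeaklyRegular (LocalizedModule q.primeCompl
      (M ⊗[R] (q.comap (algebraMap R B)).ResidueField)) (fs.map (algebraMap B₁ B))) :
    IsWeaklyRegular (LocalizedModule (q.comap (algebraMap B₁ B)).primeCompl
      (M₁ ⊗[R₁] ((q.comap (algebraMap B₁ B)).comap (algebraMap R₁ B₁)).ResidueField)) fs := by
  let p := q.comap (algebraMap R B)
  let q₁ := q.comap (algebraMap B₁ B)
  let p₁ := q₁.comap (algebraMap R₁ B₁)
  have hp₁ : p₁ = p.comap (algebraMap R₁ R) := by
    ext x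
    show algebraMap B₁ B (algebraMap R₁ B₁ x) ∈ q ↔ algebraMap R B (algebraMap R₁ R x) ∈ q
    rw [← IsScalarTower.algebraMap_apply, ← IsScalarTower.algebraMap_apply]
  let φ₁ : p₁.ResidueField →+* p.ResidueField := Ideal.ResidueField.map p₁ p (algebraMap R₁ R) hp₁
  let _ : Algebra p₁.ResidueField p.ResidueField := φ₁.toAlgebra
  have hφ₁ : ∀ r, φ₁ (algebraMap R₁ _ r) = algebraMap R _ (algebraMap R₁ R r) := fun r =>
    Ideal.ResidueField.map_algebraMap _ _ _ _ _
  have : IsScalarTower R₁ R p.ResidueField := inferInstance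
  have : IsScalarTower R₁ p₁.ResidueField p.ResidueField :=
    IsScalarTower.of_algebraMap_eq fun r => by
      rw [IsScalarTower.algebraMap_apply R₁ R p.ResidueField]
      exact (hφ₁ r).symm
  let φ : p.ResidueField →+* q.ResidueField := Ideal.ResidueField.map p q (algebraMap R B) rfl
  have hφ : ∀ r, φ (algebraMap R _ r) = algebraMap B _ (algebraMap R B r) := fun r =>
    Ideal.ResidueField.map_algebraMap _ _ _ _ _
  obtain ⟨E, hE, hE'⟩ := exists_equiv p.ResidueField hpush g hg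
  rw [isWeaklyRegular_iff q.primeCompl (LocalizedModule.mkLinearMap _ _)] at hreg
  rw [isWeaklyRegular_iff q₁.primeCompl (LocalizedModule.mkLinearMap _ _)]
  intro i hi n hn
  have hmap : Ideal.ofList ((fs.map (algebraMap B₁ B)).take i) =
      (Ideal.ofList (fs.take i)).map (algebraMap B₁ B) := by
    rw [Ideal.map_ofList, List.map_take]
  have h1 := hreg i (by simpa using hi) (E (smap R₁ B₁ p₁.ResidueField M₁ 1 n)) (by
    rw [hmap, List.getElem_map, ← hE', ← map_smul]
    have h2 : smap R₁ B₁ p₁.ResidueField M₁ (1 : p.ResidueField) (fs[i] • n) ∈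
        (Ideal.ofList (fs.take i) • ⊤ : Submodule B₁ (M₁ ⊗[R₁] p.ResidueField)) := by
      have h3 : smap R₁ B₁ p₁.ResidueField M₁ (1 : p.ResidueField) (fs[i] • n) ∈
        Submodule.map (smap R₁ B₁ p₁.ResidueField M₁ (1 : p.ResidueField))
          (Ideal.ofList (fs.take i) • ⊤) := ⟨_, hn, rfl⟩
      rw [Submodule.map_smul''] at h3
      exact Submodule.smul_mono le_rfl le_top h3
    refine Submodule.smul_induction_on h2 ?_ ?_
    · intro r hr x _
      rw [hE']
      exact Submodule.smul_mem_smul (Ideal.mem_map_of_mem _ hr) trivial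
    · intro x y hx hy
      rw [map_add]
      exact add_mem hx hy)
  rw [hmap] at h1
  obtain ⟨t, ht, h4⟩ := h1
  obtain ⟨t₁, ht₁, h5⟩ := exists_smul_mem hpush (exists_frac p₁) g E hE hE' φ
    (algebraMap B q.ResidueField) hφ (Ideal.ofList (fs.take i)) n t (by
      rw [Ne, Ideal.algebraMap_residueField_eq_zero]; exact ht) h4
  refine ⟨t₁, ?_, h5⟩
  rw [Ne, Ideal.algebraMap_residueField_eq_zero] at ht₁
  exact ht₁

end Main

section Translate

variable {A B M : Type*} [CommRing A] [CommRing B] [Algebra A B] [AddCommGroup M] [Module A M]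
  [Module B M] [IsScalarTower A B M]
  (T : Submonoid B) (S : Submonoid A) (A' : Type*) [CommRing A'] [Algebra A A']
  [IsLocalization S A']
  {L : Type*} [AddCommGroup L] [Module A L] [Module B L] [IsScalarTower A B L] [Module A' L]
  [IsScalarTower A A' L] [SMulCommClass A' B L] (f : M →ₗ[B] L) [IsLocalizedModule T f]
  (κ : Type*) [AddCommGroup κ] [Module A κ] [Module A' κ] [IsScalarTower A A' κ]

include S in
theorem exists_isLocalizedModule : ∃ F : M ⊗[A] κ →ₗ[B] L ⊗[A'] κ,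
    IsLocalizedModule T F ∧ ∀ m x, F (m ⊗ₜ x) = f m ⊗ₜ x := by
  have := IsLocalization.tensorProduct_compatibleSMul S A' L κ
  let e : L ⊗[A] κ ≃ₗ[A] L ⊗[A'] κ :=
    ((TensorProduct.equivOfCompatibleSMul A A' A' L κ).restrictScalars A).symm
  have he : ∀ l x, e (l ⊗ₜ x) = l ⊗ₜ x := by
    intro l x
    rw [LinearEquiv.symm_apply_eq]
    rfl
  let e' : L ⊗[A] κ ≃ₗ[B] L ⊗[A'] κ := e.toAddEquiv.toLinearEquiv (by
    intro b z
    induction z using TensorProduct.induction_on with
    | zero => simp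
    | add x y hx hy => rw [smul_add, map_add, hx, hy, map_add, smul_add]
    | tmul l x =>
      rw [TensorProduct.smul_tmul']
      show e ((b • l) ⊗ₜ x) = b • e (l ⊗ₜ x)
      rw [he, he, TensorProduct.smul_tmul'])
  refine ⟨e'.toLinearMap ∘ₗ AlgebraTensorModule.rTensor A κ f, inferInstance, fun m x => ?_⟩
  exact he (f m) x

include S f in
/-- The fibre module of the localization: `L = M_q` over `A'`, a localization of `A`. -/
theorem isWeaklyRegular_tensor_iff (B' : Type*) [CommRing B'] [Algebra B B'] [Module B' L]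
    [IsScalarTower B B' L] [Algebra A' B'] [IsScalarTower A' B' L] (fs : List B)
    {L' : Type*} [AddCommGroup L'] [Module B L'] (f' : M ⊗[A] κ →ₗ[B] L') [IsLocalizedModule T f'] :
    IsWeaklyRegular (L ⊗[A'] κ) (fs.map (algebraMap B B')) ↔ IsWeaklyRegular L' fs := by
  obtain ⟨F, hF, -⟩ := exists_isLocalizedModule T S A' f κ
  have : IsScalarTower B B' (L ⊗[A'] κ) := by
    refine IsScalarTower.of_algebraMap_smul fun b z => ?_
    induction z using TensorProduct.induction_on with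
    | zero => simp
    | add x y hx hy => rw [smul_add, hx, hy, smul_add]
    | tmul l x => rw [TensorProduct.smul_tmul', TensorProduct.smul_tmul', algebraMap_smul]
  rw [isWeaklyRegular_map_algebraMap_iff, isWeaklyRegular_iff T F, isWeaklyRegular_iff T f']

/-- The case of the residue field. -/
theorem isWeaklyRegular_residue_iff (q : Ideal B) [q.IsPrime]
    [Module (Localization.AtPrime (q.comap (algebraMap A B))) (LocalizedModule q.primeCompl M)]
    [IsScalarTower A (Localization.AtPrime (q.comap (algebraMap A B)))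
      (LocalizedModule q.primeCompl M)]
    [Algebra (Localization.AtPrime (q.comap (algebraMap A B))) (Localization.AtPrime q)]
    [IsScalarTower (Localization.AtPrime (q.comap (algebraMap A B))) (Localization.AtPrime q)
      (LocalizedModule q.primeCompl M)] (fs : List B) :
    IsWeaklyRegular (LocalizedModule q.primeCompl M ⊗[Localization.AtPrime
      (q.comap (algebraMap A B))] (Localization.AtPrime (q.comap (algebraMap A B)) ⧸
        IsLocalRing.maximalIdeal (Localization.AtPrime (q.comap (algebraMap A B)))))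
      (fs.map (algebraMap B (Localization.AtPrime q))) ↔
    IsWeaklyRegular (LocalizedModule q.primeCompl
      (M ⊗[A] (q.comap (algebraMap A B)).ResidueField)) fs := by
  have : SMulCommClass (Localization.AtPrime (q.comap (algebraMap A B))) B
      (LocalizedModule q.primeCompl M) := by
    refine ⟨fun a b x => ?_⟩
    rw [← algebraMap_smul (Localization.AtPrime q) b, ← algebraMap_smul (Localization.AtPrime q) b,
      ← algebraMap_smul (Localization.AtPrime q) a, ← algebraMap_smul (Localization.AtPrime q) a,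
      smul_comm]
  exact isWeaklyRegular_tensor_iff q.primeCompl (q.comap (algebraMap A B)).primeCompl
    (Localization.AtPrime (q.comap (algebraMap A B)))
    (LocalizedModule.mkLinearMap q.primeCompl M) (q.comap (algebraMap A B)).ResidueField
    (Localization.AtPrime q) fs (LocalizedModule.mkLinearMap q.primeCompl _)

end Translate

end Groth.Agent.Ega43.FibReg
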