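import Groth.Prelude.Def_EGA4b
import Groth.Agent.Flat2D.FiberStalk
import Groth.Agent.Ega4B.SkLocal
import Mathlib.AlgebraicGeometry.Morphisms.FinitePresentation
import Mathlib.AlgebraicGeometry.Morphisms.Flat

/-!
# From the local rings `B_q / p B_q` to the local rings of the fibres of a morphism of schemes
-/

set_option autoImplicit false

open CategoryTheory AlgebraicGeometry IsLocalRing

namespace Groth.Agent.Ega43.FibSch1

universe u

open Groth.Agent.Flat2D.FiberStalk

variable {X Y : Scheme.{u}} (f : X ⟶ Y)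

/-- For affine opens `V ⊆ Y`, `W ⊆ f⁻¹ V` and `x ∈ W`, the local ring at `x` of the fibre of `f` through
`x` is the local ring `B_q / p B_q`, where `A = Γ(Y, V)`, `B = Γ(X, W)`, `q` is the prime of `x`. -/
theorem nonempty_fibLocRing_equiv {V : Y.Opens} (hV : IsAffineOpen V) {W : X.Opens}
    (hW : IsAffineOpen W) (e : W ≤ f ⁻¹ᵁ V) [Algebra Γ(Y, V) Γ(X, W)]
    (halg : algebraMap Γ(Y, V) Γ(X, W) = (f.appLE V W e).hom) (x : X) (hx : x ∈ W) :
    Nonempty (EGA4.FibLocRing Γ(Y, V) Γ(X, W) (hW.primeIdealOf ⟨x, hx⟩).asIdeal ≃+*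
      (f.fiber (f x)).presheaf.stalk (f.asFiber x)) := by
  let _ := Y.presheaf.algebra_section_stalk ⟨f x, e hx⟩
  have hY := hV.isLocalization_stalk ⟨f x, e hx⟩
  let _ := X.presheaf.algebra_section_stalk ⟨x, hx⟩
  have hX := hW.isLocalization_stalk ⟨x, hx⟩
  set q : PrimeSpectrum Γ(X, W) := hW.primeIdealOf ⟨x, hx⟩ with hq
  set p : PrimeSpectrum Γ(Y, V) := hV.primeIdealOf ⟨f x, e hx⟩ with hp
  have hpq : q.asIdeal.comap (algebraMap Γ(Y, V) Γ(X, W)) = p.asIdeal := by
    have h := IsAffineOpen.comap_primeIdealOf_appLE V hV W hW e hx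
    rw [halg]
    exact congrArg PrimeSpectrum.asIdeal h
  let E : Localization.AtPrime q.asIdeal ≃ₐ[Γ(X, W)] X.presheaf.stalk x :=
    IsLocalization.algEquiv q.asIdeal.primeCompl _ _
  -- the maximal ideal of the stalk on `Y`
  have hmax : maximalIdeal (Y.presheaf.stalk (f x)) =
      p.asIdeal.map (algebraMap Γ(Y, V) (Y.presheaf.stalk (f x))) :=
    (IsLocalization.AtPrime.map_eq_maximalIdeal p.asIdeal (Y.presheaf.stalk (f x))).symm
  have hcomp : (f.stalkMap x).hom.comp (algebraMap Γ(Y, V) (Y.presheaf.stalk (f x))) =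
      (algebraMap Γ(X, W) (X.presheaf.stalk x)).comp (algebraMap Γ(Y, V) Γ(X, W)) := by
    have h : Y.presheaf.germ V (f x) (e hx) ≫ f.stalkMap x =
        f.appLE V W e ≫ X.presheaf.germ W x hx := by
      rw [Scheme.Hom.germ_stalkMap, Scheme.Hom.appLE, Category.assoc, X.presheaf.germ_res]
    rw [halg]
    exact congrArg CommRingCat.Hom.hom h
  have hideal : fibreIdeal f x = (q.asIdeal.comap (algebraMap Γ(Y, V) Γ(X, W))).map
      ((algebraMap Γ(X, W) (X.presheaf.stalk x)).comp (algebraMap Γ(Y, V) Γ(X, W))) := by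
    rw [fibreIdeal_def, hmax, Ideal.map_map, hcomp, hpq]
  have hideal2 : fibreIdeal f x = ((q.asIdeal.comap (algebraMap Γ(Y, V) Γ(X, W))).map
      (algebraMap Γ(Y, V) (Localization.AtPrime q.asIdeal))).map
        (E.toRingEquiv : Localization.AtPrime q.asIdeal →+* X.presheaf.stalk x) := by
    rw [hideal, Ideal.map_map]
    congr 1
    ext a
    simp only [RingHom.comp_apply]
    rw [IsScalarTower.algebraMap_apply Γ(Y, V) Γ(X, W) (Localization.AtPrime q.asIdeal)]
    exact (E.commutes _).symm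
  obtain ⟨e2⟩ := nonempty_asFiber_stalkEquiv f x
  exact ⟨(Ideal.quotientEquiv _ _ E.toRingEquiv hideal2).trans e2⟩

theorem primeIdealOf_fromSpec {W : X.Opens} (hW : IsAffineOpen W) (q : PrimeSpectrum Γ(X, W))
    (h : hW.fromSpec q ∈ W) : hW.primeIdealOf ⟨hW.fromSpec q, h⟩ = q :=
  hW.fromSpec.isOpenEmbedding.injective (hW.fromSpec_primeIdealOf ⟨hW.fromSpec q, h⟩)

/-- Openness of the locus where the local ring of the fibre has a property `P`, from the affine case. -/
theorem isOpen_of_affine (P : ∀ (R : Type u) [CommRing R], Prop)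
    (hP : ∀ (R S : Type u) [CommRing R] [CommRing S], (R ≃+* S) → P R → P S)
    (H : ∀ (A B : Type u) [CommRing A] [CommRing B] [Algebra A B] [Algebra.FinitePresentation A B]
      [Module.Flat A B], IsOpen {q : PrimeSpectrum B | P (EGA4.FibLocRing A B q.asIdeal)})
    [Flat f] [LocallyOfFinitePresentation f] :
    IsOpen {x : X | P ((f.fiber (f.base x)).presheaf.stalk (f.asFiber x))} := by
  rw [isOpen_iff_forall_mem_open]
  intro x hx
  obtain ⟨V, hV, hxV, -⟩ := exists_isAffineOpen_mem_and_subset (U := (⊤ : Y.Opens))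
    (x := f x) (by trivial)
  obtain ⟨W, hW, hxW, e⟩ := exists_isAffineOpen_mem_and_subset (U := f ⁻¹ᵁ V) (x := x) hxV
  let _ : Algebra Γ(Y, V) Γ(X, W) := (f.appLE V W e).hom.toAlgebra
  have hfp : Algebra.FinitePresentation Γ(Y, V) Γ(X, W) := f.finitePresentation_appLE hV hW e
  have hfl : Module.Flat Γ(Y, V) Γ(X, W) := f.flat_appLE hV hW e
  have key : ∀ (y : X) (hy : y ∈ W), P ((f.fiber (f y)).presheaf.stalk (f.asFiber y)) ↔
      P (EGA4.FibLocRing Γ(Y, V) Γ(X, W) (hW.primeIdealOf ⟨y, hy⟩).asIdeal) := by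
    intro y hy
    obtain ⟨E⟩ := nonempty_fibLocRing_equiv f hV hW e rfl y hy
    exact ⟨hP _ _ E.symm, hP _ _ E⟩
  refine ⟨hW.fromSpec '' {q : PrimeSpectrum Γ(X, W) | P (EGA4.FibLocRing Γ(Y, V) Γ(X, W)
    q.asIdeal)}, ?_, hW.fromSpec.isOpenEmbedding.isOpenMap _ (H _ _), ?_⟩
  · rintro _ ⟨q, hq, rfl⟩
    have hqW : hW.fromSpec q ∈ W := by
      have h : hW.fromSpec q ∈ Set.range hW.fromSpec := ⟨q, rfl⟩
      rw [hW.range_fromSpec] at h
      exact h
    refine (key _ hqW).mpr ?_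
    have h2 := primeIdealOf_fromSpec hW q hqW
    rw [h2]
    exact hq
  · exact ⟨hW.primeIdealOf ⟨x, hxW⟩, (key x hxW).mp hx, hW.fromSpec_primeIdealOf ⟨x, hxW⟩⟩

/-- S2551 from the affine case. -/
theorem isOpen_hasSk_of_affine (k : ℕ)
    (H : ∀ (A B : Type u) [CommRing A] [CommRing B] [Algebra A B] [Algebra.FinitePresentation A B]
      [Module.Flat A B], IsOpen {q : PrimeSpectrum B |
        LocCoh.HasSk k (EGA4.FibLocRing A B q.asIdeal) (EGA4.FibLocRing A B q.asIdeal)})
    [Flat f] [LocallyOfFinitePresentation f] :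
    IsOpen {x : X | LocCoh.HasSk k ((f.fiber (f.base x)).presheaf.stalk (f.asFiber x))
      ((f.fiber (f.base x)).presheaf.stalk (f.asFiber x))} :=
  isOpen_of_affine f (fun R _ => LocCoh.HasSk k R R)
    (fun _ _ _ _ E h => Groth.Agent.Ega4B.SkLocal.hasSk_of_ringEquiv k E h) H

end Groth.Agent.Ega43.FibSch1
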