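import Groth.Prelude.Def_FlatMod2
import Groth.Prelude.Def_CohB1
import Groth.Prelude.Def_EGA4b
import Groth.Agent.Ega4A.DepthBasic
import Groth.Agent.Ega4C.SkFlat
import Groth.Agent.Ega4dB.FiberDepth
import Groth.Agent.Ega3B.FlatSec
import Groth.Agent.PerfC.FPSections
import Groth.Agent.Desc.FPSections
import Mathlib.AlgebraicGeometry.Morphisms.FinitePresentation

/-!
# The fibre stalk in terms of `FibLocRing`, `FibLocMod`; scheme form of openness of the
Cohen-Macaulay locus of the fibres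
-/

set_option autoImplicit false
universe u v w

open CategoryTheory CategoryTheory.Limits AlgebraicGeometry TopologicalSpace
open IsLocalRing

namespace Groth.Agent.Ega43.FibSch2

section Algebra

/-- Zero or Cohen-Macaulay. -/
def CMZ (R : Type u) (M : Type v) [CommRing R] [IsLocalRing R] [AddCommGroup M] [Module R M] : Prop :=
  Subsingleton M ∨ LocCoh.IsCohenMacaulayModule R M

theorem cmz_congr {R : Type u} {R' : Type v} [CommRing R] [IsLocalRing R] [CommRing R'] [IsLocalRing R']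
    (σ : R →+* R') (hσ : Function.Surjective σ) (M : Type w) [AddCommGroup M] [Module R M]
    (M' : Type*) [AddCommGroup M'] [Module R' M']
    (e : M ≃+ M') (he : ∀ (r : R) (m : M), e (r • m) = σ r • e m) :
    CMZ R M ↔ CMZ R' M' := by
  unfold CMZ LocCoh.IsCohenMacaulayModule
  rw [Ega4A.DepthBasic.depth_congr_of_surjective σ hσ M M' e he,
    Ega4A.DepthBasic.supportDim_congr_of_surjective σ hσ M M' e he, e.toEquiv.subsingleton_congr]

/-- Semilinear equivalences pass to quotients. -/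
theorem exists_quot_semilinear {R₁ : Type*} {R₂ : Type*} [CommRing R₁] [CommRing R₂] (σ : R₁ ≃+* R₂)
    {N₁ N₂ : Type*} [AddCommGroup N₁] [AddCommGroup N₂] [Module R₁ N₁] [Module R₂ N₂]
    (e : N₁ ≃+ N₂) (he : ∀ (r : R₁) (n : N₁), e (r • n) = σ r • e n)
    (J : Ideal R₁) (I : Ideal R₂) (hI : J.map (σ : R₁ →+* R₂) = I) :
    ∃ e' : (N₁ ⧸ (J • ⊤ : Submodule R₁ N₁)) ≃+ (N₂ ⧸ (I • ⊤ : Submodule R₂ N₂)),
      ∀ (r : R₁) n, e' (r • n) = σ r • e' n := by
  have key : ∀ n : N₁, n ∈ (J • ⊤ : Submodule R₁ N₁) ↔ e n ∈ (I • ⊤ : Submodule R₂ N₂) := by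
    intro n
    constructor
    · intro hn
      refine Submodule.smul_induction_on hn ?_ ?_
      · intro r hr m _
        rw [he]
        refine Submodule.smul_mem_smul ?_ trivial
        rw [← hI]
        exact Ideal.mem_map_of_mem (σ : R₁ →+* R₂) hr
      · intro a b ha hb
        rw [map_add]
        exact add_mem ha hb
    · intro hn
      have h : ∀ m : N₂, m ∈ (I • ⊤ : Submodule R₂ N₂) → e.symm m ∈ (J • ⊤ : Submodule R₁ N₁) := by
        intro m hm
        refine Submodule.smul_induction_on hm ?_ ?_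
        · intro r hr m _
          rw [← hI] at hr
          obtain ⟨s, hs, rfl⟩ := (Ideal.mem_map_iff_of_surjective (σ : R₁ →+* R₂) σ.surjective).mp hr
          have : e.symm ((σ : R₁ →+* R₂) s • m) = s • e.symm m := by
            apply e.injective
            rw [he, e.apply_symm_apply, e.apply_symm_apply]
            rfl
          rw [this]
          exact Submodule.smul_mem_smul hs trivial
        · intro a b ha hb
          rw [map_add]
          exact add_mem ha hb
      simpa using h _ hn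
  let : Module R₁ (N₂ ⧸ (I • ⊤ : Submodule R₂ N₂)) := Module.compHom _ (σ : R₁ →+* R₂)
  let φ : N₁ →ₗ[R₁] (N₂ ⧸ (I • ⊤ : Submodule R₂ N₂)) :=
    { toFun := fun n => Submodule.Quotient.mk (e n)
      map_add' := fun a b => by rw [map_add]; rfl
      map_smul' := fun r n => by rw [he]; rfl }
  have hφ : Function.Surjective φ := by
    intro y
    obtain ⟨y, rfl⟩ := Submodule.Quotient.mk_surjective _ y
    exact ⟨e.symm y, by change Submodule.Quotient.mk (e (e.symm y)) = _; rw [e.apply_symm_apply]⟩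
  have hker : (J • ⊤ : Submodule R₁ N₁) = LinearMap.ker φ := by
    ext n
    rw [key, LinearMap.mem_ker]
    exact (Submodule.Quotient.mk_eq_zero _).symm
  let e' := (Submodule.quotEquivOfEq _ _ hker).trans (LinearMap.quotKerEquivOfSurjective φ hφ)
  exact ⟨e'.toAddEquiv, fun r n => e'.map_smul r n⟩

variable {A B : Type u} [CommRing A] [CommRing B] [Algebra A B]

/-- The pair `(FibLocRing, FibLocMod)` in terms of arbitrary models of the localizations. -/
theorem cmz_fibLoc_iff (q : Ideal B) [q.IsPrime] (M : Type u) [AddCommGroup M] [Module B M]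
    {𝓐 𝓑 N : Type u} [CommRing 𝓐] [IsLocalRing 𝓐] [Algebra A 𝓐]
    [IsLocalization.AtPrime 𝓐 (q.comap (algebraMap A B))]
    [CommRing 𝓑] [IsLocalRing 𝓑] [Algebra B 𝓑] [IsLocalization.AtPrime 𝓑 q] [Algebra 𝓐 𝓑]
    (hcomm : (algebraMap 𝓐 𝓑).comp (algebraMap A 𝓐) = (algebraMap B 𝓑).comp (algebraMap A B))
    [AddCommGroup N] [Module B N] [Module 𝓑 N] [IsScalarTower B 𝓑 N]
    (l : M →ₗ[B] N) [IsLocalizedModule q.primeCompl l] :
    have := Ega4C.SkFlat.isLocalRing_fibLocRing (B := A) q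
    CMZ (EGA4.FibLocRing A B q) (EGA4.FibLocMod A B q M) ↔
      CMZ 𝓑 (N ⧸ ((maximalIdeal 𝓐).map (algebraMap 𝓐 𝓑) • ⊤ : Submodule 𝓑 N)) := by
  have := Ega4C.SkFlat.isLocalRing_fibLocRing (B := A) q
  have h1 : CMZ (Localization.AtPrime q) (EGA4.FibLocMod A B q M) ↔
      CMZ (EGA4.FibLocRing A B q) (EGA4.FibLocMod A B q M) :=
    cmz_congr (Ideal.Quotient.mk _) Ideal.Quotient.mk_surjective _ _ (AddEquiv.refl _)
      (fun r m => rfl)
  refine h1.symm.trans ?_
  let σ : Localization.AtPrime q ≃ₐ[B] 𝓑 := IsLocalization.algEquiv q.primeCompl _ _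
  let : Module (Localization.AtPrime q) N := Module.compHom N (σ : Localization.AtPrime q →+* 𝓑)
  have : IsScalarTower B (Localization.AtPrime q) N := IsScalarTower.of_algebraMap_smul (fun r m => by
    change σ (algebraMap B (Localization.AtPrime q) r) • m = r • m
    rw [σ.commutes, algebraMap_smul])
  let e₀ : LocalizedModule q.primeCompl M ≃ₗ[B] N := IsLocalizedModule.iso q.primeCompl l
  let e₁ : LocalizedModule q.primeCompl M ≃ₗ[Localization.AtPrime q] N :=
    e₀.extendScalarsOfIsLocalization q.primeCompl (Localization.AtPrime q)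
  obtain ⟨e', he'⟩ := exists_quot_semilinear σ.toRingEquiv e₁.toAddEquiv (fun r n => e₁.map_smul r n)
    ((q.comap (algebraMap A B)).map (algebraMap A (Localization.AtPrime q)))
    ((maximalIdeal 𝓐).map (algebraMap 𝓐 𝓑)) (by
      rw [← IsLocalization.AtPrime.map_eq_maximalIdeal (q.comap (algebraMap A B)) 𝓐,
        Ideal.map_map, Ideal.map_map, hcomm]
      congr 1
      ext a
      change σ (algebraMap A (Localization.AtPrime q) a) = algebraMap B 𝓑 (algebraMap A B a)
      rw [IsScalarTower.algebraMap_apply A B (Localization.AtPrime q), σ.commutes])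
  exact cmz_congr (σ : Localization.AtPrime q →+* 𝓑) σ.surjective _ _ e' he'

end Algebra

section Scheme

variable {X S : Scheme.{u}}

open Groth.Agent.Ega4dB.FiberDepth in
theorem cmz_stalk_fiber (f : X ⟶ S) (F : X.Modules) (s : S) (z : f.fiber s) :
    CMZ ((f.fiber s).presheaf.stalk z)
      (((Scheme.Modules.pullback (f.fiberι s)).obj F).presheaf.stalk z) ↔
    CMZ (X.presheaf.stalk (f.fiberι s z))
      (F.presheaf.stalk (f.fiberι s z) ⧸
        (mIdeal f (f.fiberι s z) • (⊤ : Submodule (X.presheaf.stalk (f.fiberι s z))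
          (F.presheaf.stalk (f.fiberι s z))))) := by
  let := Groth.Agent.Fdesc.PullbackStalk.stalkAlg (f.fiberι s) z
  let := FlatMod.moduleStalkOver (f.fiberι s) ((Scheme.Modules.pullback (f.fiberι s)).obj F) z
  have := Groth.Agent.Fdesc.PullbackStalk.isScalarTower (f.fiberι s)
    ((Scheme.Modules.pullback (f.fiberι s)).obj F) z
  have hbc := Groth.Agent.Fdesc.PullbackStalk.isBaseChange_can (f.fiberι s) F z
  have hsurj : Function.Surjective
      (algebraMap (X.presheaf.stalk (f.fiberι s z)) ((f.fiber s).presheaf.stalk z)) :=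
    CycB.FiberKer.stalkMap_fiberι_surjective f s z
  obtain ⟨h1, h2⟩ := exists_equiv_of_isBaseChange hsurj hbc
  have h3 : RingHom.ker (algebraMap (X.presheaf.stalk (f.fiberι s z)) ((f.fiber s).presheaf.stalk z)) =
      mIdeal f (f.fiberι s z) := CycB.FiberKer.ker_stalkMap_fiberι f s z
  rw [h3] at h2
  let e := (Submodule.quotEquivOfEq _ _ h2.symm).trans
    (LinearMap.quotKerEquivOfSurjective _ h1)
  refine (cmz_congr (algebraMap (X.presheaf.stalk (f.fiberι s z))
    ((f.fiber s).presheaf.stalk z)) hsurj _ _ e.toAddEquiv ?_).symm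
  intro r n
  change e (r • n) = _
  rw [e.map_smul]
  exact (algebraMap_smul ((f.fiber s).presheaf.stalk z) r (e n)).symm

open Groth.Agent.Ega4dB.FiberDepth in
theorem cmz_stalk_asFiber (f : X ⟶ S) (F : X.Modules) (x : X) :
    CMZ ((f.fiber (f x)).presheaf.stalk (f.asFiber x))
      (((Scheme.Modules.pullback (f.fiberι (f x))).obj F).presheaf.stalk (f.asFiber x)) ↔
    CMZ (X.presheaf.stalk x)
      (F.presheaf.stalk x ⧸ (mIdeal f x • (⊤ : Submodule (X.presheaf.stalk x)
          (F.presheaf.stalk x)))) := by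
  have h := cmz_stalk_fiber f F (f x) (f.asFiber x)
  rw [f.fiberι_asFiber] at h
  exact h

open Groth.Agent.Fdesc.QCohStalk

variable (f : X ⟶ S) (F : X.Modules)


/-- The fibre stalk condition in terms of sections. -/
theorem cmz_iff_fibLoc (hF : Coh.IsQCoh F) {V : S.Opens} (hV : IsAffineOpen V)
    {U : X.Opens} (hU : IsAffineOpen U) (h : U ≤ f ⁻¹ᵁ V) (x : X) (hx : x ∈ U)
    [i1 : Algebra Γ(S, V) Γ(X, U)] (hi1 : algebraMap Γ(S, V) Γ(X, U) = (f.appLE V U h).hom) :
    have := Ega4C.SkFlat.isLocalRing_fibLocRing (B := Γ(S, V)) (hU.primeIdealOf ⟨x, hx⟩).asIdeal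
    CMZ ((f.fiber (f x)).presheaf.stalk (f.asFiber x))
      (((Scheme.Modules.pullback (f.fiberι (f x))).obj F).presheaf.stalk (f.asFiber x)) ↔
    CMZ (EGA4.FibLocRing Γ(S, V) Γ(X, U) (hU.primeIdealOf ⟨x, hx⟩).asIdeal)
      (EGA4.FibLocMod Γ(S, V) Γ(X, U) (hU.primeIdealOf ⟨x, hx⟩).asIdeal Γ(F, U)) := by
  let i3 : Module Γ(X, U) (F.presheaf.stalk x) := stalkModule F x hx
  let i6 : Algebra Γ(S, V) (S.presheaf.stalk (f x)) :=
    (S.presheaf.germ V (f x) (h hx)).hom.toAlgebra
  let i7 : Algebra Γ(X, U) (X.presheaf.stalk x) := (X.presheaf.germ U x hx).hom.toAlgebra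
  let i8 : Algebra (S.presheaf.stalk (f x)) (X.presheaf.stalk x) := (f.stalkMap x).hom.toAlgebra
  have h2 : ∀ a : Γ(S, V), (f.stalkMap x) (S.presheaf.germ V (f x) (h hx) a) =
      X.presheaf.germ U x hx (algebraMap Γ(S, V) Γ(X, U) a) := fun a => by
    rw [hi1]
    exact congr($(Groth.Agent.Ega3B.FlatSec.germ_appLE f h x hx) a)
  have t3 : IsScalarTower Γ(X, U) (X.presheaf.stalk x) (F.presheaf.stalk x) :=
    IsScalarTower.of_algebraMap_smul (fun r m => rfl)
  have hq : (hU.primeIdealOf ⟨x, hx⟩).asIdeal.comap (algebraMap Γ(S, V) Γ(X, U)) =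
      (hV.primeIdealOf ⟨f x, h hx⟩).asIdeal := by
    rw [hi1]
    exact congr(($(IsAffineOpen.comap_primeIdealOf_appLE V hV U hU h hx)).asIdeal)
  have l1 : IsLocalization.AtPrime (S.presheaf.stalk (f x))
      ((hU.primeIdealOf ⟨x, hx⟩).asIdeal.comap (algebraMap Γ(S, V) Γ(X, U))) := by
    have := hV.isLocalization_stalk ⟨f x, h hx⟩
    simp only [hq]
    exact this
  have l2 : IsLocalization.AtPrime (X.presheaf.stalk x) (hU.primeIdealOf ⟨x, hx⟩).asIdeal :=
    hU.isLocalization_stalk ⟨x, hx⟩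
  have l3 := isLocalizedModule_germ F hU hF x hx
  refine (cmz_stalk_asFiber f F x).trans (cmz_fibLoc_iff (𝓐 := S.presheaf.stalk (f x))
    (𝓑 := X.presheaf.stalk x) (hU.primeIdealOf ⟨x, hx⟩).asIdeal Γ(F, U) ?_ (germₗ F x hx)).symm
  ext a
  exact h2 a


/-- Flatness of sections. -/
theorem flat_sections (hF : Coh.IsQCoh F) (hfl : FlatMod.IsFlatOver f F) {V : S.Opens}
    (hV : IsAffineOpen V) {U : X.Opens} (hU : IsAffineOpen U) (h : U ≤ f ⁻¹ᵁ V)
    [i1 : Algebra Γ(S, V) Γ(X, U)] (hi1 : algebraMap Γ(S, V) Γ(X, U) = (f.appLE V U h).hom)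
    [i2 : Module Γ(S, V) Γ(F, U)] [t1 : IsScalarTower Γ(S, V) Γ(X, U) Γ(F, U)] :
    Module.Flat Γ(S, V) Γ(F, U) := by
  refine Module.flat_of_isLocalized_maximal (S := Γ(X, U)) Γ(F, U)
    (fun P _ => LocalizedModule P.primeCompl Γ(F, U))
    (fun P _ => LocalizedModule.mkLinearMap P.primeCompl Γ(F, U)) ?_
  intro P hP
  obtain ⟨x, hx, hxP⟩ : ∃ (x : X) (hx : x ∈ U), (hU.primeIdealOf ⟨x, hx⟩).asIdeal = P := by
    obtain ⟨y, hy⟩ := (Scheme.homeoOfIso hU.isoSpec).surjective (⟨P, hP.isPrime⟩ : Spec Γ(X, U))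
    exact ⟨y.1, y.2, congrArg PrimeSpectrum.asIdeal hy⟩
  subst hxP
  let i3 : Module Γ(X, U) (F.presheaf.stalk x) := stalkModule F x hx
  let i4 : Module Γ(S, V) (F.presheaf.stalk x) :=
    Module.compHom (F.presheaf.stalk x) (algebraMap Γ(S, V) Γ(X, U))
  let i5 : Module (S.presheaf.stalk (f x)) (F.presheaf.stalk x) := FlatMod.moduleStalkOver f F x
  let i6 : Algebra Γ(S, V) (S.presheaf.stalk (f x)) :=
    (S.presheaf.germ V (f x) (h hx)).hom.toAlgebra
  have h2 : ∀ a : Γ(S, V), (f.stalkMap x) (S.presheaf.germ V (f x) (h hx) a) =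
      X.presheaf.germ U x hx (algebraMap Γ(S, V) Γ(X, U) a) := fun a => by
    rw [hi1]
    exact congr($(Groth.Agent.Ega3B.FlatSec.germ_appLE f h x hx) a)
  have t2 : IsScalarTower Γ(S, V) Γ(X, U) (F.presheaf.stalk x) :=
    ⟨fun a b m => by
      rw [Algebra.smul_def]
      exact mul_smul (algebraMap Γ(S, V) Γ(X, U) a) b m⟩
  have t8 : IsScalarTower Γ(S, V) (S.presheaf.stalk (f x)) (F.presheaf.stalk x) :=
    IsScalarTower.of_algebraMap_smul (fun r m => by
      change (f.stalkMap x) (S.presheaf.germ V (f x) (h hx) r) • m =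
        X.presheaf.germ U x hx (algebraMap Γ(S, V) Γ(X, U) r) • m
      rw [h2])
  have l1 := hV.isLocalization_stalk ⟨f x, h hx⟩
  have l3 := isLocalizedModule_germ F hU hF x hx
  have h3 : Module.Flat Γ(S, V) (F.presheaf.stalk x) :=
    (Module.flat_iff_of_isLocalization (S.presheaf.stalk (f x))
      (hV.primeIdealOf ⟨f x, h hx⟩).asIdeal.primeCompl _).mp (hfl x)
  exact Module.Flat.of_linearEquiv ((IsLocalizedModule.linearEquiv
    (hU.primeIdealOf ⟨x, hx⟩).asIdeal.primeCompl (LocalizedModule.mkLinearMap _ _)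
      (germₗ F x hx)).restrictScalars Γ(S, V))

/-- The affine statement. -/
def AffCM : Prop :=
  ∀ (A B M : Type u) [CommRing A] [CommRing B] [Algebra A B] [Algebra.FinitePresentation A B]
    [AddCommGroup M] [Module A M] [Module B M] [IsScalarTower A B M] [Module.FinitePresentation B M]
    [Module.Flat A M], IsOpen {q : PrimeSpectrum B | Subsingleton (EGA4.FibLocMod A B q.asIdeal M) ∨
      Module.supportDim (EGA4.FibLocRing A B q.asIdeal) (EGA4.FibLocMod A B q.asIdeal M) =
        ((@LocCoh.depth (EGA4.FibLocRing A B q.asIdeal) _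
          (Ega4C.SkFlat.isLocalRing_fibLocRing (B := A) q.asIdeal)
          (EGA4.FibLocMod A B q.asIdeal M) _ _ : ℕ∞) : WithBot ℕ∞)}


theorem isOpen_of_affCM (haff : AffCM.{u}) [LocallyOfFinitePresentation f] (hF : CohB1.IsFP F)
    (hflat : FlatMod.IsFlatOver f F) :
    IsOpen {x : X |
      Subsingleton (((Scheme.Modules.pullback (f.fiberι (f.base x))).obj F).presheaf.stalk (f.asFiber x)) ∨
      LocCoh.IsCohenMacaulayModule ((f.fiber (f.base x)).presheaf.stalk (f.asFiber x))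
        (((Scheme.Modules.pullback (f.fiberι (f.base x))).obj F).presheaf.stalk (f.asFiber x))} := by
  have hqc := PerfC.FPSections.isQCoh_of_isFP hF
  rw [isOpen_iff_forall_mem_open]
  intro y hy
  obtain ⟨V, hV, hyV, -⟩ := exists_isAffineOpen_mem_and_subset (x := f y) (U := ⊤) trivial
  obtain ⟨U, hU, hyU, h⟩ := exists_isAffineOpen_mem_and_subset (x := y) (U := f ⁻¹ᵁ V) hyV
  let i1 : Algebra Γ(S, V) Γ(X, U) := (f.appLE V U h).hom.toAlgebra
  have hi1 : algebraMap Γ(S, V) Γ(X, U) = (f.appLE V U h).hom := rfl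
  let i2 : Module Γ(S, V) Γ(F, U) := Module.compHom Γ(F, U) (f.appLE V U h).hom
  have t1 : IsScalarTower Γ(S, V) Γ(X, U) Γ(F, U) := ⟨fun a b m => mul_smul (f.appLE V U h a) b m⟩
  have h1 : Algebra.FinitePresentation Γ(S, V) Γ(X, U) := f.finitePresentation_appLE hV hU h
  have h2 : Module.FinitePresentation Γ(X, U) Γ(F, U) :=
    Desc.FPSections.finitePresentation_sections hU hqc hF
  have h3 : Module.Flat Γ(S, V) Γ(F, U) := flat_sections f F hqc hflat hV hU h hi1
  have ho := haff Γ(S, V) Γ(X, U) Γ(F, U)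
  have hcont : Continuous hU.primeIdealOf := hU.isoSpec.hom.continuous
  refine ⟨Subtype.val '' (hU.primeIdealOf ⁻¹' _), ?_,
    U.isOpenEmbedding'.isOpenMap _ (ho.preimage hcont), ⟨⟨y, hyU⟩, ?_, rfl⟩⟩
  · rintro _ ⟨⟨x, hx⟩, hxq, rfl⟩
    exact (cmz_iff_fibLoc f F hqc hV hU h x hx hi1).mpr hxq
  · exact (cmz_iff_fibLoc f F hqc hV hU h y hyU hi1).mp hy

end Scheme

end Groth.Agent.Ega43.FibSch2
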