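import Groth.Agent.Ega43.FibSpec
import Groth.Agent.Ega4B.DepthTransfer
import Groth.Agent.Ega4B.LocTransfer
import Groth.Agent.Ega4C.SkFlat
import Groth.Agent.Ega4B.SkLocal

/-!
# Fibre modules along surjections `P → B` of algebras; `(S_k)` for the fibre local rings
-/

set_option autoImplicit false
universe u

open TensorProduct EGA4 Function

namespace Groth.Agent.Ega43.FibTransfer

section Quot

variable {B C : Type u} [CommRing B] [CommRing C] (σ : B →+* C) (hσ : Surjective σ)
  {N N' : Type u} [AddCommGroup N] [Module B N] [AddCommGroup N'] [Module C N']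
  (e : N ≃+ N') (he : ∀ (b : B) (n : N), e (b • n) = σ b • e n)

include hσ he in
theorem mem_smul_iff (J : Ideal B) (x : N) :
    e x ∈ (J.map σ • (⊤ : Submodule C N')) ↔ x ∈ (J • (⊤ : Submodule B N)) := by
  constructor
  · intro h
    have : ∀ y ∈ (J.map σ • (⊤ : Submodule C N')), e.symm y ∈ (J • (⊤ : Submodule B N)) := by
      intro y hy
      refine Submodule.smul_induction_on hy ?_ ?_
      · intro r hr n _
        obtain ⟨b, hb, rfl⟩ := (Ideal.mem_map_iff_of_surjective σ hσ).mp hr
        have : e.symm (σ b • n) = b • e.symm n := by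
          apply e.injective
          rw [he, AddEquiv.apply_symm_apply, AddEquiv.apply_symm_apply]
        rw [this]
        exact Submodule.smul_mem_smul hb trivial
      · intro a b ha hb
        rw [map_add]
        exact add_mem ha hb
    have h1 := this _ h
    rwa [AddEquiv.symm_apply_apply] at h1
  · intro h
    refine Submodule.smul_induction_on h ?_ ?_
    · intro r hr n _
      rw [he]
      exact Submodule.smul_mem_smul (Ideal.mem_map_of_mem σ hr) trivial
    · intro a b ha hb
      rw [map_add]
      exact add_mem ha hb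

include hσ he in
/-- Semilinear equivalences pass to the quotients by `J`. -/
theorem exists_quot_equiv (J : Ideal B) (J' : Ideal C) (hJ : J.map σ = J') :
    ∃ (σ' : (B ⧸ J) →+* (C ⧸ J')) (e' : (N ⧸ (J • (⊤ : Submodule B N))) ≃+
      (N' ⧸ (J' • (⊤ : Submodule C N')))), Surjective σ' ∧
      ∀ (b : B ⧸ J) (n : N ⧸ (J • (⊤ : Submodule B N))), e' (b • n) = σ' b • e' n := by
  subst hJ
  let σ' : (B ⧸ J) →+* (C ⧸ J.map σ) := Ideal.quotientMap (J.map σ) σ Ideal.le_comap_map
  have hσ' : Surjective σ' := Ideal.quotientMap_surjective hσ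
  have hmap : AddSubgroup.map (e : N →+ N') (J • (⊤ : Submodule B N)).toAddSubgroup =
      (J.map σ • (⊤ : Submodule C N')).toAddSubgroup := by
    ext y
    rw [AddSubgroup.mem_map]
    constructor
    · rintro ⟨x, hx, rfl⟩
      exact (mem_smul_iff σ hσ e he J x).mpr hx
    · intro hy
      refine ⟨e.symm y, ?_, e.apply_symm_apply y⟩
      refine (mem_smul_iff σ hσ e he J (e.symm y)).mp ?_
      rw [AddEquiv.apply_symm_apply]
      exact hy
  let e' : (N ⧸ (J • (⊤ : Submodule B N))) ≃+ (N' ⧸ (J.map σ • (⊤ : Submodule C N'))) :=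
    QuotientAddGroup.congr _ _ e hmap
  refine ⟨σ', e', hσ', ?_⟩
  intro b n
  obtain ⟨b, rfl⟩ := Ideal.Quotient.mk_surjective b
  obtain ⟨n, rfl⟩ := Submodule.Quotient.mk_surjective _ n
  change Submodule.Quotient.mk (e (b • n)) = Submodule.Quotient.mk (σ b • e n)
  rw [he]

end Quot

section Fib

variable {A P B : Type u} [CommRing A] [CommRing P] [CommRing B] [Algebra A P] [Algebra A B]
  [Algebra P B] [IsScalarTower A P B] (hs : Surjective (algebraMap P B))
  (M : Type u) [AddCommGroup M] [Module P M] [Module B M] [IsScalarTower P B M]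

include hs in
theorem exists_fib_equiv (q : Ideal B) [q.IsPrime] :
    ∃ (σ : FibLocRing A P (q.comap (algebraMap P B)) →+* FibLocRing A B q)
      (e : FibLocMod A P (q.comap (algebraMap P B)) M ≃+ FibLocMod A B q M), Surjective σ ∧
      ∀ (b : FibLocRing A P (q.comap (algebraMap P B)))
        (n : FibLocMod A P (q.comap (algebraMap P B)) M), e (b • n) = σ b • e n := by
  have h1 : algebraMap P B 1 ∉ q := by
    rw [map_one]; exact q.ne_top_iff_one.mp (Ideal.IsPrime.ne_top ‹_›)
  have H0 : ∀ a : B, ∃ s r : P, algebraMap P B s ∉ q ∧ a * algebraMap P B s = algebraMap P B r := by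
    intro a
    obtain ⟨r, rfl⟩ := hs a
    exact ⟨1, r, h1, by simp⟩
  obtain ⟨e, he⟩ := Ega4B.LocTransfer.exists_semilinearEquiv (LinearMap.id : M →ₗ[P] M) q H0
    (fun m ↦ ⟨1, h1, m, by simp⟩) (fun m hm ↦ ⟨1, h1, by simpa using hm⟩)
  refine exists_quot_equiv _ (Ega4B.LocTransfer.localRingHom_surjective q H0) e he _ _ ?_
  rw [Ideal.map_map]
  have h2 : (q.comap (algebraMap P B)).comap (algebraMap A P) = q.comap (algebraMap A B) := by
    rw [Ideal.comap_comap, ← IsScalarTower.algebraMap_eq]
  rw [h2]
  congr 1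
  ext a
  rw [RingHom.comp_apply, IsScalarTower.algebraMap_apply A P (Localization.AtPrime _),
    Localization.localRingHom_to_map, ← IsScalarTower.algebraMap_apply A P B,
    ← IsScalarTower.algebraMap_apply A B]

end Fib

end Groth.Agent.Ega43.FibTransfer
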