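import Groth.Agent.Ega43.FibreTop
import Mathlib.RingTheory.KrullDimension.Polynomial
import Mathlib.RingTheory.KrullDimension.Field
import Mathlib.AlgebraicGeometry.Morphisms.FiniteType

/-!
# The fibre dimension of a morphism locally of finite type is a natural number
-/

set_option autoImplicit false
open CategoryTheory AlgebraicGeometry TensorProduct Topology
universe u

namespace Groth.Agent.Ega43.FibreDimFinite

/-- A finite type algebra over a field has finite dimension. -/
lemma exists_ringKrullDim_le (k F : Type*) [Field k] [CommRing F] [Algebra k F]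
    [Algebra.FiniteType k F] : ∃ n : ℕ, ringKrullDim F ≤ n := by
  obtain ⟨n, f, hf⟩ := Algebra.FiniteType.iff_quotient_mvPolynomial''.mp
    (inferInstance : Algebra.FiniteType k F)
  refine ⟨n, (ringKrullDim_le_of_surjective f.toRingHom hf).trans ?_⟩
  rw [MvPolynomial.ringKrullDim_of_isNoetherianRing, ringKrullDim_eq_zero_of_field, zero_add]
  simp

lemma exists_nat_of_le {a : WithBot ℕ∞} (h0 : 0 ≤ a) {n : ℕ} (hn : a ≤ n) : ∃ d : ℕ, a = d := by
  induction a with
  | bot => simp at h0
  | coe a =>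
    induction a with
    | top =>
      exfalso
      have h1 : ((⊤ : ℕ∞) : WithBot ℕ∞) ≤ ((n : ℕ∞) : WithBot ℕ∞) := hn
      rw [WithBot.coe_le_coe] at h1
      exact absurd h1 (by simp)
    | coe m => exact ⟨m, rfl⟩

lemma localDim_nonneg {X : Type*} [TopologicalSpace X] (x : X) : 0 ≤ FlatMor.localDim X x := by
  obtain ⟨U, hU, h⟩ := FibreTop.exists_localDim_eq x
  rw [← h]
  haveI : Nonempty (U : Set X) := ⟨⟨x, hU⟩⟩
  haveI : Nonempty (TopologicalSpace.IrreducibleCloseds (U : Set X)) :=
    ⟨⟨closure {⟨x, hU⟩}, isIrreducible_singleton.closure, isClosed_closure⟩⟩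
  exact Order.krullDim_nonneg

/-- The fibre dimension at a point is a natural number. -/
theorem exists_fibreDimAt_eq {X Y : Scheme.{u}} (f : X ⟶ Y) [LocallyOfFiniteType f] (x : X) :
    ∃ d : ℕ, FlatMor.fibreDimAt f x = d := by
  obtain ⟨V', hV', hyV', -⟩ := exists_isAffineOpen_mem_and_subset
    (x := f x) (U := (⊤ : Y.Opens)) trivial
  obtain ⟨V, hV, hxV, hle⟩ := exists_isAffineOpen_mem_and_subset
    (x := x) (U := (f ⁻¹ᵁ V' : X.Opens)) hyV'
  let A : Type u := Γ(Y, V')
  let C : Type u := Γ(X, V)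
  letI : Algebra A C := (f.appLE V' V hle).hom.toAlgebra
  let k : Spec (CommRingCat.of C) ⟶ X := hV.fromSpec
  let i : Spec (CommRingCat.of A) ⟶ Y := hV'.fromSpec
  have h : k ≫ f = Spec.map (CommRingCat.ofHom (algebraMap A C)) ≫ i :=
    (IsAffineOpen.SpecMap_appLE_fromSpec f hV' hV hle).symm
  haveI : Algebra.FiniteType A C :=
    (HasRingHomProperty.appLE @LocallyOfFiniteType f inferInstance ⟨V', hV'⟩ ⟨V, hV⟩ hle :)
  have hrk : Set.range k = (V : Set X) := hV.range_fromSpec
  obtain ⟨q, hq⟩ : ∃ q : PrimeSpectrum C, k q = x := by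
    have : x ∈ Set.range k := by rw [hrk]; exact hxV
    exact this
  have hy : i (PrimeSpectrum.comap (algebraMap A C) q) = f (k q) := by
    rw [← Scheme.Hom.comp_apply, h, Scheme.Hom.comp_apply]
    rfl
  have h1 := FibreTop.fibreDimAt_le_ringKrullDim f k i h _ q hy
  rw [hq] at h1
  obtain ⟨n, hn⟩ := exists_ringKrullDim_le
    (PrimeSpectrum.comap (algebraMap A C) q).asIdeal.ResidueField
    ((PrimeSpectrum.comap (algebraMap A C) q).asIdeal.Fiber C)
  exact exists_nat_of_le (localDim_nonneg _) (h1.trans hn)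

end Groth.Agent.Ega43.FibreDimFinite
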