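import Groth.Agent.FlatA.FibreQF
import Groth.Agent.VarietyB.DimTop

/-!
# The fibre dimension at a point of a morphism locally of finite type is a natural number
-/

set_option autoImplicit false
universe u
open CategoryTheory AlgebraicGeometry TopologicalSpace

namespace Groth.Agent.Ega43.FibreDimNat

theorem zero_le_localDim {X : Type*} [TopologicalSpace X] (x : X) : 0 ≤ FlatMor.localDim X x := by
  refine VarietyB.DimTop.le_localDim fun U hU ↦ ?_
  have : Nonempty (IrreducibleCloseds (U : Set X)) :=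
    ⟨⟨closure {⟨x, hU⟩}, isIrreducible_singleton.closure, isClosed_closure⟩⟩
  exact Order.krullDim_nonneg

theorem exists_natCast_fibreDimAt {X Y : Scheme.{u}} (f : X ⟶ Y) [LocallyOfFiniteType f] (x : X) :
    ∃ d : ℕ, FlatMor.fibreDimAt f x = d := by
  obtain ⟨V, hV, hxV, -⟩ := exists_isAffineOpen_mem_and_subset (U := ⊤) (x := f x) (by trivial)
  obtain ⟨U, hU, hxU, hUV⟩ := exists_isAffineOpen_mem_and_subset (U := f ⁻¹ᵁ V) (x := x) hxV
  have e : U ≤ f ⁻¹ᵁ V := hUV
  have hft : (f.appLE V U e).hom.FiniteType := f.finiteType_appLE hV hU e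
  let := (f.appLE V U e).hom.toAlgebra
  have : Algebra.FiniteType Γ(Y, V) Γ(X, U) := hft
  have h1 := FlatA.FibreDim.fibreDimAt_fromSpec f hV hU e (hU.primeIdealOf ⟨x, hxU⟩)
  rw [hU.fromSpec_primeIdealOf ⟨x, hxU⟩] at h1
  obtain ⟨n, φ, hφ⟩ := (Algebra.FiniteType.iff_quotient_mvPolynomial'' (R := Γ(Y, V)) (S := Γ(X, U))).mp this
  have hqf : φ.toRingHom.QuasiFinite := by
    algebraize [φ.toRingHom]
    have : Module.Finite (MvPolynomial (Fin n) Γ(Y, V)) Γ(X, U) :=
      Module.Finite.of_surjective (Algebra.linearMap _ _) hφ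
    change Algebra.QuasiFinite _ _
    infer_instance
  have h2 : FlatMor.fibreDimAt f x ≤ n := by
    rw [h1]
    refine (VarietyB.DimTop.localDim_le_dim _).trans ?_
    have := FlatA.FibreQF.topologicalKrullDim_fibre_eq Γ(Y, V) Γ(X, U)
      (PrimeSpectrum.comap (algebraMap Γ(Y, V) Γ(X, U)) (hU.primeIdealOf ⟨x, hxU⟩))
    refine this.trans_le ?_
    exact FlatA.FibreQF.ringKrullDim_fiber_le Γ(Y, V) Γ(X, U) φ hqf _
  have h3 : 0 ≤ FlatMor.fibreDimAt f x := zero_le_localDim _
  generalize FlatMor.fibreDimAt f x = a at h2 h3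
  induction a using WithBot.recBotCoe with
  | bot => simp at h3
  | coe a =>
    have : a ≤ n := by exact_mod_cast h2
    obtain ⟨d, hd⟩ := ENat.ne_top_iff_exists.mp (ne_top_of_le_ne_top (ENat.natCast_ne_top n) this)
    exact ⟨d, by rw [← hd]; rfl⟩

end Groth.Agent.Ega43.FibreDimNat
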