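import Mathlib.AlgebraicGeometry.Fiber

/-!
If a pointwise property of fibres is open on the source and `f` is a closed map, then the set of
points `y` of the target such that the property holds at all points of the fibre over `y` is open.
-/

set_option autoImplicit false
universe u

open CategoryTheory AlgebraicGeometry

namespace Groth.Agent.Ega43.FibreForall

theorem asFiber_iff {X Y : Scheme.{u}} (f : X ⟶ Y)
    (P : ∀ y : Y, ↥(f.fiber y) → Prop) (y : Y) (x : ↥(f.fiber y)) :
    P y x ↔ P (f (f.fiberι y x)) (f.asFiber (f.fiberι y x)) := by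
  have h : f (f.fiberι y x) = y := by
    have : f.fiberι y x ∈ Set.range (f.fiberι y) := ⟨x, rfl⟩
    rw [f.range_fiberι y] at this
    exact this
  have key : ∀ (x0 : X) (y : Y) (h : f x0 = y) (x : ↥(f.fiber y)) (hx : f.fiberι y x = x0),
      P y x ↔ P (f x0) (f.asFiber x0) := by
    intro x0 y h x hx
    subst h
    have : x = f.asFiber x0 := by
      apply (f.fiberι (f x0)).isEmbedding.injective
      rw [hx, f.fiberι_asFiber]
    rw [this]
  exact key _ y h x rfl

theorem setOf_forall_eq {X Y : Scheme.{u}} (f : X ⟶ Y)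
    (P : ∀ y : Y, ↥(f.fiber y) → Prop) :
    {y : Y | ∀ x : ↥(f.fiber y), P y x} = (f '' {x : X | P (f x) (f.asFiber x)}ᶜ)ᶜ := by
  ext y
  simp only [Set.mem_ofPred_eq, Set.mem_compl_iff, Set.mem_image, not_exists, not_and, not_imp_not]
  constructor
  · rintro h x rfl
    exact h _
  · intro h x
    rw [asFiber_iff f P y x]
    refine h _ ?_
    have : f.fiberι y x ∈ Set.range (f.fiberι y) := ⟨x, rfl⟩
    rw [f.range_fiberι y] at this
    exact this

theorem isOpen_setOf_forall {X Y : Scheme.{u}} (f : X ⟶ Y) (hf : IsClosedMap f)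
    (P : ∀ y : Y, ↥(f.fiber y) → Prop)
    (h : IsOpen {x : X | P (f x) (f.asFiber x)}) :
    IsOpen {y : Y | ∀ x : ↥(f.fiber y), P y x} := by
  rw [setOf_forall_eq]
  exact (hf _ h.isClosed_compl).isOpen_compl

end Groth.Agent.Ega43.FibreForall
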