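import Mathlib.RingTheory.Flat.Localization
import Mathlib.RingTheory.Filtration
import Mathlib.RingTheory.FiniteLength
import Mathlib.RingTheory.HopkinsLevitzki
import Mathlib.RingTheory.Ideal.MinimalPrime.Localization
import Mathlib.LinearAlgebra.TensorProduct.Quotient
import Mathlib.RingTheory.LocalRing.ResidueField.Basic
import Mathlib.RingTheory.Flat.FaithfullyFlat.Basic
import Mathlib.RingTheory.Noetherian.Basic
import Mathlib.RingTheory.SimpleModule.Basic
import Mathlib.RingTheory.Ideal.KrullsHeightTheorem
import Mathlib.RingTheory.Flat.Tensor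

set_option autoImplicit false

open TensorProduct IsLocalRing

namespace Groth.Agent.Ega43.FlatAss

universe u v

section Simple

variable {A : Type u} {B : Type v} [CommRing A] [CommRing B] [Algebra A B] [IsLocalRing A]

theorem mem_of_algebraMap_mem_smul_top (z : Ideal B) [z.IsPrime]
    (hz : (maximalIdeal A).map (algebraMap A B) ≤ z) (b : B)
    (hb : algebraMap B (Localization.AtPrime z) b ∈
      ((maximalIdeal A) • (⊤ : Submodule A (Localization.AtPrime z)))) : b ∈ z := by
  rw [← IsLocalization.AtPrime.to_map_mem_maximal_iff (Localization.AtPrime z) z b]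
  refine Submodule.smul_induction_on (p := fun y => y ∈ maximalIdeal (Localization.AtPrime z))
    hb (fun a ha y _ => ?_) (fun x y hx hy => add_mem hx hy)
  rw [Algebra.smul_def, IsScalarTower.algebraMap_apply A B (Localization.AtPrime z)]
  refine Ideal.mul_mem_right _ _ ?_
  rw [IsLocalization.AtPrime.to_map_mem_maximal_iff (Localization.AtPrime z) z]
  exact hz (Ideal.mem_map_of_mem _ ha)

/-- If `B_z` is `A`-flat for every prime `z` minimal over `m_A B` and `B / m_A B` is reduced, then
tensoring with `B` preserves injectivity of maps from simple modules. -/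
theorem lTensor_injective_of_isSimpleModule
    (hred : ((maximalIdeal A).map (algebraMap A B)).IsRadical)
    (hflat : ∀ (z : Ideal B) [z.IsPrime], z ∈ ((maximalIdeal A).map (algebraMap A B)).minimalPrimes →
      Module.Flat A (Localization.AtPrime z))
    {S N : Type*} [AddCommGroup S] [Module A S] [AddCommGroup N] [Module A N]
    [IsSimpleModule A S] (i : S →ₗ[A] N) (hi : Function.Injective i) :
    Function.Injective (i.lTensor B) := by
  obtain ⟨I, hI, ⟨e⟩⟩ := isSimpleModule_iff_quot_maximal.mp (inferInstance : IsSimpleModule A S)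
  obtain rfl : I = maximalIdeal A := IsLocalRing.eq_maximalIdeal hI
  set s : S := e.symm (Ideal.Quotient.mk _ 1) with hs
  have hgen : ∀ x : B ⊗[A] S, ∃ b : B, x = b ⊗ₜ s := by
    intro x
    induction x with
    | zero => exact ⟨0, by simp⟩
    | tmul b t =>
      obtain ⟨a, ha⟩ := Ideal.Quotient.mk_surjective (e t)
      refine ⟨a • b, ?_⟩
      rw [TensorProduct.smul_tmul]
      congr 1
      apply e.injective
      rw [map_smul, hs, LinearEquiv.apply_symm_apply, ← ha]
      simp [Algebra.smul_def]
    | add x y hx hy =>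
      obtain ⟨b, rfl⟩ := hx
      obtain ⟨c, rfl⟩ := hy
      exact ⟨b + c, by rw [add_tmul]⟩
  rw [injective_iff_map_eq_zero]
  intro x hx
  obtain ⟨b, rfl⟩ := hgen x
  have hb : b ∈ (maximalIdeal A).map (algebraMap A B) := by
    rw [← hred.radical, ← Ideal.sInf_minimalPrimes, Ideal.mem_sInf]
    intro z hz
    have : z.IsPrime := hz.1.1
    have := hflat z hz
    refine mem_of_algebraMap_mem_smul_top z hz.1.2 b ?_
    have h1 : (i.lTensor (Localization.AtPrime z))
        (algebraMap B (Localization.AtPrime z) b ⊗ₜ s) = 0 := by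
      have := congrArg ((Algebra.linearMap B (Localization.AtPrime z)).restrictScalars A
        |>.rTensor N) hx
      simpa using this
    have h2 : algebraMap B (Localization.AtPrime z) b ⊗ₜ[A] s = 0 :=
      (Module.Flat.lTensor_preserves_injective_linearMap
        (M := Localization.AtPrime z) i hi) (by rw [h1, map_zero])
    have h3 := congrArg (TensorProduct.tensorQuotEquivQuotSMul (Localization.AtPrime z)
      (maximalIdeal A)) (congrArg ((e : S →ₗ[A] _).lTensor _) h2)
    rw [LinearMap.lTensor_tmul, map_zero, map_zero, hs, LinearEquiv.coe_coe,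
      LinearEquiv.apply_symm_apply, TensorProduct.tensorQuotEquivQuotSMul_tmul_mk,
      Submodule.Quotient.mk_eq_zero, one_smul] at h3
    exact h3
  have hs0 : ∀ a ∈ maximalIdeal A, a • s = 0 := by
    intro a ha
    apply e.injective
    rw [map_smul, hs, LinearEquiv.apply_symm_apply, map_zero]
    change Ideal.Quotient.mk _ (a * 1) = 0
    rw [mul_one]
    exact Ideal.Quotient.eq_zero_iff_mem.mpr ha
  have hle : (maximalIdeal A).map (algebraMap A B) ≤
      LinearMap.ker ((LinearMap.toSpanSingleton B (B ⊗[A] S) (1 ⊗ₜ s))) := by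
    rw [Ideal.map_le_iff_le_comap]
    intro a ha
    rw [Ideal.mem_comap, LinearMap.mem_ker, LinearMap.toSpanSingleton_apply,
      TensorProduct.smul_tmul', smul_eq_mul, mul_one, Algebra.algebraMap_eq_smul_one,
      TensorProduct.smul_tmul, hs0 a ha, tmul_zero]
  have := hle hb
  rwa [LinearMap.mem_ker, LinearMap.toSpanSingleton_apply, TensorProduct.smul_tmul', smul_eq_mul,
    mul_one] at this

/-- Same for modules of finite length. -/
theorem lTensor_injective_of_isFiniteLength
    (hred : ((maximalIdeal A).map (algebraMap A B)).IsRadical)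
    (hflat : ∀ (z : Ideal B) [z.IsPrime], z ∈ ((maximalIdeal A).map (algebraMap A B)).minimalPrimes →
      Module.Flat A (Localization.AtPrime z))
    {S : Type u} [AddCommGroup S] [Module A S] (hS : IsFiniteLength A S) :
    ∀ {N : Type u} [AddCommGroup N] [Module A N] (i : S →ₗ[A] N) (_ : Function.Injective i),
    Function.Injective (i.lTensor B) := by
  induction hS with
  | of_subsingleton =>
    intro N _ _ i _
    exact Function.injective_of_subsingleton _
  | @of_simple_quotient M _ _ P _ _ ih =>
    intro N _ _ i hi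
    rw [injective_iff_map_eq_zero]
    intro x hx
    have hcomp : ∀ y, ((P.mapQ (P.map i) i (Submodule.le_comap_map i P)).lTensor B)
        ((P.mkQ.lTensor B) y) = ((P.map i).mkQ.lTensor B) ((i.lTensor B) y) := by
      intro y
      rw [← LinearMap.comp_apply, ← LinearMap.comp_apply, ← LinearMap.lTensor_comp,
        ← LinearMap.lTensor_comp]
      rfl
    have hinj : Function.Injective (P.mapQ (P.map i) i (Submodule.le_comap_map i P)) := by
      rw [← LinearMap.ker_eq_bot, Submodule.ker_mapQ, Submodule.comap_map_eq_of_injective hi,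
        Submodule.mkQ_map_self]
    have h1 : (P.mkQ.lTensor B) x = 0 := by
      apply lTensor_injective_of_isSimpleModule hred hflat _ hinj
      rw [hcomp, hx, map_zero, map_zero]
    have hex : Function.Exact (P.subtype.lTensor B) (P.mkQ.lTensor B) :=
      lTensor_exact B (LinearMap.exact_subtype_mkQ P) P.mkQ_surjective
    obtain ⟨y, rfl⟩ := (hex x).mp h1
    have h2 : ((i ∘ₗ P.subtype).lTensor B) y = 0 := by
      rw [LinearMap.lTensor_comp, LinearMap.comp_apply, hx]
    have h3 := ih (i ∘ₗ P.subtype) (hi.comp P.subtype_injective)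
    rw [(injective_iff_map_eq_zero _).mp h3 y h2, map_zero]

end Simple

section Main

variable {A : Type u} {B : Type v} [CommRing A] [CommRing B] [Algebra A B] [IsLocalRing A]

theorem isFiniteLength_quotient_pow [IsNoetherianRing A] (n : ℕ) :
    IsFiniteLength A (A ⧸ maximalIdeal A ^ n) := by
  rw [isFiniteLength_iff_isNoetherian_isArtinian]
  refine ⟨inferInstance, ?_⟩
  rcases Nat.eq_zero_or_pos n with rfl | hn
  · rw [pow_zero, Ideal.one_eq_top]
    have : Subsingleton (A ⧸ (⊤ : Ideal A)) := Ideal.Quotient.subsingleton_iff.mpr rfl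
    infer_instance
  · have hmin : maximalIdeal A ∈ (maximalIdeal A ^ n).minimalPrimes := by
      refine ⟨⟨inferInstance, Ideal.pow_le_self hn.ne'⟩, ?_⟩
      rintro q ⟨hq, hle⟩ _
      exact hq.le_of_pow_le hle
    have := IsLocalRing.quotient_artinian_of_mem_minimalPrimes_of_isLocalRing _ hmin
    exact isArtinian_of_surjective_algebraMap (M := A ⧸ maximalIdeal A ^ n)
      (S := A) (R := A ⧸ maximalIdeal A ^ n) Ideal.Quotient.mk_surjective

/-- Let `A → B` be a local homomorphism of Noetherian local rings such that `B / m_A B` is reduced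
and `B_z` is `A`-flat for every prime `z` minimal over `m_A B`.  Then `B` is `A`-flat. -/
theorem flat_of_flat_minimalPrimes [IsNoetherianRing A] [IsNoetherianRing B] [IsLocalRing B]
    [IsLocalHom (algebraMap A B)]
    (hred : ((maximalIdeal A).map (algebraMap A B)).IsRadical)
    (hflat : ∀ (z : Ideal B) [z.IsPrime], z ∈ ((maximalIdeal A).map (algebraMap A B)).minimalPrimes →
      Module.Flat A (Localization.AtPrime z)) :
    Module.Flat A B := by
  rw [Module.Flat.iff_lTensor_injective']
  intro J
  rw [injective_iff_map_eq_zero]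
  intro x hx
  set m := maximalIdeal A with hm
  set mB := m.map (algebraMap A B) with hmB
  have hmBne : mB ≠ ⊤ := by
    intro h
    have : mB ≤ maximalIdeal B := by
      rw [hmB, hm, Ideal.map_le_iff_le_comap]
      intro a ha hu
      exact ha (isUnit_of_map_unit (algebraMap A B) a hu)
    exact (maximalIdeal.isMaximal B).ne_top (top_le_iff.mp (h ▸ this))
  -- the key membership
  obtain ⟨k, hk⟩ := Ideal.exists_pow_inf_eq_pow_smul m (M := A) J
  have key : ∀ n : ℕ, x ∈ (mB ^ n • ⊤ : Submodule B (B ⊗[A] J)) := by
    intro n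
    -- work modulo m ^ (n + k)
    set P : Submodule A J := Submodule.comap J.subtype (m ^ (n + k)) with hP
    have hinj : Function.Injective (P.mapQ (m ^ (n + k)) J.subtype le_rfl) := by
      rw [← LinearMap.ker_eq_bot, Submodule.ker_mapQ, ← hP, Submodule.mkQ_map_self]
    have hfl : IsFiniteLength A (J ⧸ P) :=
      (isFiniteLength_quotient_pow (n + k)).of_injective hinj
    have h1 : (P.mkQ.lTensor B) x = 0 := by
      apply lTensor_injective_of_isFiniteLength hred hflat hfl _ hinj
      rw [map_zero, ← LinearMap.comp_apply, ← LinearMap.lTensor_comp]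
      have : (P.mapQ (m ^ (n + k)) J.subtype le_rfl) ∘ₗ P.mkQ =
          (Submodule.mkQ (m ^ (n + k))) ∘ₗ J.subtype := rfl
      rw [this, LinearMap.lTensor_comp, LinearMap.comp_apply, hx, map_zero]
    have hex : Function.Exact (P.subtype.lTensor B) (P.mkQ.lTensor B) :=
      lTensor_exact B (LinearMap.exact_subtype_mkQ P) P.mkQ_surjective
    obtain ⟨y, rfl⟩ := (hex x).mp h1
    have hPle : P ≤ m ^ n • (⊤ : Submodule A J) := by
      intro p hp
      have h2 : (p : A) ∈ m ^ (n + k) • (⊤ : Submodule A A) ⊓ J := by
        refine ⟨?_, p.2⟩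
        rw [smul_eq_mul, Ideal.mul_top]
        exact hp
      rw [hk (n + k) (Nat.le_add_left _ _), Nat.add_sub_cancel] at h2
      have h3 : (p : A) ∈ m ^ n • J :=
        Submodule.smul_mono le_rfl inf_le_right h2
      have h4 : Submodule.map J.subtype (m ^ n • (⊤ : Submodule A J)) = m ^ n • J := by
        rw [Submodule.map_smul'', Submodule.map_top, Submodule.range_subtype]
      rw [← h4] at h3
      obtain ⟨q, hq, hqp⟩ := h3
      rwa [Subtype.coe_injective hqp] at hq
    clear hx h1
    induction y with
    | zero => rw [map_zero]; exact zero_mem _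
    | add y z hy hz => rw [map_add]; exact add_mem hy hz
    | tmul b p =>
      rw [LinearMap.lTensor_tmul]
      have hp := hPle p.2
      change b ⊗ₜ (p : J) ∈ _
      refine Submodule.smul_induction_on
        (p := fun p => b ⊗ₜ[A] (p : J) ∈ (mB ^ n • ⊤ : Submodule B (B ⊗[A] J))) hp ?_ ?_
      · intro a ha j _
        rw [← TensorProduct.smul_tmul, Algebra.smul_def, ← smul_eq_mul, ← TensorProduct.smul_tmul']
        refine Submodule.smul_mem_smul ?_ trivial
        rw [hmB, ← Ideal.map_pow]
        exact Ideal.mem_map_of_mem _ ha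
      · intro u v hu hv
        rw [tmul_add]
        exact add_mem hu hv
  have hfin : Module.Finite B (B ⊗[A] J) := inferInstance
  have h0 : x ∈ (⨅ i : ℕ, mB ^ i • ⊤ : Submodule B (B ⊗[A] J)) :=
    (Submodule.mem_iInf _).mpr key
  rw [Ideal.iInf_pow_smul_eq_bot_of_isLocalRing mB hmBne] at h0
  exact h0

end Main

end Groth.Agent.Ega43.FlatAss
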