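import Groth.Agent.Flat2D.NilpFlat
import Mathlib.RingTheory.TensorProduct.Basic

/-!
# Descent of flatness along an injective ring map, modulo a nilpotent ideal (Stacks 051C, 051D)
-/

set_option autoImplicit false
universe u v w

namespace Groth.Agent.Ega43.FlatDescNil

open TensorProduct Function

/-- Base change of flatness in a tower `R → S → T`: if `S ⊗_R M` is flat over `S`, then `T ⊗_R M` is flat over
`T`. -/
theorem flat_baseChange_tower {R S T M : Type*} [CommRing R] [CommRing S] [CommRing T]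
    [Algebra R S] [Algebra R T] [Algebra S T] [IsScalarTower R S T] [AddCommGroup M] [Module R M]
    (h : Module.Flat S (S ⊗[R] M)) : Module.Flat T (T ⊗[R] M) :=
  Module.Flat.of_linearEquiv
    (TensorProduct.AlgebraTensorModule.cancelBaseChange R S T T M).symm

/-- The converse bookkeeping: `S ⊗_R M` is flat over `S`-algebra `T` iff `T ⊗_R M` is. -/
theorem flat_cancelBaseChange_iff {R S T M : Type*} [CommRing R] [CommRing S] [CommRing T]
    [Algebra R S] [Algebra R T] [Algebra S T] [IsScalarTower R S T] [AddCommGroup M] [Module R M] :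
    Module.Flat T (T ⊗[S] (S ⊗[R] M)) ↔ Module.Flat T (T ⊗[R] M) :=
  Module.Flat.equiv_iff (TensorProduct.AlgebraTensorModule.cancelBaseChange R S T T M)

/-- Flatness of `S ⊗_R M` transports along an isomorphism of `R`-algebras. -/
theorem flat_of_algEquiv {R S T M : Type*} [CommRing R] [CommRing S] [CommRing T]
    [Algebra R S] [Algebra R T] [AddCommGroup M] [Module R M] (e : S ≃ₐ[R] T)
    (h : Module.Flat S (S ⊗[R] M)) : Module.Flat T (T ⊗[R] M) := by
  letI := e.toRingHom.toAlgebra
  haveI : IsScalarTower R S T := IsScalarTower.of_algebraMap_eq fun r => (e.commutes r).symm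
  exact flat_baseChange_tower h

/-- Transport along a ring hom of `R`-algebras. -/
theorem flat_of_algHom {R S T M : Type*} [CommRing R] [CommRing S] [CommRing T]
    [Algebra R S] [Algebra R T] [AddCommGroup M] [Module R M] (e : S →ₐ[R] T)
    (h : Module.Flat S (S ⊗[R] M)) : Module.Flat T (T ⊗[R] M) := by
  letI := e.toRingHom.toAlgebra
  haveI : IsScalarTower R S T := IsScalarTower.of_algebraMap_eq fun r => (e.commutes r).symm
  exact flat_baseChange_tower h

/-- `S → T` injective, `I² = 0`, `M/IM` flat over `S/I` and `T ⊗ M` flat over `T`; then `M` is flat over `S`. -/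
theorem flat_of_injective_of_sq_eq_bot {S T : Type u} [CommRing S] [CommRing T] [Algebra S T]
    (hinj : Injective (algebraMap S T)) (I : Ideal S) (hI : I ^ 2 = ⊥) {M : Type v}
    [AddCommGroup M] [Module S M] (h1 : Module.Flat (S ⧸ I) ((S ⧸ I) ⊗[S] M))
    (h2 : Module.Flat T (T ⊗[S] M)) : Module.Flat S M := by
  refine Groth.Agent.Flat2D.NilpFlat.flat_of_isNilpotent I ⟨2, hI⟩ ?_
  -- `I → I T` is an injection of `S/I`-modules
  set J : Ideal T := I.map (algebraMap S T) with hJ
  have hkill1 : Module.IsTorsionBySet S I (I : Set S) := by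
    rintro ⟨x, hx⟩ ⟨a, ha⟩
    apply Subtype.ext
    change a * x = 0
    have : a * x ∈ I ^ 2 := by rw [pow_two]; exact Ideal.mul_mem_mul ha hx
    rw [hI] at this
    exact this
  have hkill2 : Module.IsTorsionBySet S J (I : Set S) := by
    rintro ⟨x, hx⟩ ⟨a, ha⟩
    apply Subtype.ext
    change a • x = 0
    rw [Algebra.smul_def]
    have h3 : algebraMap S T a * x ∈ J ^ 2 := by
      rw [pow_two]; exact Ideal.mul_mem_mul (Ideal.mem_map_of_mem _ ha) hx
    rw [hJ, ← Ideal.map_pow, hI, Ideal.map_bot] at h3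
    exact h3
  letI := hkill1.module
  letI := hkill2.module
  haveI := hkill1.isScalarTower (S := S)
  haveI := hkill2.isScalarTower (S := S)
  let f : I →ₗ[S ⧸ I] J :=
    { toFun := fun x => ⟨algebraMap S T x.1, Ideal.mem_map_of_mem _ x.2⟩
      map_add' := fun x y => Subtype.ext (map_add _ _ _)
      map_smul' := by
        intro c x
        obtain ⟨r, rfl⟩ := Ideal.Quotient.mk_surjective c
        apply Subtype.ext
        change algebraMap S T (r * x.1) = r • algebraMap S T x.1
        rw [map_mul, Algebra.smul_def] }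
  have hf : Injective f := fun x y hxy => Subtype.ext (hinj (congrArg Subtype.val hxy))
  have e1 : Injective ((f.restrictScalars S).rTensor M) :=
    Groth.Agent.Flat2D.NilpFlat.rTensor_injective_of_algebra (S ⧸ I) f hf
  -- `J ⊗_S M → T ⊗_S M` is injective
  have e2 : Injective ((J.subtype.restrictScalars S).rTensor M) :=
    Groth.Agent.Flat2D.NilpFlat.rTensor_injective_of_algebra T J.subtype Subtype.val_injective
  have e3 : ∀ z, (Algebra.linearMap S T).rTensor M (I.subtype.rTensor M z) =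
      (J.subtype.restrictScalars S).rTensor M ((f.restrictScalars S).rTensor M z) := by
    intro z
    rw [← LinearMap.comp_apply, ← LinearMap.comp_apply, ← LinearMap.rTensor_comp,
      ← LinearMap.rTensor_comp]
    rfl
  intro x y hxy
  apply e1
  apply e2
  rw [← e3, ← e3, hxy]

/-- Stacks 051C, version with an `S`-algebra `T` in which `I²` dies: let `R → T` be a ring map with kernel `𝔨`,
`I` an ideal with `I² ≤ 𝔨`, `M/IM` flat over `R/I`, `T ⊗ M` flat over `T`; then `M/𝔨M` is flat over `R/𝔨`. -/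
theorem flat_quotient_ker {R T : Type u} [CommRing R] [CommRing T] [Algebra R T] (I : Ideal R)
    (hI : I ^ 2 ≤ RingHom.ker (algebraMap R T)) {M : Type v}
    [AddCommGroup M] [Module R M] (h1 : Module.Flat (R ⧸ I) ((R ⧸ I) ⊗[R] M))
    (h2 : Module.Flat T (T ⊗[R] M)) :
    Module.Flat (R ⧸ RingHom.ker (algebraMap R T)) ((R ⧸ RingHom.ker (algebraMap R T)) ⊗[R] M) := by
  set 𝔨 := RingHom.ker (algebraMap R T) with h𝔨
  let φ : R ⧸ 𝔨 →+* T := Ideal.Quotient.lift 𝔨 (algebraMap R T) (fun a ha => ha)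
  letI : Algebra (R ⧸ 𝔨) T := φ.toAlgebra
  haveI : IsScalarTower R (R ⧸ 𝔨) T := IsScalarTower.of_algebraMap_eq fun r => rfl
  have hφ : Injective (algebraMap (R ⧸ 𝔨) T) := Ideal.injective_lift_iff _ |>.2 rfl
  let Ib : Ideal (R ⧸ 𝔨) := I.map (Ideal.Quotient.mk 𝔨)
  have hIb : Ib ^ 2 = ⊥ := by
    rw [← Ideal.map_pow]
    rw [Ideal.map_eq_bot_iff_le_ker, Ideal.mk_ker]
    exact hI
  refine flat_of_injective_of_sq_eq_bot (T := T) hφ Ib hIb ?_ ?_
  · rw [flat_cancelBaseChange_iff]
    let ψ : R ⧸ I →ₐ[R] ((R ⧸ 𝔨) ⧸ Ib) :=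
      Ideal.Quotient.liftₐ I (Algebra.ofId R _) (fun a ha => by
        change algebraMap R ((R ⧸ 𝔨) ⧸ Ib) a = 0
        rw [IsScalarTower.algebraMap_apply R (R ⧸ 𝔨) ((R ⧸ 𝔨) ⧸ Ib)]
        exact Ideal.Quotient.eq_zero_iff_mem.2 (Ideal.mem_map_of_mem _ ha))
    exact flat_of_algHom ψ h1
  · rw [flat_cancelBaseChange_iff]
    exact h2

/-- Stacks 051C. `φ : R → R'`, `I` an ideal of `R`, `I₂ = φ⁻¹(φ(I)² R')`.  If `M/IM` is flat over `R/I` and
`R' ⊗ M` is flat over `R'` then `M/I₂M` is flat over `R/I₂`. -/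
theorem flat_quotient_comap_map_sq {R R' : Type u} [CommRing R] [CommRing R'] [Algebra R R']
    (I : Ideal R) {M : Type v}
    [AddCommGroup M] [Module R M] (h1 : Module.Flat (R ⧸ I) ((R ⧸ I) ⊗[R] M))
    (h2 : Module.Flat R' (R' ⊗[R] M)) :
    Module.Flat (R ⧸ ((I ^ 2).map (algebraMap R R')).comap (algebraMap R R'))
      ((R ⧸ ((I ^ 2).map (algebraMap R R')).comap (algebraMap R R')) ⊗[R] M) := by
  let T := R' ⧸ ((I ^ 2).map (algebraMap R R'))
  have hker : RingHom.ker (algebraMap R T) = ((I ^ 2).map (algebraMap R R')).comap (algebraMap R R') := by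
    rw [IsScalarTower.algebraMap_eq R R' T, RingHom.ker_eq_comap_bot, ← Ideal.comap_comap,
      ← RingHom.ker_eq_comap_bot]
    congr 1
    exact Ideal.mk_ker
  rw [← hker]
  refine flat_quotient_ker I ?_ h1 (flat_baseChange_tower h2)
  rw [hker]
  exact Ideal.le_comap_map

/-- Stacks 051D: `R → R'` injective, `I` nilpotent, `M/IM` flat over `R/I`, `R' ⊗ M` flat over `R'`; then `M` is
flat over `R`. -/
theorem flat_of_injective_of_isNilpotent {R R' : Type u} [CommRing R] [CommRing R'] [Algebra R R']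
    (hinj : Injective (algebraMap R R')) (I : Ideal R) (hI : IsNilpotent I) {M : Type v}
    [AddCommGroup M] [Module R M] (h1 : Module.Flat (R ⧸ I) ((R ⧸ I) ⊗[R] M))
    (h2 : Module.Flat R' (R' ⊗[R] M)) : Module.Flat R M := by
  -- chain of ideals
  let c : Ideal R → Ideal R := fun J => ((J ^ 2).map (algebraMap R R')).comap (algebraMap R R')
  have key : ∀ n : ℕ, ∃ J : Ideal R, Module.Flat (R ⧸ J) ((R ⧸ J) ⊗[R] M) ∧
      J.map (algebraMap R R') ≤ (I.map (algebraMap R R')) ^ (2 ^ n) := by
    intro n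
    induction n with
    | zero => exact ⟨I, h1, by simp⟩
    | succ n ih =>
      obtain ⟨J, hJ1, hJ2⟩ := ih
      refine ⟨c J, flat_quotient_comap_map_sq J hJ1 h2, ?_⟩
      refine Ideal.map_comap_le.trans ?_
      rw [Ideal.map_pow, pow_succ 2 n, pow_mul]
      exact Ideal.pow_right_mono hJ2 2
  obtain ⟨n, hn⟩ := hI
  obtain ⟨J, hJ1, hJ2⟩ := key n
  have hJ0 : J = ⊥ := by
    have h3 : J.map (algebraMap R R') ≤ ⊥ := by
      refine hJ2.trans ?_
      rw [← Ideal.map_pow]
      have h4 : I ^ (2 ^ n) = ⊥ := by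
        have h5 : I ^ (2 ^ n) ≤ I ^ n := Ideal.pow_le_pow_right (Nat.lt_two_pow_self).le
        rw [hn] at h5
        exact le_bot_iff.1 h5
      rw [h4, Ideal.map_bot]
    rw [le_bot_iff, Ideal.map_eq_bot_iff_of_injective hinj] at h3
    exact h3
  subst hJ0
  have h5 := flat_of_algEquiv (M := M) (AlgEquiv.quotientBot R R) hJ1
  exact (Module.Flat.equiv_iff (TensorProduct.lid R M)).1 h5

end Groth.Agent.Ega43.FlatDescNil
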