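import Groth.Agent.Ega43.FlatFamily
import Groth.Agent.Ega43.DvrIntegral
import Mathlib.RingTheory.RingHom.Flat
import Mathlib.RingTheory.Localization.BaseChange
import Mathlib.RingTheory.RingHom.Integral

/-!
# Flatness over discrete valuation rings: passage to localizations of tensor products
-/

set_option autoImplicit false
universe u v w

namespace Groth.Agent.Ega43.FlatDvr

open TensorProduct Function IsLocalRing Groth.Agent.Ega43.FlatDescNil

/-- Let `W` be a `V`-algebra, `Q` a prime of `W` with `W_Q` flat over `V`.  Let `T` be a `V`-algebra and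
`g : T ⊗_V W → Z` a flat ring map sending `1 ⊗ w` to a unit for all `w ∉ Q`.  Then `T → Z` is flat. -/
theorem flat_comp_of_flat_localization {V T W Z : Type u} [CommRing V] [CommRing T] [CommRing W]
    [CommRing Z] [Algebra V T] [Algebra V W] (Q : Ideal W) [Q.IsPrime]
    (hQ : Module.Flat V (Localization.AtPrime Q)) (g : T ⊗[V] W →+* Z) (hg : g.Flat)
    (hunit : ∀ w : W, w ∉ Q → IsUnit (g (1 ⊗ₜ w))) :
    (g.comp (algebraMap T (T ⊗[V] W))).Flat := by
  let X := T ⊗[V] W
  let Y := T ⊗[V] (Localization.AtPrime Q)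
  let j : X →ₐ[T] Y := Algebra.TensorProduct.map (AlgHom.id T T)
    (IsScalarTower.toAlgHom V W (Localization.AtPrime Q))
  letI : Algebra X Y := j.toRingHom.toAlgebra
  haveI : IsScalarTower T X Y := IsScalarTower.of_algebraMap_eq fun t => (j.commutes t).symm
  haveI hloc : IsLocalization
      (Q.primeCompl.map (Algebra.TensorProduct.includeRight (R := V) (A := T))) Y :=
    IsLocalization.tensorProduct_tensorProduct_right V T Q.primeCompl (Localization.AtPrime Q) (by
      ext w
      exact Algebra.TensorProduct.map_tmul _ _ _ _)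
  have hu : ∀ y : (Q.primeCompl.map (Algebra.TensorProduct.includeRight (R := V) (A := T))),
      IsUnit (g y) := by
    rintro ⟨_, ⟨w, hw, rfl⟩⟩
    exact hunit w hw
  let h : Y →+* Z := IsLocalization.lift (M :=
    (Q.primeCompl.map (Algebra.TensorProduct.includeRight (R := V) (A := T)))) (g := g) hu
  have hcomp : h.comp (algebraMap X Y) = g := IsLocalization.lift_comp _
  have hflat : h.Flat := by
    letI := g.toAlgebra
    letI := h.toAlgebra
    haveI : IsScalarTower X Y Z := IsScalarTower.of_algebraMap_eq fun x => by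
      change g x = h (algebraMap X Y x)
      rw [← hcomp]; rfl
    change Module.Flat Y Z
    rw [Module.flat_iff_of_isLocalization (S := Y)
      (p := (Q.primeCompl.map (Algebra.TensorProduct.includeRight (R := V) (A := T))))]
    exact hg
  have e : g.comp (algebraMap T X) = h.comp (algebraMap T Y) := by
    rw [IsScalarTower.algebraMap_eq T X Y, ← RingHom.comp_assoc, hcomp]
  rw [e]
  refine RingHom.Flat.comp ?_ hflat
  rw [RingHom.flat_algebraMap_iff]
  infer_instance

/-- Key lemma.  `A → R → V → T`, `A → C`, `𝔫` a prime of `R ⊗_A C` over the maximal ideal of `C`, `T` integral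
over `R`, all primes of `T` contract to the maximal ideal of `V`.  If the localizations of `V ⊗_A C` at the primes
over both maximal ideals are flat over `V`, then `T ⊗_R (R ⊗_A C)_𝔫` is flat over `T`. -/
theorem flat_tensor_localization {A C R V T : Type u} [CommRing A] [CommRing C] [CommRing R]
    [CommRing V] [CommRing T] [IsLocalRing C] [IsLocalRing V]
    [Algebra A C] [Algebra A R] [Algebra A V] [Algebra A T] [Algebra R V] [Algebra R T]
    [Algebra V T] [IsScalarTower A R V] [IsScalarTower A R T] [IsScalarTower R V T]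
    [IsScalarTower A V T] (𝔫 : Ideal (R ⊗[A] C)) [𝔫.IsPrime]
    (h𝔫 : 𝔫.comap (Algebra.TensorProduct.includeRight : C →ₐ[A] R ⊗[A] C).toRingHom =
      maximalIdeal C)
    (hT : Algebra.IsIntegral R T)
    (hVT : ∀ P : Ideal T, P.IsPrime → P.comap (algebraMap V T) = maximalIdeal V)
    (H : ∀ (Q : Ideal (V ⊗[A] C)) [Q.IsPrime],
      Q.comap (algebraMap V (V ⊗[A] C)) = maximalIdeal V →
      Q.comap (Algebra.TensorProduct.includeRight : C →ₐ[A] V ⊗[A] C).toRingHom = maximalIdeal C →
      Module.Flat V (Localization.AtPrime Q)) :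
    Module.Flat T (T ⊗[R] Localization.AtPrime 𝔫) := by
  let Ch := Localization.AtPrime 𝔫
  let D := T ⊗[R] Ch
  -- the ring map `T ⊗_V (V ⊗_A C) → T ⊗_R Ch`
  let e1 : T ⊗[V] (V ⊗[A] C) ≃ₐ[T] T ⊗[A] C := Algebra.TensorProduct.cancelBaseChange A V T T C
  let e2 : T ⊗[R] (R ⊗[A] C) ≃ₐ[T] T ⊗[A] C := Algebra.TensorProduct.cancelBaseChange A R T T C
  let l : T ⊗[R] (R ⊗[A] C) →ₐ[T] D := Algebra.TensorProduct.map (AlgHom.id T T)
    (IsScalarTower.toAlgHom R (R ⊗[A] C) Ch)
  let g₀ : T ⊗[V] (V ⊗[A] C) →ₐ[T] D := l.comp (e2.symm.toAlgHom.comp e1.toAlgHom)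
  have hl : l.toRingHom.Flat := by
    refine RingHom.Flat.tensorProductMap (f := AlgHom.id T T)
      (g := IsScalarTower.toAlgHom R (R ⊗[A] C) Ch) (RingHom.Flat.id T) ?_
    change (algebraMap (R ⊗[A] C) Ch).Flat
    rw [RingHom.flat_algebraMap_iff]
    exact IsLocalization.flat _ 𝔫.primeCompl
  have hg₀ : g₀.toRingHom.Flat := by
    refine RingHom.Flat.comp (f := e2.symm.toAlgHom.toRingHom.comp e1.toAlgHom.toRingHom) ?_ hl
    exact RingHom.Flat.comp (RingHom.Flat.of_bijective e1.bijective)
      (RingHom.Flat.of_bijective e2.symm.bijective)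
  have hg₀c : ∀ c : C, g₀ (1 ⊗ₜ (1 ⊗ₜ c)) = 1 ⊗ₜ (algebraMap (R ⊗[A] C) Ch (1 ⊗ₜ c)) := by
    intro c
    change l (e2.symm (e1 (1 ⊗ₜ (1 ⊗ₜ c)))) = _
    have h1 : e1 (1 ⊗ₜ (1 ⊗ₜ c)) = e2 (1 ⊗ₜ (1 ⊗ₜ c)) := by simp [e1, e2]
    rw [h1, AlgEquiv.symm_apply_apply]
    exact Algebra.TensorProduct.map_tmul _ _ _ _
  -- test flatness at maximal ideals
  refine Module.flat_of_isLocalized_maximal (R := T) (S := D) (M := D)
    (fun P _ => Localization.AtPrime P) (fun P _ => Algebra.linearMap D (Localization.AtPrime P)) ?_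
  intro P hP
  haveI := hP.isPrime
  -- `P` contracts to the maximal ideal of `Ch`
  have hint : (Algebra.TensorProduct.includeRight : Ch →ₐ[R] D).toRingHom.IsIntegral := by
    have h0 : Algebra.IsIntegral Ch (Ch ⊗[R] T) := inferInstance
    have h1 : RingHom.IsIntegral (R := Ch) (A := Ch ⊗[R] T) (algebraMap Ch (Ch ⊗[R] T)) :=
      algebraMap_isIntegral_iff.2 h0
    let cm : Ch ⊗[R] T →+* D := (Algebra.TensorProduct.comm R Ch T).toAlgHom.toRingHom
    have hcm : Surjective cm := (Algebra.TensorProduct.comm R Ch T).surjective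
    have h2 : (Algebra.TensorProduct.includeRight : Ch →ₐ[R] D).toRingHom =
        cm.comp (algebraMap Ch (Ch ⊗[R] T)) := by
      ext x
      exact (Algebra.TensorProduct.comm_tmul (R := R) (A := Ch) (B := T) x 1).symm
    have h3 : RingHom.IsIntegral (R := Ch ⊗[R] T) (A := D) cm := by
      intro x
      obtain ⟨y, rfl⟩ := hcm x
      exact RingHom.isIntegralElem_map (R := Ch ⊗[R] T) (S := D) (f := cm)
    rw [h2]
    exact RingHom.IsIntegral.trans _ _ h1 h3
  have hPCh : P.comap (Algebra.TensorProduct.includeRight : Ch →ₐ[R] D).toRingHom =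
      maximalIdeal Ch := by
    have := Ideal.isMaximal_comap_of_isIntegral_of_isMaximal' _ hint P
    exact IsLocalRing.eq_maximalIdeal this
  let φ : V ⊗[A] C →+* D := g₀.toRingHom.comp
    (Algebra.TensorProduct.includeRight : (V ⊗[A] C) →ₐ[V] T ⊗[V] (V ⊗[A] C)).toRingHom
  let Q : Ideal (V ⊗[A] C) := P.comap φ
  haveI : Q.IsPrime := Ideal.IsPrime.comap _
  have hQV : Q.comap (algebraMap V (V ⊗[A] C)) = maximalIdeal V := by
    have h1 : φ.comp (algebraMap V (V ⊗[A] C)) = (algebraMap T D).comp (algebraMap V T) := by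
      ext v
      change g₀ (1 ⊗ₜ (algebraMap V (V ⊗[A] C) v)) = algebraMap T D (algebraMap V T v)
      have h2 : (1 : T) ⊗ₜ[V] (algebraMap V (V ⊗[A] C) v) =
          algebraMap T (T ⊗[V] (V ⊗[A] C)) (algebraMap V T v) := by
        rw [Algebra.algebraMap_eq_smul_one (R := V) (A := V ⊗[A] C) v, TensorProduct.tmul_smul,
          TensorProduct.smul_tmul', Algebra.smul_def, mul_one]
        rfl
      rw [h2, AlgHom.commutes]
    change (P.comap φ).comap _ = _
    rw [Ideal.comap_comap, h1, ← Ideal.comap_comap]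
    exact hVT _ (Ideal.IsPrime.comap _)
  have hQC : Q.comap (Algebra.TensorProduct.includeRight : C →ₐ[A] V ⊗[A] C).toRingHom =
      maximalIdeal C := by
    have h1 : φ.comp (Algebra.TensorProduct.includeRight : C →ₐ[A] V ⊗[A] C).toRingHom =
        ((Algebra.TensorProduct.includeRight : Ch →ₐ[R] D).toRingHom.comp
          (algebraMap (R ⊗[A] C) Ch)).comp
          (Algebra.TensorProduct.includeRight : C →ₐ[A] R ⊗[A] C).toRingHom := by
      ext c
      exact hg₀c c
    change (P.comap φ).comap _ = _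
    rw [Ideal.comap_comap, h1, ← Ideal.comap_comap, ← Ideal.comap_comap, hPCh]
    have h3 : (maximalIdeal Ch).comap (algebraMap (R ⊗[A] C) Ch) = 𝔫 :=
      IsLocalization.AtPrime.under_maximalIdeal Ch 𝔫
    rw [h3, h𝔫]
  have hflat := H Q hQV hQC
  let g : T ⊗[V] (V ⊗[A] C) →+* Localization.AtPrime P :=
    (algebraMap D (Localization.AtPrime P)).comp g₀.toRingHom
  have hg : RingHom.Flat (R := T ⊗[V] (V ⊗[A] C)) (S := Localization.AtPrime P) g := by
    refine RingHom.Flat.comp (T := Localization.AtPrime P) (f := g₀.toRingHom)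
      (g := algebraMap D (Localization.AtPrime P)) hg₀ ?_
    rw [RingHom.flat_algebraMap_iff]
    exact IsLocalization.flat _ P.primeCompl
  have h5 := flat_comp_of_flat_localization (Z := Localization.AtPrime P) Q hflat g hg
    (fun w hw => IsLocalization.map_units (Localization.AtPrime P) (⟨φ w, hw⟩ : P.primeCompl))
  refine (RingHom.flat_algebraMap_iff (R := T) (S := Localization.AtPrime P)).1 ?_
  have h6 : algebraMap T (Localization.AtPrime P) = g.comp (algebraMap T (T ⊗[V] (V ⊗[A] C))) := by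
    rw [IsScalarTower.algebraMap_eq T D (Localization.AtPrime P)]
    change _ = ((algebraMap D (Localization.AtPrime P)).comp g₀.toRingHom).comp _
    rw [RingHom.comp_assoc]
    congr 1
    ext t
    exact (g₀.commutes t).symm
  rw [h6]
  exact h5

end Groth.Agent.Ega43.FlatDvr
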