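import Mathlib.RingTheory.Flat.Basic
import Mathlib.RingTheory.Flat.Stability
import Mathlib.RingTheory.Flat.Tensor
import Mathlib.Algebra.Module.Torsion.Basic
import Mathlib.LinearAlgebra.TensorProduct.RightExactness
import Mathlib.LinearAlgebra.TensorProduct.Pi
import Mathlib.RingTheory.Nilpotent.Lemmas

/-!
# Flatness and nilpotent ideals

* `flat_of_nilpotent` : local criterion of flatness along a nilpotent ideal (no finiteness).
* `flat_of_nilpotent_of_injective` : descent of flatness along a jointly injective finite family of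
  ring maps, for modules flat modulo a nilpotent ideal (EGA IV 11.4.9 type statement).
* `free_of_nilpotent_of_injective` : the analogue for free modules, arbitrary families (EGA IV 11.4.1).
-/

set_option autoImplicit false

open TensorProduct

namespace Groth.Agent.Ega43.NilpotentFlat

universe u v w w' t

section Nakayama

variable {A : Type u} [CommRing A] {M : Type v} [AddCommGroup M] [Module A M]

/-- Nakayama for nilpotent ideals: `N + J M = M` implies `N = M`. -/
theorem eq_top_of_sup_smul_eq_top (J : Ideal A) (hJ : IsNilpotent J) (N : Submodule A M)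
    (h : N ⊔ J • (⊤ : Submodule A M) = ⊤) : N = ⊤ := by
  obtain ⟨n, hn⟩ := hJ
  have key : ∀ k : ℕ, N ⊔ J ^ k • (⊤ : Submodule A M) = ⊤ := by
    intro k
    induction k with
    | zero => simp
    | succ k ih =>
      apply le_antisymm le_top
      calc (⊤ : Submodule A M) = N ⊔ J ^ k • (⊤ : Submodule A M) := ih.symm
        _ = N ⊔ J ^ k • (N ⊔ J • (⊤ : Submodule A M)) := by rw [h]
        _ ≤ N ⊔ J ^ (k + 1) • (⊤ : Submodule A M) := by
          rw [Submodule.smul_sup]
          refine sup_le le_sup_left (sup_le (Submodule.smul_le_right.trans le_sup_left) ?_)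
          rw [← Submodule.smul_assoc, smul_eq_mul, ← pow_succ]
          exact le_sup_right
  have := key n
  rw [hn, Submodule.zero_eq_bot, Submodule.bot_smul, sup_bot_eq] at this
  exact this

/-- Nakayama for nilpotent ideals: `N ≤ J N` implies `N = 0`. -/
theorem eq_bot_of_le_smul (J : Ideal A) (hJ : IsNilpotent J) (N : Submodule A M)
    (h : N ≤ J • N) : N = ⊥ := by
  obtain ⟨n, hn⟩ := hJ
  have key : ∀ k : ℕ, N ≤ J ^ k • N := by
    intro k
    induction k with
    | zero => simp
    | succ k ih =>
      calc N ≤ J ^ k • N := ih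
        _ ≤ J ^ k • (J • N) := Submodule.smul_mono le_rfl h
        _ = J ^ (k + 1) • N := by rw [← Submodule.smul_assoc, smul_eq_mul, ← pow_succ]
  have := key n
  rw [hn, Submodule.zero_eq_bot, Submodule.bot_smul] at this
  exact le_bot_iff.mp this

end Nakayama

section BaseChange

variable {A : Type u} [CommRing A] (B : Type v) [CommRing B] [Algebra A B]
  (M : Type w) [AddCommGroup M] [Module A M]

/-- If `B ⊗[A] M` is flat over `B`, then `- ⊗[A] M` preserves injections between `B`-modules. -/
theorem rTensor_injective_of_flat_baseChange [Module.Flat B (B ⊗[A] M)]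
    {N₁ : Type w'} {N₂ : Type t} [AddCommGroup N₁] [AddCommGroup N₂]
    [Module B N₁] [Module B N₂] [Module A N₁] [Module A N₂] [IsScalarTower A B N₁]
    [IsScalarTower A B N₂] (f : N₁ →ₗ[B] N₂) (hf : Function.Injective f) :
    Function.Injective ((f.restrictScalars A).rTensor M) := by
  have h1 : Function.Injective (f.rTensor (B ⊗[A] M)) :=
    Module.Flat.rTensor_preserves_injective_linearMap f hf
  have h2 : ∀ x, (AlgebraTensorModule.cancelBaseChange A B B N₂ M) (f.rTensor (B ⊗[A] M) x) =
      (f.restrictScalars A).rTensor M ((AlgebraTensorModule.cancelBaseChange A B B N₁ M) x) := by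
    intro x
    induction x with
    | zero => simp
    | add x y hx hy => simp only [map_add, hx, hy]
    | tmul n y =>
      induction y with
      | zero => simp
      | add x y hx hy => simp only [tmul_add, map_add, hx, hy]
      | tmul b m => simp
  intro x y hxy
  obtain ⟨x, rfl⟩ := (AlgebraTensorModule.cancelBaseChange A B B N₁ M).surjective x
  obtain ⟨y, rfl⟩ := (AlgebraTensorModule.cancelBaseChange A B B N₁ M).surjective y
  rw [← h2, ← h2] at hxy
  rw [h1 ((AlgebraTensorModule.cancelBaseChange A B B N₂ M).injective hxy)]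

/-- If `(A ⧸ J) ⊗[A] M` is flat over `A ⧸ J`, then `- ⊗[A] M` preserves injections between
`A`-modules killed by `J`. -/
theorem rTensor_injective_of_flat_quotient (J : Ideal A) [Module.Flat (A ⧸ J) ((A ⧸ J) ⊗[A] M)]
    {N₁ : Type w'} {N₂ : Type t} [AddCommGroup N₁] [AddCommGroup N₂]
    [Module A N₁] [Module A N₂] (h₁ : ∀ a ∈ J, ∀ n : N₁, a • n = 0)
    (h₂ : ∀ a ∈ J, ∀ n : N₂, a • n = 0) (f : N₁ →ₗ[A] N₂) (hf : Function.Injective f) :
    Function.Injective (f.rTensor M) := by
  have t₁ : Module.IsTorsionBySet A N₁ (J : Set A) := fun n a => h₁ a a.2 n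
  have t₂ : Module.IsTorsionBySet A N₂ (J : Set A) := fun n a => h₂ a a.2 n
  let _ := t₁.module
  let _ := t₂.module
  have : IsScalarTower A (A ⧸ J) N₁ := t₁.isScalarTower
  have : IsScalarTower A (A ⧸ J) N₂ := t₂.isScalarTower
  let g : N₁ →ₗ[A ⧸ J] N₂ :=
    { toFun := f
      map_add' := f.map_add
      map_smul' := by
        intro a n
        obtain ⟨a, rfl⟩ := Ideal.Quotient.mk_surjective a
        exact f.map_smul a n }
  have : f = g.restrictScalars A := rfl
  rw [this]
  exact rTensor_injective_of_flat_baseChange (A ⧸ J) M g hf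

end BaseChange

section LocalCriterion

variable {A : Type u} [CommRing A] (M : Type w) [AddCommGroup M] [Module A M]

/-- key step: `J F ≤ K ≤ F` with `F` flat, `M` flat mod `J` and `J ⊗ M → M` injective. -/
theorem rTensor_subtype_injective_of_flat (J : Ideal A) [Module.Flat (A ⧸ J) ((A ⧸ J) ⊗[A] M)]
    (hJM : Function.Injective (J.subtype.rTensor M))
    {F : Type v} [AddCommGroup F] [Module A F] [Module.Flat A F] (K : Submodule A F)
    (hK : J • (⊤ : Submodule A F) ≤ K) :
    Function.Injective (K.subtype.rTensor M) := by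
  -- the submodule `J F`
  set JF : Submodule A F := J • (⊤ : Submodule A F) with hJF
  -- JF ⊗ M → F ⊗ M is injective
  have hinj : Function.Injective (JF.subtype.rTensor M) := by
    -- the map `F ⊗ J → JF` is surjective
    let φ : F ⊗[A] J →ₗ[A] F := (TensorProduct.rid A F).toLinearMap ∘ₗ (J.subtype.lTensor F)
    have hφrange : ∀ x, φ x ∈ JF := by
      intro x
      induction x with
      | zero => simp
      | add x y hx hy => rw [map_add]; exact JF.add_mem hx hy
      | tmul f j =>
        simp only [φ, LinearMap.comp_apply, LinearMap.lTensor_tmul, Submodule.subtype_apply,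
          LinearEquiv.coe_coe, TensorProduct.rid_tmul]
        exact Submodule.smul_mem_smul j.2 trivial
    let ψ : F ⊗[A] J →ₗ[A] JF := φ.codRestrict JF hφrange
    have hψ : Function.Surjective ψ := by
      rintro ⟨x, hx⟩
      have : x ∈ LinearMap.range φ := by
        have hle : JF ≤ LinearMap.range φ := by
          rw [hJF, Submodule.smul_le]
          intro a ha n _
          exact ⟨n ⊗ₜ ⟨a, ha⟩, by simp [φ]⟩
        exact hle hx
      obtain ⟨y, hy⟩ := this
      exact ⟨y, Subtype.ext hy⟩
    have hψM : Function.Surjective (ψ.rTensor M) := LinearMap.rTensor_surjective M hψ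
    have hcomp : JF.subtype ∘ₗ ψ = φ := by
      ext; rfl
    -- F ⊗ J ⊗ M → F ⊗ M is injective
    have h2 : Function.Injective (φ.rTensor M) := by
      have h3 : Function.Injective ((J.subtype.rTensor M).lTensor F) :=
        Module.Flat.lTensor_preserves_injective_linearMap _ hJM
      have h4 : ∀ x, (TensorProduct.assoc A F A M) ((J.subtype.lTensor F).rTensor M x) =
          (J.subtype.rTensor M).lTensor F ((TensorProduct.assoc A F J M) x) := by
        intro x
        have : (TensorProduct.assoc A F A M).toLinearMap ∘ₗ ((J.subtype.lTensor F).rTensor M) =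
            ((J.subtype.rTensor M).lTensor F) ∘ₗ (TensorProduct.assoc A F J M).toLinearMap := by
          ext; rfl
        exact LinearMap.congr_fun this x
      have h5 : Function.Injective ((J.subtype.lTensor F).rTensor M) := by
        intro x y hxy
        have := congrArg (TensorProduct.assoc A F A M) hxy
        rw [h4, h4] at this
        exact (TensorProduct.assoc A F J M).injective (h3 this)
      rw [LinearMap.rTensor_comp]
      have h6 : Function.Injective ((TensorProduct.rid A F).toLinearMap.rTensor M) :=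
        (LinearEquiv.rTensor M (TensorProduct.rid A F)).injective
      exact h6.comp h5
    have h7 : Function.Injective ((JF.subtype.rTensor M) ∘ (ψ.rTensor M)) := by
      rw [← LinearMap.coe_comp, ← LinearMap.rTensor_comp, hcomp]
      exact h2
    intro x y hxy
    obtain ⟨x, rfl⟩ := hψM x
    obtain ⟨y, rfl⟩ := hψM y
    rw [h7 hxy]
  -- the quotient `K / JF → F / JF`
  let JK : Submodule A K := JF.comap K.subtype
  let q : K →ₗ[A] (K ⧸ JK) := JK.mkQ
  let i : (K ⧸ JK) →ₗ[A] (F ⧸ JF) := JK.mapQ JF K.subtype le_rfl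
  have hi : Function.Injective i := by
    rw [← LinearMap.ker_eq_bot, Submodule.ker_mapQ]
    exact Submodule.mkQ_map_self JK
  have hiM : Function.Injective (i.rTensor M) := by
    apply rTensor_injective_of_flat_quotient M J _ _ i hi
    · intro a ha n
      obtain ⟨n, rfl⟩ := JK.mkQ_surjective n
      rw [← map_smul, Submodule.mkQ_apply, Submodule.Quotient.mk_eq_zero]
      exact Submodule.smul_mem_smul ha trivial
    · intro a ha n
      obtain ⟨n, rfl⟩ := JF.mkQ_surjective n
      rw [← map_smul, Submodule.mkQ_apply, Submodule.Quotient.mk_eq_zero]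
      exact Submodule.smul_mem_smul ha trivial
  rw [← LinearMap.ker_eq_bot, Submodule.eq_bot_iff]
  intro x hx
  rw [LinearMap.mem_ker] at hx
  -- image in `(K/JK) ⊗ M` is zero
  have h8 : q.rTensor M x = 0 := by
    apply hiM
    rw [map_zero]
    have : i ∘ₗ q = JF.mkQ ∘ₗ K.subtype := by
      ext; rfl
    rw [← LinearMap.comp_apply, ← LinearMap.rTensor_comp, this, LinearMap.rTensor_comp,
      LinearMap.comp_apply, hx, map_zero]
  have hex : Function.Exact (JK.subtype.rTensor M) (q.rTensor M) :=
    rTensor_exact M (LinearMap.exact_subtype_mkQ JK) (Submodule.mkQ_surjective JK)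
  obtain ⟨y, hy⟩ := (hex x).mp h8
  -- transfer `y` to `JF ⊗ M`
  let e : JK →ₗ[A] JF := (K.subtype ∘ₗ JK.subtype).codRestrict JF (fun z => z.2)
  have he : Function.Bijective e := by
    constructor
    · intro a b hab
      have h : ((a : K) : F) = ((b : K) : F) := congrArg (fun z : JF => (z : F)) hab
      exact Subtype.ext (Subtype.ext h)
    · rintro ⟨z, hz⟩
      exact ⟨⟨⟨z, hK hz⟩, hz⟩, rfl⟩
  have h9 : (e.rTensor M) y = 0 := by
    apply hinj
    rw [map_zero, ← LinearMap.comp_apply, ← LinearMap.rTensor_comp]
    have : JF.subtype ∘ₗ e = K.subtype ∘ₗ JK.subtype := by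
      ext; rfl
    rw [this, LinearMap.rTensor_comp, LinearMap.comp_apply, hy, hx]
  have h10 : y = 0 := by
    have : Function.Injective (e.rTensor M) :=
      (LinearEquiv.rTensor M (LinearEquiv.ofBijective e he)).injective
    apply this
    rw [h9, map_zero]
  rw [← hy, h10, map_zero]

theorem rTensor_subtype_injective_aux (J : Ideal A) [Module.Flat (A ⧸ J) ((A ⧸ J) ⊗[A] M)]
    (hJM : Function.Injective (J.subtype.rTensor M))
    {L : Type v} [AddCommGroup L] [Module A L] {F : Type t} [AddCommGroup F] [Module A F]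
    [Module.Flat A F] (π : F →ₗ[A] L) (hπ : Function.Surjective π) (K : Submodule A L)
    (hK : J • (⊤ : Submodule A L) ≤ K) :
    Function.Injective (K.subtype.rTensor M) := by
  let K' : Submodule A F := K.comap π
  have hK' : J • (⊤ : Submodule A F) ≤ K' := by
    rw [Submodule.smul_le]
    intro a ha n _
    change π (a • n) ∈ K
    rw [map_smul]
    exact hK (Submodule.smul_mem_smul ha trivial)
  have hinj := rTensor_subtype_injective_of_flat M J hJM K' hK'
  let p : K' →ₗ[A] K := (π ∘ₗ K'.subtype).codRestrict K (fun z => z.2)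
  have hp : Function.Surjective p := by
    rintro ⟨z, hz⟩
    obtain ⟨y, rfl⟩ := hπ z
    exact ⟨⟨y, hz⟩, rfl⟩
  have hpM : Function.Surjective (p.rTensor M) := LinearMap.rTensor_surjective M hp
  have hcomm : K.subtype ∘ₗ p = π ∘ₗ K'.subtype := by ext; rfl
  -- kernel of π
  let R := LinearMap.ker π
  have hRK : R ≤ K' := by
    intro x hx
    change π x ∈ K
    rw [LinearMap.mem_ker.mp hx]
    exact K.zero_mem
  let ι : R →ₗ[A] K' := Submodule.inclusion hRK
  have hpι : p ∘ₗ ι = 0 := by
    ext x
    exact LinearMap.mem_ker.mp x.2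
  have hRex : Function.Exact R.subtype π := LinearMap.exact_subtype_ker_map π
  have hex : Function.Exact (R.subtype.rTensor M) (π.rTensor M) :=
    rTensor_exact M hRex hπ
  rw [← LinearMap.ker_eq_bot, Submodule.eq_bot_iff]
  intro x hx
  rw [LinearMap.mem_ker] at hx
  obtain ⟨x', rfl⟩ := hpM x
  rw [← LinearMap.comp_apply, ← LinearMap.rTensor_comp, hcomm, LinearMap.rTensor_comp,
    LinearMap.comp_apply] at hx
  obtain ⟨r, hr⟩ := (hex _).mp hx
  have hι : K'.subtype ∘ₗ ι = R.subtype := by ext; rfl
  have h1 : (ι.rTensor M) r = x' := by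
    apply hinj
    rw [← LinearMap.comp_apply, ← LinearMap.rTensor_comp, hι, hr]
  rw [← h1, ← LinearMap.comp_apply, ← LinearMap.rTensor_comp, hpι]
  simp

/-- if `N = L / K` is killed by `J`, `M` is flat mod `J` and `J ⊗ M → M` is injective,
then `K ⊗ M → L ⊗ M` is injective. -/
theorem rTensor_subtype_injective (J : Ideal A) [Module.Flat (A ⧸ J) ((A ⧸ J) ⊗[A] M)]
    (hJM : Function.Injective (J.subtype.rTensor M))
    {L : Type v} [AddCommGroup L] [Module A L] (K : Submodule A L)
    (hK : J • (⊤ : Submodule A L) ≤ K) :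
    Function.Injective (K.subtype.rTensor M) :=
  rTensor_subtype_injective_aux M J hJM (Finsupp.linearCombination A (id : L → L))
    (fun x => ⟨Finsupp.single x 1, (Finsupp.linearCombination_single A 1 x).trans (one_smul A x)⟩)
    K hK

/-- **Local criterion of flatness, nilpotent case**: if `J` is a nilpotent ideal, `M / J M` is flat
over `A / J` and `J ⊗ M → M` is injective (`A ⊗ M` written for `M`), then `M` is flat. -/
theorem flat_of_nilpotent (J : Ideal A) (hJ : IsNilpotent J)
    [Module.Flat (A ⧸ J) ((A ⧸ J) ⊗[A] M)]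
    (hJM : Function.Injective (J.subtype.rTensor M)) : Module.Flat A M := by
  rw [Module.Flat.iff_rTensor_injective']
  intro I
  obtain ⟨n, hn⟩ := hJ
  have key : ∀ k : ℕ, Function.Injective ((Submodule.subtype (I ⊔ J ^ k)).rTensor M) := by
    intro k
    induction k with
    | zero =>
      have h : I ⊔ J ^ 0 = ⊤ := by simp
      have : Function.Bijective (Submodule.subtype (I ⊔ J ^ 0)) := by
        rw [h]
        exact ⟨Subtype.val_injective, fun x => ⟨⟨x, trivial⟩, rfl⟩⟩
      exact (LinearEquiv.rTensor M (LinearEquiv.ofBijective _ this)).injective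
    | succ k ih =>
      have hle : I ⊔ J ^ (k + 1) ≤ I ⊔ J ^ k := sup_le_sup_left (Ideal.pow_le_pow_right k.le_succ) _
      let K : Submodule A ↥(I ⊔ J ^ k) := Submodule.comap (Submodule.subtype (I ⊔ J ^ k)) (I ⊔ J ^ (k + 1))
      have hK : J • (⊤ : Submodule A ↥(I ⊔ J ^ k)) ≤ K := by
        rw [Submodule.smul_le]
        rintro a ha ⟨x, hx⟩ _
        change a * x ∈ I ⊔ J ^ (k + 1)
        obtain ⟨y, hy, z, hz, rfl⟩ := Submodule.mem_sup.mp hx
        rw [mul_add]
        refine Submodule.add_mem_sup (I.mul_mem_left a hy) ?_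
        rw [pow_succ']
        exact Ideal.mul_mem_mul ha hz
      have h1 := rTensor_subtype_injective M J hJM K hK
      let e : ↥(I ⊔ J ^ (k + 1)) →ₗ[A] K :=
        (Submodule.inclusion hle).codRestrict K (fun z => z.2)
      have he : Function.Bijective e := by
        constructor
        · intro a b hab
          have h : (((e a : K) : ↥(I ⊔ J ^ k)) : A) = (((e b : K) : ↥(I ⊔ J ^ k)) : A) := by
            rw [hab]
          exact Subtype.ext h
        · rintro ⟨⟨z, hz⟩, hz'⟩
          exact ⟨⟨z, hz'⟩, rfl⟩
      have h2 : Function.Injective (e.rTensor M) :=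
        (LinearEquiv.rTensor M (LinearEquiv.ofBijective e he)).injective
      have h3 : Submodule.subtype (I ⊔ J ^ (k + 1)) =
          Submodule.subtype (I ⊔ J ^ k) ∘ₗ K.subtype ∘ₗ e := by
        ext; rfl
      rw [h3, LinearMap.rTensor_comp, LinearMap.rTensor_comp]
      exact ih.comp (h1.comp h2)
  have := key n
  rw [hn] at this
  have h0 : I ⊔ (0 : Ideal A) = I := by simp
  rwa [h0] at this

end LocalCriterion

section Descent

variable {A : Type u} [CommRing A] (M : Type w) [AddCommGroup M] [Module A M]
  {ι : Type t} (B : ι → Type v) [∀ i, CommRing (B i)] [∀ i, Algebra A (B i)]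

/-- The filtration of `A` induced by the `J`-adic filtrations of the `B i`. -/
def filt (J : Ideal A) (k : ℕ) : Ideal A :=
  ⨅ i, ((J.map (algebraMap A (B i))) ^ k).comap (algebraMap A (B i))

omit M in
theorem mem_filt {J : Ideal A} {k : ℕ} {a : A} :
    a ∈ filt B J k ↔ ∀ i, algebraMap A (B i) a ∈ (J.map (algebraMap A (B i))) ^ k := by
  simp [filt, Ideal.mem_iInf]

theorem filt_step [Finite ι] (J : Ideal A) [Module.Flat (A ⧸ J) ((A ⧸ J) ⊗[A] M)]
    [∀ i, Module.Flat (B i) (B i ⊗[A] M)] (k : ℕ)
    (ih : Function.Injective ((filt B J (k + 1)).subtype.rTensor M)) :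
    Function.Injective ((filt B J k).subtype.rTensor M) := by
  classical
  have := Fintype.ofFinite ι
  let N : ∀ i, Submodule (B i) (B i) := fun i => (J.map (algebraMap A (B i))) ^ k
  let N' : ∀ i, Submodule (B i) (N i) := fun i =>
    Submodule.comap (N i).subtype ((J.map (algebraMap A (B i))) ^ (k + 1))
  let f : ∀ i, filt B J k →ₗ[A] N i := fun i =>
    { toFun := fun a => ⟨algebraMap A (B i) a, (mem_filt B).mp a.2 i⟩
      map_add' := fun a b => Subtype.ext (map_add _ _ _)
      map_smul' := fun a b => Subtype.ext (by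
        change algebraMap A (B i) (a * b) = a • algebraMap A (B i) b
        rw [map_mul, Algebra.smul_def]) }
  let g : ∀ i, filt B J k →ₗ[A] (N i ⧸ N' i) := fun i =>
    ((N' i).mkQ.restrictScalars A) ∘ₗ f i
  let G : filt B J k →ₗ[A] (∀ i, (N i ⧸ N' i)) := LinearMap.pi g
  let h : (filt B J k ⧸ LinearMap.ker G) →ₗ[A] (∀ i, (N i ⧸ N' i)) :=
    (LinearMap.ker G).liftQ G le_rfl
  have hh : Function.Injective h := by
    rw [← LinearMap.ker_eq_bot]
    exact Submodule.ker_liftQ_eq_bot _ _ _ le_rfl
  have hG : ∀ a : filt B J k, G a = 0 ↔ (a : A) ∈ filt B J (k + 1) := by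
    intro a
    rw [mem_filt, funext_iff]
    refine forall_congr' fun i => ?_
    change (N' i).mkQ (f i a) = 0 ↔ _
    rw [Submodule.mkQ_apply, Submodule.Quotient.mk_eq_zero]
    rfl
  have hT : ∀ a ∈ J, ∀ i, ∀ n : (N i ⧸ N' i), a • n = 0 := by
    intro a ha i n
    obtain ⟨n, rfl⟩ := (N' i).mkQ_surjective n
    have : a • (N' i).mkQ n = (N' i).mkQ (algebraMap A (B i) a • n) := by
      rw [map_smul, algebraMap_smul]
    rw [this, Submodule.mkQ_apply, Submodule.Quotient.mk_eq_zero]
    change algebraMap A (B i) a * (n : B i) ∈ (J.map (algebraMap A (B i))) ^ (k + 1)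
    rw [pow_succ']
    exact Ideal.mul_mem_mul (Ideal.mem_map_of_mem _ ha) n.2
  have hhM : Function.Injective (h.rTensor M) := by
    apply rTensor_injective_of_flat_quotient M J _ _ h hh
    · intro a ha n
      apply hh
      rw [map_smul, map_zero]
      exact funext fun i => hT a ha i _
    · intro a ha n
      exact funext fun i => hT a ha i _
  rw [← LinearMap.ker_eq_bot, Submodule.eq_bot_iff]
  intro x hx
  rw [LinearMap.mem_ker] at hx
  have h1 : ∀ i, (f i).rTensor M x = 0 := by
    intro i
    have hinj : Function.Injective (((N i).subtype.restrictScalars A).rTensor M) :=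
      rTensor_injective_of_flat_baseChange (B i) M (N i).subtype Subtype.val_injective
    apply hinj
    rw [map_zero, ← LinearMap.comp_apply, ← LinearMap.rTensor_comp]
    have : (N i).subtype.restrictScalars A ∘ₗ f i =
        Algebra.linearMap A (B i) ∘ₗ (filt B J k).subtype := by
      ext; rfl
    rw [this, LinearMap.rTensor_comp, LinearMap.comp_apply, hx, map_zero]
  have h2 : ∀ i, (g i).rTensor M x = 0 := by
    intro i
    rw [LinearMap.rTensor_comp, LinearMap.comp_apply, h1, map_zero]
  have h3 : G.rTensor M x = 0 := by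
    apply (TensorProduct.piLeft A M (fun i => (N i ⧸ N' i))).injective
    rw [map_zero]
    funext i
    rw [Pi.zero_apply, ← h2 i]
    have : (LinearMap.proj i ∘ₗ
        (TensorProduct.piLeft A M (fun i => (N i ⧸ N' i))).toLinearMap) ∘ₗ (G.rTensor M) =
        (g i).rTensor M := by
      ext a m
      simp [G]
    exact LinearMap.congr_fun this x
  have h4 : (LinearMap.ker G).mkQ.rTensor M x = 0 := by
    apply hhM
    have : h ∘ₗ (LinearMap.ker G).mkQ = G := (LinearMap.ker G).liftQ_mkQ G le_rfl
    rw [map_zero, ← LinearMap.comp_apply, ← LinearMap.rTensor_comp, this, h3]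
  have hex : Function.Exact ((LinearMap.ker G).subtype.rTensor M)
      ((LinearMap.ker G).mkQ.rTensor M) :=
    rTensor_exact M (LinearMap.exact_subtype_mkQ _) (Submodule.mkQ_surjective _)
  obtain ⟨y, hy⟩ := (hex x).mp h4
  let e : LinearMap.ker G →ₗ[A] filt B J (k + 1) :=
    ((filt B J k).subtype ∘ₗ (LinearMap.ker G).subtype).codRestrict (filt B J (k + 1))
      (fun z => (hG _).mp (LinearMap.mem_ker.mp z.2))
  have hle : filt B J (k + 1) ≤ filt B J k := by
    intro a ha
    rw [mem_filt] at ha ⊢
    exact fun i => Ideal.pow_le_pow_right k.le_succ (ha i)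
  have he : Function.Bijective e := by
    constructor
    · intro a b hab
      have h : (((e a : filt B J (k + 1))) : A) = (((e b : filt B J (k + 1))) : A) := by
        rw [hab]
      exact Subtype.ext (Subtype.ext h)
    · rintro ⟨z, hz⟩
      exact ⟨⟨⟨z, hle hz⟩, LinearMap.mem_ker.mpr ((hG _).mpr hz)⟩, rfl⟩
  have h5 : (e.rTensor M) y = 0 := by
    apply ih
    have : (filt B J (k + 1)).subtype ∘ₗ e =
        (filt B J k).subtype ∘ₗ (LinearMap.ker G).subtype := by
      ext; rfl
    rw [map_zero, ← LinearMap.comp_apply, ← LinearMap.rTensor_comp, this,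
      LinearMap.rTensor_comp, LinearMap.comp_apply, hy, hx]
  have h6 : y = 0 := by
    have : Function.Injective (e.rTensor M) :=
      (LinearEquiv.rTensor M (LinearEquiv.ofBijective e he)).injective
    apply this
    rw [h5, map_zero]
  rw [← hy, h6, map_zero]

/-- Descent of flatness along a jointly injective finite family of ring maps `A → B i`, for
modules which are flat modulo a nilpotent ideal. -/
theorem flat_of_nilpotent_of_injective [Finite ι] (J : Ideal A) (hJ : IsNilpotent J)
    (hB : ∀ a : A, (∀ i, algebraMap A (B i) a = 0) → a = 0)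
    (hM : Module.Flat (A ⧸ J) ((A ⧸ J) ⊗[A] M))
    (hBM : ∀ i, Module.Flat (B i) (B i ⊗[A] M)) : Module.Flat A M := by
  obtain ⟨n, hn⟩ := hJ
  -- the last step of the filtration vanishes
  have hlast : ∀ k ≥ n, filt B J k = ⊥ := by
    intro k hk
    rw [eq_bot_iff]
    intro a ha
    rw [mem_filt] at ha
    apply hB
    intro i
    have h1 := Ideal.pow_le_pow_right hk (ha i)
    rw [← Ideal.map_pow, hn, Submodule.zero_eq_bot, Ideal.map_bot] at h1
    exact h1
  have key : ∀ d k : ℕ, n ≤ k + d → Function.Injective ((filt B J k).subtype.rTensor M) := by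
    intro d
    induction d with
    | zero =>
      intro k hk
      have h0 := hlast k hk
      have hsub : Subsingleton (filt B J k) := by
        rw [h0]; infer_instance
      have : Subsingleton (filt B J k ⊗[A] M) := inferInstance
      exact Function.injective_of_subsingleton _
    | succ d ih =>
      intro k hk
      exact filt_step M B J k (ih (k + 1) (by omega))
  set F := filt B J 1 with hF
  have hJF : J ≤ F := by
    intro a ha
    rw [hF, mem_filt]
    intro i
    rw [pow_one]
    exact Ideal.mem_map_of_mem _ ha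
  have hFn : IsNilpotent F := by
    refine ⟨n, ?_⟩
    rw [Submodule.zero_eq_bot, eq_bot_iff, ← hlast n le_rfl]
    intro a ha
    rw [mem_filt]
    intro i
    have h1 : F.map (algebraMap A (B i)) ≤ J.map (algebraMap A (B i)) := by
      rw [Ideal.map_le_iff_le_comap]
      intro b hb
      rw [hF, mem_filt] at hb
      have := hb i
      rwa [pow_one] at this
    have h2 := Ideal.mem_map_of_mem (algebraMap A (B i)) ha
    rw [Ideal.map_pow] at h2
    exact Ideal.pow_right_mono h1 n h2
  have hflat : Module.Flat (A ⧸ F) ((A ⧸ F) ⊗[A] M) := by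
    let _ : Algebra (A ⧸ J) (A ⧸ F) := (Ideal.Quotient.factor hJF).toAlgebra
    have : IsScalarTower A (A ⧸ J) (A ⧸ F) := IsScalarTower.of_algebraMap_eq (fun a => rfl)
    exact Module.Flat.of_linearEquiv
      (AlgebraTensorModule.cancelBaseChange A (A ⧸ J) (A ⧸ F) (A ⧸ F) M).symm
  exact flat_of_nilpotent M F hFn (key n 1 (by omega))

end Descent

end Groth.Agent.Ega43.NilpotentFlat
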