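import Groth.Agent.Ega43.FlatDvr
import Groth.Agent.Ega43.NilpotentFlat
import Groth.Agent.Ega4A.CompleteNoeth
import Groth.Agent.Desc.FlatFactor
import Mathlib.RingTheory.AdicCompletion.LocalRing
import Mathlib.RingTheory.AdicCompletion.AsTensorProduct
import Mathlib.RingTheory.Flat.FaithfullyFlat.Algebra
import Mathlib.RingTheory.Localization.Submodule
import Mathlib.RingTheory.EssentialFiniteness
import Mathlib.RingTheory.SimpleModule.Basic
import Mathlib.RingTheory.SimpleModule.InjectiveProjective

/-!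
# The valuative criterion of flatness over a reduced Noetherian local ring (algebra)
-/

set_option autoImplicit false
universe u v w

namespace Groth.Agent.Ega43.FlatDvrMain

open TensorProduct Function IsLocalRing Groth.Agent.Ega43.FlatDescNil
  Groth.Agent.Ega43.FlatFamily Groth.Agent.Ega43.FlatDvr

theorem flat_quotient_quotient {R : Type u} {C : Type v} [CommRing R] [AddCommGroup C] [Module R C]
    (N J : Ideal R) (h : Module.Flat (R ⧸ J) ((R ⧸ J) ⊗[R] C)) :
    Module.Flat ((R ⧸ N) ⧸ J.map (Ideal.Quotient.mk N))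
      (((R ⧸ N) ⧸ J.map (Ideal.Quotient.mk N)) ⊗[R ⧸ N] ((R ⧸ N) ⊗[R] C)) := by
  let ψ : R ⧸ J →ₐ[R] ((R ⧸ N) ⧸ J.map (Ideal.Quotient.mk N)) :=
    Ideal.Quotient.liftₐ J (Algebra.ofId R _) (fun a ha => by
      change algebraMap R ((R ⧸ N) ⧸ J.map (Ideal.Quotient.mk N)) a = 0
      rw [IsScalarTower.algebraMap_apply R (R ⧸ N) ((R ⧸ N) ⧸ J.map (Ideal.Quotient.mk N))]
      exact Ideal.Quotient.eq_zero_iff_mem.2 (Ideal.mem_map_of_mem _ ha))
  have key : Module.Flat ((R ⧸ N) ⧸ J.map (Ideal.Quotient.mk N))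
      (((R ⧸ N) ⧸ J.map (Ideal.Quotient.mk N)) ⊗[R] C) := flat_of_algHom ψ h
  exact Module.Flat.of_linearEquiv
    (TensorProduct.AlgebraTensorModule.cancelBaseChange R (R ⧸ N)
      ((R ⧸ N) ⧸ J.map (Ideal.Quotient.mk N)) ((R ⧸ N) ⧸ J.map (Ideal.Quotient.mk N)) C)

/-- Version of `flat_of_family_of_isAdicComplete` without joint injectivity: conclusion modulo the common
kernel. -/
theorem flat_quotient_of_family {R : Type u} {C : Type v} [CommRing R]
    [CommRing C] [IsNoetherianRing R] [IsNoetherianRing C] [IsLocalRing R] [IsLocalRing C]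
    [Algebra R C] [IsLocalHom (algebraMap R C)] [IsPrecomplete (maximalIdeal R) R]
    {ι : Type u} (T : ι → Type u) [∀ i, CommRing (T i)] [∀ i, IsLocalRing (T i)]
    [∀ i, Algebra R (T i)] [∀ i, IsLocalHom (algebraMap R (T i))] (N : Ideal R)
    (hN : ∀ r : R, (∀ i, algebraMap R (T i) r = 0) → r ∈ N)
    (hsep : ∀ i, ⨅ n : ℕ, ((maximalIdeal R).map (algebraMap R (T i))) ^ n = ⊥)
    (hflat : ∀ i (n : ℕ), Module.Flat (T i ⧸ (maximalIdeal R ^ n).map (algebraMap R (T i)))
      ((T i ⧸ (maximalIdeal R ^ n).map (algebraMap R (T i))) ⊗[R] C)) :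
    Module.Flat (R ⧸ N) ((R ⧸ N) ⊗[R] C) := by
  rcases eq_or_ne N ⊤ with hNtop | hNtop
  · have : Subsingleton (R ⧸ N) := Ideal.Quotient.subsingleton_iff.2 hNtop
    have : Subsingleton ((R ⧸ N) ⊗[R] C) := Module.subsingleton (R ⧸ N) _
    infer_instance
  let c : Ideal R → Ideal R := fun J =>
    ⨅ i, ((J ^ 2).map (algebraMap R (T i))).comap (algebraMap R (T i))
  let I : ℕ → Ideal R := fun n => Nat.rec (maximalIdeal R) (fun _ J => c J) n
  have hI0 : I 0 = maximalIdeal R := rfl
  have hIs : ∀ n, I (n + 1) = c (I n) := fun n => rfl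
  have hcmono : ∀ J J' : Ideal R, J ≤ J' → c J ≤ c J' := by
    intro J J' h
    exact iInf_mono fun i => Ideal.comap_mono (Ideal.map_mono (Ideal.pow_right_mono h 2))
  have hι : Nonempty ι := by
    by_contra hne
    rw [not_nonempty_iff] at hne
    exact hNtop ((Ideal.eq_top_iff_one N).2 (hN 1 fun i => hne.elim i))
  have hle0 : c (maximalIdeal R) ≤ maximalIdeal R := by
    obtain ⟨i⟩ := hι
    refine (iInf_le _ i).trans ?_
    intro x hx
    have h1 : algebraMap R (T i) x ∈ maximalIdeal (T i) := by
      refine (Ideal.map_le_iff_le_comap.2 ?_) hx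
      intro y hy
      have hy' : y ∈ maximalIdeal R := Ideal.pow_le_self two_ne_zero hy
      exact (IsLocalRing.map_maximalIdeal_le (algebraMap R (T i))) (Ideal.mem_map_of_mem _ hy')
    rw [IsLocalRing.mem_maximalIdeal, mem_nonunits_iff] at h1 ⊢
    exact fun hu => h1 (hu.map _)
  have hanti : Antitone I := by
    apply antitone_nat_of_succ_le
    intro n
    induction n with
    | zero => exact hle0
    | succ n ih => exact hcmono _ _ ih
  have hpow : ∀ n, maximalIdeal R ^ (2 ^ n) ≤ I n := by
    intro n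
    induction n with
    | zero => rw [pow_zero, pow_one, hI0]
    | succ n ih =>
      rw [hIs, pow_succ 2 n, pow_mul]
      refine (Ideal.pow_right_mono ih 2).trans ?_
      exact le_iInf fun i => Ideal.le_comap_map
  have hup : ∀ i n, (I n).map (algebraMap R (T i)) ≤
      ((maximalIdeal R).map (algebraMap R (T i))) ^ (2 ^ n) := by
    intro i n
    induction n with
    | zero => rw [pow_zero, pow_one, hI0]
    | succ n ih =>
      rw [hIs]
      refine (Ideal.map_mono (iInf_le _ i)).trans ?_
      refine Ideal.map_comap_le.trans ?_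
      rw [Ideal.map_pow, pow_succ 2 n, pow_mul]
      exact Ideal.pow_right_mono ih 2
  have hbot : ⨅ n, I n ≤ N := by
    intro x hx
    rw [Ideal.mem_iInf] at hx
    refine hN x fun i => ?_
    have h1 : algebraMap R (T i) x ∈ (⨅ n : ℕ, ((maximalIdeal R).map (algebraMap R (T i))) ^ n) := by
      rw [Ideal.mem_iInf]
      intro n
      exact Ideal.pow_le_pow_right Nat.lt_two_pow_self.le
        (hup i n (Ideal.mem_map_of_mem _ (hx n)))
    rw [hsep] at h1
    exact h1
  let Fl : Ideal R → Prop := fun J => Module.Flat (R ⧸ J) ((R ⧸ J) ⊗[R] C)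
  have hflatI : ∀ n, Fl (I n) := by
    intro n
    induction n with
    | zero =>
      change Module.Flat (R ⧸ maximalIdeal R) ((R ⧸ maximalIdeal R) ⊗[R] C)
      letI := Ideal.Quotient.field (maximalIdeal R)
      infer_instance
    | succ n ih =>
      -- finite subfamily
      obtain ⟨s, hs⟩ := exists_finset_iInf_eq
        (fun i => (((I n) ^ 2).map (algebraMap R (T i))).comap (algebraMap R (T i))) (2 ^ (n + 1))
        (fun i => by
          refine le_trans ?_ Ideal.le_comap_map
          rw [pow_succ 2 n, pow_mul]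
          exact Ideal.pow_right_mono (hpow n) 2)
      have hker : ∀ i : ι, RingHom.ker (algebraMap R (T i ⧸ ((I n) ^ 2).map (algebraMap R (T i)))) =
          (((I n) ^ 2).map (algebraMap R (T i))).comap (algebraMap R (T i)) := by
        intro i
        rw [IsScalarTower.algebraMap_eq R (T i) (T i ⧸ ((I n) ^ 2).map (algebraMap R (T i))),
          RingHom.ker_eq_comap_bot, ← Ideal.comap_comap,
          ← RingHom.ker_eq_comap_bot]
        congr 1
        exact Ideal.mk_ker
      have h6 := flat_quotient_iInf_ker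
        (fun i : s => T i ⧸ ((I n) ^ 2).map (algebraMap R (T i))) (I n)
        (fun i => by rw [hker]; exact Ideal.le_comap_map) (M := C) ih (fun i => by
          have hle : (maximalIdeal R ^ (2 ^ (n + 1))).map (algebraMap R (T i)) ≤
              ((I n) ^ 2).map (algebraMap R (T i)) := by
            refine Ideal.map_mono ?_
            rw [pow_succ 2 n, pow_mul]
            exact Ideal.pow_right_mono (hpow n) 2
          exact flat_of_algHom (Ideal.Quotient.factorₐ R hle) (hflat i (2 ^ (n + 1))))
      have h7 : (⨅ i : s, RingHom.ker (algebraMap R (T i ⧸ ((I n) ^ 2).map (algebraMap R (T i))))) =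
          I (n + 1) := by
        rw [hIs]
        change _ = ⨅ i, _
        rw [← hs]
        exact iInf_congr fun i => hker i
      change Fl (⨅ i : s, RingHom.ker (algebraMap R (T i ⧸ ((I n) ^ 2).map (algebraMap R (T i)))))
        at h6
      rw [h7] at h6
      exact h6
  -- the local ring `R/N` and its algebra `(R/N) ⊗ C`
  let R₁ := R ⧸ N
  let C₁ := R₁ ⊗[R] C
  haveI : Nontrivial R₁ := Ideal.Quotient.nontrivial_iff.2 hNtop
  haveI : IsLocalRing R₁ := IsLocalRing.of_surjective' (Ideal.Quotient.mk N) Ideal.Quotient.mk_surjective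
  rcases subsingleton_or_nontrivial C₁ with hC₁ | hC₁
  · change Module.Flat R₁ C₁
    infer_instance
  have hsurj : Surjective (Algebra.TensorProduct.includeRight : C →ₐ[R] C₁) := by
    intro x
    induction x using TensorProduct.induction_on with
    | zero => exact ⟨0, map_zero _⟩
    | add x y hx hy =>
      obtain ⟨x, rfl⟩ := hx
      obtain ⟨y, rfl⟩ := hy
      exact ⟨x + y, map_add _ _ _⟩
    | tmul a b =>
      obtain ⟨a, rfl⟩ := Ideal.Quotient.mk_surjective a
      refine ⟨a • b, ?_⟩
      rw [Algebra.TensorProduct.includeRight_apply, ← TensorProduct.smul_tmul]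
      congr 1
      rw [Algebra.smul_def, mul_one]
      rfl
  haveI : IsLocalRing C₁ := IsLocalRing.of_surjective'
    (Algebra.TensorProduct.includeRight : C →ₐ[R] C₁).toRingHom hsurj
  haveI : IsNoetherianRing C₁ := isNoetherianRing_of_surjective C C₁
    (Algebra.TensorProduct.includeRight : C →ₐ[R] C₁).toRingHom hsurj
  haveI : IsLocalHom (algebraMap R₁ C₁) := by
    constructor
    intro x hx
    obtain ⟨x, rfl⟩ := Ideal.Quotient.mk_surjective x
    have h1 : algebraMap R₁ C₁ (Ideal.Quotient.mk N x) =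
        (Algebra.TensorProduct.includeRight : C →ₐ[R] C₁) (algebraMap R C x) := by
      rw [AlgHom.commutes]
      exact (IsScalarTower.algebraMap_apply R R₁ C₁ x).symm
    rw [h1] at hx
    haveI : IsLocalHom (Algebra.TensorProduct.includeRight : C →ₐ[R] C₁).toRingHom :=
      IsLocalHom.of_surjective _ hsurj
    have h2 : IsUnit (algebraMap R C x) := isUnit_of_map_unit
      (Algebra.TensorProduct.includeRight : C →ₐ[R] C₁).toRingHom _ hx
    have h3 : IsUnit x := isUnit_of_map_unit (algebraMap R C) _ h2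
    exact h3.map (Ideal.Quotient.mk N)
  refine Groth.Agent.Ega43.FlatAdic.flat_of_forall_exists_le_pow (R := R₁) (S := C₁) (M := C₁)
    fun k => ?_
  obtain ⟨n, hn⟩ := Groth.Agent.LoccohA.Chevalley.exists_le_iInf_sup_pow_smul (M := R) I hanti k
  have hn' : I n ≤ N ⊔ maximalIdeal R ^ k := by
    refine hn.trans (sup_le_sup hbot ?_)
    rw [smul_eq_mul, Ideal.mul_top]
  have hmR₁ : (maximalIdeal R).map (Ideal.Quotient.mk N) ≤ maximalIdeal R₁ := by
    haveI : IsLocalHom (Ideal.Quotient.mk N) :=
      IsLocalHom.of_surjective _ Ideal.Quotient.mk_surjective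
    exact IsLocalRing.map_maximalIdeal_le (Ideal.Quotient.mk N)
  refine ⟨(I n).map (Ideal.Quotient.mk N), ?_, ?_⟩
  · refine (Ideal.map_mono hn').trans ?_
    rw [Ideal.map_sup, Ideal.map_quotient_self, bot_sup_eq, Ideal.map_pow]
    exact Ideal.pow_right_mono hmR₁ k
  · exact flat_quotient_quotient N (I n) (hflatI n)

/-- Quotients of a DVR over a local ring with integral residue extension are integral. -/
theorem isIntegral_quotient {R V : Type u} [CommRing R] [CommRing V] [IsDomain V]
    [IsDiscreteValuationRing V] [Algebra R V] (hint : Algebra.IsIntegral R (ResidueField V))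
    (J : Ideal V) (hJ : J ≠ ⊥) : Algebra.IsIntegral R (V ⧸ J) := by
  obtain ⟨ϖ, hϖ⟩ := IsDiscreteValuationRing.exists_irreducible V
  obtain ⟨n, hn⟩ := IsDiscreteValuationRing.ideal_eq_span_pow_irreducible hJ hϖ
  constructor
  intro x
  obtain ⟨v, rfl⟩ := Ideal.Quotient.mk_surjective x
  obtain ⟨g, hg, hgv⟩ := hint.isIntegral (residue V v)
  refine ⟨g ^ n, hg.pow n, ?_⟩
  rw [Polynomial.eval₂_pow]
  have h1 : Polynomial.eval₂ (algebraMap R V) v g ∈ maximalIdeal V := by
    rw [← residue_eq_zero_iff, Polynomial.hom_eval₂]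
    exact hgv
  have h2 : Polynomial.eval₂ (algebraMap R (V ⧸ J)) (Ideal.Quotient.mk J v) g =
      Ideal.Quotient.mk J (Polynomial.eval₂ (algebraMap R V) v g) := by
    rw [Polynomial.hom_eval₂]
    rfl
  rw [h2, ← map_pow, Ideal.Quotient.eq_zero_iff_mem, hn]
  rw [(IsDiscreteValuationRing.irreducible_iff_uniformizer ϖ).1 hϖ] at h1
  rw [← Ideal.span_singleton_pow]
  exact Ideal.pow_mem_pow h1 n

/-- `R ⊗_A K → (R ⊗_A K) ⊗_R (R ⊗_A C)_𝔫` is flat when all `K`-modules are flat. -/
theorem flat_generic {A C R K : Type u} [CommRing A] [CommRing C] [CommRing R] [CommRing K]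
    [Algebra A C] [Algebra A R] [Algebra A K] [IsSemisimpleRing K] (𝔫 : Ideal (R ⊗[A] C))
    [𝔫.IsPrime] :
    Module.Flat (R ⊗[A] K) ((R ⊗[A] K) ⊗[R] Localization.AtPrime 𝔫) := by
  let B := R ⊗[A] K
  let Ch := Localization.AtPrime 𝔫
  let l : B ⊗[R] (R ⊗[A] C) →ₐ[B] B ⊗[R] Ch := Algebra.TensorProduct.map (AlgHom.id B B)
    (IsScalarTower.toAlgHom R (R ⊗[A] C) Ch)
  have hl : RingHom.Flat (R := B ⊗[R] (R ⊗[A] C)) (S := B ⊗[R] Ch) l.toRingHom := by
    refine RingHom.Flat.tensorProductMap (f := AlgHom.id B B)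
      (g := IsScalarTower.toAlgHom R (R ⊗[A] C) Ch) (RingHom.Flat.id B) ?_
    change (algebraMap (R ⊗[A] C) Ch).Flat
    rw [RingHom.flat_algebraMap_iff]
    exact IsLocalization.flat _ 𝔫.primeCompl
  have h1 : Module.Flat B (B ⊗[R] (R ⊗[A] C)) := by
    have h2 : Module.Flat B (B ⊗[A] C) := by
      haveI := Module.projective_of_isSemisimpleRing K (K ⊗[A] C)
      have h3 : Module.Flat K (K ⊗[A] C) := inferInstance
      letI : Algebra K B := (Algebra.TensorProduct.includeRight : K →ₐ[A] B).toRingHom.toAlgebra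
      haveI : IsScalarTower A K B := IsScalarTower.of_algebraMap_eq fun a =>
        ((Algebra.TensorProduct.includeRight : K →ₐ[A] B).commutes a).symm
      exact flat_baseChange_tower h3
    exact Module.Flat.of_linearEquiv
      (TensorProduct.AlgebraTensorModule.cancelBaseChange A R B B C)
  have h4 : RingHom.Flat (R := B) (S := B ⊗[R] Ch)
      (l.toRingHom.comp (algebraMap B (B ⊗[R] (R ⊗[A] C)))) :=
    RingHom.Flat.comp (RingHom.flat_algebraMap_iff.2 h1) hl
  have h5 : l.toRingHom.comp (algebraMap B (B ⊗[R] (R ⊗[A] C))) = algebraMap B (B ⊗[R] Ch) := by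
    refine RingHom.ext fun b => ?_
    exact l.commutes b
  rw [h5] at h4
  exact RingHom.flat_algebraMap_iff.1 h4

/-- Descent of flatness from `(R ⊗_A C)_𝔫` to `C`. -/
theorem flat_of_flat_localization {A C R : Type u} [CommRing A] [CommRing C] [CommRing R]
    [Algebra A C] [Algebra A R] [IsLocalRing C] [Module.Flat A R] (𝔫 : Ideal (R ⊗[A] C))
    [𝔫.IsPrime]
    (h𝔫C : 𝔫.comap (Algebra.TensorProduct.includeRight : C →ₐ[A] R ⊗[A] C).toRingHom =
      maximalIdeal C) (hRCh : Module.Flat R (Localization.AtPrime 𝔫)) : Module.Flat A C := by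
  let Ch := Localization.AtPrime 𝔫
  letI : Algebra C Ch := ((algebraMap (R ⊗[A] C) Ch).comp
    (Algebra.TensorProduct.includeRight : C →ₐ[A] R ⊗[A] C).toRingHom).toAlgebra
  have hCflat : Module.Flat C Ch := by
    rw [← RingHom.flat_algebraMap_iff]
    refine RingHom.Flat.comp (T := Ch)
      (f := (Algebra.TensorProduct.includeRight : C →ₐ[A] R ⊗[A] C).toRingHom)
      (g := algebraMap (R ⊗[A] C) Ch) ?_ ?_
    · let cm' : C ⊗[A] R →+* R ⊗[A] C := (Algebra.TensorProduct.comm A C R).toAlgHom.toRingHom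
      have e1 : (Algebra.TensorProduct.includeRight : C →ₐ[A] R ⊗[A] C).toRingHom =
          cm'.comp (algebraMap C (C ⊗[A] R)) := by
        refine RingHom.ext fun c => ?_
        exact (Algebra.TensorProduct.comm_tmul (R := A) (A := C) (B := R) c 1).symm
      rw [e1]
      refine RingHom.Flat.comp ?_ (RingHom.Flat.of_bijective
        (Algebra.TensorProduct.comm A C R).bijective)
      rw [RingHom.flat_algebraMap_iff]
      infer_instance
    · rw [RingHom.flat_algebraMap_iff]
      exact IsLocalization.flat _ 𝔫.primeCompl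
  haveI : IsLocalHom (algebraMap C Ch) := by
    constructor
    intro c hc
    by_contra hcu
    have h1 : c ∈ maximalIdeal C := hcu
    rw [← h𝔫C] at h1
    have h2 : algebraMap (R ⊗[A] C) Ch
        ((Algebra.TensorProduct.includeRight : C →ₐ[A] R ⊗[A] C) c) ∈ maximalIdeal Ch :=
      (IsLocalization.AtPrime.to_map_mem_maximal_iff Ch 𝔫 _).2 h1
    exact h2 hc
  have hCff : Module.FaithfullyFlat C Ch := Module.FaithfullyFlat.of_flat_of_isLocalHom
  have hcomp : (algebraMap C Ch).comp (algebraMap A C) =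
      (algebraMap R Ch).comp (algebraMap A R) := by
    refine RingHom.ext fun a => ?_
    change algebraMap (R ⊗[A] C) Ch ((Algebra.TensorProduct.includeRight : C →ₐ[A] R ⊗[A] C)
      (algebraMap A C a)) = algebraMap R Ch (algebraMap A R a)
    rw [AlgHom.commutes, IsScalarTower.algebraMap_apply R (R ⊗[A] C) Ch,
      ← IsScalarTower.algebraMap_apply A R (R ⊗[A] C)]
  rw [← RingHom.flat_algebraMap_iff]
  refine Groth.Agent.Desc.FlatFactor.flat_of_comp_flat (algebraMap A C) (algebraMap C Ch) ?_
    ((RingHom.faithfullyFlat_algebraMap_iff).2 hCff)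
  rw [hcomp]
  exact RingHom.Flat.comp (RingHom.flat_algebraMap_iff.2 inferInstance)
    (RingHom.flat_algebraMap_iff.2 hRCh)

theorem isNilpotent_of_mem_of_minimal (B : Type u) [CommRing B] [IsLocalRing B]
    (hB : maximalIdeal B ∈ minimalPrimes B) (x : B) (hx : x ∈ maximalIdeal B) : IsNilpotent x := by
  rw [← mem_nilradical, nilradical, Submodule.zero_eq_bot, ← Ideal.sInf_minimalPrimes,
    Ideal.mem_sInf]
  intro p hp
  have hpp := hp.isPrime
  have h1 : maximalIdeal B ≤ p := hB.2 ⟨hpp, bot_le⟩ (le_maximalIdeal hpp.ne_top)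
  exact h1 hx

/-- A reduced Noetherian ring injects into a semisimple ring. -/
theorem exists_injective_semisimple (A : Type u) [CommRing A] [IsNoetherianRing A] [IsReduced A] :
    ∃ (K : Type u) (_ : CommRing K) (_ : Algebra A K), IsSemisimpleRing K ∧
      Injective (algebraMap A K) := by
  let ι' := {p : PrimeSpectrum A // p.asIdeal ∈ minimalPrimes A}
  haveI : Finite ι' := by
    have h1 : (minimalPrimes A).Finite := minimalPrimes.finite_of_isNoetherianRing A
    haveI := h1.to_subtype
    exact Finite.of_injective (fun p : ι' => (⟨p.1.asIdeal, p.2⟩ : minimalPrimes A))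
      (fun p q h => Subtype.ext (PrimeSpectrum.ext (congrArg Subtype.val h)))
  let K := (p : ι') → p.1.asIdeal.ResidueField
  refine ⟨K, inferInstance, inferInstance, inferInstance, ?_⟩
  rw [injective_iff_map_eq_zero]
  intro a ha
  have h1 : a ∈ nilradical A := by
    rw [nilradical, Submodule.zero_eq_bot, ← Ideal.sInf_minimalPrimes, Ideal.mem_sInf]
    intro p hp
    have hpp := hp.isPrime
    have h2 := congrFun ha ⟨⟨p, hpp⟩, hp⟩
    exact (Ideal.algebraMap_residueField_eq_zero).1 h2
  rw [nilradical_eq_zero] at h1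
  exact h1

/-- A prime of `R ⊗_A C` over both maximal ideals. -/
theorem exists_prime {A C R : Type u} [CommRing A] [CommRing C] [CommRing R]
    [Algebra A C] [Algebra A R] [IsLocalRing A] [IsLocalRing C] [IsLocalRing R]
    [IsLocalHom (algebraMap A C)] [Module.FaithfullyFlat A R]
    (hmR : maximalIdeal R = (maximalIdeal A).map (algebraMap A R)) :
    ∃ 𝔫 : Ideal (R ⊗[A] C), 𝔫.IsPrime ∧
      𝔫.comap (Algebra.TensorProduct.includeRight : C →ₐ[A] R ⊗[A] C).toRingHom =
        maximalIdeal C ∧ ∀ x ∈ maximalIdeal R, algebraMap R (R ⊗[A] C) x ∈ 𝔫 := by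
  obtain ⟨𝔫', h𝔫'p, h𝔫'⟩ := Ideal.exists_isPrime_liesOver_of_faithfullyFlat
    (A := C) (B := C ⊗[A] R) (maximalIdeal C)
  let cm : R ⊗[A] C →+* C ⊗[A] R := (Algebra.TensorProduct.comm A R C).toAlgHom.toRingHom
  let 𝔫 : Ideal (R ⊗[A] C) := 𝔫'.comap cm
  haveI : 𝔫.IsPrime := Ideal.IsPrime.comap _
  have h𝔫C : 𝔫.comap (Algebra.TensorProduct.includeRight : C →ₐ[A] R ⊗[A] C).toRingHom =
      maximalIdeal C := by
    rw [h𝔫'.over]
    change (𝔫'.comap cm).comap _ = _
    rw [Ideal.comap_comap]
    congr 1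
  have h𝔫A : ∀ a ∈ maximalIdeal A, algebraMap A (R ⊗[A] C) a ∈ 𝔫 := by
    intro a ha
    have h1 : algebraMap A C a ∈ maximalIdeal C := by
      have := (IsLocalRing.map_maximalIdeal_le (algebraMap A C)) (Ideal.mem_map_of_mem _ ha)
      exact this
    rw [← h𝔫C] at h1
    have h2 : (Algebra.TensorProduct.includeRight : C →ₐ[A] R ⊗[A] C) (algebraMap A C a) =
        algebraMap A (R ⊗[A] C) a := AlgHom.commutes _ _
    rw [← h2]
    exact h1
  refine ⟨𝔫, inferInstance, h𝔫C, fun x hx => ?_⟩
  rw [hmR] at hx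
  have h1 : (maximalIdeal A).map (algebraMap A R) ≤ 𝔫.comap (algebraMap R (R ⊗[A] C)) := by
    rw [Ideal.map_le_iff_le_comap, Ideal.comap_comap, ← IsScalarTower.algebraMap_eq]
    exact h𝔫A
  exact h1 hx

/-- The valuative criterion, after passing to a complete local ring `R` (later the completion of `A`). -/
theorem flat_of_forall_dvr_aux {A C R : Type u} [CommRing A] [IsLocalRing A] [IsNoetherianRing A]
    [IsReduced A] [CommRing C] [IsLocalRing C] [Algebra A C] [IsLocalHom (algebraMap A C)]
    [Algebra.EssFiniteType A C] [CommRing R] [IsLocalRing R] [IsNoetherianRing R] [Algebra A R]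
    [IsLocalHom (algebraMap A R)] [Module.FaithfullyFlat A R] [IsPrecomplete (maximalIdeal R) R]
    (hmR : maximalIdeal R = (maximalIdeal A).map (algebraMap A R)) (hm : maximalIdeal A ≠ ⊥)
    (H : ∀ (V : Type u) [CommRing V] [IsDomain V] [IsDiscreteValuationRing V] [Algebra A V]
      [IsLocalHom (algebraMap A V)] (Q : Ideal (V ⊗[A] C)) [Q.IsPrime],
      Q.comap (algebraMap V (V ⊗[A] C)) = maximalIdeal V →
      Q.comap (Algebra.TensorProduct.includeRight : C →ₐ[A] V ⊗[A] C).toRingHom = maximalIdeal C →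
      Module.Flat V (Localization.AtPrime Q)) : Module.Flat A C := by
  have hinjR : Injective (algebraMap A R) := FaithfulSMul.algebraMap_injective A R
  obtain ⟨𝔫, h𝔫p, h𝔫C, h𝔫R⟩ := exists_prime (A := A) (C := C) (R := R) hmR
  let Ch := Localization.AtPrime 𝔫
  haveI : IsLocalHom (algebraMap R Ch) := by
    constructor
    intro x hx
    by_contra hxu
    have h1 := h𝔫R x hxu
    have h2 : algebraMap (R ⊗[A] C) Ch (algebraMap R (R ⊗[A] C) x) ∈ maximalIdeal Ch :=
      (IsLocalization.AtPrime.to_map_mem_maximal_iff Ch 𝔫 _).2 h1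
    rw [IsScalarTower.algebraMap_apply R (R ⊗[A] C) Ch] at hx
    exact h2 hx
  haveI : IsNoetherianRing (R ⊗[A] C) := Algebra.EssFiniteType.isNoetherianRing R (R ⊗[A] C)
  haveI : IsNoetherianRing Ch := IsLocalization.isNoetherianRing 𝔫.primeCompl Ch inferInstance
  have hRmin : maximalIdeal R ∉ minimalPrimes R := by
    intro h
    apply hm
    rw [eq_bot_iff]
    intro a ha
    have h1 : algebraMap A R a ∈ maximalIdeal R := by
      rw [hmR]; exact Ideal.mem_map_of_mem _ ha
    have h2 := isNilpotent_of_mem_of_minimal R h _ h1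
    rw [IsNilpotent.map_iff hinjR] at h2
    exact h2.eq_zero
  -- the family of discrete valuation rings
  let ι := {r : R // ¬ IsNilpotent r}
  choose V i1 i2 i3 i4 i5 hV1 hV2 hV3 using
    fun r : ι => Groth.Agent.Ega43.DvrIntegral.exists_dvr hRmin r.1 r.2
  letI := i1
  letI := i4
  have hA1 : Module.Flat (R ⧸ nilradical R) ((R ⧸ nilradical R) ⊗[R] Ch) := by
    refine flat_quotient_of_family (C := Ch) V (nilradical R) ?_ ?_ ?_
    · intro r hr
      rw [mem_nilradical]
      by_contra hrn
      exact hV1 ⟨r, hrn⟩ (hr _)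
    · intro r
      have h1 : (maximalIdeal R).map (algebraMap R (V r)) ≠ ⊤ := by
        refine ne_top_of_le_ne_top ?_ (IsLocalRing.map_maximalIdeal_le (algebraMap R (V r)))
        exact Ideal.IsPrime.ne_top inferInstance
      exact Ideal.iInf_pow_eq_bot_of_isLocalRing _ h1
    · intro r n
      letI : Algebra A (V r) := ((algebraMap R (V r)).comp (algebraMap A R)).toAlgebra
      haveI : IsScalarTower A R (V r) := IsScalarTower.of_algebraMap_eq fun x => rfl
      haveI : IsLocalHom (algebraMap A (V r)) :=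
        RingHom.isLocalHom_comp (algebraMap R (V r)) (algebraMap A R)
      have hne : (maximalIdeal R ^ n).map (algebraMap R (V r)) ≠ ⊥ := by
        rw [Ideal.map_pow]
        exact pow_ne_zero n (hV2 r)
      refine flat_tensor_localization (A := A) (C := C) (R := R) (V := V r)
        (T := V r ⧸ (maximalIdeal R ^ n).map (algebraMap R (V r))) 𝔫 h𝔫C
        (isIntegral_quotient (hV3 r) _ hne) ?_ (fun Q _ h1 h2 => H (V r) Q h1 h2)
      intro P hP
      have h3 : P.comap (algebraMap (V r) (V r ⧸ (maximalIdeal R ^ n).map (algebraMap R (V r)))) ≠ ⊥ := by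
        intro e
        apply hne
        rw [eq_bot_iff, ← e]
        intro x hx
        rw [Ideal.mem_comap]
        have : algebraMap (V r) (V r ⧸ (maximalIdeal R ^ n).map (algebraMap R (V r))) x = 0 :=
          Ideal.Quotient.eq_zero_iff_mem.2 hx
        rw [this]
        exact P.zero_mem
      have h4 := Ring.DimensionLEOne.maximalOfPrime (R := V r) h3 (Ideal.IsPrime.comap _)
      exact IsLocalRing.eq_maximalIdeal h4
  -- the generic points
  obtain ⟨K, _, _, hKs, hAK⟩ := exists_injective_semisimple A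
  have hRB : Injective (algebraMap R (R ⊗[A] K)) :=
    Algebra.TensorProduct.includeLeft_injective (S := R) (A := R) hAK
  have hBflat : Module.Flat (R ⊗[A] K) ((R ⊗[A] K) ⊗[R] Ch) := flat_generic 𝔫
  have hRCh : Module.Flat R Ch :=
    flat_of_injective_of_isNilpotent (R' := R ⊗[A] K) hRB (nilradical R)
      (IsNoetherianRing.isNilpotent_nilradical R) hA1 hBflat
  exact flat_of_flat_localization 𝔫 h𝔫C hRCh

/-- **Valuative criterion of flatness** (algebraic form): `A` reduced Noetherian local, `C` a local `A`-algebra,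
essentially of finite type.  If for every discrete valuation ring `V` dominating `A` the local rings of
`V ⊗_A C` at the primes over both maximal ideals are flat over `V`, then `C` is flat over `A`. -/
theorem flat_of_forall_dvr {A C : Type u} [CommRing A] [IsLocalRing A] [IsNoetherianRing A]
    [IsReduced A] [CommRing C] [IsLocalRing C] [Algebra A C] [IsLocalHom (algebraMap A C)]
    [Algebra.EssFiniteType A C]
    (H : ∀ (V : Type u) [CommRing V] [IsDomain V] [IsDiscreteValuationRing V] [Algebra A V]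
      [IsLocalHom (algebraMap A V)] (Q : Ideal (V ⊗[A] C)) [Q.IsPrime],
      Q.comap (algebraMap V (V ⊗[A] C)) = maximalIdeal V →
      Q.comap (Algebra.TensorProduct.includeRight : C →ₐ[A] V ⊗[A] C).toRingHom = maximalIdeal C →
      Module.Flat V (Localization.AtPrime Q)) : Module.Flat A C := by
  by_cases hm : maximalIdeal A = ⊥
  · have hf : IsField A := (IsLocalRing.isField_iff_maximalIdeal_eq).2 hm
    letI := hf.toField
    infer_instance
  haveI : IsNoetherianRing (AdicCompletion (maximalIdeal A) A) :=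
    Groth.Agent.Ega4A.CompleteNoeth.isNoetherianRing_adicCompletion (maximalIdeal A)
  haveI : Module.Flat A (AdicCompletion (maximalIdeal A) A) := AdicCompletion.flat_of_isNoetherian _
  haveI : Module.FaithfullyFlat A (AdicCompletion (maximalIdeal A) A) :=
    Module.FaithfullyFlat.of_flat_of_isLocalHom
  haveI : IsPrecomplete (maximalIdeal (AdicCompletion (maximalIdeal A) A))
    (AdicCompletion (maximalIdeal A) A) := inferInstance
  exact flat_of_forall_dvr_aux (R := AdicCompletion (maximalIdeal A) A)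
    AdicCompletion.maximalIdeal_eq_map hm H

end Groth.Agent.Ega43.FlatDvrMain
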