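import Groth.Agent.Ega43.FlatDescNil
import Groth.Agent.Ega43.FlatAdic
import Groth.Agent.LoccohA.Chevalley
import Mathlib.LinearAlgebra.TensorProduct.Pi

/-!
# Descent of flatness along a family of ring maps

* `flat_of_finite_family`: finite family version of Stacks 051C.
* `flat_of_family_of_isAdicComplete`: if `R` is a complete Noetherian local ring, `M` is a finite module over a
  Noetherian local `R`-algebra and `(T_i)` is a jointly injective family of local `R`-algebras such that
  `M` becomes flat modulo `m^n` over each `T_i`, then `M` is flat over `R`.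
-/

set_option autoImplicit false
universe u v w

namespace Groth.Agent.Ega43.FlatFamily

open TensorProduct Function IsLocalRing Groth.Agent.Ega43.FlatDescNil

/-- An element of `(∏ J_i) ⊗ M` (finite product) which dies in every `J_i ⊗ M` is zero. -/
theorem pi_rTensor_eq_zero {S : Type u} [CommRing S] {ι : Type w} [Fintype ι] (J : ι → Type u)
    [∀ i, AddCommGroup (J i)] [∀ i, Module S (J i)] {M : Type v} [AddCommGroup M] [Module S M]
    (z : (∀ i, J i) ⊗[S] M) (h : ∀ i, ((LinearMap.proj i : (∀ i, J i) →ₗ[S] J i).rTensor M) z = 0) :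
    z = 0 := by
  classical
  apply (TensorProduct.piLeft S M J).injective
  rw [map_zero]
  funext i
  rw [Pi.zero_apply, ← h i]
  clear h
  induction z using TensorProduct.induction_on with
  | zero => simp
  | add x y hx hy => rw [map_add, map_add, Pi.add_apply, hx, hy]
  | tmul a m => simp

/-- Finite family version: `S → T_i` jointly injective, `I² = 0`, `M/IM` flat over `S/I` and `T_i ⊗ M` flat over
`T_i`; then `M` is flat over `S`. -/
theorem flat_of_finite_family {S : Type u} [CommRing S] {ι : Type u} [Fintype ι] (T : ι → Type u)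
    [∀ i, CommRing (T i)] [∀ i, Algebra S (T i)]
    (hinj : ∀ s : S, (∀ i, algebraMap S (T i) s = 0) → s = 0) (I : Ideal S) (hI : I ^ 2 = ⊥)
    {M : Type v} [AddCommGroup M] [Module S M] (h1 : Module.Flat (S ⧸ I) ((S ⧸ I) ⊗[S] M))
    (h2 : ∀ i, Module.Flat (T i) (T i ⊗[S] M)) : Module.Flat S M := by
  refine Groth.Agent.Flat2D.NilpFlat.flat_of_isNilpotent I ⟨2, hI⟩ ?_
  let J : (i : ι) → Ideal (T i) := fun i => I.map (algebraMap S (T i))
  have hkill1 : Module.IsTorsionBySet S I (I : Set S) := by
    rintro ⟨x, hx⟩ ⟨a, ha⟩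
    apply Subtype.ext
    change a * x = 0
    have : a * x ∈ I ^ 2 := by rw [pow_two]; exact Ideal.mul_mem_mul ha hx
    rw [hI] at this
    exact this
  have hkill2 : Module.IsTorsionBySet S (∀ i, J i) (I : Set S) := by
    rintro x ⟨a, ha⟩
    funext i
    apply Subtype.ext
    change a • (x i).1 = 0
    rw [Algebra.smul_def]
    have h3 : algebraMap S (T i) a * (x i).1 ∈ (J i) ^ 2 := by
      rw [pow_two]; exact Ideal.mul_mem_mul (Ideal.mem_map_of_mem _ ha) (x i).2
    rw [← Ideal.map_pow, hI, Ideal.map_bot] at h3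
    exact h3
  letI := hkill1.module
  letI := hkill2.module
  haveI := hkill1.isScalarTower (S := S)
  haveI := hkill2.isScalarTower (S := S)
  let f : I →ₗ[S ⧸ I] (∀ i, J i) :=
    { toFun := fun x i => ⟨algebraMap S (T i) x.1, Ideal.mem_map_of_mem _ x.2⟩
      map_add' := fun x y => by funext i; exact Subtype.ext (map_add _ _ _)
      map_smul' := by
        intro c x
        obtain ⟨r, rfl⟩ := Ideal.Quotient.mk_surjective c
        funext i
        apply Subtype.ext
        change algebraMap S (T i) (r * x.1) = r • algebraMap S (T i) x.1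
        rw [map_mul, Algebra.smul_def] }
  have hf : Injective f := by
    intro x y hxy
    apply Subtype.ext
    rw [← sub_eq_zero]
    apply hinj
    intro i
    rw [map_sub, sub_eq_zero]
    exact congrArg Subtype.val (congrFun hxy i)
  have e1 : Injective ((f.restrictScalars S).rTensor M) :=
    Groth.Agent.Flat2D.NilpFlat.rTensor_injective_of_algebra (S ⧸ I) f hf
  -- `J_i ⊗_S M → T_i ⊗_S M` is injective
  have e2 : ∀ i, Injective (((J i).subtype.restrictScalars S).rTensor M) := fun i => by
    haveI := h2 i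
    exact Groth.Agent.Flat2D.NilpFlat.rTensor_injective_of_algebra (T i) (J i).subtype
      Subtype.val_injective
  have e3 : ∀ i z, (Algebra.linearMap S (T i)).rTensor M (I.subtype.rTensor M z) =
      ((J i).subtype.restrictScalars S).rTensor M
        (((LinearMap.proj i : (∀ i, J i) →ₗ[S] J i).rTensor M)
          ((f.restrictScalars S).rTensor M z)) := by
    intro i z
    rw [← LinearMap.comp_apply, ← LinearMap.comp_apply, ← LinearMap.comp_apply,
      ← LinearMap.rTensor_comp, ← LinearMap.rTensor_comp, ← LinearMap.rTensor_comp]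
    rfl
  rw [injective_iff_map_eq_zero]
  intro z hz
  apply e1
  rw [map_zero]
  apply pi_rTensor_eq_zero
  intro i
  apply e2 i
  rw [← e3, hz, map_zero, map_zero]

/-- Finite family version of `flat_quotient_ker`. -/
theorem flat_quotient_iInf_ker {R : Type u} [CommRing R] {ι : Type u} [Fintype ι] (T : ι → Type u)
    [∀ i, CommRing (T i)] [∀ i, Algebra R (T i)] (I : Ideal R)
    (hI : ∀ i, I ^ 2 ≤ RingHom.ker (algebraMap R (T i))) {M : Type v}
    [AddCommGroup M] [Module R M] (h1 : Module.Flat (R ⧸ I) ((R ⧸ I) ⊗[R] M))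
    (h2 : ∀ i, Module.Flat (T i) (T i ⊗[R] M)) :
    Module.Flat (R ⧸ (⨅ i, RingHom.ker (algebraMap R (T i))))
      ((R ⧸ (⨅ i, RingHom.ker (algebraMap R (T i)))) ⊗[R] M) := by
  set 𝔨 : Ideal R := ⨅ i, RingHom.ker (algebraMap R (T i)) with h𝔨
  let φ : (i : ι) → (R ⧸ 𝔨 →+* T i) := fun i =>
    Ideal.Quotient.lift 𝔨 (algebraMap R (T i)) (fun a ha => (Ideal.mem_iInf.1 ha) i)
  letI : ∀ i, Algebra (R ⧸ 𝔨) (T i) := fun i => (φ i).toAlgebra
  haveI : ∀ i, IsScalarTower R (R ⧸ 𝔨) (T i) := fun i => IsScalarTower.of_algebraMap_eq fun r => rfl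
  have hφ : ∀ s : R ⧸ 𝔨, (∀ i, algebraMap (R ⧸ 𝔨) (T i) s = 0) → s = 0 := by
    intro s hs
    obtain ⟨r, rfl⟩ := Ideal.Quotient.mk_surjective s
    rw [Ideal.Quotient.eq_zero_iff_mem, h𝔨, Ideal.mem_iInf]
    exact hs
  let Ib : Ideal (R ⧸ 𝔨) := I.map (Ideal.Quotient.mk 𝔨)
  have hIb : Ib ^ 2 = ⊥ := by
    rw [← Ideal.map_pow]
    rw [Ideal.map_eq_bot_iff_le_ker, Ideal.mk_ker]
    exact le_iInf hI
  refine flat_of_finite_family T hφ Ib hIb ?_ ?_
  · rw [flat_cancelBaseChange_iff]
    let ψ : R ⧸ I →ₐ[R] ((R ⧸ 𝔨) ⧸ Ib) :=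
      Ideal.Quotient.liftₐ I (Algebra.ofId R _) (fun a ha => by
        change algebraMap R ((R ⧸ 𝔨) ⧸ Ib) a = 0
        rw [IsScalarTower.algebraMap_apply R (R ⧸ 𝔨) ((R ⧸ 𝔨) ⧸ Ib)]
        exact Ideal.Quotient.eq_zero_iff_mem.2 (Ideal.mem_map_of_mem _ ha))
    exact flat_of_algHom ψ h1
  · intro i
    rw [flat_cancelBaseChange_iff]
    exact h2 i

/-- In a Noetherian local ring, the intersection of a family of ideals containing `m^k` is a finite
subintersection. -/
theorem exists_finset_iInf_eq {R : Type u} [CommRing R] [IsLocalRing R] [IsNoetherianRing R]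
    {ι : Type u} (K : ι → Ideal R) (k : ℕ) (hK : ∀ i, maximalIdeal R ^ k ≤ K i) :
    ∃ s : Finset ι, (⨅ i : s, K i) = ⨅ i, K i := by
  classical
  haveI : IsArtinian R (R ⧸ (maximalIdeal R ^ k • ⊤ : Submodule R R)) :=
    Groth.Agent.LoccohA.Chevalley.isArtinian_quotient_pow_smul (A := R) R k
  set P : Submodule R R := maximalIdeal R ^ k • ⊤ with hP
  have hPle : P ≤ maximalIdeal R ^ k := by rw [hP, smul_eq_mul, Ideal.mul_top]
  obtain ⟨N, ⟨s, rfl⟩, hmin⟩ := IsArtinian.set_has_minimal
    (Set.range fun s : Finset ι => Submodule.map P.mkQ (⨅ i : s, K i)) ⟨_, ⟨∅, rfl⟩⟩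
  refine ⟨s, le_antisymm (le_iInf fun j => ?_) (le_iInf fun i => iInf_le _ _)⟩
  have h1 : (⨅ i : (insert j s : Finset ι), K i) ≤ ⨅ i : s, K i :=
    le_iInf fun i => iInf_le (fun i : (insert j s : Finset ι) => K i)
      ⟨i.1, Finset.mem_insert_of_mem i.2⟩
  have h2 : Submodule.map P.mkQ (⨅ i : (insert j s : Finset ι), K i) =
      Submodule.map P.mkQ (⨅ i : s, K i) := by
    by_contra hne
    exact hmin _ ⟨insert j s, rfl⟩ (lt_of_le_of_ne (Submodule.map_mono h1) hne)
  have h3 := congrArg (Submodule.comap P.mkQ) h2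
  simp only [Submodule.comap_map_mkQ] at h3
  have h4 : P ≤ ⨅ i : (insert j s : Finset ι), K i := le_iInf fun i => hPle.trans (hK _)
  rw [sup_eq_right.2 h4] at h3
  have h5 : (⨅ i : s, K i) ≤ ⨅ i : (insert j s : Finset ι), K i := by
    rw [h3]; exact le_sup_right
  exact h5.trans (iInf_le (fun i : (insert j s : Finset ι) => K i)
      ⟨j, Finset.mem_insert_self _ _⟩)

/-- Let `R` be a complete Noetherian local ring, `C` a Noetherian local `R`-algebra, `M` a finite
`C`-module.  Let `(T_i)` be a jointly injective family of local `R`-algebras, each `m_R`-adically separated,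
such that `(T_i / m_R^n T_i) ⊗ M` is flat over `T_i/m_R^n T_i` for all `i`, `n`.  Then `M` is flat over `R`. -/
theorem flat_of_family_of_isAdicComplete {R : Type u} {C : Type v} {M : Type w} [CommRing R]
    [CommRing C] [IsNoetherianRing R] [IsNoetherianRing C] [IsLocalRing R] [IsLocalRing C]
    [Algebra R C] [IsLocalHom (algebraMap R C)] [IsPrecomplete (maximalIdeal R) R]
    [AddCommGroup M] [Module R M] [Module C M] [IsScalarTower R C M] [Module.Finite C M]
    {ι : Type u} (T : ι → Type u) [∀ i, CommRing (T i)] [∀ i, IsLocalRing (T i)]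
    [∀ i, Algebra R (T i)] [∀ i, IsLocalHom (algebraMap R (T i))]
    (hinj : ∀ r : R, (∀ i, algebraMap R (T i) r = 0) → r = 0)
    (hsep : ∀ i, ⨅ n : ℕ, ((maximalIdeal R).map (algebraMap R (T i))) ^ n = ⊥)
    (hflat : ∀ i (n : ℕ), Module.Flat (T i ⧸ (maximalIdeal R ^ n).map (algebraMap R (T i)))
      ((T i ⧸ (maximalIdeal R ^ n).map (algebraMap R (T i))) ⊗[R] M)) : Module.Flat R M := by
  let c : Ideal R → Ideal R := fun J =>
    ⨅ i, ((J ^ 2).map (algebraMap R (T i))).comap (algebraMap R (T i))
  let I : ℕ → Ideal R := fun n => Nat.rec (maximalIdeal R) (fun _ J => c J) n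
  have hI0 : I 0 = maximalIdeal R := rfl
  have hIs : ∀ n, I (n + 1) = c (I n) := fun n => rfl
  have hcmono : ∀ J J' : Ideal R, J ≤ J' → c J ≤ c J' := by
    intro J J' h
    exact iInf_mono fun i => Ideal.comap_mono (Ideal.map_mono (Ideal.pow_right_mono h 2))
  have hι : Nonempty ι := by
    by_contra hne
    rw [not_nonempty_iff] at hne
    exact one_ne_zero (hinj 1 fun i => hne.elim i)
  have hle0 : c (maximalIdeal R) ≤ maximalIdeal R := by
    obtain ⟨i⟩ := hι
    refine (iInf_le _ i).trans ?_
    intro x hx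
    have h1 : algebraMap R (T i) x ∈ maximalIdeal (T i) := by
      refine (Ideal.map_le_iff_le_comap.2 ?_) hx
      intro y hy
      have hy' : y ∈ maximalIdeal R := Ideal.pow_le_self two_ne_zero hy
      exact (IsLocalRing.map_maximalIdeal_le (algebraMap R (T i))) (Ideal.mem_map_of_mem _ hy')
    rw [IsLocalRing.mem_maximalIdeal, mem_nonunits_iff] at h1 ⊢
    exact fun hu => h1 (hu.map _)
  have hanti : Antitone I := by
    apply antitone_nat_of_succ_le
    intro n
    induction n with
    | zero => exact hle0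
    | succ n ih => exact hcmono _ _ ih
  have hpow : ∀ n, maximalIdeal R ^ (2 ^ n) ≤ I n := by
    intro n
    induction n with
    | zero => rw [pow_zero, pow_one, hI0]
    | succ n ih =>
      rw [hIs, pow_succ 2 n, pow_mul]
      refine (Ideal.pow_right_mono ih 2).trans ?_
      exact le_iInf fun i => Ideal.le_comap_map
  have hup : ∀ i n, (I n).map (algebraMap R (T i)) ≤
      ((maximalIdeal R).map (algebraMap R (T i))) ^ (2 ^ n) := by
    intro i n
    induction n with
    | zero => rw [pow_zero, pow_one, hI0]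
    | succ n ih =>
      rw [hIs]
      refine (Ideal.map_mono (iInf_le _ i)).trans ?_
      refine Ideal.map_comap_le.trans ?_
      rw [Ideal.map_pow, pow_succ 2 n, pow_mul]
      exact Ideal.pow_right_mono ih 2
  have hbot : ⨅ n, I n = ⊥ := by
    rw [eq_bot_iff]
    intro x hx
    rw [Ideal.mem_iInf] at hx
    refine hinj x fun i => ?_
    have h1 : algebraMap R (T i) x ∈ (⨅ n : ℕ, ((maximalIdeal R).map (algebraMap R (T i))) ^ n) := by
      rw [Ideal.mem_iInf]
      intro n
      exact Ideal.pow_le_pow_right Nat.lt_two_pow_self.le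
        (hup i n (Ideal.mem_map_of_mem _ (hx n)))
    rw [hsep] at h1
    exact h1
  let Fl : Ideal R → Prop := fun J => Module.Flat (R ⧸ J) ((R ⧸ J) ⊗[R] M)
  have hflatI : ∀ n, Fl (I n) := by
    intro n
    induction n with
    | zero =>
      change Module.Flat (R ⧸ maximalIdeal R) ((R ⧸ maximalIdeal R) ⊗[R] M)
      letI := Ideal.Quotient.field (maximalIdeal R)
      infer_instance
    | succ n ih =>
      -- finite subfamily
      obtain ⟨s, hs⟩ := exists_finset_iInf_eq
        (fun i => (((I n) ^ 2).map (algebraMap R (T i))).comap (algebraMap R (T i))) (2 ^ (n + 1))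
        (fun i => by
          refine le_trans ?_ Ideal.le_comap_map
          rw [pow_succ 2 n, pow_mul]
          exact Ideal.pow_right_mono (hpow n) 2)
      have hker : ∀ i : ι, RingHom.ker (algebraMap R (T i ⧸ ((I n) ^ 2).map (algebraMap R (T i)))) =
          (((I n) ^ 2).map (algebraMap R (T i))).comap (algebraMap R (T i)) := by
        intro i
        rw [IsScalarTower.algebraMap_eq R (T i) (T i ⧸ ((I n) ^ 2).map (algebraMap R (T i))),
          RingHom.ker_eq_comap_bot, ← Ideal.comap_comap,
          ← RingHom.ker_eq_comap_bot]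
        congr 1
        exact Ideal.mk_ker
      have h6 := flat_quotient_iInf_ker
        (fun i : s => T i ⧸ ((I n) ^ 2).map (algebraMap R (T i))) (I n)
        (fun i => by rw [hker]; exact Ideal.le_comap_map) (M := M) ih (fun i => by
          have hle : (maximalIdeal R ^ (2 ^ (n + 1))).map (algebraMap R (T i)) ≤
              ((I n) ^ 2).map (algebraMap R (T i)) := by
            refine Ideal.map_mono ?_
            rw [pow_succ 2 n, pow_mul]
            exact Ideal.pow_right_mono (hpow n) 2
          exact flat_of_algHom (Ideal.Quotient.factorₐ R hle) (hflat i (2 ^ (n + 1))))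
      have h7 : (⨅ i : s, RingHom.ker (algebraMap R (T i ⧸ ((I n) ^ 2).map (algebraMap R (T i))))) =
          I (n + 1) := by
        rw [hIs]
        change _ = ⨅ i, _
        rw [← hs]
        exact iInf_congr fun i => hker i
      change Fl (⨅ i : s, RingHom.ker (algebraMap R (T i ⧸ ((I n) ^ 2).map (algebraMap R (T i)))))
        at h6
      rw [h7] at h6
      exact h6
  refine Groth.Agent.Ega43.FlatAdic.flat_of_forall_exists_le_pow (S := C) fun k => ?_
  obtain ⟨n, hn⟩ := Groth.Agent.LoccohA.Chevalley.exists_le_pow_of_iInf_eq_bot I hanti hbot k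
  exact ⟨I n, hn, hflatI n⟩

end Groth.Agent.Ega43.FlatFamily
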