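import Mathlib.RingTheory.Flat.Localization
import Groth.Agent.S0392
import Groth.Agent.FlatA.NagataOpen

/-!
# Fibrewise flatness for `A → D → C`, Noetherian, pointwise

* `flat_of_fibre`: `C_P` flat over `A`, `D ⊗ κ(q) → C ⊗ κ(q)` flat ⟹ `C_P` flat over `D`
* `flat_fibre`: `C_P` flat over `D` for all `P` over `q` ⟹ `D ⊗ κ(q) → C ⊗ κ(q)` flat
-/

set_option autoImplicit false
universe u

open TensorProduct

namespace Groth.Agent.Ega43.FlatFibreCrit

/-- Base change of flatness, in the form used below. -/
theorem flat_baseChange {B C B₁ B₂ : Type u} [CommRing B] [CommRing C] [CommRing B₁] [CommRing B₂]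
    [Algebra B C] [Algebra B B₁] [Algebra B B₂] [Algebra B₁ B₂] [IsScalarTower B B₁ B₂]
    (h : Module.Flat B₁ (B₁ ⊗[B] C)) : Module.Flat B₂ (B₂ ⊗[B] C) :=
  Module.Flat.of_linearEquiv (Algebra.TensorProduct.cancelBaseChange B B₁ B₂ B₂ C).symm.toLinearEquiv

/-- `B'' ⊗ C` flat over `B''` implies `B'' ⊗ C_M` flat over `B''`. -/
theorem flat_localization {B B'' C CP : Type u} [CommRing B] [CommRing B''] [CommRing C]
    [CommRing CP] [Algebra B B''] [Algebra B C] [Algebra C CP] [Algebra B CP] [IsScalarTower B C CP]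
    (M : Submonoid C) [IsLocalization M CP] (h : Module.Flat B'' (B'' ⊗[B] C)) :
    Module.Flat B'' (B'' ⊗[B] CP) := by
  let N : Submonoid (B'' ⊗[B] C) := M.map (Algebra.TensorProduct.includeRight (R := B) (A := B''))
  let e : B'' ⊗[B] CP ≃ₐ[B''] Localization N :=
    IsLocalization.tensorProductEquivOfMapIncludeRight B B'' M CP (Localization N)
  have : Module.Flat (B'' ⊗[B] C) (Localization N) := IsLocalization.flat _ N
  have : Module.Flat B'' (Localization N) := .trans _ (B'' ⊗[B] C) _
  exact .of_linearEquiv e.toLinearEquiv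

variable (D B C : Type u) [CommRing D] [CommRing B] [CommRing C] [Algebra D B] [Algebra B C]
  [Algebra D C] [IsScalarTower D B C]

/-- Pointwise fibre criterion for flatness of a morphism over a base, Noetherian case: `D → B → C`,
`P` a prime of `C` over the prime `q` of `D`, `C_P` flat over `D` and `B ⊗ κ(q) → C ⊗ κ(q)` flat.
Then `C_P` is flat over `B`. -/
theorem flat_of_fibre [IsNoetherianRing D] [IsNoetherianRing B] [IsNoetherianRing C]
    (P : Ideal C) [P.IsPrime] (q : Ideal D) [q.IsPrime] [P.LiesOver q]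
    [Module.Flat D (Localization.AtPrime P)]
    (h : Module.Flat (B ⊗[D] q.ResidueField) ((B ⊗[D] q.ResidueField) ⊗[B] C)) :
    Module.Flat B (Localization.AtPrime P) := by
  let Q : Ideal B := P.under B
  have : P.LiesOver Q := ⟨rfl⟩
  have : Q.LiesOver q := ⟨by rw [Ideal.under_under, ← Ideal.over_def P q]⟩
  let Dq := Localization.AtPrime q
  let BQ := Localization.AtPrime Q
  let CP := Localization.AtPrime P
  let : Algebra Dq BQ := Localization.AtPrime.algebraOfLiesOver q Q
  let : Algebra BQ CP := Localization.AtPrime.algebraOfLiesOver Q P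
  let : Algebra Dq CP := Localization.AtPrime.algebraOfLiesOver q P
  have : IsScalarTower Dq BQ CP := inferInstance
  have : IsScalarTower B BQ CP := inferInstance
  have : IsScalarTower D Dq CP := inferInstance
  have : IsScalarTower D Dq BQ := inferInstance
  have : IsLocalHom (algebraMap Dq BQ) := Localization.isLocalHom_localRingHom _ _ _ _
  have : IsLocalHom (algebraMap BQ CP) := Localization.isLocalHom_localRingHom _ _ _ _
  have hflatD : Module.Flat Dq CP := by
    rw [Module.flat_iff_of_isLocalization Dq q.primeCompl]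
    infer_instance
  -- algebras over `B ⊗ κ(q)`
  have key : ∀ (B'' : Type u) [CommRing B''] [Algebra BQ B''] [Algebra B B''] [IsScalarTower B BQ B'']
      (_ : ∀ x ∈ IsLocalRing.maximalIdeal Dq, algebraMap BQ B'' (algebraMap Dq BQ x) = 0),
      Module.Flat B'' (B'' ⊗[B] C) := by
    intro B'' _ _ _ _ hB''
    let φ : q.ResidueField →+* B'' := Ideal.Quotient.lift (IsLocalRing.maximalIdeal Dq)
      ((algebraMap BQ B'').comp (algebraMap Dq BQ)) hB''
    let : Algebra D B'' := ((algebraMap B B'').comp (algebraMap D B)).toAlgebra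
    have : IsScalarTower D B B'' := .of_algebraMap_eq' rfl
    let φ' : q.ResidueField →ₐ[D] B'' := { φ with
      commutes' := by
        intro d
        change φ (algebraMap D q.ResidueField d) = _
        rw [IsScalarTower.algebraMap_apply D Dq q.ResidueField]
        change algebraMap BQ B'' (algebraMap Dq BQ (algebraMap D Dq d)) = algebraMap B B'' (algebraMap D B d)
        rw [← IsScalarTower.algebraMap_apply D Dq BQ, IsScalarTower.algebraMap_apply D B BQ,
          ← IsScalarTower.algebraMap_apply B BQ B''] }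
    let ψ : B ⊗[D] q.ResidueField →ₐ[B] B'' :=
      Algebra.TensorProduct.lift (Algebra.ofId B B'') φ' (fun _ _ => Commute.all _ _)
    let : Algebra (B ⊗[D] q.ResidueField) B'' := ψ.toRingHom.toAlgebra
    have : IsScalarTower B (B ⊗[D] q.ResidueField) B'' := .of_algebraMap_eq' ψ.comp_algebraMap.symm
    exact flat_baseChange h
  have key2 : ∀ (B'' : Type u) [CommRing B''] [Algebra BQ B'']
      (_ : ∀ x ∈ IsLocalRing.maximalIdeal Dq, algebraMap BQ B'' (algebraMap Dq BQ x) = 0),
      Module.Flat B'' (B'' ⊗[BQ] CP) := by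
    intro B'' _ _ hB''
    let : Algebra B B'' := ((algebraMap BQ B'').comp (algebraMap B BQ)).toAlgebra
    have : IsScalarTower B BQ B'' := .of_algebraMap_eq' rfl
    have h2 := flat_localization (B := B) (B'' := B'') (C := C) (CP := CP) P.primeCompl
      (key B'' hB'')
    have hcomp : TensorProduct.CompatibleSMul B BQ B'' CP :=
      IsLocalization.tensorProduct_compatibleSMul Q.primeCompl BQ B'' CP
    let e : B'' ⊗[BQ] CP ≃ₐ[B''] B'' ⊗[B] CP := Algebra.TensorProduct.equivOfCompatibleSMul B BQ B'' B'' CP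
    exact .of_linearEquiv e.toLinearEquiv
  -- flatness
  have hflat : Module.Flat BQ CP := by
    refine (Groth.Agent.S0392.result (R := Dq) (S := BQ) (S' := CP) (M := CP) ?_).2
    refine (key2 _ ?_)
    intro x hx
    exact Ideal.Quotient.eq_zero_iff_mem.mpr (Ideal.mem_map_of_mem _ hx)
  exact (Module.flat_iff_of_isLocalization BQ Q.primeCompl CP).mp hflat

/-- If `C_P` is flat over `B` for all `P` over `q` then the fibre of `C` over `q` is flat. -/
theorem flat_fibre (B' : Type u) [CommRing B'] [Algebra B B']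
    (h : ∀ (P : Ideal C) [P.IsPrime],
      (∃ 𝔔 : Ideal (B' ⊗[B] C), 𝔔.IsPrime ∧
        𝔔.comap (Algebra.TensorProduct.includeRight (R := B) (A := B') (B := C)) = P) →
        Module.Flat B (Localization.AtPrime P)) :
    Module.Flat B' (B' ⊗[B] C) := by
  refine Module.flat_of_isLocalized_maximal (S := B' ⊗[B] C) (M := B' ⊗[B] C)
    (fun 𝔔 _ ↦ Localization.AtPrime 𝔔) (fun 𝔔 _ ↦ Algebra.linearMap _ _) ?_
  intro 𝔔 _
  let i : C →ₐ[B] B' ⊗[B] C := Algebra.TensorProduct.includeRight
  let P : Ideal C := 𝔔.comap i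
  have hP : P.IsPrime := inferInstance
  have hPf : Module.Flat B (Localization.AtPrime P) := h P ⟨𝔔, inferInstance, rfl⟩
  let N : Submonoid (B' ⊗[B] C) := P.primeCompl.map i
  have hN : N ≤ 𝔔.primeCompl := by
    rintro _ ⟨x, hx, rfl⟩
    exact hx
  let e : B' ⊗[B] (Localization.AtPrime P) ≃ₐ[B'] Localization N :=
    IsLocalization.tensorProductEquivOfMapIncludeRight B B' P.primeCompl (Localization.AtPrime P)
      (Localization N)
  have h1 : Module.Flat B' (Localization N) := .of_linearEquiv e.symm.toLinearEquiv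
  let := IsLocalization.localizationAlgebraOfSubmonoidLe (Localization N) (Localization.AtPrime 𝔔)
    N 𝔔.primeCompl hN
  have h2 := IsLocalization.localization_isScalarTower_of_submonoid_le (Localization N)
    (Localization.AtPrime 𝔔) N 𝔔.primeCompl hN
  have h3 : IsLocalization (𝔔.primeCompl.map (algebraMap (B' ⊗[B] C) (Localization N)))
      (Localization.AtPrime 𝔔) := IsLocalization.isLocalization_of_submonoid_le _ _ N 𝔔.primeCompl hN
  have h4 : Module.Flat (Localization N) (Localization.AtPrime 𝔔) := IsLocalization.flat _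
    (𝔔.primeCompl.map (algebraMap (B' ⊗[B] C) (Localization N)))
  have h5 : IsScalarTower B' (Localization N) (Localization.AtPrime 𝔔) :=
    .to₁₃₄ _ (B' ⊗[B] C) _ _
  exact .trans _ (Localization N) _

/-- Generic flatness, pointwise. -/
theorem exists_forall_flat (A C : Type u) [CommRing A] [IsDomain A] [CommRing C] [Algebra A C]
    [Algebra.FiniteType A C] :
    ∃ a : A, a ≠ 0 ∧ ∀ (P : Ideal C) [P.IsPrime], algebraMap A C a ∉ P →
      Module.Flat A (Localization.AtPrime P) := by
  obtain ⟨a, ha, h⟩ := FlatA.NagataOpen.exists_forall_flat_quotient (R := A) (S := C) (M := C) ⊥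
  refine ⟨a, fun h0 ↦ ha (by simp [h0]), fun P _ hP ↦ ?_⟩
  have h1 := h P hP
  have h2 : Module.Flat A (A ⧸ (⊥ : Ideal A)) := Module.Flat.of_linearEquiv
    (Submodule.quotEquivOfEqBot (⊥ : Ideal A) rfl)
  have h3 : Module.Flat A ((A ⧸ (⊥ : Ideal A)) ⊗[A] LocalizedModule P.primeCompl C) :=
    .trans _ (A ⧸ (⊥ : Ideal A)) _
  have e : ((A ⧸ (⊥ : Ideal A)) ⊗[A] LocalizedModule P.primeCompl C) ≃ₗ[A]
      LocalizedModule P.primeCompl C :=
    (TensorProduct.congr (Submodule.quotEquivOfEqBot (⊥ : Ideal A) rfl) (.refl A _)).trans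
      (TensorProduct.lid A _)
  exact .of_linearEquiv e.symm

end Groth.Agent.Ega43.FlatFibreCrit
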