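import Mathlib.RingTheory.Flat.Localization
import Mathlib.RingTheory.Localization.LocalizationLocalization
import Mathlib.RingTheory.Localization.BaseChange
import Mathlib.RingTheory.Spectrum.Prime.Topology

/-!
# From pointwise flatness to flatness after localization
-/

set_option autoImplicit false

open TensorProduct Module

namespace Groth.Agent.Ega43.FlatLocusAway

universe u v w

/-- `R`-flatness is preserved by localization of a `B`-module at a submonoid of `B`. -/
theorem flat_of_isLocalizedModule (R : Type*) {B : Type*} [CommRing R] [CommRing B] [Algebra R B]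
    (S : Submonoid B) {N N' : Type*} [AddCommGroup N] [AddCommGroup N'] [Module B N] [Module B N']
    [Module R N] [Module R N'] [IsScalarTower R B N] [IsScalarTower R B N'] (g : N →ₗ[B] N')
    [IsLocalizedModule S g] (h : Module.Flat R N) : Module.Flat R N' := by
  rw [Flat.iff_lTensor_injectiveₛ] at h ⊢
  simp_rw [← AlgebraTensorModule.coe_lTensor (A := B)] at h ⊢
  intro P _ _ Q
  have h1 := IsLocalizedModule.map_injective S (AlgebraTensorModule.rTensor R Q g)
    (AlgebraTensorModule.rTensor R P g) (AlgebraTensorModule.lTensor B N Q.subtype) (h Q)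
  rwa [IsLocalizedModule.map_lTensor] at h1

/-- if `M_q` is `A`-flat for all primes `q` of `B` in `D(t)`, then `M_t` is `A`-flat. -/
theorem flat_away_of_forall (A : Type*) {B : Type*} [CommRing A] [CommRing B] [Algebra A B]
    {M : Type*} [AddCommGroup M] [Module B M] [Module A M] [IsScalarTower A B M] (t : B)
    (h : ∀ (q : Ideal B) [q.IsPrime], t ∉ q → Module.Flat A (LocalizedModule q.primeCompl M)) :
    Module.Flat A (Localization.Away t ⊗[B] M) := by
  refine Module.flat_of_isLocalized_maximal (R := A) (Localization.Away t) _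
    (fun P _ => Localization.AtPrime P ⊗[Localization.Away t] (Localization.Away t ⊗[B] M))
    (fun P _ => TensorProduct.mk (Localization.Away t) (Localization.AtPrime P)
      (Localization.Away t ⊗[B] M) 1) ?_
  intro P hP
  let q := P.comap (algebraMap B (Localization.Away t))
  have hq : t ∉ q := fun hmem => hP.ne_top
    (Ideal.eq_top_of_isUnit_mem P hmem (IsLocalization.Away.algebraMap_isUnit t))
  have h1 := h q hq
  have : IsLocalization.AtPrime (Localization.AtPrime P) q :=
    IsLocalization.isLocalization_isLocalization_atPrime_isLocalization (Submonoid.powers t)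
      (Localization.AtPrime P) P
  let e1 : Localization.AtPrime P ⊗[Localization.Away t] (Localization.Away t ⊗[B] M) ≃ₗ[Localization.AtPrime P]
      Localization.AtPrime P ⊗[B] M :=
    AlgebraTensorModule.cancelBaseChange B (Localization.Away t) (Localization.AtPrime P)
      (Localization.AtPrime P) M
  have hloc : IsLocalizedModule q.primeCompl (TensorProduct.mk B (Localization.AtPrime P) M 1) :=
    (isLocalizedModule_iff_isBaseChange q.primeCompl (Localization.AtPrime P) _).mpr
      (TensorProduct.isBaseChange B M (Localization.AtPrime P))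
  let e2 : LocalizedModule q.primeCompl M ≃ₗ[B] Localization.AtPrime P ⊗[B] M :=
    IsLocalizedModule.iso q.primeCompl (TensorProduct.mk B (Localization.AtPrime P) M 1)
  exact Module.Flat.of_linearEquiv
    ((e1.restrictScalars A).trans (e2.symm.restrictScalars A))

/-- flatness at all points over `p` spreads out, given openness of the flat locus. -/
theorem exists_notMem_of_isOpen {A B : Type*} [CommRing A] [CommRing B] [Algebra A B]
    (p : Ideal A) [p.IsPrime] (hp : ∀ p' : Ideal A, p'.IsPrime → p' ≤ p → p' = p)
    (U : Set (PrimeSpectrum B)) (hU : IsOpen U)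
    (h : ∀ q : PrimeSpectrum B, q.asIdeal.comap (algebraMap A B) = p → q ∈ U) :
    ∃ t : A, t ∉ p ∧ ∀ q : PrimeSpectrum B, algebraMap A B t ∉ q.asIdeal → q ∈ U := by
  obtain ⟨J, hJ⟩ := (PrimeSpectrum.isClosed_iff_zeroLocus_ideal _).mp hU.isClosed_compl
  by_cases hdisj : Disjoint (J : Set B) (Algebra.algebraMapSubmonoid B p.primeCompl : Set B)
  · exfalso
    obtain ⟨q, hq, hJq, hq'⟩ := Ideal.exists_le_prime_disjoint J _ hdisj
    have h1 : q.comap (algebraMap A B) ≤ p := by
      intro a ha
      by_contra hap
      exact Set.disjoint_left.mp hq' ha ⟨a, hap, rfl⟩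
    have h2 := hp _ (Ideal.IsPrime.comap (algebraMap A B)) h1
    have h3 := h ⟨q, hq⟩ h2
    have h4 : (⟨q, hq⟩ : PrimeSpectrum B) ∈ Uᶜ := by
      rw [hJ]
      exact hJq
    exact h4 h3
  · obtain ⟨_, hxJ, t, ht, rfl⟩ := Set.not_disjoint_iff.mp hdisj
    refine ⟨t, ht, fun q hq => ?_⟩
    by_contra hqU
    have h4 : q ∈ Uᶜ := hqU
    rw [hJ] at h4
    exact hq (h4 hxJ)

/-- transitivity of localization of modules, `S' ≤ S`. -/
theorem isLocalizedModule_comp {R : Type*} [CommRing R] (S' S : Submonoid R) (hS : S' ≤ S)
    {M N L : Type*} [AddCommGroup M] [AddCommGroup N] [AddCommGroup L] [Module R M] [Module R N]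
    [Module R L] (f : M →ₗ[R] N) (g : N →ₗ[R] L) [IsLocalizedModule S' f]
    [IsLocalizedModule S g] : IsLocalizedModule S (g ∘ₗ f) where
  map_units := IsLocalizedModule.map_units g
  surj := by
    intro y
    obtain ⟨⟨n, s⟩, hs⟩ := IsLocalizedModule.surj S g y
    obtain ⟨⟨m, s'⟩, hs'⟩ := IsLocalizedModule.surj S' f n
    refine ⟨⟨m, ⟨s', hS s'.2⟩ * s⟩, ?_⟩
    have h1 : (s' : R) • n = f m := hs'
    have h2 : (s : R) • y = g n := hs
    change ((s' : R) * (s : R)) • y = g (f m)
    rw [mul_smul, h2, ← map_smul, h1]
  exists_of_eq := by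
    intro x₁ x₂ h
    obtain ⟨c, hc⟩ := IsLocalizedModule.exists_of_eq (S := S) (f := g) h
    have h1 : f ((c : R) • x₁) = f ((c : R) • x₂) := by
      rw [map_smul, map_smul]; exact hc
    obtain ⟨d, hd⟩ := IsLocalizedModule.exists_of_eq (S := S') (f := f) h1
    refine ⟨⟨d, hS d.2⟩ * c, ?_⟩
    change ((d : R) * (c : R)) • x₁ = ((d : R) * (c : R)) • x₂
    rw [mul_smul, mul_smul]
    exact hd

/-- If `M_p` is flat over `A_p` then `M_q` is flat over `A` for every prime `q` of `B` with
`A ∖ p` mapping to `B ∖ q`. -/
theorem flat_of_flat_atPrime {A B : Type*} [CommRing A] [CommRing B] [Algebra A B]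
    (M : Type*) [AddCommGroup M] [Module B M] [Module A M] [IsScalarTower A B M]
    (p : Ideal A) [p.IsPrime]
    (hflat : Module.Flat (Localization.AtPrime p) (LocalizedModule p.primeCompl M))
    (q : Ideal B) [q.IsPrime] (hq : q.comap (algebraMap A B) ≤ p) :
    Module.Flat A (LocalizedModule q.primeCompl M) := by
  let S' := Algebra.algebraMapSubmonoid B p.primeCompl
  let f : M →ₗ[B] LocalizedModule S' M := LocalizedModule.mkLinearMap S' M
  let g : LocalizedModule S' M →ₗ[B] LocalizedModule q.primeCompl (LocalizedModule S' M) :=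
    LocalizedModule.mkLinearMap q.primeCompl _
  have hS' : S' ≤ q.primeCompl := by
    rintro _ ⟨a, ha, rfl⟩ hmem
    exact ha (hq hmem)
  have h1 : IsLocalizedModule p.primeCompl (f.restrictScalars A) :=
    IsLocalizedModule.restrictScalars p.primeCompl f
  have hflat' : Module.Flat A (LocalizedModule p.primeCompl M) :=
    (Module.flat_iff_of_isLocalization (Localization.AtPrime p) p.primeCompl _).mp hflat
  have h2 : Module.Flat A (LocalizedModule S' M) :=
    Module.Flat.of_linearEquiv (IsLocalizedModule.iso p.primeCompl (f.restrictScalars A)).symm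
  have h3 : Module.Flat A (LocalizedModule q.primeCompl (LocalizedModule S' M)) :=
    flat_of_isLocalizedModule A q.primeCompl g h2
  have h4 : IsLocalizedModule q.primeCompl (g ∘ₗ f) :=
    isLocalizedModule_comp S' q.primeCompl hS' f g
  exact Module.Flat.of_linearEquiv
    ((IsLocalizedModule.iso q.primeCompl (g ∘ₗ f)).restrictScalars A)

/-- `B_t ⊗[B] M ≃ A_t ⊗[A] M` as `A`-modules. -/
theorem nonempty_away_equiv {A B : Type*} [CommRing A] [CommRing B] [Algebra A B]
    (M : Type*) [AddCommGroup M] [Module B M] [Module A M] [IsScalarTower A B M] (t : A) :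
    Nonempty (Localization.Away (algebraMap A B t) ⊗[B] M ≃ₗ[A] Localization.Away t ⊗[A] M) := by
  let f : M →ₗ[B] Localization.Away (algebraMap A B t) ⊗[B] M := TensorProduct.mk B _ M 1
  have h1 : IsLocalizedModule (Submonoid.powers (algebraMap A B t)) f :=
    (isLocalizedModule_iff_isBaseChange (Submonoid.powers (algebraMap A B t))
      (Localization.Away (algebraMap A B t)) _).mpr (TensorProduct.isBaseChange B M _)
  have h2 : IsLocalizedModule (Submonoid.powers t) (f.restrictScalars A) :=
    IsLocalizedModule.restrictScalars_powers t f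
  have h3 : IsLocalizedModule (Submonoid.powers t) (TensorProduct.mk A (Localization.Away t) M 1) :=
    (isLocalizedModule_iff_isBaseChange (Submonoid.powers t) (Localization.Away t) _).mpr
      (TensorProduct.isBaseChange A M _)
  exact ⟨(IsLocalizedModule.iso (Submonoid.powers t) (f.restrictScalars A)).symm ≪≫ₗ
    IsLocalizedModule.iso (Submonoid.powers t) (TensorProduct.mk A (Localization.Away t) M 1)⟩

/-- if `M_q` is `A`-flat for all primes `q` of `B` in `D(t)`, `t ∈ A`, then `A_t ⊗ M` is
flat over `A_t`. -/
theorem flat_localizationAway_of_forall {A B : Type*} [CommRing A] [CommRing B] [Algebra A B]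
    (M : Type*) [AddCommGroup M] [Module B M] [Module A M] [IsScalarTower A B M] (t : A)
    (h : ∀ (q : Ideal B) [q.IsPrime], algebraMap A B t ∉ q →
      Module.Flat A (LocalizedModule q.primeCompl M)) :
    Module.Flat (Localization.Away t) (Localization.Away t ⊗[A] M) := by
  have h1 := flat_away_of_forall A (algebraMap A B t) h
  obtain ⟨e⟩ := nonempty_away_equiv (B := B) M t
  have h2 : Module.Flat A (Localization.Away t ⊗[A] M) := Module.Flat.of_linearEquiv e.symm
  exact (Module.flat_iff_of_isLocalization (Localization.Away t) (Submonoid.powers t) _).mpr h2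

end Groth.Agent.Ega43.FlatLocusAway
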