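import Groth.Agent.Flat2E.AIC1
import Groth.Agent.Etbase.NormalSepClosed
import Mathlib.RingTheory.IntegralClosure.Algebra.Basic
import Mathlib.FieldTheory.IsAlgClosed.AlgebraicClosure
import Mathlib.RingTheory.LocalProperties.IntegrallyClosed

/-!
# Absolute integral closure of a domain
-/

set_option autoImplicit false
universe u

namespace Groth.Agent.Ega43.FlatUniAC

open Flat2E.AIC1 IsLocalRing Polynomial

theorem henselian_of_isAIC {C : Type u} [CommRing C] [IsDomain C] (h : IsAIC C) (n : Ideal C)
    [n.IsPrime] : HenselianLocalRing (Localization.AtPrime n) ∧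
      IsAlgClosed (ResidueField (Localization.AtPrime n)) := by
  refine ⟨?_, h.isAlgClosed_residueField n⟩
  have hD : IsDomain (Localization.AtPrime n) :=
    IsLocalization.isDomain_localization n.primeCompl_le_nonZeroDivisors
  have h1 : IsAIC (Localization.AtPrime n) := h.of_isLocalization n.primeCompl
  have h2 := h1.isIntegrallyClosed
  have h3 : IsAlgClosed (FractionRing (Localization.AtPrime n)) :=
    h1.isAlgClosed (nonZeroDivisors (Localization.AtPrime n))
  have h4 : IsSepClosed (FractionRing (Localization.AtPrime n)) := IsSepClosed.of_isAlgClosed _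
  exact Etbase.NormalSepClosed.henselianLocalRing (FractionRing (Localization.AtPrime n))

theorem exists_isAIC (N : Type u) [CommRing N] [IsDomain N] :
    ∃ (C : Type u) (_ : CommRing C) (_ : IsDomain C) (_ : Algebra N C),
      Algebra.IsIntegral N C ∧ FaithfulSMul N C ∧ IsAIC C := by
  let Ω := AlgebraicClosure (FractionRing N)
  have hΩ : Function.Injective (algebraMap N Ω) := by
    rw [IsScalarTower.algebraMap_eq N (FractionRing N) Ω]
    exact (algebraMap (FractionRing N) Ω).injective.comp (IsFractionRing.injective N _)
  have hC : Function.Injective (algebraMap N (integralClosure N Ω)) :=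
    Function.Injective.of_comp (f := algebraMap (integralClosure N Ω) Ω) hΩ
  refine ⟨integralClosure N Ω, inferInstance, inferInstance, inferInstance, inferInstance,
    (faithfulSMul_iff_algebraMap_injective _ _).2 hC, ?_⟩
  intro p hp hd
  obtain ⟨x, hx⟩ := IsAlgClosed.exists_root (p.map (algebraMap (integralClosure N Ω) Ω)) (by
    rw [hp.degree_map]
    exact (Polynomial.natDegree_pos_iff_degree_pos.1 (Nat.pos_of_ne_zero hd)).ne')
  have hx1 : IsIntegral (integralClosure N Ω) x := by
    refine ⟨p, hp, ?_⟩
    rw [← eval_map]
    exact hx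
  have hx2 : IsIntegral N x := isIntegral_trans x hx1
  refine ⟨⟨x, hx2⟩, ?_⟩
  have : Function.Injective (algebraMap (integralClosure N Ω) Ω) := Subtype.val_injective
  refine IsRoot.of_map (f := algebraMap (integralClosure N Ω) Ω) ?_ this
  exact hx

end Groth.Agent.Ega43.FlatUniAC
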