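import Mathlib.RingTheory.Ideal.AssociatedPrime.Finiteness
import Mathlib.RingTheory.Flat.Basic
import Mathlib.RingTheory.Flat.Stability
import Mathlib.RingTheory.LocalRing.ResidueField.Basic
import Mathlib.RingTheory.TensorProduct.Basic
import Groth.Agent.VarietyA.GeomIrr

/-!
# Regular elements in base changes of algebras over algebraically closed fields

* `smul_eq_zero_of_flat`: `C` Noetherian, `E` flat over `C` such that `p E` is prime for every prime
  `p` of `C`; an element of `E` which lies in no `p E` is regular on `E ⊗ N` for all finite `N`.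
* `mul_eq_zero_of_isAlgClosed`: `k` algebraically closed, `C` a Noetherian `k`-algebra, `L / k` a
  field extension: same for `E = L ⊗[k] C`.
-/

set_option autoImplicit false
universe u v w

namespace Groth.Agent.Ega43.FlatUniReg

open TensorProduct

/-- `C` Noetherian, `E` flat over `C` such that `p E` is prime for all primes `p` of `C`: an element
`s` of `E` lying in no `p E` is regular on every `E ⊗[C] N`, `N` finite. -/
theorem smul_eq_zero_of_flat {C E : Type u} [CommRing C] [IsNoetherianRing C] [CommRing E]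
    [Algebra C E] [Module.Flat C E] (s : E)
    (hdom : ∀ p : Ideal C, p.IsPrime → (p.map (algebraMap C E)).IsPrime)
    (hs : ∀ p : Ideal C, p.IsPrime → s ∉ p.map (algebraMap C E))
    (N : Type u) [AddCommGroup N] [Module C N] (hN : Module.Finite C N) :
    ∀ x : E ⊗[C] N, s • x = 0 → x = 0 := by
  induction hN using IsNoetherianRing.induction_on_isQuotientEquivQuotientPrime C with
  | subsingleton N =>
    intro x _
    exact Subsingleton.elim _ _
  | quotient N p e =>
    have hp := p.2
    have hker : ∀ y : E, y ⊗ₜ[C] (Ideal.Quotient.mk p.1 1) = (0 : E ⊗[C] (C ⧸ p.1)) ↔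
        y ∈ p.1.map (algebraMap C E) := by
      intro y
      rw [← (TensorProduct.tensorQuotEquivQuotSMul E p.1).map_eq_zero_iff]
      have : TensorProduct.tensorQuotEquivQuotSMul E p.1 (y ⊗ₜ[C] (Ideal.Quotient.mk p.1 1)) =
          Submodule.Quotient.mk y := by
        rw [TensorProduct.tensorQuotEquivQuotSMul_tmul_mk, one_smul]
      rw [this, Submodule.Quotient.mk_eq_zero, Ideal.smul_top_eq_map, Submodule.restrictScalars_mem]
    have hsurj : ∀ x : E ⊗[C] (C ⧸ p.1), ∃ y : E, x = y ⊗ₜ[C] (Ideal.Quotient.mk p.1 1) := by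
      intro x
      induction x with
      | zero => exact ⟨0, by simp⟩
      | tmul y c =>
        obtain ⟨c, rfl⟩ := Ideal.Quotient.mk_surjective c
        refine ⟨c • y, ?_⟩
        rw [TensorProduct.smul_tmul]
        congr 1
        rw [← Ideal.Quotient.mk_eq_mk, ← Ideal.Quotient.mk_eq_mk, ← Submodule.Quotient.mk_smul,
          smul_eq_mul, mul_one]
      | add x₁ x₂ h₁ h₂ =>
        obtain ⟨y₁, rfl⟩ := h₁
        obtain ⟨y₂, rfl⟩ := h₂
        exact ⟨y₁ + y₂, by rw [TensorProduct.add_tmul]⟩
    have key : ∀ x : E ⊗[C] (C ⧸ p.1), s • x = 0 → x = 0 := by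
      intro x hx
      obtain ⟨y, rfl⟩ := hsurj x
      rw [TensorProduct.smul_tmul', hker, smul_eq_mul] at hx
      rw [hker]
      exact ((hdom p.1 hp).mem_or_mem hx).resolve_left (hs p.1 hp)
    intro x hx
    let e1 : E ⊗[C] N ≃ₗ[E] E ⊗[C] (C ⧸ p.1) := TensorProduct.AlgebraTensorModule.congr
      (LinearEquiv.refl E E) e
    apply e1.injective
    rw [map_zero]
    apply key
    rw [← map_smul, hx, map_zero]
  | exact N₁ N₂ N₃ f g hf hg hfg h₁ h₃ =>
    intro x hx
    let F : E ⊗[C] N₁ →ₗ[E] E ⊗[C] N₂ := TensorProduct.AlgebraTensorModule.map LinearMap.id f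
    let G : E ⊗[C] N₂ →ₗ[E] E ⊗[C] N₃ := TensorProduct.AlgebraTensorModule.map LinearMap.id g
    have hF : Function.Injective F := Module.Flat.lTensor_preserves_injective_linearMap (M := E) f hf
    have hFG : Function.Exact F G := lTensor_exact E hfg hg
    have h1 : G x = 0 := h₃ (G x) (by rw [← map_smul, hx, map_zero])
    obtain ⟨y, rfl⟩ := (hFG x).1 h1
    rw [← map_smul] at hx
    rw [h₁ y (hF (by rw [hx, map_zero])), map_zero]

/-- `C` Noetherian, `E` flat over `C` such that `p E` is prime for all primes `p` of `C`: an element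
`s` of `E` lying in no `p E` is a nonzerodivisor. -/
theorem mul_eq_zero_of_flat {C E : Type u} [CommRing C] [IsNoetherianRing C] [CommRing E]
    [Algebra C E] [Module.Flat C E] (s : E)
    (hdom : ∀ p : Ideal C, p.IsPrime → (p.map (algebraMap C E)).IsPrime)
    (hs : ∀ p : Ideal C, p.IsPrime → s ∉ p.map (algebraMap C E)) (x : E) (hx : s * x = 0) :
    x = 0 := by
  have h := smul_eq_zero_of_flat s hdom hs C inferInstance (x ⊗ₜ[C] (1 : C)) (by
    rw [TensorProduct.smul_tmul', smul_eq_mul, hx, TensorProduct.zero_tmul])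
  have h2 := congrArg (TensorProduct.rid C E) h
  simpa using h2

/-- `k` algebraically closed, `C` a `k`-algebra, `L / k` a field, `p` a prime ideal of `C`: the
extension of `p` to `C ⊗[k] L` is prime. -/
theorem isPrime_map_includeLeft {k C L : Type u} [Field k] [IsAlgClosed k] [CommRing C]
    [Algebra k C] [Field L] [Algebra k L] (p : Ideal C) (hp : p.IsPrime) :
    (p.map (algebraMap C (C ⊗[k] L))).IsPrime := by
  have hker := Algebra.TensorProduct.rTensor_ker (R := k) (S := k) (C := L)
    (Ideal.Quotient.mkₐ k p) (Ideal.Quotient.mkₐ_surjective k p)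
  have hdom : IsDomain ((C ⧸ p) ⊗[k] L) :=
    Groth.Agent.VarietyA.GeomIrr.isDomain_tensorProduct (C ⧸ p) L
  have h1 : (RingHom.ker (Algebra.TensorProduct.map (Ideal.Quotient.mkₐ k p) (AlgHom.id k L))).IsPrime :=
    RingHom.ker_isPrime _
  have hk : RingHom.ker (Ideal.Quotient.mkₐ k p) = p := Ideal.Quotient.mkₐ_ker k p
  rw [hker, hk] at h1
  exact h1

/-- `k` algebraically closed, `C` a Noetherian `k`-algebra, `L / k` a field: an element `s` of
`C ⊗[k] L` lying in no `p (C ⊗[k] L)`, `p` prime of `C`, is regular. -/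
theorem mul_eq_zero_of_isAlgClosed {k C L : Type u} [Field k] [IsAlgClosed k] [CommRing C]
    [IsNoetherianRing C] [Algebra k C] [Field L] [Algebra k L] (s : C ⊗[k] L)
    (hs : ∀ p : Ideal C, p.IsPrime → s ∉ p.map (algebraMap C (C ⊗[k] L))) (x : C ⊗[k] L)
    (hx : s * x = 0) : x = 0 :=
  mul_eq_zero_of_flat (C := C) (E := C ⊗[k] L) s (fun p hp => isPrime_map_includeLeft p hp) hs x hx

end Groth.Agent.Ega43.FlatUniReg
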