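import Mathlib.RingTheory.Flat.Basic
import Mathlib.RingTheory.Flat.Stability
import Mathlib.RingTheory.LocalRing.ResidueField.Basic
import Mathlib.RingTheory.TensorProduct.Maps
import Mathlib.RingTheory.Localization.AtPrime.Basic
import Mathlib.LinearAlgebra.Dual.Lemmas
import Mathlib.LinearAlgebra.TensorProduct.Quotient
import Mathlib.RingTheory.Nakayama
import Groth.Agent.Ega43.FlatUniReg
import Groth.Agent.Flat2D.NilpFlat
import Groth.Agent.Ega43.FlatDescNil

/-!
# Flatness at one point over a local ring with algebraically closed residue field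

Let `R` be a local ring with algebraically closed residue field, `B` a local `R`-algebra with
Noetherian closed fibre and `I` a finitely generated ideal of `R` minimal with the property that
`B / I B` is flat over `R / I`.  If `V` is a local `R`-algebra (local homomorphism) and `V ⊗ B` is
flat over `V` at one prime above both maximal ideals, then `I V = 0`.
-/

set_option autoImplicit false
universe u v w

namespace Groth.Agent.Ega43.FlatUniCore

open TensorProduct IsLocalRing

section Regular

variable {R B L : Type u} [CommRing R] [IsLocalRing R] [IsAlgClosed (ResidueField R)]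
  [CommRing B] [IsLocalRing B] [Algebra R B] [IsNoetherianRing (ResidueField R ⊗[R] B)]
  [Field L] [Algebra R L] [Algebra (ResidueField R) L] [IsScalarTower R (ResidueField R) L]

omit [IsAlgClosed (ResidueField R)] [IsLocalRing B] [IsNoetherianRing (ResidueField R ⊗[R] B)] in
/-- every element of `k ⊗ B` is of the form `1 ⊗ b`. -/
theorem exists_one_tmul_eq (x : ResidueField R ⊗[R] B) : ∃ b : B, x = 1 ⊗ₜ[R] b := by
  induction x with
  | zero => exact ⟨0, by simp⟩
  | tmul y c =>
    obtain ⟨r, rfl⟩ := IsLocalRing.residue_surjective y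
    refine ⟨r • c, ?_⟩
    rw [← TensorProduct.smul_tmul]
    congr 1
    rw [Algebra.smul_def, mul_one]
    rfl
  | add x₁ x₂ h₁ h₂ =>
    obtain ⟨y₁, rfl⟩ := h₁
    obtain ⟨y₂, rfl⟩ := h₂
    exact ⟨y₁ + y₂, by rw [TensorProduct.tmul_add]⟩

/-- In `L ⊗[R] B`, `L` a field over the (algebraically closed) residue field of `R`, every element
outside a prime lying over the maximal ideal of `B` is regular. -/
theorem mul_eq_zero_of_notMem (Q : Ideal (L ⊗[R] B))
    (hQ : (maximalIdeal B).map (Algebra.TensorProduct.includeRight : B →ₐ[R] L ⊗[R] B) ≤ Q)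
    (s x : L ⊗[R] B) (hs : s ∉ Q) (hx : s * x = 0) : x = 0 := by
  let C := ResidueField R ⊗[R] B
  let Φ : C ⊗[ResidueField R] L ≃+* L ⊗[R] B :=
    (Algebra.TensorProduct.comm (ResidueField R) C L).toRingEquiv.trans
      (Algebra.TensorProduct.cancelBaseChange R (ResidueField R) L L B).toRingEquiv
  have hΦ : ∀ b : B, Φ ((1 ⊗ₜ[R] b : C) ⊗ₜ[ResidueField R] (1 : L)) = (1 : L) ⊗ₜ[R] b := by
    intro b
    simp [Φ, C]
  have h := FlatUniReg.mul_eq_zero_of_isAlgClosed (k := ResidueField R) (C := C) (L := L)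
    (Φ.symm s) (by
      intro p hp hmem
      apply hs
      have h1 : p.map (algebraMap C (C ⊗[ResidueField R] L)) ≤ Q.comap Φ := by
        rw [Ideal.map_le_iff_le_comap]
        intro c hc
        obtain ⟨b, rfl⟩ := exists_one_tmul_eq c
        rw [Ideal.mem_comap, Ideal.mem_comap]
        change Φ ((1 ⊗ₜ[R] b : C) ⊗ₜ[ResidueField R] (1 : L)) ∈ Q
        rw [hΦ]
        apply hQ
        refine Ideal.mem_map_of_mem (Algebra.TensorProduct.includeRight : B →ₐ[R] L ⊗[R] B) ?_
        rw [IsLocalRing.mem_maximalIdeal, mem_nonunits_iff]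
        intro hu
        exact hp.ne_top (Ideal.eq_top_of_isUnit_mem _ hc
          (hu.map (Algebra.TensorProduct.includeRight : B →ₐ[R] C)))
      have h2 := h1 hmem
      rw [Ideal.mem_comap, RingEquiv.apply_symm_apply] at h2
      exact h2) (Φ.symm x) (by rw [← map_mul, hx, map_zero])
  have h3 := congrArg Φ h
  rwa [RingEquiv.apply_symm_apply, map_zero] at h3

end Regular

/-- If `I V ≠ 0` for a finitely generated ideal `I` of `R`, there is a `V`-linear functional
`I V → κ(V)` which does not vanish on the image of `I`. -/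
theorem exists_residue_functional {R V : Type u} [CommRing R] [CommRing V] [IsLocalRing V]
    [Algebra R V] (I : Ideal R) (hI : I.FG) (hne : I.map (algebraMap R V) ≠ ⊥) :
    ∃ (ψ : ↥(I.map (algebraMap R V)) →ₗ[V] ResidueField V) (i₀ : I),
      ψ ⟨algebraMap R V i₀, Ideal.mem_map_of_mem _ i₀.2⟩ ≠ 0 := by
  set J := I.map (algebraMap R V) with hJ
  have hJfg : J.FG := hI.map _
  -- some element of `I` is not mapped into `m_V J`
  obtain ⟨i₀, hi₀⟩ : ∃ i₀ : I, algebraMap R V i₀ ∉ maximalIdeal V • J := by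
    by_contra hcon
    push Not at hcon
    apply hne
    refine Submodule.eq_bot_of_le_smul_of_le_jacobson_bot (maximalIdeal V) J hJfg ?_
      (IsLocalRing.maximalIdeal_le_jacobson _)
    rw [hJ, Ideal.map_le_iff_le_comap]
    intro i hi
    exact hcon ⟨i, hi⟩
  let i₁ : J := ⟨algebraMap R V i₀, Ideal.mem_map_of_mem _ i₀.2⟩
  -- the image of `i₁` in `κ ⊗ J` is nonzero
  have h1 : (1 : ResidueField V) ⊗ₜ[V] i₁ ≠ 0 := by
    intro h0
    apply hi₀
    have h2 := (TensorProduct.quotTensorEquivQuotSMul J (maximalIdeal V)).map_eq_zero_iff.2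
      (show (Ideal.Quotient.mk (maximalIdeal V) 1) ⊗ₜ[V] i₁ = 0 from h0)
    rw [TensorProduct.quotTensorEquivQuotSMul_mk_tmul, one_smul] at h2
    rw [Submodule.Quotient.mk_eq_zero] at h2
    have h3 : ∀ x : J, x ∈ (maximalIdeal V • ⊤ : Submodule V J) → (x : V) ∈ maximalIdeal V • J := by
      intro x hx
      refine Submodule.smul_induction_on hx ?_ ?_
      · intro r hr n _
        exact Submodule.smul_mem_smul hr n.2
      · intro x y hx hy
        exact Submodule.add_mem _ hx hy
    exact h3 _ h2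
  obtain ⟨f, hf⟩ : ∃ f : Module.Dual (ResidueField V) (ResidueField V ⊗[V] J),
      f (1 ⊗ₜ[V] i₁) ≠ 0 := by
    by_contra hcon
    push Not at hcon
    exact h1 ((Module.forall_dual_apply_eq_zero_iff _ _).1 hcon)
  refine ⟨(f.restrictScalars V) ∘ₗ (TensorProduct.mk V (ResidueField V) J 1), i₀, ?_⟩
  exact hf

section Point

variable {R B V : Type u} [CommRing R] [IsLocalRing R] [IsAlgClosed (ResidueField R)]
  [CommRing B] [IsLocalRing B] [Algebra R B] [IsNoetherianRing (ResidueField R ⊗[R] B)]
  [CommRing V] [IsLocalRing V] [Algebra R V] [IsLocalHom (algebraMap R V)]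

/-- Flatness at one point above both maximal ideals gives strong restrictions on relations
`∑ i_j b_j = 0` in `B` with coefficients in `I`. -/
theorem exists_functional (I : Ideal R) (hI : I.FG)
    (q : Ideal (V ⊗[R] B)) [q.IsPrime]
    (hqV : (maximalIdeal V).map (algebraMap V (V ⊗[R] B)) ≤ q)
    (hqB : (maximalIdeal B).map (Algebra.TensorProduct.includeRight : B →ₐ[R] V ⊗[R] B) ≤ q)
    (hq : Module.Flat V (Localization.AtPrime q)) (hne : I.map (algebraMap R V) ≠ ⊥) :
    ∃ (ℓ : I →ₗ[R] ResidueField R) (i₀ : I), ℓ i₀ ≠ 0 ∧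
      ∀ z : I ⊗[R] B, (I.subtype.rTensor B) z = 0 → (ℓ.rTensor B) z = 0 := by
  let J : Ideal V := I.map (algebraMap R V)
  obtain ⟨ψ, i₀, hψ⟩ : ∃ (ψ : J →ₗ[V] ResidueField V) (i₀ : I),
      ψ ⟨algebraMap R V i₀, Ideal.mem_map_of_mem _ i₀.2⟩ ≠ 0 :=
    exists_residue_functional (V := V) I hI hne
  let κ := ResidueField V
  let T := κ ⊗[R] B
  -- the quotient map `V ⊗ B → κ ⊗ B`
  let θ : V ⊗[R] B →ₐ[R] T :=
    Algebra.TensorProduct.map (IsScalarTower.toAlgHom R V κ) (AlgHom.id R B)
  have hθsurj : Function.Surjective θ :=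
    Algebra.TensorProduct.map_surjective _ _ IsLocalRing.residue_surjective Function.surjective_id
  have hθker : RingHom.ker θ ≤ q := by
    have h1 := Algebra.TensorProduct.rTensor_ker (R := R) (S := R) (C := B)
      (IsScalarTower.toAlgHom R V κ) IsLocalRing.residue_surjective
    have h2 : RingHom.ker (IsScalarTower.toAlgHom R V κ) = maximalIdeal V :=
      IsLocalRing.ker_residue (R := V)
    rw [h2] at h1
    exact h1.le.trans hqV
  let Q : Ideal T := q.map θ
  have hQ : Q.IsPrime := Ideal.map_isPrime_of_surjective hθsurj hθker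
  have hqQ : q = Q.comap θ := by
    rw [Ideal.comap_map_of_surjective' θ hθsurj]
    exact (sup_eq_left.2 hθker).symm
  let F := Localization.AtPrime q
  let TQ := Localization.AtPrime Q
  let loc : F →+* TQ := Localization.localRingHom q Q θ.toRingHom hqQ
  have hloc : ∀ w : V ⊗[R] B, loc (algebraMap _ F w) = algebraMap T TQ (θ w) :=
    fun w => Localization.localRingHom_to_map q Q θ.toRingHom hqQ w
  -- the ideal `J`
  let ι : I →ₗ[R] J :=
    { toFun := fun i => ⟨algebraMap R V i, Ideal.mem_map_of_mem _ i.2⟩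
      map_add' := fun x y => Subtype.ext (map_add (algebraMap R V) (x : R) (y : R))
      map_smul' := fun r x => Subtype.ext (by
        change algebraMap R V (r * (x : R)) = r • algebraMap R V (x : R)
        rw [map_mul, Algebra.smul_def]) }
  let bF : B →ₗ[R] F := ((IsScalarTower.toAlgHom R (V ⊗[R] B) F).comp
    (Algebra.TensorProduct.includeRight : B →ₐ[R] V ⊗[R] B)).toLinearMap
  let α : I ⊗[R] B →ₗ[R] J ⊗[V] F := TensorProduct.lift
    { toFun := fun i =>
        { toFun := fun b => ι i ⊗ₜ[V] bF b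
          map_add' := fun x y => by rw [map_add, TensorProduct.tmul_add]
          map_smul' := fun r x => by
            rw [map_smul, TensorProduct.tmul_smul, RingHom.id_apply] }
      map_add' := fun x y => by
        ext b
        simp [TensorProduct.add_tmul]
      map_smul' := fun r x => by
        ext b
        simp [TensorProduct.smul_tmul'] }
  have hα : ∀ (i : I) (b : B), α (i ⊗ₜ[R] b) = ι i ⊗ₜ[V] bF b := fun i b => rfl
  -- `α z = 0` as soon as `z` is a relation
  have hα0 : ∀ z : I ⊗[R] B, (I.subtype.rTensor B) z = 0 → α z = 0 := by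
    intro z hz
    have hinj : Function.Injective (J.subtype.rTensor F) :=
      Module.Flat.rTensor_preserves_injective_linearMap _ J.injective_subtype
    apply hinj
    rw [map_zero]
    apply (TensorProduct.lid V F).injective
    rw [map_zero]
    have h1 : ∀ z : I ⊗[R] B, TensorProduct.lid V F ((J.subtype.rTensor F) (α z)) =
        bF (TensorProduct.lid R B ((I.subtype.rTensor B) z)) := by
      intro z
      induction z with
      | zero => simp
      | tmul i b =>
        rw [hα, LinearMap.rTensor_tmul, LinearMap.rTensor_tmul, TensorProduct.lid_tmul,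
          TensorProduct.lid_tmul, map_smul]
        exact algebraMap_smul V (i : R) (bF b)
      | add x y hx hy => simp only [map_add, hx, hy]
    rw [h1, hz, map_zero, map_zero]
  -- the map `β : J ⊗ F → T_Q`
  let c : κ →+* TQ := (algebraMap T TQ).comp (algebraMap κ T)
  have hloc' : ∀ v : V, loc (algebraMap V F v) = c (algebraMap V κ v) := by
    intro v
    have h1 : algebraMap V F v = algebraMap (V ⊗[R] B) F (v ⊗ₜ 1) := by
      rw [IsScalarTower.algebraMap_apply V (V ⊗[R] B) F]
      rfl
    rw [h1, hloc]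
    rfl
  let β : J ⊗[V] F →+ TQ := TensorProduct.liftAddHom
    { toFun := fun j =>
        { toFun := fun f => c (ψ j) * loc f
          map_zero' := by rw [map_zero, mul_zero]
          map_add' := fun x y => by rw [map_add, mul_add] }
      map_zero' := by
        ext f
        change c (ψ 0) * loc f = 0
        rw [map_zero, map_zero, zero_mul]
      map_add' := fun x y => by
        ext f
        change c (ψ (x + y)) * loc f = c (ψ x) * loc f + c (ψ y) * loc f
        rw [map_add, map_add, add_mul] }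
    (fun v j f => by
      change c (ψ (v • j)) * loc f = c (ψ j) * loc (v • f)
      rw [Algebra.smul_def, map_mul, hloc', map_smul, Algebra.smul_def, map_mul]
      ring)
  have hβ : ∀ (j : J) (f : F), β (j ⊗ₜ[V] f) = c (ψ j) * loc f := fun j f => rfl
  let e : I →ₗ[R] κ := (ψ.restrictScalars R) ∘ₗ ι
  have hβα : ∀ z : I ⊗[R] B, β (α z) = algebraMap T TQ ((e.rTensor B) z) := by
    intro z
    induction z with
    | zero => simp
    | tmul i b =>
      rw [hα, hβ, LinearMap.rTensor_tmul]
      have h1 : loc (bF b) = algebraMap T TQ (θ (1 ⊗ₜ b)) := hloc _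
      rw [h1]
      change algebraMap T TQ (algebraMap κ T (ψ (ι i))) * algebraMap T TQ (θ (1 ⊗ₜ b)) = _
      rw [← map_mul]
      congr 1
      change (ψ (ι i) ⊗ₜ[R] (1 : B)) * (algebraMap V κ 1 ⊗ₜ[R] b) = _
      rw [Algebra.TensorProduct.tmul_mul_tmul, one_mul, map_one, mul_one]
      rfl
    | add x y hx hy => simp only [map_add, hx, hy]
  -- elements outside `Q` are regular
  have hQB : (maximalIdeal B).map (Algebra.TensorProduct.includeRight : B →ₐ[R] T) ≤ Q := by
    rw [Ideal.map_le_iff_le_comap]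
    intro b hb
    have h1 : (1 : V) ⊗ₜ[R] b ∈ q := hqB (Ideal.mem_map_of_mem _ hb)
    have h2 := Ideal.mem_map_of_mem θ h1
    have h3 : θ ((1 : V) ⊗ₜ[R] b) = (1 : κ) ⊗ₜ[R] b := by
      change algebraMap V κ 1 ⊗ₜ[R] b = _
      rw [map_one]
    rw [h3] at h2
    exact h2
  have hreg : ∀ t : T, algebraMap T TQ t = 0 → t = 0 := by
    intro t ht
    obtain ⟨s, hs⟩ := (IsLocalization.map_eq_zero_iff Q.primeCompl TQ t).1 ht
    exact mul_eq_zero_of_notMem (R := R) (B := B) (L := κ) Q hQB s t s.2 hs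
  -- a functional `κ → k`
  obtain ⟨lam, hlam⟩ : ∃ lam : Module.Dual (ResidueField R) κ, lam (ψ (ι i₀)) ≠ 0 := by
    by_contra hcon
    push Not at hcon
    exact hψ ((Module.forall_dual_apply_eq_zero_iff (ResidueField R) _).1 hcon)
  refine ⟨(lam.restrictScalars R) ∘ₗ e, i₀, hlam, ?_⟩
  intro z hz
  have h1 : (e.rTensor B) z = 0 := hreg _ (by rw [← hβα, hα0 z hz, map_zero])
  rw [LinearMap.rTensor_comp, LinearMap.comp_apply, h1, map_zero]

end Point

/-- Injectivity after `- ⊗[R] M` gives injectivity after `- ⊗[A] (A ⊗[R] M)`. -/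
theorem rTensor_baseChange_injective {R A M K L : Type*} [CommRing R] [CommRing A] [Algebra R A]
    [AddCommGroup M] [Module R M] [AddCommGroup K] [Module R K] [Module A K] [IsScalarTower R A K]
    [AddCommGroup L] [Module R L] [Module A L] [IsScalarTower R A L] (f : K →ₗ[A] L)
    (h : Function.Injective ((f.restrictScalars R).rTensor M)) :
    Function.Injective (f.rTensor (A ⊗[R] M)) := by
  let eK := TensorProduct.AlgebraTensorModule.cancelBaseChange R A A K M
  let eL := TensorProduct.AlgebraTensorModule.cancelBaseChange R A A L M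
  have hnat : ∀ x, eL (f.rTensor (A ⊗[R] M) x) = (f.restrictScalars R).rTensor M (eK x) := by
    intro x
    induction x with
    | zero => simp
    | tmul k y =>
      induction y with
      | zero => simp
      | tmul a m =>
        rw [LinearMap.rTensor_tmul,
          TensorProduct.AlgebraTensorModule.cancelBaseChange_tmul,
          TensorProduct.AlgebraTensorModule.cancelBaseChange_tmul, LinearMap.rTensor_tmul,
          LinearMap.restrictScalars_apply, map_smul]
      | add y₁ y₂ h₁ h₂ => simp only [TensorProduct.tmul_add, map_add, h₁, h₂]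
    | add x y hx hy => simp only [map_add, hx, hy]
  intro x y hxy
  apply eK.injective
  apply h
  rw [← hnat, ← hnat, hxy]

/-- If `ℓ : I → k` is a nonzero functional compatible with all relations, `M / I₂ M` is flat over
`R / I₂` for `I₂ = ker ℓ`. -/
theorem flat_quotient_of_functional {R : Type u} [CommRing R] [IsLocalRing R] (I : Ideal R)
    (hIm : I ≤ maximalIdeal R) (M : Type v) [AddCommGroup M] [Module R M]
    (hflat : Module.Flat (R ⧸ I) ((R ⧸ I) ⊗[R] M))
    (ℓ : I →ₗ[R] ResidueField R) (i₀ : I) (hℓ : ℓ i₀ ≠ 0)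
    (hrel : ∀ z : I ⊗[R] M, (I.subtype.rTensor M) z = 0 → (ℓ.rTensor M) z = 0)
    (I₂ : Ideal R) (hI₂ : I₂ = (LinearMap.ker ℓ).map I.subtype) :
    Module.Flat (R ⧸ I₂) ((R ⧸ I₂) ⊗[R] M) := by
  have hle : I₂ ≤ I := by
    rw [hI₂]
    rintro _ ⟨x, _, rfl⟩
    exact x.2
  have hmem : ∀ x : I, (x : R) ∈ I₂ ↔ ℓ x = 0 := by
    intro x
    rw [hI₂]
    constructor
    · rintro ⟨y, hy, hyx⟩
      have : y = x := Subtype.ext hyx
      rw [← this]
      exact hy
    · intro hx
      exact ⟨x, hx, rfl⟩
  have hsq : I ^ 2 ≤ I₂ := by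
    rw [pow_two, Ideal.mul_le]
    intro r hr s hs
    rw [show r * s = ((r • (⟨s, hs⟩ : I) : I) : R) from rfl, hmem, map_smul, Algebra.smul_def]
    have : algebraMap R (ResidueField R) r = 0 :=
      (IsLocalRing.residue_eq_zero_iff r).2 (hIm hr)
    rw [this, zero_mul]
  let R₂ := R ⧸ I₂
  let J₂ : Ideal R₂ := I.map (Ideal.Quotient.mk I₂)
  have hnil : IsNilpotent J₂ := ⟨2, by
    change (I.map (Ideal.Quotient.mk I₂)) ^ 2 = ⊥
    rw [← Ideal.map_pow, eq_bot_iff, Ideal.map_le_iff_le_comap]
    intro x hx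
    rw [Ideal.mem_comap, Submodule.mem_bot, Ideal.Quotient.eq_zero_iff_mem]
    exact hsq hx⟩
  have hfl : Module.Flat (R₂ ⧸ J₂) ((R₂ ⧸ J₂) ⊗[R₂] (R₂ ⊗[R] M)) := by
    rw [FlatDescNil.flat_cancelBaseChange_iff]
    let e : (R₂ ⧸ J₂) ≃+* R ⧸ I := DoubleQuot.quotQuotEquivQuotOfLE hle
    let e' : (R ⧸ I) ≃ₐ[R] (R₂ ⧸ J₂) := AlgEquiv.ofRingEquiv (f := e.symm) (fun r => rfl)
    exact FlatDescNil.flat_of_algEquiv e' hflat
  refine Groth.Agent.Flat2D.NilpFlat.flat_of_isNilpotent J₂ hnil ?_
  apply rTensor_baseChange_injective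
  -- injectivity of `J₂ ⊗ M → R₂ ⊗ M`
  rw [injective_iff_map_eq_zero]
  intro t ht
  let π : I →ₗ[R] J₂ :=
    { toFun := fun i => ⟨Ideal.Quotient.mk I₂ i, Ideal.mem_map_of_mem _ i.2⟩
      map_add' := fun x y => Subtype.ext (map_add (Ideal.Quotient.mk I₂) (x : R) (y : R))
      map_smul' := fun r x => Subtype.ext (by
        change Ideal.Quotient.mk I₂ (r * (x : R)) = r • Ideal.Quotient.mk I₂ (x : R)
        rw [map_mul, Algebra.smul_def]
        rfl) }
  have hπ : Function.Surjective π := by
    rintro ⟨y, hy⟩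
    obtain ⟨x, hx, rfl⟩ := (Ideal.mem_map_iff_of_surjective _ Ideal.Quotient.mk_surjective).1 hy
    exact ⟨⟨x, hx⟩, rfl⟩
  obtain ⟨z, rfl⟩ := LinearMap.rTensor_surjective M hπ t
  -- the image of `z` in `M` lies in `I₂ M`
  have hex : Function.Exact (I₂.subtype.rTensor M)
      ((Ideal.Quotient.mkₐ R I₂).toLinearMap.rTensor M) :=
    rTensor_exact M (fun x => by
      constructor
      · intro hx
        exact ⟨⟨x, Ideal.Quotient.eq_zero_iff_mem.1 hx⟩, rfl⟩
      · rintro ⟨y, rfl⟩
        exact Ideal.Quotient.eq_zero_iff_mem.2 y.2) (Ideal.Quotient.mkₐ_surjective R I₂)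
  have h1 : ((Ideal.Quotient.mkₐ R I₂).toLinearMap.rTensor M) ((I.subtype.rTensor M) z) = 0 := by
    rw [← ht, ← LinearMap.comp_apply, ← LinearMap.rTensor_comp, ← LinearMap.comp_apply,
      ← LinearMap.rTensor_comp]
    rfl
  obtain ⟨z₂, hz₂⟩ := (hex _).1 h1
  let ι₂ : I₂ →ₗ[R] I := Submodule.inclusion hle
  have h2 : (I.subtype.rTensor M) (z - (ι₂.rTensor M) z₂) = 0 := by
    rw [map_sub, ← hz₂, ← LinearMap.comp_apply, ← LinearMap.rTensor_comp]
    exact sub_self _
  have h3 : (ℓ.rTensor M) z = 0 := by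
    have h4 := hrel _ h2
    rw [map_sub, ← LinearMap.comp_apply, ← LinearMap.rTensor_comp] at h4
    have h5 : ℓ ∘ₗ ι₂ = 0 := by
      ext x
      exact (hmem (ι₂ x)).1 x.2
    rw [h5, LinearMap.rTensor_zero, LinearMap.zero_apply, sub_zero] at h4
    exact h4
  have hℓs : Function.Surjective ℓ := by
    intro y
    obtain ⟨r, hr⟩ := IsLocalRing.residue_surjective (y * (ℓ i₀)⁻¹)
    refine ⟨r • i₀, ?_⟩
    rw [map_smul, Algebra.smul_def]
    have : algebraMap R (ResidueField R) r = y * (ℓ i₀)⁻¹ := hr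
    rw [this, mul_assoc, inv_mul_cancel₀ hℓ, mul_one]
  have hex2 : Function.Exact ((LinearMap.ker ℓ).subtype.rTensor M) (ℓ.rTensor M) :=
    rTensor_exact M (LinearMap.exact_subtype_ker_map ℓ) hℓs
  obtain ⟨w, rfl⟩ := (hex2 z).1 h3
  rw [← LinearMap.comp_apply, ← LinearMap.rTensor_comp]
  have h6 : π ∘ₗ (LinearMap.ker ℓ).subtype = 0 := by
    ext x
    change Ideal.Quotient.mk I₂ ((x : I) : R) = 0
    rw [Ideal.Quotient.eq_zero_iff_mem, hmem]
    exact x.2
  rw [h6, LinearMap.rTensor_zero, LinearMap.zero_apply]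

/-- **One point criterion**: let `R` be a local ring with algebraically closed residue field, `B` a
local `R`-algebra with Noetherian closed fibre, `I ≤ m_R` a finitely generated ideal such that
`B / I B` is flat over `R / I` and minimal for this property.  If `V` is a local `R`-algebra such that
`V ⊗ B` is flat over `V` at one prime above both maximal ideals, then `I V = 0`. -/
theorem map_eq_bot_of_flat {R B V : Type u} [CommRing R] [IsLocalRing R]
    [IsAlgClosed (ResidueField R)]
    [CommRing B] [IsLocalRing B] [Algebra R B] [IsNoetherianRing (ResidueField R ⊗[R] B)]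
    [CommRing V] [IsLocalRing V] [Algebra R V] [IsLocalHom (algebraMap R V)]
    (I : Ideal R) (hI : I.FG) (hIm : I ≤ maximalIdeal R)
    (hflat : Module.Flat (R ⧸ I) ((R ⧸ I) ⊗[R] B))
    (hmin : ∀ I₂ : Ideal R, I₂ ≤ I → Module.Flat (R ⧸ I₂) ((R ⧸ I₂) ⊗[R] B) → I ≤ I₂)
    (q : Ideal (V ⊗[R] B)) [q.IsPrime]
    (hqV : (maximalIdeal V).map (algebraMap V (V ⊗[R] B)) ≤ q)
    (hqB : (maximalIdeal B).map (Algebra.TensorProduct.includeRight : B →ₐ[R] V ⊗[R] B) ≤ q)
    (hq : Module.Flat V (Localization.AtPrime q)) : I.map (algebraMap R V) = ⊥ := by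
  by_contra hne
  obtain ⟨ℓ, i₀, hi₀, hrel⟩ := exists_functional I hI q hqV hqB hq hne
  have h1 := flat_quotient_of_functional I hIm B hflat ℓ i₀ hi₀ hrel _ rfl
  have hle : (LinearMap.ker ℓ).map I.subtype ≤ I := by
    rintro _ ⟨x, _, rfl⟩
    exact x.2
  have h2 := hmin _ hle h1 i₀.2
  obtain ⟨y, hy, hyx⟩ := h2
  have : y = i₀ := Subtype.ext hyx
  rw [this] at hy
  exact hi₀ hy

end Groth.Agent.Ega43.FlatUniCore
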