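import Groth.Agent.Ega43.QSectGlobal
import Mathlib.AlgebraicGeometry.Morphisms.UniversallyOpen
import Mathlib.AlgebraicGeometry.Morphisms.Finite
import Mathlib.AlgebraicGeometry.Morphisms.FiniteType
import Mathlib.AlgebraicGeometry.Morphisms.Separated
import Mathlib.AlgebraicGeometry.Noetherian
import Mathlib.AlgebraicGeometry.IdealSheaf.Subscheme
import Mathlib.AlgebraicGeometry.Limits

/-!
# Local sections after finite base change: scheme-level calculus
-/

set_option autoImplicit false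
universe u

open CategoryTheory AlgebraicGeometry CategoryTheory.Limits TensorProduct

namespace Groth.Agent.Ega43.QSectScheme

open QSectVal QSectGlobal

/-- Near `y' : Y'`, the morphism `g : Y' ⟶ Y` lifts locally through `f : X ⟶ Y`. -/
def LocSec {X Y Y' : Scheme.{u}} (f : X ⟶ Y) (g : Y' ⟶ Y) (y' : Y') : Prop :=
  ∃ (W : Scheme.{u}) (j : W ⟶ Y') (_ : IsOpenImmersion j) (σ : W ⟶ X),
    y' ∈ Set.range j ∧ σ ≫ f = j ≫ g

variable {X Y Y' Y'' : Scheme.{u}}

lemma LocSec.comp_left {f : X ⟶ Y} {g : Y' ⟶ Y} (h : Y'' ⟶ Y') (y'' : Y'')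
    (H : LocSec f g (h y'')) : LocSec f (h ≫ g) y'' := by
  obtain ⟨W, j, hj, σ, hy, hσ⟩ := H
  refine ⟨pullback j h, pullback.snd j h, inferInstance, pullback.fst j h ≫ σ, ?_, ?_⟩
  · rw [IsOpenImmersion.range_pullbackSnd]
    exact hy
  · rw [Category.assoc, hσ, pullback.condition_assoc]

lemma LocSec.of_openImmersion {f : X ⟶ Y} {g : Y' ⟶ Y} (h : Y'' ⟶ Y') [IsOpenImmersion h] (y'' : Y'')
    (H : LocSec f (h ≫ g) y'') : LocSec f g (h y'') := by
  obtain ⟨W, j, hj, σ, ⟨w, hw⟩, hσ⟩ := H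
  exact ⟨W, j ≫ h, inferInstance, σ, ⟨w, by rw [← hw]; simp⟩, by rw [hσ, Category.assoc]⟩

lemma LocSec.of_baseChange {Y₁ : Scheme.{u}} {f : X ⟶ Y} (a : Y₁ ⟶ Y) {g : Y' ⟶ Y₁} (y' : Y')
    (H : LocSec (pullback.snd f a) g y') : LocSec f (g ≫ a) y' := by
  obtain ⟨W, j, hj, σ, hy, hσ⟩ := H
  refine ⟨W, j, hj, σ ≫ pullback.fst f a, hy, ?_⟩
  rw [Category.assoc, pullback.condition, ← Category.assoc, hσ, Category.assoc]

/-- Conversion to the form used in the milestone. -/
lemma LocSec.exists_section {f : X ⟶ Y} {g : Y' ⟶ Y} {y' : Y'} (H : LocSec f g y') :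
    ∃ U : Y'.Opens, y' ∈ U ∧
      ∃ s : (↑U : Scheme.{u}) ⟶ pullback f g, s ≫ pullback.snd f g = U.ι := by
  obtain ⟨W, j, hj, σ, hy, hσ⟩ := H
  refine ⟨j.opensRange, hy, pullback.lift (j.isoOpensRange.inv ≫ σ) j.opensRange.ι ?_, ?_⟩
  · rw [Category.assoc, hσ, Scheme.Hom.isoOpensRange_inv_comp_assoc]
  · rw [pullback.lift_snd]

lemma univOpen_of_universallyOpen {R B : Type u} [CommRing R] [CommRing B] [Algebra R B]
    (h : UniversallyOpen (Spec.map (CommRingCat.ofHom (algebraMap R B)))) : UnivOpen R B := by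
  intro V _ _
  have h1 := isPullback_SpecMap_of_isPushout _ _ _ _ (CommRingCat.isPushout_tensorProduct R V B)
  have h2 : UniversallyOpen (Spec.map (CommRingCat.ofHom
      (Algebra.TensorProduct.includeLeftRingHom : V →+* V ⊗[R] B))) :=
    MorphismProperty.of_isPullback (P := @UniversallyOpen) h1.flip h
  exact (Spec.map (CommRingCat.ofHom
      (Algebra.TensorProduct.includeLeftRingHom : V →+* V ⊗[R] B))).isOpenMap

/-- The affine Noetherian case. -/
theorem exists_affine {X : Scheme.{u}} {R : CommRingCat.{u}} [IsNoetherianRing R] (f : X ⟶ Spec R)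
    [UniversallyOpen f] [Surjective f] [LocallyOfFiniteType f] :
    ∃ (R' : CommRingCat.{u}) (g : Spec R' ⟶ Spec R), IsFinite g ∧ Surjective g ∧
      ∀ y' : Spec R', LocSec f g y' := by
  let φ : ∀ U : X.affineOpens, R ⟶ Γ(X, U) := fun U ↦ Spec.preimage (U.2.fromSpec ≫ f)
  have hφ : ∀ U, Spec.map (φ U) = U.2.fromSpec ≫ f := fun U ↦ Spec.map_preimage _
  let _ : ∀ U : X.affineOpens, Algebra R Γ(X, U) := fun U ↦ (φ U).hom.toAlgebra
  have hφ' : ∀ U : X.affineOpens,
      Spec.map (CommRingCat.ofHom (algebraMap R Γ(X, U))) = U.2.fromSpec ≫ f := hφ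
  have hft : ∀ U : X.affineOpens, Algebra.FiniteType R Γ(X, U) := by
    intro U
    have : LocallyOfFiniteType (Spec.map (φ U)) := by rw [hφ]; infer_instance
    exact (HasRingHomProperty.Spec_iff (P := @LocallyOfFiniteType)).mp this
  have huo : ∀ U : X.affineOpens, UnivOpen R Γ(X, U) := by
    intro U
    apply univOpen_of_universallyOpen
    rw [hφ']
    infer_instance
  have hs : ∀ p : PrimeSpectrum R, ∃ U : X.affineOpens, ∃ q : PrimeSpectrum Γ(X, U),
      q.comap (algebraMap R Γ(X, U)) = p := by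
    intro p
    obtain ⟨x, hx⟩ := f.surjective (show ↥(Spec R) from p)
    obtain ⟨_, ⟨U, hU, rfl⟩, hxU, -⟩ := X.isBasis_affineOpens.exists_subset_of_mem_open
      (Set.mem_univ x) isOpen_univ
    refine ⟨⟨U, hU⟩, hU.primeIdealOf ⟨x, hxU⟩, ?_⟩
    change Spec.map (φ ⟨U, hU⟩) (hU.primeIdealOf ⟨x, hxU⟩) = p
    rw [hφ ⟨U, hU⟩, Scheme.Hom.comp_apply, hU.fromSpec_primeIdealOf, hx]
  obtain ⟨R', _, _, hfin, hsurj, hsec⟩ := hasFinQS_of_isNoetherianRing
    (fun U : X.affineOpens ↦ Γ(X, U)) huo hs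
  refine ⟨.of R', Spec.map (CommRingCat.ofHom (algebraMap R R')), ?_, ⟨hsurj⟩, fun P ↦ ?_⟩
  · rw [IsFinite.SpecMap_iff]
    exact RingHom.finite_algebraMap.mpr hfin
  · obtain ⟨h, hP, U, ⟨ψ⟩⟩ := hsec P
    refine ⟨Spec (.of (Localization.Away h)),
      Spec.map (CommRingCat.ofHom (algebraMap R' (Localization.Away h))), ?_,
      Spec.map (CommRingCat.ofHom ψ.toRingHom) ≫ U.2.fromSpec, ?_, ?_⟩
    · infer_instance
    · have : Set.range (PrimeSpectrum.comap (algebraMap R' (Localization.Away h))) =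
          PrimeSpectrum.basicOpen h := PrimeSpectrum.localization_away_comap_range _ h
      change P ∈ Set.range (PrimeSpectrum.comap (algebraMap R' (Localization.Away h)))
      rw [this]
      exact hP
    · rw [Category.assoc, ← hφ', ← Spec.map_comp, ← Spec.map_comp, ← CommRingCat.ofHom_comp,
        ← CommRingCat.ofHom_comp]
      congr 2
      rw [← IsScalarTower.algebraMap_eq]
      exact ψ.comp_algebraMap

end Groth.Agent.Ega43.QSectScheme
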