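import Groth.Agent.Ega43.NormalOpen
import Groth.Agent.Ega43.QSectScheme

/-!
# Dominating two rings over a normal domain by one local domain
-/

set_option autoImplicit false
universe u v

namespace Groth.Agent.Ega43.FlatUniDom

open TensorProduct

/-- Let `N` be a normal domain, `C` a domain integral over `N`, `V₁` a domain containing `N`.  Given
compatible maps of `V₁` and `C` to a field `Λ`, there is a local domain `V` with compatible maps
`V₁ → V`, `C → V` (the latter injective) and a local homomorphism `V → Λ` inducing the given maps. -/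
theorem exists_local_domain {N C V₁ Λ : Type u} [CommRing N] [IsDomain N] [IsIntegrallyClosed N]
    [CommRing C] [IsDomain C] [Algebra N C] [Algebra.IsIntegral N C] [FaithfulSMul N C]
    [CommRing V₁] [IsDomain V₁] [Algebra N V₁] (hinj : Function.Injective (algebraMap N V₁))
    [Field Λ] (v : V₁ →+* Λ) (c : C →+* Λ)
    (hvc : v.comp (algebraMap N V₁) = c.comp (algebraMap N C)) :
    ∃ (V : Type u) (_ : CommRing V) (_ : IsLocalRing V) (_ : IsDomain V) (i : V₁ →+* V)
      (j : C →+* V) (l : V →+* Λ), IsLocalHom l ∧ Function.Injective j ∧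
        i.comp (algebraMap N V₁) = j.comp (algebraMap N C) ∧ l.comp i = v ∧ l.comp j = c := by
  letI : Algebra N Λ := (v.comp (algebraMap N V₁)).toAlgebra
  let vN : V₁ →ₐ[N] Λ := { v with commutes' := fun n => rfl }
  let cN : C →ₐ[N] Λ := { c with commutes' := fun n => (DFunLike.congr_fun hvc n).symm }
  let E := V₁ ⊗[N] C
  let e : E →ₐ[N] Λ := Algebra.TensorProduct.productMap vN cN
  let z : Ideal E := RingHom.ker e
  have hz : z.IsPrime := RingHom.ker_isPrime _
  have hopen : IsOpenMap (PrimeSpectrum.comap (algebraMap V₁ E)) :=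
    QSectScheme.univOpen_of_universallyOpen
      (NormalOpen.universallyOpen_of_isIntegral (R := N) (S := C)) V₁
  obtain ⟨W, hW, hWz, hW0⟩ := QSectVal.exists_prime_le_of_isOpenMap hopen z
  let D := E ⧸ W
  have hD : IsDomain D := Ideal.Quotient.isDomain W
  let eD : D →+* Λ := Ideal.Quotient.lift W e.toRingHom (fun x hx => hWz hx)
  let P : Ideal D := RingHom.ker eD
  have hP : P.IsPrime := RingHom.ker_isPrime _
  let V := Localization.AtPrime P
  have hV : IsDomain V := IsLocalization.isDomain_localization (P.primeCompl_le_nonZeroDivisors)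
  have hunit : ∀ y : P.primeCompl, IsUnit (eD y) := fun y => by
    rw [isUnit_iff_ne_zero]
    exact fun h => y.2 h
  let l : V →+* Λ := IsLocalization.lift hunit
  have hl : ∀ d : D, l (algebraMap D V d) = eD d := fun d => IsLocalization.lift_eq hunit d
  let i : V₁ →+* V := (algebraMap D V).comp ((Ideal.Quotient.mk W).comp (algebraMap V₁ E))
  let jC : C →+* E := (Algebra.TensorProduct.includeRight : C →ₐ[N] E).toRingHom
  let j : C →+* V := (algebraMap D V).comp ((Ideal.Quotient.mk W).comp jC)
  have hcomm : (algebraMap V₁ E).comp (algebraMap N V₁) = jC.comp (algebraMap N C) := by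
    ext n
    change algebraMap V₁ E (algebraMap N V₁ n) = (Algebra.TensorProduct.includeRight : C →ₐ[N] E) _
    rw [AlgHom.commutes, ← IsScalarTower.algebraMap_apply]
  have hij : i.comp (algebraMap N V₁) = j.comp (algebraMap N C) := by
    change (algebraMap D V).comp ((Ideal.Quotient.mk W).comp ((algebraMap V₁ E).comp (algebraMap N V₁))) = _
    rw [hcomm]
    rfl
  have hiinj : Function.Injective i := by
    have h1 : Function.Injective ((Ideal.Quotient.mk W).comp (algebraMap V₁ E)) := by
      rw [RingHom.injective_iff_ker_eq_bot, ← RingHom.comap_ker, Ideal.mk_ker]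
      exact hW0
    exact (IsLocalization.injective V P.primeCompl_le_nonZeroDivisors).comp h1
  have hjinj : Function.Injective j := by
    rw [RingHom.injective_iff_ker_eq_bot]
    have hk : (RingHom.ker j).comap (algebraMap N C) = ⊥ := by
      rw [RingHom.comap_ker, ← hij]
      exact (RingHom.injective_iff_ker_eq_bot _).1 (hiinj.comp hinj)
    exact Ideal.eq_bot_of_comap_eq_bot hk
  refine ⟨V, inferInstance, inferInstance, hV, i, j, l, ?_, hjinj, hij, ?_, ?_⟩
  · constructor
    intro x hx
    obtain ⟨d, s, rfl⟩ := IsLocalization.exists_mk'_eq P.primeCompl x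
    have h1 : l (IsLocalization.mk' V d s) ≠ 0 := hx.ne_zero
    have h2 : d ∉ P := by
      intro hd
      apply h1
      have h3 : l (IsLocalization.mk' V d s) * l (algebraMap D V s) = l (algebraMap D V d) := by
        rw [← map_mul, IsLocalization.mk'_spec]
      rw [hl, hl, show eD d = 0 from hd] at h3
      exact (mul_eq_zero.1 h3).resolve_right (hunit s).ne_zero
    exact (IsLocalization.AtPrime.isUnit_mk'_iff V P d s).2 h2
  · ext x
    change l (algebraMap D V (Ideal.Quotient.mk W (algebraMap V₁ E x))) = v x
    rw [hl]
    change e (algebraMap V₁ E x) = v x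
    change Algebra.TensorProduct.productMap vN cN (x ⊗ₜ 1) = v x
    rw [Algebra.TensorProduct.productMap_apply_tmul, map_one, mul_one]
    rfl
  · ext x
    change l (algebraMap D V (Ideal.Quotient.mk W (jC x))) = c x
    rw [hl]
    change Algebra.TensorProduct.productMap vN cN (1 ⊗ₜ x) = c x
    rw [Algebra.TensorProduct.productMap_apply_tmul, map_one, one_mul]
    rfl

end Groth.Agent.Ega43.FlatUniDom
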