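import Mathlib.RingTheory.Valuation.LocalSubring
import Mathlib.RingTheory.LocalRing.ResidueField.Ideal
import Mathlib.RingTheory.MvPolynomial.Basic
import Mathlib.RingTheory.Spectrum.Prime.Topology
import Mathlib.RingTheory.Valuation.ValuationRing
import Mathlib.RingTheory.TensorProduct.Basic
import Mathlib.RingTheory.Flat.FaithfullyFlat.Basic

/-!
# Universally open algebras over a local domain: a generization which stays transcendental

EGA IV 14.5: valuation-ring argument used for the existence of quasi-sections.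
-/

set_option autoImplicit false
universe u v

open TensorProduct

namespace Groth.Agent.Ega43.QSectVal

/-- Ring version of "`Spec B → Spec R` is universally open" (tested on algebras in `Type u`). -/
def UnivOpen (R : Type u) (B : Type v) [CommRing R] [CommRing B] [Algebra R B] : Prop :=
  ∀ (V : Type u) [CommRing V] [Algebra R V],
    IsOpenMap (PrimeSpectrum.comap (algebraMap V (V ⊗[R] B)))

/-- If `Spec C → Spec V` is open, `V` a domain, every prime of `C` has a
generization over the generic point. -/
lemma exists_prime_le_of_isOpenMap {V C : Type*} [CommRing V] [IsDomain V]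
    [CommRing C] [Algebra V C] (h : IsOpenMap (PrimeSpectrum.comap (algebraMap V C)))
    (Q : Ideal C) [Q.IsPrime] :
    ∃ W : Ideal C, W.IsPrime ∧ W ≤ Q ∧ W.comap (algebraMap V C) = ⊥ := by
  let S : Submonoid C := (nonZeroDivisors V).map (algebraMap V C) ⊔ Q.primeCompl
  have h0 : (0 : C) ∉ S := by
    intro h0
    obtain ⟨y, ⟨v, hv, rfl⟩, z, hz, hyz⟩ := Submonoid.mem_sup.mp h0
    have hopen := h _ (PrimeSpectrum.basicOpen z).isOpen
    have hmem : (⟨⊥, Ideal.isPrime_bot⟩ : PrimeSpectrum V) ∈
        PrimeSpectrum.comap (algebraMap V C) '' (PrimeSpectrum.basicOpen z : Set (PrimeSpectrum C)) := by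
      have hcl : PrimeSpectrum.comap (algebraMap V C) ⟨Q, inferInstance⟩ ∈
          PrimeSpectrum.comap (algebraMap V C) '' (PrimeSpectrum.basicOpen z : Set (PrimeSpectrum C)) :=
        ⟨⟨Q, inferInstance⟩, hz, rfl⟩
      have hsp : (⟨⊥, Ideal.isPrime_bot⟩ : PrimeSpectrum V) ⤳
          PrimeSpectrum.comap (algebraMap V C) ⟨Q, inferInstance⟩ := by
        rw [← PrimeSpectrum.le_iff_specializes]
        exact bot_le (a := (PrimeSpectrum.comap (algebraMap V C) ⟨Q, inferInstance⟩).asIdeal)
      exact hsp.mem_open hopen hcl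
    obtain ⟨W, hW, hW'⟩ := hmem
    have hW0 : W.asIdeal.comap (algebraMap V C) = ⊥ := congrArg PrimeSpectrum.asIdeal hW'
    have h1 : algebraMap V C v * z ∈ W.asIdeal := by
      change algebraMap V C v * z = 0 at hyz
      rw [hyz]; exact W.asIdeal.zero_mem
    rcases W.isPrime.mem_or_mem h1 with h2 | h2
    · have : v ∈ (⊥ : Ideal V) := by rw [← hW0]; exact h2
      exact nonZeroDivisors.ne_zero hv this
    · exact hW h2
  obtain ⟨W, hWp, -, hWd⟩ := Ideal.exists_le_prime_disjoint (⊥ : Ideal C) S (by
    rw [Set.disjoint_left]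
    intro x hx hxS
    rw [SetLike.mem_coe, Ideal.mem_bot] at hx
    exact h0 (hx ▸ hxS))
  rw [Set.disjoint_left] at hWd
  refine ⟨W, hWp, fun x hx ↦ ?_, ?_⟩
  · by_contra hxQ
    exact hWd hx ((le_sup_right : Q.primeCompl ≤ S) hxQ)
  · rw [eq_bot_iff]
    intro v hv
    by_contra hv0
    exact hWd (a := algebraMap V C v) hv
      ((le_sup_left : (nonZeroDivisors V).map (algebraMap V C) ≤ S)
        ⟨v, mem_nonZeroDivisors_of_ne_zero hv0, rfl⟩)

/-- Over a valuation ring a nonzero polynomial is a constant times a polynomial with a unit coefficient. -/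
lemma exists_eq_C_mul {V : Type*} [CommRing V] [IsDomain V] [ValuationRing V] {σ : Type*}
    (F : MvPolynomial σ V) (hF : F ≠ 0) :
    ∃ (c : V) (G : MvPolynomial σ V), c ≠ 0 ∧ F = MvPolynomial.C c * G ∧ ∃ m, G.coeff m = 1 := by
  classical
  have key : ∀ s : Finset (σ →₀ ℕ), s.Nonempty → ∃ i ∈ s, ∀ j ∈ s, F.coeff i ∣ F.coeff j := by
    intro s hs
    induction hs using Finset.Nonempty.cons_induction with
    | singleton a => exact ⟨a, by simp, by simp⟩
    | cons a s ha hs ih =>
      obtain ⟨i, hi, hij⟩ := ih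
      rcases ValuationRing.dvd_total (F.coeff i) (F.coeff a) with h | h
      · refine ⟨i, by simp [hi], fun j hj ↦ ?_⟩
        rcases Finset.mem_cons.mp hj with rfl | hj
        · exact h
        · exact hij j hj
      · refine ⟨a, by simp, fun j hj ↦ ?_⟩
        rcases Finset.mem_cons.mp hj with rfl | hj
        · exact dvd_rfl
        · exact h.trans (hij j hj)
  obtain ⟨i, hi, hij⟩ := key F.support (MvPolynomial.support_nonempty.mpr hF)
  have hdvd : MvPolynomial.C (F.coeff i) ∣ F := by
    rw [MvPolynomial.C_dvd_iff_dvd_coeff]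
    intro j
    by_cases hj : j ∈ F.support
    · exact hij j hj
    · rw [MvPolynomial.notMem_support_iff.mp hj]; exact dvd_zero _
  obtain ⟨G, hG⟩ := hdvd
  have hc : F.coeff i ≠ 0 := MvPolynomial.mem_support_iff.mp hi
  refine ⟨F.coeff i, G, hc, hG, i, ?_⟩
  have := congrArg (MvPolynomial.coeff i) hG
  rw [MvPolynomial.coeff_C_mul] at this
  exact (mul_left_cancel₀ hc (by rw [mul_one]; exact this.symm))

/-- Two field extensions of a field embed compatibly in a third one. -/
lemma exists_field_amalgam {k : Type*} {K₁ : Type u} {K₂ : Type v} [Field k] [Field K₁] [Field K₂]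
    (f₁ : k →+* K₁) (f₂ : k →+* K₂) :
    ∃ (L : Type (max u v)) (_ : Field L) (g₁ : K₁ →+* L) (g₂ : K₂ →+* L), g₁.comp f₁ = g₂.comp f₂ := by
  algebraize [f₁, f₂]
  obtain ⟨M, hM⟩ := Ideal.exists_maximal (K₁ ⊗[k] K₂)
  let _ := Ideal.Quotient.field M
  refine ⟨(K₁ ⊗[k] K₂) ⧸ M, inferInstance,
    (Ideal.Quotient.mk M).comp Algebra.TensorProduct.includeLeftRingHom,
    (Ideal.Quotient.mk M).comp (Algebra.TensorProduct.includeRight : K₂ →ₐ[k] K₁ ⊗[k] K₂).toRingHom, ?_⟩
  ext x
  have h1 : (f₁ x) ⊗ₜ[k] (1 : K₂) = (1 : K₁) ⊗ₜ[k] (f₂ x) := by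
    have := Algebra.TensorProduct.algebraMap_apply (R := k) (S := k) (A := K₁) (B := K₂) x
    rw [show f₁ x = algebraMap k K₁ x from rfl, show f₂ x = algebraMap k K₂ x from rfl,
      Algebra.algebraMap_eq_smul_one, Algebra.algebraMap_eq_smul_one, TensorProduct.smul_tmul]
  simp only [RingHom.coe_comp, Function.comp_apply, Algebra.TensorProduct.includeLeftRingHom_apply,
    AlgHom.toRingHom_eq_coe, RingHom.coe_coe, Algebra.TensorProduct.includeRight_apply, h1]

/-- The key generization lemma. `A` is a local domain, `B` a universally open `A`-algebra, `t` a family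
of elements of `B`, `q'` a prime over the closed point modulo which the `t i` are algebraically
independent over the residue field. Then some generization `w` of `q'` lies over the generic point and
the `t i` are algebraically independent over `A` modulo `w`. -/
lemma exists_prime_le_comap_aeval_eq_bot {A B : Type u} [CommRing A] [IsDomain A] [IsLocalRing A]
    [CommRing B] [Algebra A B] (hB : UnivOpen A B) {n : ℕ} (t : Fin n → B)
    (q' : Ideal B) [q'.IsPrime]
    (hq' : q'.comap (MvPolynomial.aeval (R := A) t).toRingHom =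
      RingHom.ker (MvPolynomial.map (σ := Fin n) (IsLocalRing.residue A))) :
    ∃ w : Ideal B, w.IsPrime ∧ w ≤ q' ∧ w.comap (MvPolynomial.aeval (R := A) t).toRingHom = ⊥ := by
  let K := FractionRing A
  obtain ⟨V, hfV, hloc⟩ := IsLocalRing.exists_factor_valuationRing (algebraMap A K)
  let φ : A →+* V := (algebraMap A K).codRestrict V.toSubring hfV
  have hφloc : IsLocalHom φ := hloc
  have hφinj : Function.Injective φ := by
    intro x y hxy
    exact IsFractionRing.injective A K (congrArg Subtype.val hxy)
  let _ : Algebra A V := φ.toAlgebra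
  have hmapA : ∀ a, algebraMap A V a = φ a := fun _ ↦ rfl
  -- the two primes of the polynomial rings
  let P1 : Ideal (MvPolynomial (Fin n) A) :=
    RingHom.ker (MvPolynomial.map (σ := Fin n) (IsLocalRing.residue A))
  let P2 : Ideal (MvPolynomial (Fin n) V) :=
    RingHom.ker (MvPolynomial.map (σ := Fin n) (IsLocalRing.residue V))
  have : P1.IsPrime := RingHom.ker_isPrime _
  have : P2.IsPrime := RingHom.ker_isPrime _
  have hP12 : P1 = P2.comap (MvPolynomial.map φ) := by
    have hcomp : (MvPolynomial.map (σ := Fin n) (IsLocalRing.residue V)).comp (MvPolynomial.map φ) =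
        (MvPolynomial.map (IsLocalRing.ResidueField.map φ)).comp
          (MvPolynomial.map (IsLocalRing.residue A)) := by
      ext x
      · simp [IsLocalRing.ResidueField.map_residue]
      · simp
    rw [RingHom.comap_ker, hcomp, ← RingHom.comap_ker,
      (RingHom.injective_iff_ker_eq_bot _).mp
        (MvPolynomial.map_injective _ (IsLocalRing.ResidueField.map φ).injective)]
    rfl
  -- the amalgamated field
  obtain ⟨L, _, g2, g3, hg⟩ := exists_field_amalgam
    (Ideal.ResidueField.map P1 P2 (MvPolynomial.map φ) hP12)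
    (Ideal.ResidueField.map P1 q' (MvPolynomial.aeval (R := A) t).toRingHom hq'.symm)
  let α : MvPolynomial (Fin n) V →+* L := g2.comp (algebraMap _ P2.ResidueField)
  let β : B →+* L := g3.comp (algebraMap _ q'.ResidueField)
  have hαβ : α.comp (MvPolynomial.map φ) = β.comp (MvPolynomial.aeval (R := A) t).toRingHom := by
    refine MvPolynomial.ringHom_ext' ?_ fun x ↦ ?_
    · ext x
      have := DFunLike.congr_fun hg (algebraMap (MvPolynomial (Fin n) A) P1.ResidueField (MvPolynomial.C x))
      simpa [α, β] using this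
    · have := DFunLike.congr_fun hg (algebraMap (MvPolynomial (Fin n) A) P1.ResidueField (MvPolynomial.X x))
      simpa [α, β] using this
  have hα : ∀ F, α F = 0 ↔ F ∈ P2 := fun F ↦ by
    simp only [α, RingHom.coe_comp, Function.comp_apply, map_eq_zero]
    exact Ideal.algebraMap_residueField_eq_zero
  have hβ : ∀ b, β b = 0 ↔ b ∈ q' := fun F ↦ by
    simp only [β, RingHom.coe_comp, Function.comp_apply, map_eq_zero]
    exact Ideal.algebraMap_residueField_eq_zero
  -- the induced map on V ⊗ B
  let _ : Algebra A L := (β.comp (algebraMap A B)).toAlgebra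
  let βA : B →ₐ[A] L := { β with commutes' := fun a ↦ rfl }
  let αA : V →ₐ[A] L :=
    { α.comp MvPolynomial.C with
      commutes' := fun a ↦ by
        have := DFunLike.congr_fun hαβ (MvPolynomial.C a)
        simp only [RingHom.coe_comp, Function.comp_apply, MvPolynomial.map_C] at this
        change α (MvPolynomial.C (φ a)) = _
        rw [this]
        change β (MvPolynomial.aeval t (MvPolynomial.C a)) = β (algebraMap A B a)
        rw [MvPolynomial.aeval_C] }
  let γ : V ⊗[A] B →ₐ[A] L := Algebra.TensorProduct.productMap αA βA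
  let Q : Ideal (V ⊗[A] B) := RingHom.ker γ
  have : Q.IsPrime := RingHom.ker_isPrime _
  -- the map V[T] → V ⊗ B
  let τ : MvPolynomial (Fin n) V →ₐ[V] V ⊗[A] B := MvPolynomial.aeval (fun i ↦ 1 ⊗ₜ t i)
  have hτ : γ.toRingHom.comp τ.toRingHom = α := by
    refine MvPolynomial.ringHom_ext' ?_ fun x ↦ ?_
    · ext x
      simp [γ, τ, αA, Algebra.TensorProduct.algebraMap_apply]
    · have := DFunLike.congr_fun hαβ (MvPolynomial.X x)
      simp only [RingHom.coe_comp, Function.comp_apply, MvPolynomial.map_X] at this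
      simp only [τ, γ, AlgHom.toRingHom_eq_coe, RingHom.coe_comp, RingHom.coe_coe,
        Function.comp_apply, MvPolynomial.aeval_X, Algebra.TensorProduct.productMap_apply_tmul,
        map_one, one_mul]
      rw [this]
      change β _ = β (MvPolynomial.aeval t (MvPolynomial.X x))
      rw [MvPolynomial.aeval_X]
  have hQτ : ∀ F, τ F ∈ Q ↔ F ∈ P2 := fun F ↦ by
    rw [← hα, ← hτ]; rfl
  have hQB : ∀ b, (1 : V) ⊗ₜ[A] b ∈ Q ↔ b ∈ q' := fun b ↦ by
    rw [← hβ]
    change γ (1 ⊗ₜ b) = 0 ↔ _
    simp [γ, βA]
  obtain ⟨W, hWp, hWQ, hWV⟩ := exists_prime_le_of_isOpenMap (hB V) Q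
  have hWτ : ∀ F, τ F ∈ W → F = 0 := by
    intro F hF
    by_contra hF0
    obtain ⟨c, G, hc, rfl, m, hm⟩ := exists_eq_C_mul F hF0
    rw [map_mul] at hF
    rcases hWp.mem_or_mem hF with h | h
    · have h1 : algebraMap V (V ⊗[A] B) c = τ (MvPolynomial.C c) := by
        simp [τ]
      have : c ∈ W.comap (algebraMap V (V ⊗[A] B)) := by rw [Ideal.mem_comap, h1]; exact h
      rw [hWV] at this
      exact hc this
    · have h2 := (hQτ G).mp (hWQ h)
      rw [RingHom.mem_ker] at h2
      have h3 := congrArg (MvPolynomial.coeff m) h2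
      rw [MvPolynomial.coeff_map, hm, map_one, MvPolynomial.coeff_zero] at h3
      exact one_ne_zero h3
  let ι : B →+* V ⊗[A] B := (Algebra.TensorProduct.includeRight : B →ₐ[A] V ⊗[A] B).toRingHom
  refine ⟨W.comap ι, Ideal.IsPrime.comap _, fun b hb ↦ ?_, ?_⟩
  · exact (hQB b).mp (hWQ hb)
  · rw [eq_bot_iff]
    intro F hF
    have h1 : ι (MvPolynomial.aeval t F) = τ (MvPolynomial.map φ F) := by
      have : (ι.comp (MvPolynomial.aeval (R := A) t).toRingHom) =
          τ.toRingHom.comp (MvPolynomial.map φ) := by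
        refine MvPolynomial.ringHom_ext' ?_ fun x ↦ ?_
        · ext a
          simp only [ι, τ, AlgHom.toRingHom_eq_coe, RingHom.coe_comp, RingHom.coe_coe,
            Function.comp_apply, MvPolynomial.aeval_C, MvPolynomial.map_C,
            Algebra.TensorProduct.includeRight_apply]
          rw [Algebra.TensorProduct.algebraMap_apply, ← hmapA, Algebra.algebraMap_self,
            RingHom.id_apply, Algebra.algebraMap_eq_smul_one, Algebra.algebraMap_eq_smul_one,
            TensorProduct.smul_tmul]
        · simp [ι, τ]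
      exact DFunLike.congr_fun this F
    have h2 : τ (MvPolynomial.map φ F) ∈ W := by rw [← h1]; exact hF
    have h3 := hWτ _ h2
    exact (MvPolynomial.map_injective φ hφinj) (by rw [h3, map_zero])

end Groth.Agent.Ega43.QSectVal
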