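import Groth.Agent.Ega43.FlatUniV1
import Groth.Agent.Ega43.QSectVal
import Mathlib.RingTheory.IntegralClosure.IntegrallyClosed

/-!
# The normalization `CAlg2.normRed A` of a local domain
-/

set_option autoImplicit false
universe u

namespace Groth.Agent.Ega43.FlatUniNorm

open TensorProduct IsLocalRing

section Norm

variable (A : Type u) [CommRing A] [IsDomain A]

theorem nilradical_eq_bot' : nilradical A = ⊥ := nilradical_eq_zero A

theorem bijective_red : Function.Bijective (algebraMap A (CAlg2.red A)) := by
  constructor
  · change Function.Injective (Ideal.Quotient.mk (nilradical A))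
    rw [RingHom.injective_iff_ker_eq_bot, Ideal.mk_ker]
    exact nilradical_eq_bot' A
  · exact Ideal.Quotient.mk_surjective

instance isDomain_red : IsDomain (CAlg2.red A) := by
  have : (nilradical A).IsPrime := by
    rw [nilradical_eq_bot' A]
    exact Ideal.isPrime_bot
  exact Ideal.Quotient.isDomain _

instance isDomain_normRed : IsDomain (CAlg2.normRed A) := inferInstance

instance isIntegrallyClosed_normRed : IsIntegrallyClosed (CAlg2.normRed A) :=
  integralClosure.isIntegrallyClosedOfFiniteExtension (FractionRing (CAlg2.red A))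

instance isIntegral_normRed : Algebra.IsIntegral A (CAlg2.normRed A) := by
  have h1 : Algebra.IsIntegral A (CAlg2.red A) :=
    Algebra.isIntegral_of_surjective (bijective_red A).2
  exact Algebra.IsIntegral.trans (CAlg2.red A)

theorem injective_normRed : Function.Injective (algebraMap A (CAlg2.normRed A)) := by
  rw [IsScalarTower.algebraMap_eq A (CAlg2.red A) (CAlg2.normRed A), RingHom.coe_comp]
  refine Function.Injective.comp ?_ (bijective_red A).1
  apply Function.Injective.of_comp (f := algebraMap (CAlg2.normRed A) (FractionRing (CAlg2.red A)))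
  exact IsFractionRing.injective (CAlg2.red A) (FractionRing (CAlg2.red A))

theorem isFractionRing_red : IsFractionRing A (FractionRing (CAlg2.red A)) := by
  have h := (IsFractionRing.isFractionRing_iff_of_base_ringEquiv (FractionRing (CAlg2.red A))
    (RingEquiv.ofBijective (algebraMap A (CAlg2.red A)) (bijective_red A)).symm).1 inferInstance
  convert! h
  apply Algebra.algebra_ext
  intro a
  rw [IsScalarTower.algebraMap_apply A (CAlg2.red A) (FractionRing (CAlg2.red A))]
  rfl

end Norm

section Local

variable {A : Type u} [CommRing A] [IsLocalRing A] {N : Type u} [CommRing N] [IsLocalRing N]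
  [Algebra A N] [Algebra.IsIntegral A N]

/-- A prime of an integral local extension above the maximal ideal is the maximal ideal. -/
theorem eq_maximalIdeal_of_comap {P : Ideal N} [P.IsPrime]
    (h : P.comap (algebraMap A N) = maximalIdeal A) : P = maximalIdeal N := by
  apply IsLocalRing.eq_maximalIdeal
  have : (P.comap (algebraMap A N)).IsMaximal := h ▸ maximalIdeal.isMaximal A
  exact Ideal.isMaximal_of_isIntegral_of_isMaximal_comap P this

theorem exists_amalgam {κ₀ κ₁ : Type u} [Field κ₀] [Field κ₁] (φ₀ : N →+* κ₀) (φ₁ : N →+* κ₁)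
    (h₀ : RingHom.ker φ₀ = maximalIdeal N) (h₁ : RingHom.ker φ₁ = maximalIdeal N) :
    ∃ (Λ : Type u) (_ : Field Λ) (e₀ : κ₀ →+* Λ) (e₁ : κ₁ →+* Λ), e₀.comp φ₀ = e₁.comp φ₁ := by
  let _ : Field (N ⧸ maximalIdeal N) := Ideal.Quotient.field _
  obtain ⟨Λ, _, e₀, e₁, h⟩ := QSectVal.exists_field_amalgam
    (Ideal.Quotient.lift (maximalIdeal N) φ₀ (fun a ha => by rwa [← h₀] at ha))
    (Ideal.Quotient.lift (maximalIdeal N) φ₁ (fun a ha => by rwa [← h₁] at ha))
  refine ⟨Λ, inferInstance, e₀, e₁, ?_⟩
  ext x
  exact DFunLike.congr_fun h (Ideal.Quotient.mk _ x)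

end Local

end Groth.Agent.Ega43.FlatUniNorm
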