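import Groth.Agent.Ega43.FlatUniMain
import Groth.Agent.Ega43.FlatUniNorm

/-!
# EGA IV 11.6.1, 11.6.2 (conditional on 05PG)
-/

set_option autoImplicit false
universe u
open CategoryTheory AlgebraicGeometry Limits TensorProduct IsLocalRing

namespace Groth.Agent.Ega43.FlatUniFinal

open Groth.Agent.Sga3C.FlatPt FlatUniNorm

section Algebra

variable {A A' : Type u} [CommRing A] [IsDomain A] [IsLocalRing A] [CommRing A'] [IsLocalRing A']
  [Algebra A A'] [IsLocalHom (algebraMap A A')]

local notation "NA" => CAlg2.normRed A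
local notation "TA" => A' ⊗[A] CAlg2.normRed A

/-- the inclusion of `N` in `A' ⊗ N` -/
noncomputable abbrev iR : CAlg2.normRed A →+* A' ⊗[A] CAlg2.normRed A :=
  (Algebra.TensorProduct.includeRight : CAlg2.normRed A →ₐ[A] A' ⊗[A] CAlg2.normRed A).toRingHom

theorem comap_comap (P : Ideal TA) :
    (P.comap (algebraMap A' TA)).comap (algebraMap A A') =
      (P.comap (iR (A' := A'))).comap (algebraMap A NA) := by
  rw [Ideal.comap_comap, Ideal.comap_comap]
  congr 1
  ext a
  exact (IsScalarTower.algebraMap_apply A A' TA a).symm.trans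
    (AlgHom.commutes (Algebra.TensorProduct.includeRight : NA →ₐ[A] TA) a).symm

/-- A prime of `A' ⊗ N` over the maximal ideal of `A'` is over the maximal ideal of `N`. -/
theorem comap_iR [IsLocalRing NA] (P : Ideal TA) [P.IsPrime]
    (h : P.comap (algebraMap A' TA) = maximalIdeal A') : P.comap (iR (A' := A')) = maximalIdeal NA := by
  apply eq_maximalIdeal_of_comap (A := A)
  rw [← comap_comap, h]
  exact congrArg PrimeSpectrum.asIdeal (comap_closedPoint (algebraMap A A'))

/-- The prime `z₀` of `A' ⊗ N` and a maximal ideal above it. -/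
theorem exists_primes (hinj : Function.Injective (algebraMap A A')) :
    ∃ z₀ M : Ideal TA, z₀.IsPrime ∧ M.IsMaximal ∧ z₀ ≤ M ∧
      (∀ n : NA, iR (A' := A') n ∈ z₀ → n = 0) ∧ M.comap (algebraMap A' TA) = maximalIdeal A' := by
  have := isFractionRing_red A
  obtain ⟨z₀, hz₀, hz⟩ := FlatUniV1.exists_prime (A := A) (N := NA) (A' := A')
    (K := FractionRing (CAlg2.red A))
    (IsScalarTower.toAlgHom A NA (FractionRing (CAlg2.red A))) Subtype.val_injective hinj
  obtain ⟨M, hM, hle⟩ := Ideal.exists_le_maximal z₀ hz₀.ne_top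
  refine ⟨z₀, M, hz₀, hM, hle, hz, ?_⟩
  apply IsLocalRing.eq_maximalIdeal
  exact Ideal.isMaximal_comap_of_isIntegral_of_isMaximal M

end Algebra

section Main

variable {A A' : Type u} [CommRing A] [IsDomain A] [CommRing A'] [Algebra A A']
  {X : Scheme.{u}} (f : X ⟶ Spec (CommRingCat.of A)) [LocallyOfFinitePresentation f]

local notation "NA" => CAlg2.normRed A
local notation "TA" => A' ⊗[A] CAlg2.normRed A

omit [IsDomain A] in
/-- The core, reformulated. -/
theorem core₂ {N C Λ V₁ : Type u} [CommRing N] [IsDomain N] [IsIntegrallyClosed N]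
    [CommRing C] [IsDomain C] [Algebra A N] [Algebra N C] [Algebra A C] [IsScalarTower A N C]
    [Algebra.IsIntegral N C] [FaithfulSMul N C] (hC : Flat2E.AIC1.IsAIC C)
    [CommRing V₁] [IsDomain V₁] (i₁ : N →+* V₁)
    (hNV : Function.Injective i₁) (α : A' →+* V₁)
    (hα : α.comp (algebraMap A A') = i₁.comp (algebraMap A N)) [Field Λ]
    (c : C →+* Λ) (v : V₁ →+* Λ) (hvc : v.comp i₁ = c.comp (algebraMap N C))
    (sz : Spec (CommRingCat.of Λ) ⟶ pullback f (Spec.map (CommRingCat.ofHom (algebraMap A C))))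
    (hc : sz ≫ pullback.snd _ _ = Spec.map (CommRingCat.ofHom c))
    (sx : Spec (CommRingCat.of Λ) ⟶ pullback f (Spec.map (CommRingCat.ofHom (algebraMap A A'))))
    (h1 : sx ≫ pullback.fst _ _ = sz ≫ pullback.fst _ _)
    (h2 : sx ≫ pullback.snd _ _ = Spec.map (CommRingCat.ofHom (v.comp α)))
    (H : IsFlatAt (pullback.snd f (Spec.map (CommRingCat.ofHom (algebraMap A A'))))
      (sx (closedPoint Λ))) :
    IsFlatAt (pullback.snd f (Spec.map (CommRingCat.ofHom (algebraMap A C))))
      (sz (closedPoint Λ)) := by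
  letI : Algebra N V₁ := i₁.toAlgebra
  have h2' : (sz ≫ pullback.fst _ _) ≫ f =
      Spec.map (CommRingCat.ofHom c) ≫ Spec.map (CommRingCat.ofHom (algebraMap A C)) := by
    rw [Category.assoc, pullback.condition, ← Category.assoc, hc]
  have h1' : (sz ≫ pullback.fst _ _) ≫ f = Spec.map (CommRingCat.ofHom (v.comp α)) ≫
      Spec.map (CommRingCat.ofHom (algebraMap A A')) := by
    rw [← h1, Category.assoc, pullback.condition, ← Category.assoc, h2]
  have e1 : pullback.lift (sz ≫ pullback.fst _ _)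
      (Spec.map (CommRingCat.ofHom (v.comp α))) h1' = sx := by
    apply pullback.hom_ext
    · rw [pullback.lift_fst, h1]
    · rw [pullback.lift_snd, h2]
  have e2 : pullback.lift (sz ≫ pullback.fst _ _) (Spec.map (CommRingCat.ofHom c)) h2' = sz := by
    apply pullback.hom_ext
    · rw [pullback.lift_fst]
    · rw [pullback.lift_snd, hc]
  have := FlatUniMain.core (A := A) (N := N) (C := C) hC hNV α hα f c v hvc
    (sz ≫ pullback.fst _ _) h1' h2' (by rw [e1]; exact H)
  rwa [e2] at this

/-- The core with `V₁ = (A' ⊗ N) / z₀`. -/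
theorem core₃ {C Λ : Type u} [CommRing C] [IsDomain C] [Algebra NA C] [Algebra A C]
    [IsScalarTower A NA C] [Algebra.IsIntegral NA C] [FaithfulSMul NA C]
    (hC : Flat2E.AIC1.IsAIC C) (z₀ : Ideal TA) [hz₀ : z₀.IsPrime]
    (hz : ∀ n : NA, iR (A' := A') n ∈ z₀ → n = 0) [Field Λ] (e : TA →+* Λ)
    (he : ∀ t ∈ z₀, e t = 0)
    (sz : Spec (CommRingCat.of Λ) ⟶ pullback f (Spec.map (CommRingCat.ofHom (algebraMap A C))))
    (c : C →+* Λ) (hc : sz ≫ pullback.snd _ _ = Spec.map (CommRingCat.ofHom c))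
    (hec : e.comp iR = c.comp (algebraMap NA C))
    (sx : Spec (CommRingCat.of Λ) ⟶ pullback f (Spec.map (CommRingCat.ofHom (algebraMap A A'))))
    (h1 : sx ≫ pullback.fst _ _ = sz ≫ pullback.fst _ _)
    (h2 : sx ≫ pullback.snd _ _ = Spec.map (CommRingCat.ofHom (e.comp (algebraMap A' TA))))
    (H : IsFlatAt (pullback.snd f (Spec.map (CommRingCat.ofHom (algebraMap A A'))))
      (sx (closedPoint Λ))) :
    IsFlatAt (pullback.snd f (Spec.map (CommRingCat.ofHom (algebraMap A C))))
      (sz (closedPoint Λ)) := by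
  refine core₂ (N := NA) (V₁ := TA ⧸ z₀) f hC ((Ideal.Quotient.mk z₀).comp (iR (A' := A')))
    ?_ ((Ideal.Quotient.mk z₀).comp (algebraMap A' TA)) ?_ c (Ideal.Quotient.lift z₀ e he) hec
    sz hc sx h1 h2 H
  · rw [injective_iff_map_eq_zero]
    intro n hn
    exact hz n (Ideal.Quotient.eq_zero_iff_mem.1 hn)
  · rw [RingHom.comp_assoc, RingHom.comp_assoc]
    congr 1
    ext a
    change algebraMap A' TA (algebraMap A A' a) =
      (Algebra.TensorProduct.includeRight : NA →ₐ[A] TA) (algebraMap A NA a)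
    rw [AlgHom.commutes, ← IsScalarTower.algebraMap_apply A A' TA]

omit [LocallyOfFinitePresentation f] [IsDomain A] in
theorem exists_fieldPoint {Y : Scheme.{u}} (y : Y) : ∃ (κ : Type u) (_ : Field κ)
    (s : Spec (CommRingCat.of κ) ⟶ Y), s (closedPoint κ) = y :=
  ⟨Y.residueField y, inferInstance, Y.fromSpecResidueField y, Y.fromSpecResidueField_apply y _⟩

theorem exists_ringHom {R S : Type u} [CommRing R] [CommRing S]
    (t : Spec (CommRingCat.of S) ⟶ Spec (CommRingCat.of R)) :
    ∃ c : R →+* S, t = Spec.map (CommRingCat.ofHom c) :=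
  ⟨(Spec.preimage t).hom, (Spec.map_preimage t).symm⟩

theorem ker_eq_of_apply {R κ : Type u} [CommRing R] [Field κ] (c : R →+* κ)
    {p : PrimeSpectrum R} (h : Spec.map (CommRingCat.ofHom c) (closedPoint κ) = p) :
    RingHom.ker c = p.asIdeal := by
  rw [← h]
  change _ = (maximalIdeal κ).comap c
  rw [IsLocalRing.maximalIdeal_eq_bot]
  rfl

theorem apply_eq_of_ker {R κ : Type u} [CommRing R] [Field κ] (c : R →+* κ)
    {p : PrimeSpectrum R} (h : RingHom.ker c = p.asIdeal) :
    Spec.map (CommRingCat.ofHom c) (closedPoint κ) = p := by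
  apply PrimeSpectrum.ext
  rw [← h]
  change (maximalIdeal κ).comap c = _
  rw [IsLocalRing.maximalIdeal_eq_bot]
  rfl

variable [IsLocalRing A] [IsLocalRing A'] [IsLocalHom (algebraMap A A')]
  (hinj : Function.Injective (algebraMap A A')) (x : X) (hx : f x = closedPoint A)

/-- The kernel of `N → C → κ` at a point over `x`. -/
theorem ker_comp_eq [IsLocalRing NA] {C κ : Type u} [CommRing C] [Algebra NA C] [Algebra A C]
    [IsScalarTower A NA C] [Field κ] (c : C →+* κ)
    (h : Spec.map (CommRingCat.ofHom (algebraMap A C)) (Spec.map (CommRingCat.ofHom c)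
      (closedPoint κ)) = closedPoint A) :
    RingHom.ker (c.comp (algebraMap NA C)) = maximalIdeal NA := by
  have := RingHom.ker_isPrime (c.comp (algebraMap NA C))
  apply eq_maximalIdeal_of_comap (A := A)
  rw [RingHom.comap_ker, RingHom.comp_assoc, ← IsScalarTower.algebraMap_eq A NA C]
  apply ker_eq_of_apply (p := closedPoint A)
  rw [← h, CommRingCat.ofHom_comp, Spec.map_comp, Scheme.Hom.comp_apply]

include hinj hx in
/-- EGA IV 11.6.2. -/
theorem isFlatAt_of_isUnibranch (hA : CAlg2.IsUnibranch A)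
    (H : ∀ x' : ↥(pullback f (Spec.map (CommRingCat.ofHom (algebraMap A A')))),
      pullback.fst f (Spec.map (CommRingCat.ofHom (algebraMap A A'))) x' = x →
      pullback.snd f (Spec.map (CommRingCat.ofHom (algebraMap A A'))) x' = closedPoint A' →
      IsFlatAt (pullback.snd f (Spec.map (CommRingCat.ofHom (algebraMap A A')))) x') :
    IsFlatAt f x := by
  have hNloc : IsLocalRing NA := hA.2
  obtain ⟨C, _, _, _, hCint, hCf, hC⟩ := FlatUniAC.exists_isAIC NA
  letI : Algebra A C := ((algebraMap NA C).comp (algebraMap A NA)).toAlgebra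
  have : IsScalarTower A NA C := IsScalarTower.of_algebraMap_eq' rfl
  have : Algebra.IsIntegral A C := Algebra.IsIntegral.trans NA
  have hCinj : Function.Injective (algebraMap A C) := by
    rw [IsScalarTower.algebraMap_eq A NA C]
    exact (FaithfulSMul.algebraMap_injective NA C).comp (injective_normRed A)
  refine FlatUniInt.isFlatAt_of_isIntegral hCinj f x fun z hz => ?_
  obtain ⟨z₀, M, hz₀, hM, hle, hz0, hMA⟩ := exists_primes (A := A) hinj
  obtain ⟨κ, _, s, hs⟩ := exists_fieldPoint z
  obtain ⟨c₀, hc₀⟩ := exists_ringHom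
    (s ≫ pullback.snd f (Spec.map (CommRingCat.ofHom (algebraMap A C))))
  letI : Field (TA ⧸ M) := Ideal.Quotient.field M
  have hk0 : RingHom.ker (c₀.comp (algebraMap NA C)) = maximalIdeal NA := by
    apply ker_comp_eq
    rw [← hc₀, Scheme.Hom.comp_apply, hs, ← Scheme.Hom.comp_apply, ← pullback.condition,
      Scheme.Hom.comp_apply, hz, hx]
  have hk1 : RingHom.ker ((Ideal.Quotient.mk M).comp (iR (A' := A'))) = maximalIdeal NA := by
    rw [← RingHom.comap_ker, Ideal.mk_ker]
    exact comap_iR M hMA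
  obtain ⟨Λ, _, e₀, e₁, he⟩ := exists_amalgam _ _ hk0 hk1
  have hsz : (Spec.map (CommRingCat.ofHom e₀) ≫ s) ≫ pullback.snd f
      (Spec.map (CommRingCat.ofHom (algebraMap A C))) =
      Spec.map (CommRingCat.ofHom (e₀.comp c₀)) := by
    rw [Category.assoc, hc₀, ← Spec.map_comp, ← CommRingCat.ofHom_comp]
  have hcl : Spec.map (CommRingCat.ofHom e₀) (closedPoint Λ) = closedPoint κ :=
    IsLocalRing.comap_closedPoint e₀
  have hzz : (Spec.map (CommRingCat.ofHom e₀) ≫ s) (closedPoint Λ) = z := by
    rw [Scheme.Hom.comp_apply, hcl, hs]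
  rw [← hzz]
  let a' : A' →+* Λ := (e₁.comp (Ideal.Quotient.mk M)).comp (algebraMap A' TA)
  have hcomm : ((Spec.map (CommRingCat.ofHom e₀) ≫ s) ≫ pullback.fst _ _) ≫ f =
      Spec.map (CommRingCat.ofHom a') ≫ Spec.map (CommRingCat.ofHom (algebraMap A A')) := by
    rw [Category.assoc, pullback.condition, ← Category.assoc, hsz, ← Spec.map_comp,
      ← Spec.map_comp, ← CommRingCat.ofHom_comp, ← CommRingCat.ofHom_comp]
    congr 2
    ext a
    have h3 := DFunLike.congr_fun he (algebraMap A NA a)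
    refine Eq.trans ?_ (h3.trans ?_)
    · change e₀ (c₀ (algebraMap A C a)) = e₀ (c₀ (algebraMap NA C (algebraMap A NA a)))
      rw [← IsScalarTower.algebraMap_apply]
    · change e₁ (Ideal.Quotient.mk M ((Algebra.TensorProduct.includeRight : NA →ₐ[A] TA)
        (algebraMap A NA a))) = e₁ (Ideal.Quotient.mk M (algebraMap A' TA (algebraMap A A' a)))
      rw [AlgHom.commutes, ← IsScalarTower.algebraMap_apply A A' TA]
  refine core₃ f hC z₀ hz0 (e₁.comp (Ideal.Quotient.mk M)) ?_ (Spec.map (CommRingCat.ofHom e₀) ≫ s)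
    (e₀.comp c₀) hsz ?_ (pullback.lift _ _ hcomm) (pullback.lift_fst _ _ _)
    (pullback.lift_snd _ _ _) (H _ ?_ ?_)
  · intro t ht
    rw [RingHom.comp_apply, Ideal.Quotient.eq_zero_iff_mem.2 (hle ht), map_zero]
  · rw [RingHom.comp_assoc, RingHom.comp_assoc, he]
  · rw [← Scheme.Hom.comp_apply, pullback.lift_fst, Scheme.Hom.comp_apply, hzz, hz]
  · rw [← Scheme.Hom.comp_apply, pullback.lift_snd]
    apply apply_eq_of_ker (p := closedPoint A')
    change RingHom.ker a' = maximalIdeal A'
    rw [← hMA, ← RingHom.comap_ker, RingHom.ker_comp_of_injective _ e₁.injective, Ideal.mk_ker]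

include hinj in
/-- Over a geometrically unibranch `A`, all primes of `A' ⊗ N` over the closed point of `A'`
contain `z₀`. -/
theorem le_of_geomUnibranch (hA : CAlg2.IsGeomUnibranch A) {z₀ M P : Ideal TA} [hM : M.IsMaximal]
    [hP : P.IsPrime] (hle : z₀ ≤ M) (hMA : M.comap (algebraMap A' TA) = maximalIdeal A')
    (hPA : P.comap (algebraMap A' TA) = maximalIdeal A') : z₀ ≤ P := by
  have hNloc : IsLocalRing NA := hA.1.2
  let p := ringExpChar (NA ⧸ maximalIdeal NA)
  letI : Field (NA ⧸ maximalIdeal NA) := Ideal.Quotient.field _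
  have hp : ExpChar (NA ⧸ maximalIdeal NA) p := inferInstance
  refine hle.trans (FlatUniV1.le_of_comap_le (A := A) (N := NA) (A' := A') p ?_ M P ?_ ?_ ?_)
  · intro x
    obtain ⟨n, y, hy⟩ := hA.2 (maximalIdeal NA) (Ideal.Quotient.mk _ x)
    refine ⟨n, y, ?_⟩
    rw [← Ideal.Quotient.eq, map_pow]
    exact hy.symm
  · rw [Ideal.map_le_iff_le_comap]
    exact (comap_iR M hMA).ge
  · rw [Ideal.map_le_iff_le_comap]
    exact (comap_iR P hPA).ge
  · rw [hMA, hPA]

include hinj hx in
/-- EGA IV 11.6.1. -/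
theorem isFlatAt_of_isGeomUnibranch (hA : CAlg2.IsGeomUnibranch A)
    (x' : ↥(pullback f (Spec.map (CommRingCat.ofHom (algebraMap A A')))))
    (hx'x : pullback.fst f (Spec.map (CommRingCat.ofHom (algebraMap A A'))) x' = x)
    (hx'c : pullback.snd f (Spec.map (CommRingCat.ofHom (algebraMap A A'))) x' = closedPoint A')
    (H : IsFlatAt (pullback.snd f (Spec.map (CommRingCat.ofHom (algebraMap A A')))) x') :
    IsFlatAt f x := by
  have hNloc : IsLocalRing NA := hA.1.2
  obtain ⟨C, _, _, _, hCint, hCf, hC⟩ := FlatUniAC.exists_isAIC NA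
  letI : Algebra A C := ((algebraMap NA C).comp (algebraMap A NA)).toAlgebra
  have : IsScalarTower A NA C := IsScalarTower.of_algebraMap_eq' rfl
  have : Algebra.IsIntegral A C := Algebra.IsIntegral.trans NA
  have hCinj : Function.Injective (algebraMap A C) := by
    rw [IsScalarTower.algebraMap_eq A NA C]
    exact (FaithfulSMul.algebraMap_injective NA C).comp (injective_normRed A)
  refine FlatUniInt.isFlatAt_of_isIntegral hCinj f x fun z hz => ?_
  obtain ⟨z₀, M, hz₀, hM, hle, hz0, hMA⟩ := exists_primes (A := A) hinj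
  obtain ⟨w, hw1, hw2⟩ := Scheme.Pullback.exists_preimage_pullback
    (f := pullback.fst f (Spec.map (CommRingCat.ofHom (algebraMap A A'))))
    (g := pullback.fst f (Spec.map (CommRingCat.ofHom (algebraMap A C)))) x' z (by rw [hx'x, hz])
  obtain ⟨Λ, _, s, hs⟩ := exists_fieldPoint w
  let sx := s ≫ pullback.fst _ _
  let sz := s ≫ pullback.snd _ _
  have hsx : sx (closedPoint Λ) = x' := by
    rw [Scheme.Hom.comp_apply, hs, hw1]
  have hsz : sz (closedPoint Λ) = z := by
    rw [Scheme.Hom.comp_apply, hs, hw2]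
  have hsxz : sx ≫ pullback.fst _ _ = sz ≫ pullback.fst _ _ := by
    rw [Category.assoc, pullback.condition, Category.assoc]
  obtain ⟨a', ha'⟩ := exists_ringHom
    (sx ≫ pullback.snd f (Spec.map (CommRingCat.ofHom (algebraMap A A'))))
  obtain ⟨c, hc⟩ := exists_ringHom
    (sz ≫ pullback.snd f (Spec.map (CommRingCat.ofHom (algebraMap A C))))
  have hac : a'.comp (algebraMap A A') = (c.comp (algebraMap NA C)).comp (algebraMap A NA) := by
    have h3 : Spec.map (CommRingCat.ofHom a') ≫ Spec.map (CommRingCat.ofHom (algebraMap A A')) =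
        Spec.map (CommRingCat.ofHom c) ≫ Spec.map (CommRingCat.ofHom (algebraMap A C)) := by
      have q1 : (sx ≫ pullback.snd f (Spec.map (CommRingCat.ofHom (algebraMap A A')))) ≫
          Spec.map (CommRingCat.ofHom (algebraMap A A')) = (sx ≫ pullback.fst _ _) ≫ f :=
        (Category.assoc _ _ _).trans
          ((congrArg (fun t => sx ≫ t) pullback.condition.symm).trans (Category.assoc _ _ _).symm)
      have q2 : (sz ≫ pullback.snd f (Spec.map (CommRingCat.ofHom (algebraMap A C)))) ≫
          Spec.map (CommRingCat.ofHom (algebraMap A C)) = (sz ≫ pullback.fst _ _) ≫ f :=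
        (Category.assoc _ _ _).trans
          ((congrArg (fun t => sz ≫ t) pullback.condition.symm).trans (Category.assoc _ _ _).symm)
      rw [← ha', ← hc, q1, q2, hsxz]
    rw [← Spec.map_comp, ← Spec.map_comp] at h3
    have h4 := Spec.map_injective h3
    rw [← CommRingCat.ofHom_comp, ← CommRingCat.ofHom_comp] at h4
    have h5 := congrArg CommRingCat.Hom.hom h4
    change a'.comp (algebraMap A A') = c.comp (algebraMap A C) at h5
    rw [h5, RingHom.comp_assoc, ← IsScalarTower.algebraMap_eq A NA C]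
  letI : Algebra A Λ := (a'.comp (algebraMap A A')).toAlgebra
  let aA : A' →ₐ[A] Λ := { a' with commutes' := fun a => rfl }
  let cA : NA →ₐ[A] Λ := { c.comp (algebraMap NA C) with
    commutes' := fun a => (DFunLike.congr_fun hac a).symm }
  let e : TA →+* Λ := (Algebra.TensorProduct.productMap aA cA).toRingHom
  have he1 : e.comp (algebraMap A' TA) = a' := by
    ext t
    change Algebra.TensorProduct.productMap aA cA (t ⊗ₜ 1) = a' t
    rw [Algebra.TensorProduct.productMap_apply_tmul, map_one, mul_one]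
    rfl
  have he2 : e.comp (iR (A' := A')) = c.comp (algebraMap NA C) := by
    ext t
    change Algebra.TensorProduct.productMap aA cA (1 ⊗ₜ t) = c.comp (algebraMap NA C) t
    rw [Algebra.TensorProduct.productMap_apply_tmul, map_one, one_mul]
    rfl
  have hP : (RingHom.ker e).IsPrime := RingHom.ker_isPrime _
  have hPA : (RingHom.ker e).comap (algebraMap A' TA) = maximalIdeal A' := by
    rw [RingHom.comap_ker, he1]
    apply ker_eq_of_apply (p := closedPoint A')
    rw [← ha', Scheme.Hom.comp_apply, hsx, hx'c]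
  have hz₀P := le_of_geomUnibranch hinj hA hle hMA hPA
  rw [← hsz]
  refine core₃ f hC z₀ hz0 e (fun t ht => hz₀P ht) sz c hc he2 sx hsxz ?_ ?_
  · rw [ha', he1]
  · rw [hsx]
    exact H

end Main

end Groth.Agent.Ega43.FlatUniFinal
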