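import Groth.Agent.S1229
import Groth.Agent.Flat2B.FlatCrit
import Groth.Agent.Ega43.FlatUniCore
import Mathlib.RingTheory.Henselian
import Mathlib.RingTheory.EssentialFiniteness

/-!
# Descent of flatness from henselian local domains (conditional on the flattening ideal, 05PG)
-/

set_option autoImplicit false
universe u v w

namespace Groth.Agent.Ega43.FlatUniHens

open TensorProduct IsLocalRing

/-- `FlatAt` in terms of the localization as a ring. -/
theorem flatAt_iff_localization {A B : Type u} [CommRing A] [CommRing B] [Algebra A B]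
    (q : Ideal B) [q.IsPrime] :
    FlatCA.FlatAt A q B ↔ Module.Flat A (Localization.AtPrime q) := by
  let e : LocalizedModule q.primeCompl B ≃ₗ[B] Localization.AtPrime q :=
    IsLocalizedModule.linearEquiv q.primeCompl (LocalizedModule.mkLinearMap q.primeCompl B)
      (Algebra.linearMap B (Localization.AtPrime q))
  exact Module.Flat.equiv_iff (e.restrictScalars A)

attribute [local instance] Algebra.TensorProduct.rightAlgebra in
/-- The flattening ideal for a local algebra essentially of finite type over a henselian local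
ring. -/
theorem exists_flattening_ideal {A B : Type u} [CommRing A] [HenselianLocalRing A] [CommRing B]
    [IsLocalRing B] [Algebra A B] [IsLocalHom (algebraMap A B)] [Algebra.EssFiniteType A B] :
    ∃ I : Ideal A,
      (∀ (A' : Type u) [CommRing A'] [IsLocalRing A'] [Algebra A A'] [IsLocalHom (algebraMap A A')],
        ((∀ (q : Ideal (A' ⊗[A] B)) [q.IsPrime],
          (maximalIdeal A').map (algebraMap A' (A' ⊗[A] B)) ≤ q →
          (maximalIdeal B).map (Algebra.TensorProduct.includeRight : B →ₐ[A] A' ⊗[A] B) ≤ q →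
            Module.Flat A' (Localization.AtPrime q)) ↔ I.map (algebraMap A A') = ⊥)) ∧
      (FlatCA.EssFinitePresentation A B → I.FG) := by
  obtain ⟨I, hI, hfg⟩ := Groth.Agent.S1229.result (A := A) (B := B) B
  refine ⟨I, ?_, fun h => hfg h inferInstance⟩
  intro A' _ _ _ _
  rw [← hI A' (A' ⊗[A] B) (A' ⊗[A] B) (Algebra.linearMap B (A' ⊗[A] B)) (IsBaseChange.linearMap _ _)]
  constructor
  · intro h q _ hq
    rw [flatAt_iff_localization]
    exact h q (le_sup_left.trans hq) (le_sup_right.trans hq)
  · intro h q _ h1 h2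
    rw [← flatAt_iff_localization]
    exact h q (sup_le h1 h2)

/-- `B / I₂ B` is flat over `A / I₂` iff it is flat at all primes above both maximal ideals. -/
theorem flat_quotient_iff {A B : Type u} [CommRing A] [IsLocalRing A] [CommRing B]
    [IsLocalRing B] [Algebra A B] [IsLocalHom (algebraMap A B)] (I₂ : Ideal A)
    (hI₂ : I₂ ≤ maximalIdeal A) [IsLocalRing (A ⧸ I₂)] :
    Module.Flat (A ⧸ I₂) ((A ⧸ I₂) ⊗[A] B) ↔
      ∀ (q : Ideal ((A ⧸ I₂) ⊗[A] B)) [q.IsPrime],
        (maximalIdeal (A ⧸ I₂)).map (algebraMap (A ⧸ I₂) ((A ⧸ I₂) ⊗[A] B)) ≤ q →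
        (maximalIdeal B).map
          (Algebra.TensorProduct.includeRight : B →ₐ[A] (A ⧸ I₂) ⊗[A] B) ≤ q →
            Module.Flat (A ⧸ I₂) (Localization.AtPrime q) := by
  constructor
  · intro h q _ _ _
    rw [← flatAt_iff_localization]
    exact Flat2B.FlatCrit.flatAt_of_flat q _
  · intro h
    have hsurj : Function.Surjective
        (Algebra.TensorProduct.includeRight : B →ₐ[A] (A ⧸ I₂) ⊗[A] B) := by
      intro x
      induction x with
      | zero => exact ⟨0, map_zero _⟩
      | tmul a b =>
        obtain ⟨a, rfl⟩ := Ideal.Quotient.mk_surjective a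
        refine ⟨a • b, ?_⟩
        rw [map_smul, Algebra.TensorProduct.includeRight_apply, TensorProduct.smul_tmul',
          Algebra.smul_def, mul_one]
        rfl
      | add x y hx hy =>
        obtain ⟨a, rfl⟩ := hx
        obtain ⟨b, rfl⟩ := hy
        exact ⟨a + b, map_add _ _ _⟩
    apply Flat2B.FlatCrit.flat_of_forall_flatAt (S := (A ⧸ I₂) ⊗[A] B)
    intro Q hQ
    rw [flatAt_iff_localization]
    have h1 : (Q.comap (Algebra.TensorProduct.includeRight : B →ₐ[A] (A ⧸ I₂) ⊗[A] B)).IsMaximal :=
      Ideal.comap_isMaximal_of_surjective _ hsurj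
    have h2 := IsLocalRing.eq_maximalIdeal h1
    have hB : (maximalIdeal B).map
        (Algebra.TensorProduct.includeRight : B →ₐ[A] (A ⧸ I₂) ⊗[A] B) ≤ Q := by
      rw [Ideal.map_le_iff_le_comap, h2]
    refine h Q ?_ hB
    rw [Ideal.map_le_iff_le_comap]
    intro x hx
    obtain ⟨a, rfl⟩ := Ideal.Quotient.mk_surjective x
    rw [Ideal.mem_comap]
    have ha : a ∈ maximalIdeal A := by
      rw [mem_maximalIdeal, mem_nonunits_iff] at hx ⊢
      exact fun hu => hx (hu.map _)
    have hb : algebraMap A B a ∈ maximalIdeal B := by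
      rw [mem_maximalIdeal, mem_nonunits_iff] at ha ⊢
      exact fun hu => ha (isUnit_of_map_unit _ _ hu)
    have h3 := hB (Ideal.mem_map_of_mem _ hb)
    have h4 : algebraMap (A ⧸ I₂) ((A ⧸ I₂) ⊗[A] B) (Ideal.Quotient.mk I₂ a) =
        (Algebra.TensorProduct.includeRight : B →ₐ[A] (A ⧸ I₂) ⊗[A] B) (algebraMap A B a) := by
      rw [AlgHom.commutes, IsScalarTower.algebraMap_apply A (A ⧸ I₂) ((A ⧸ I₂) ⊗[A] B)]
      rfl
    rw [h4]
    exact h3

/-- The flattening ideal, quotient version. -/
theorem exists_flattening_ideal' {A B : Type u} [CommRing A] [HenselianLocalRing A] [CommRing B]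
    [IsLocalRing B] [Algebra A B] [IsLocalHom (algebraMap A B)] [Algebra.EssFiniteType A B] :
    ∃ I : Ideal A, I ≤ maximalIdeal A ∧
      (∀ (A' : Type u) [CommRing A'] [IsLocalRing A'] [Algebra A A'] [IsLocalHom (algebraMap A A')],
        (∀ (q : Ideal (A' ⊗[A] B)) [q.IsPrime],
          (maximalIdeal A').map (algebraMap A' (A' ⊗[A] B)) ≤ q →
          (maximalIdeal B).map (Algebra.TensorProduct.includeRight : B →ₐ[A] A' ⊗[A] B) ≤ q →
            Module.Flat A' (Localization.AtPrime q)) → I.map (algebraMap A A') = ⊥) ∧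
      (∀ I₂ : Ideal A, I₂ ≤ maximalIdeal A →
        (Module.Flat (A ⧸ I₂) ((A ⧸ I₂) ⊗[A] B) ↔ I ≤ I₂)) ∧
      (FlatCA.EssFinitePresentation A B → I.FG) := by
  obtain ⟨I, hI, hfg⟩ := exists_flattening_ideal (A := A) (B := B)
  have key : ∀ I₂ : Ideal A, I₂ ≤ maximalIdeal A →
        (Module.Flat (A ⧸ I₂) ((A ⧸ I₂) ⊗[A] B) ↔ I ≤ I₂) := by
    intro I₂ hI₂
    have hne : I₂ ≠ ⊤ := fun h => (maximalIdeal.isMaximal A).ne_top (top_le_iff.1 (h ▸ hI₂))
    have : Nontrivial (A ⧸ I₂) := Ideal.Quotient.nontrivial_iff.2 hne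
    have : IsLocalRing (A ⧸ I₂) :=
      IsLocalRing.of_surjective' (Ideal.Quotient.mk I₂) Ideal.Quotient.mk_surjective
    have : IsLocalHom (algebraMap A (A ⧸ I₂)) :=
      IsLocalHom.of_surjective (algebraMap A (A ⧸ I₂)) Ideal.Quotient.mk_surjective
    rw [flat_quotient_iff I₂ hI₂, hI]
    constructor
    · intro h x hx
      have := Ideal.mem_map_of_mem (algebraMap A (A ⧸ I₂)) hx
      rw [h, Submodule.mem_bot] at this
      exact Ideal.Quotient.eq_zero_iff_mem.1 this
    · intro h
      rw [eq_bot_iff, Ideal.map_le_iff_le_comap]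
      intro x hx
      rw [Ideal.mem_comap, Submodule.mem_bot]
      exact Ideal.Quotient.eq_zero_iff_mem.2 (h hx)
  refine ⟨I, ?_, fun A' _ _ _ _ => (hI A').1, key, hfg⟩
  rw [← key _ le_rfl]
  letI : Field (A ⧸ maximalIdeal A) := Ideal.Quotient.field _
  infer_instance

theorem flat_of_flat_quotient_bot {A B : Type u} [CommRing A] [CommRing B] [Algebra A B]
    (h : Module.Flat (A ⧸ (⊥ : Ideal A)) ((A ⧸ (⊥ : Ideal A)) ⊗[A] B)) : Module.Flat A B := by
  have h1 := FlatDescNil.flat_of_algEquiv (AlgEquiv.quotientBot A A) h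
  exact (Module.Flat.equiv_iff (TensorProduct.lid A B)).1 h1

/-- Descent of flatness from a henselian local ring along an injective local homomorphism
(conditional on 05PG). -/
theorem flat_of_injective {A B A' : Type u} [CommRing A] [HenselianLocalRing A] [CommRing B]
    [IsLocalRing B] [Algebra A B] [IsLocalHom (algebraMap A B)] [Algebra.EssFiniteType A B]
    [CommRing A'] [IsLocalRing A'] [Algebra A A'] [IsLocalHom (algebraMap A A')]
    (hinj : Function.Injective (algebraMap A A'))
    (h : ∀ (q : Ideal (A' ⊗[A] B)) [q.IsPrime],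
          (maximalIdeal A').map (algebraMap A' (A' ⊗[A] B)) ≤ q →
          (maximalIdeal B).map (Algebra.TensorProduct.includeRight : B →ₐ[A] A' ⊗[A] B) ≤ q →
            Module.Flat A' (Localization.AtPrime q)) : Module.Flat A B := by
  obtain ⟨I, _, hI, hflat, _⟩ := exists_flattening_ideal' (A := A) (B := B)
  have h1 := hI A' h
  rw [Ideal.map_eq_bot_iff_of_injective hinj] at h1
  apply flat_of_flat_quotient_bot
  rw [hflat _ bot_le, h1]

/-- Descent of flatness from a henselian local ring with algebraically closed residue field along an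
injective local homomorphism, one point version (conditional on 05PG). -/
theorem flat_of_injective_of_point {A B A' : Type u} [CommRing A] [HenselianLocalRing A]
    [IsAlgClosed (ResidueField A)] [CommRing B]
    [IsLocalRing B] [Algebra A B] [IsLocalHom (algebraMap A B)]
    (hB : FlatCA.EssFinitePresentation A B)
    [CommRing A'] [IsLocalRing A'] [Algebra A A'] [IsLocalHom (algebraMap A A')]
    (hinj : Function.Injective (algebraMap A A'))
    (q : Ideal (A' ⊗[A] B)) [q.IsPrime]
    (hqA : (maximalIdeal A').map (algebraMap A' (A' ⊗[A] B)) ≤ q)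
    (hqB : (maximalIdeal B).map (Algebra.TensorProduct.includeRight : B →ₐ[A] A' ⊗[A] B) ≤ q)
    (hq : Module.Flat A' (Localization.AtPrime q)) : Module.Flat A B := by
  have hft : Algebra.EssFiniteType A B := by
    obtain ⟨S₀, _, _, _, _, M, _, _⟩ := hB
    have : Algebra.EssFiniteType A S₀ := inferInstance
    have : Algebra.EssFiniteType S₀ B := Algebra.EssFiniteType.of_isLocalization B M
    exact Algebra.EssFiniteType.comp A S₀ B
  have hnoeth : IsNoetherianRing (ResidueField A ⊗[A] B) :=
    Algebra.EssFiniteType.isNoetherianRing (ResidueField A) _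
  obtain ⟨I, hIm, _, hflat, hfg⟩ := exists_flattening_ideal' (A := A) (B := B)
  have h1 := FlatUniCore.map_eq_bot_of_flat (V := A') I (hfg hB) hIm ((hflat I hIm).2 le_rfl)
    (fun I₂ hle h2 => (hflat I₂ (hle.trans hIm)).1 h2) q hqA hqB hq
  rw [Ideal.map_eq_bot_iff_of_injective hinj] at h1
  apply flat_of_flat_quotient_bot
  rw [hflat _ bot_le, h1]

end Groth.Agent.Ega43.FlatUniHens
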