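import Groth.Agent.Ega43.FlatUniPt
import Groth.Agent.Hensel.Lazard
import Groth.Agent.Hensel.Exist

/-!
# Descent of flatness along an integral injective base change (conditional on 05PG)
-/

set_option autoImplicit false
universe u
open CategoryTheory AlgebraicGeometry Limits TensorProduct IsLocalRing

namespace Groth.Agent.Ega43.FlatUniInt

open Groth.Agent.Sga3C.FlatPt

/-- Flatness at a point of a base change, through an intermediate base. -/
theorem isFlatAt_of_factor {X S₀ S₁ S₂ P₁ P₂ : Scheme.{u}} {f : X ⟶ S₀} {a : S₁ ⟶ S₀}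
    {fst₁ : P₁ ⟶ X} {snd₁ : P₁ ⟶ S₁} (h₁ : IsPullback fst₁ snd₁ f a) {b : S₂ ⟶ S₀} (c : S₂ ⟶ S₁)
    (hc : c ≫ a = b) {fst₂ : P₂ ⟶ X} {snd₂ : P₂ ⟶ S₂} (h₂ : IsPullback fst₂ snd₂ f b) (v : P₂)
    (H : ∀ v₁ : P₁, fst₁ v₁ = fst₂ v → snd₁ v₁ = c (snd₂ v) → IsFlatAt snd₁ v₁) :
    IsFlatAt snd₂ v := by
  let w : P₂ ⟶ P₁ := h₁.lift fst₂ (snd₂ ≫ c) (by rw [Category.assoc, hc, h₂.w])
  have hw1 : w ≫ fst₁ = fst₂ := h₁.lift_fst _ _ _
  have hw2 : w ≫ snd₁ = snd₂ ≫ c := h₁.lift_snd _ _ _
  have h3 : IsPullback w snd₂ snd₁ c := by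
    refine IsPullback.of_right (h₁₂ := fst₁) (h₂₂ := a) (v₁₃ := f) ?_ hw2 h₁
    rw [hw1, hc]
    exact h₂
  refine IsFlatAt.of_isPullback h3 v (H _ ?_ ?_)
  · rw [← Scheme.Hom.comp_apply, hw1]
  · rw [← Scheme.Hom.comp_apply, hw2, Scheme.Hom.comp_apply]

theorem isFlatAt_of_isIntegral {A A' : Type u} [CommRing A] [CommRing A']
    [Algebra A A'] [Algebra.IsIntegral A A'] (hinj : Function.Injective (algebraMap A A'))
    {X : Scheme.{u}} (f : X ⟶ Spec (CommRingCat.of A)) [LocallyOfFinitePresentation f] (x : X)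
    (h : ∀ x' : ↥(pullback f (Spec.map (CommRingCat.ofHom (algebraMap A A')))),
      pullback.fst f (Spec.map (CommRingCat.ofHom (algebraMap A A'))) x' = x →
      IsFlatAt (pullback.snd f (Spec.map (CommRingCat.ofHom (algebraMap A A')))) x') :
    IsFlatAt f x := by
  let p : PrimeSpectrum A := f x
  let Ap := Localization.AtPrime p.asIdeal
  obtain ⟨S, _, _, _, _, _, -⟩ := Hensel.Exist.exists_isHenselization Ap
  have := Hensel.Lazard.faithfullyFlat_of_isHenselization Ap S
  have hS : HenselianLocalRing S := Hensel.IsHenselization.henselian (R := Ap)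
  let : Algebra A S := ((algebraMap Ap S).comp (algebraMap A Ap)).toAlgebra
  have : IsScalarTower A Ap S := IsScalarTower.of_algebraMap_eq' rfl
  have hflat : Module.Flat A S := Module.Flat.trans A Ap S
  have hcl : f x = Spec.map (CommRingCat.ofHom (algebraMap A S)) (closedPoint S) := by
    apply PrimeSpectrum.ext
    have h1 : (maximalIdeal S).comap (algebraMap Ap S) = maximalIdeal Ap :=
      congrArg PrimeSpectrum.asIdeal (IsLocalRing.comap_closedPoint (algebraMap Ap S))
    have h2 : (maximalIdeal S).comap (algebraMap A S) = p.asIdeal := by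
      change (maximalIdeal S).comap ((algebraMap Ap S).comp (algebraMap A Ap)) = _
      rw [← Ideal.comap_comap, h1]
      exact Localization.AtPrime.under_maximalIdeal
    exact h2.symm
  obtain ⟨y, hy1, hy2⟩ := Scheme.Pullback.exists_preimage_pullback (f := f)
    (g := Spec.map (CommRingCat.ofHom (algebraMap A S))) x (closedPoint S : PrimeSpectrum S) hcl
  refine FlatUniPt.isFlatAt_of_flat_baseChange (V := S) f x y hy1 ?_
  obtain ⟨I, hI, hIV⟩ := FlatUniPt.exists_ideal
    (pullback.snd f (Spec.map (CommRingCat.ofHom (algebraMap A S)))) y hy2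
  apply hI
  let T := S ⊗[A] A'
  have hST : Function.Injective (algebraMap S T) :=
    Algebra.TensorProduct.includeLeft_injective (S := S) hinj
  rw [← Ideal.map_eq_bot_iff_of_injective hST, eq_bot_iff]
  intro t ht
  rw [Submodule.mem_bot]
  apply eq_zero_of_localization
  intro n hn
  have hmax : (n.comap (algebraMap S T)) = maximalIdeal S :=
    IsLocalRing.eq_maximalIdeal (Ideal.isMaximal_comap_of_isIntegral_of_isMaximal n)
  let V := Localization.AtPrime n
  have hloc : IsLocalHom (algebraMap S V) := by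
    rw [isLocalHom_iff_comap_closedPoint]
    apply PrimeSpectrum.ext
    change (maximalIdeal V).comap (algebraMap S V) = maximalIdeal S
    rw [IsScalarTower.algebraMap_eq S T V, ← Ideal.comap_comap]
    rw [← hmax]
    congr 1
    exact Localization.AtPrime.under_maximalIdeal
  have hV := hIV V fun v hv1 hv2 => ?_
  · have h1 : algebraMap T V t ∈ I.map (algebraMap S V) := by
      rw [IsScalarTower.algebraMap_eq S T V, ← Ideal.map_map]
      exact Ideal.mem_map_of_mem _ ht
    rw [hV, Submodule.mem_bot] at h1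
    exact h1
  · let c : Spec (CommRingCat.of V) ⟶ Spec (CommRingCat.of A') := Spec.map (CommRingCat.ofHom
      ((algebraMap T V).comp (Algebra.TensorProduct.includeRight : A' →ₐ[A] T).toRingHom))
    have hc : c ≫ Spec.map (CommRingCat.ofHom (algebraMap A A')) =
        Spec.map (CommRingCat.ofHom (algebraMap S V)) ≫
          Spec.map (CommRingCat.ofHom (algebraMap A S)) := by
      rw [← Spec.map_comp, ← Spec.map_comp, ← CommRingCat.ofHom_comp, ← CommRingCat.ofHom_comp]
      congr 2
      ext a
      change algebraMap T V ((Algebra.TensorProduct.includeRight : A' →ₐ[A] T) (algebraMap A A' a)) =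
        algebraMap S V (algebraMap A S a)
      rw [AlgHom.commutes, IsScalarTower.algebraMap_apply S T V, ← IsScalarTower.algebraMap_apply A S T]
    refine isFlatAt_of_factor (IsPullback.of_hasPullback f
      (Spec.map (CommRingCat.ofHom (algebraMap A A')))) c hc
      ((IsPullback.of_hasPullback (pullback.snd f (Spec.map (CommRingCat.ofHom (algebraMap A S))))
        (Spec.map (CommRingCat.ofHom (algebraMap S V)))).paste_horiz
        (IsPullback.of_hasPullback _ _)) v ?_
    intro v₁ h1 _
    apply h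
    rw [h1, Scheme.Hom.comp_apply, hv1, hy1]

end Groth.Agent.Ega43.FlatUniInt
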