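import Groth.Prelude.Def_CAlg2
import Mathlib.RingTheory.TensorProduct.Basic
import Mathlib.RingTheory.Ideal.GoingUp
import Mathlib.Algebra.CharP.Algebra
import Mathlib.RingTheory.LocalRing.ResidueField.Basic

/-!
# Primes of `A' ⊗ N` for the normalization `N` of a (geometrically) unibranch local domain
-/

set_option autoImplicit false
universe u

namespace Groth.Agent.Ega43.FlatUniV1

open TensorProduct IsLocalRing

/-- There is a prime of `A' ⊗ N` over the zero ideal of `N`. -/
theorem exists_prime {A N A' K : Type u} [CommRing A] [IsDomain A] [CommRing N] [CommRing A']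
    [Algebra A N] [Algebra A A'] [Field K] [Algebra A K] [IsFractionRing A K] (ν : N →ₐ[A] K)
    (hν : Function.Injective ν) (hinj : Function.Injective (algebraMap A A')) :
    ∃ z₀ : Ideal (A' ⊗[A] N), z₀.IsPrime ∧
      ∀ n : N, (Algebra.TensorProduct.includeRight : N →ₐ[A] A' ⊗[A] N) n ∈ z₀ → n = 0 := by
  let M : Submonoid A' := (nonZeroDivisors A).map (algebraMap A A')
  have hdisj : Disjoint ((⊥ : Ideal A') : Set A') M := by
    rw [Set.disjoint_left]
    rintro x hx ⟨a, ha, rfl⟩
    have hx' : algebraMap A A' a = 0 := hx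
    rw [← map_zero (algebraMap A A')] at hx'
    exact nonZeroDivisors.ne_zero ha (hinj hx')
  obtain ⟨q, hq, -, hqM⟩ := Ideal.exists_le_prime_disjoint _ _ hdisj
  let D := A' ⧸ q
  let F := FractionRing D
  let g : A →+* F := (algebraMap D F).comp ((Ideal.Quotient.mk q).comp (algebraMap A A'))
  have hg : Function.Injective g := by
    rw [injective_iff_map_eq_zero]
    intro a ha
    by_contra h0
    have h1 : Ideal.Quotient.mk q (algebraMap A A' a) = 0 :=
      (IsFractionRing.injective D F) (by rw [map_zero]; exact ha)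
    rw [Ideal.Quotient.eq_zero_iff_mem] at h1
    exact Set.disjoint_left.1 hqM h1 ⟨a, mem_nonZeroDivisors_of_ne_zero h0, rfl⟩
  letI : Algebra A F := g.toAlgebra
  let κ : K →+* F := IsFractionRing.lift hg
  have hκ : ∀ a, κ (algebraMap A K a) = g a := fun a => IsFractionRing.lift_algebraMap hg a
  let κ' : K →ₐ[A] F := { κ with commutes' := hκ }
  let d : A' →ₐ[A] F := { (algebraMap D F).comp (Ideal.Quotient.mk q) with commutes' := fun a => rfl }
  let e : A' ⊗[A] N →ₐ[A] F := Algebra.TensorProduct.productMap d (κ'.comp ν)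
  refine ⟨RingHom.ker e, RingHom.ker_isPrime _, fun n hn => ?_⟩
  rw [RingHom.mem_ker] at hn
  have h1 : e ((Algebra.TensorProduct.includeRight : N →ₐ[A] A' ⊗[A] N) n) = κ (ν n) := by
    simp only [e, Algebra.TensorProduct.includeRight_apply, Algebra.TensorProduct.productMap_apply_tmul,
      map_one, one_mul]
    rfl
  rw [h1] at hn
  exact hν (by rw [map_zero]; exact κ.injective (by rw [hn, map_zero]))

section Unique

variable {A N A' : Type u} [CommRing A] [CommRing N] [CommRing A'] [Algebra A N] [Algebra A A']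
  [IsLocalRing N] (p : ℕ) [ExpChar (N ⧸ maximalIdeal N) p]
  (hpi : ∀ x : N, ∃ (n : ℕ) (a : A), x ^ p ^ n - algebraMap A N a ∈ maximalIdeal N)

include hpi in
/-- If the residue field of `N` is purely inseparable over `A`, the primes of `A' ⊗ N` over the
maximal ideal of `N` are determined by their trace on `A'`. -/
theorem le_of_comap_le (P Q : Ideal (A' ⊗[A] N)) [P.IsPrime] [Q.IsPrime]
    (hP : (maximalIdeal N).map (Algebra.TensorProduct.includeRight : N →ₐ[A] A' ⊗[A] N) ≤ P)
    (hQ : (maximalIdeal N).map (Algebra.TensorProduct.includeRight : N →ₐ[A] A' ⊗[A] N) ≤ Q)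
    (h : P.comap (algebraMap A' (A' ⊗[A] N)) ≤ Q.comap (algebraMap A' (A' ⊗[A] N))) : P ≤ Q := by
  let J := P ⊓ Q
  let W := (A' ⊗[A] N) ⧸ J
  have hJ : J ≠ ⊤ := fun hJ => (inferInstance : P.IsPrime).ne_top (top_le_iff.1 (hJ ▸ inf_le_left))
  have : Nontrivial W := Ideal.Quotient.nontrivial_iff.2 hJ
  let iR : N →+* A' ⊗[A] N := (Algebra.TensorProduct.includeRight : N →ₐ[A] A' ⊗[A] N).toRingHom
  have hm : ∀ n ∈ maximalIdeal N, iR n ∈ J := fun n hn =>
    ⟨hP (Ideal.mem_map_of_mem _ hn), hQ (Ideal.mem_map_of_mem _ hn)⟩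
  let ρ : N ⧸ maximalIdeal N →+* W := Ideal.Quotient.lift _ ((Ideal.Quotient.mk J).comp iR)
    (fun n hn => Ideal.Quotient.eq_zero_iff_mem.2 (hm n hn))
  letI : Field (N ⧸ maximalIdeal N) := Ideal.Quotient.field _
  have hexp : ExpChar W p := expChar_of_injective_ringHom ρ.injective p
  have key : ∀ t : A' ⊗[A] N, ∃ (m : ℕ) (a' : A'),
      (Ideal.Quotient.mk J t) ^ p ^ m = Ideal.Quotient.mk J (algebraMap A' _ a') := by
    intro t
    induction t with
    | zero => exact ⟨0, 0, by simp⟩
    | tmul a' n =>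
      obtain ⟨m, a, ha⟩ := hpi n
      refine ⟨m, a' ^ p ^ m * algebraMap A A' a, ?_⟩
      rw [← map_pow, Ideal.Quotient.eq]
      have h1 : (a' ⊗ₜ[A] n) ^ p ^ m - algebraMap A' (A' ⊗[A] N) (a' ^ p ^ m * algebraMap A A' a) =
          (a' ^ p ^ m) ⊗ₜ[A] (1 : N) * iR (n ^ p ^ m - algebraMap A N a) := by
        change _ = _ * ((1 : A') ⊗ₜ[A] (n ^ p ^ m - algebraMap A N a))
        rw [Algebra.TensorProduct.tmul_pow, Algebra.TensorProduct.tmul_mul_tmul, mul_one, one_mul,
          TensorProduct.tmul_sub]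
        congr 1
        rw [Algebra.TensorProduct.algebraMap_apply, Algebra.algebraMap_self, RingHom.id_apply,
          Algebra.algebraMap_eq_smul_one a, Algebra.algebraMap_eq_smul_one a, TensorProduct.tmul_smul,
          mul_smul_comm, mul_one, TensorProduct.smul_tmul']
      rw [h1]
      exact Ideal.mul_mem_left _ _ (hm _ ha)
    | add s t hs ht =>
      obtain ⟨m, a, hs⟩ := hs
      obtain ⟨l, b, ht⟩ := ht
      refine ⟨m + l, a ^ p ^ l + b ^ p ^ m, ?_⟩
      rw [map_add, add_pow_expChar_pow, map_add, map_add]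
      congr 1
      · rw [pow_add, pow_mul, hs, ← map_pow, ← map_pow]
      · rw [add_comm m l, pow_add, pow_mul, ht, ← map_pow, ← map_pow]
  intro t ht
  obtain ⟨m, a', hm'⟩ := key t
  rw [← map_pow, Ideal.Quotient.eq] at hm'
  have h1 : algebraMap A' (A' ⊗[A] N) a' ∈ P := by
    have h2 : t ^ p ^ m ∈ P := Ideal.pow_mem_of_mem P ht _ (pow_pos (expChar_pos W p) m)
    exact (Submodule.sub_mem_iff_right P h2).1 hm'.1
  have h2 : algebraMap A' (A' ⊗[A] N) a' ∈ Q := h h1
  exact Ideal.IsPrime.mem_of_pow_mem inferInstance _ ((Submodule.sub_mem_iff_left Q h2).1 hm'.2)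

end Unique

end Groth.Agent.Ega43.FlatUniV1
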