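import Groth.Agent.Ega43.FlatUniInt
import Groth.Agent.Ega43.FlatUniDom
import Groth.Agent.Ega43.FlatUniAC
import Groth.Agent.Ega43.FlatUniV1

/-!
# Descent of flatness over unibranch local domains (conditional on 05PG)
-/

set_option autoImplicit false
universe u
open CategoryTheory AlgebraicGeometry Limits TensorProduct IsLocalRing

namespace Groth.Agent.Ega43.FlatUniMain

open Groth.Agent.Sga3C.FlatPt

/-- Flatness at a point of a base change, through an intermediate base, one point version. -/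
theorem isFlatAt_of_factor_point {X S₀ S₁ S₂ P₁ P₂ T : Scheme.{u}} {f : X ⟶ S₀} {a : S₁ ⟶ S₀}
    {fst₁ : P₁ ⟶ X} {snd₁ : P₁ ⟶ S₁} (h₁ : IsPullback fst₁ snd₁ f a) {b : S₂ ⟶ S₀} (c : S₂ ⟶ S₁)
    (hc : c ≫ a = b) {fst₂ : P₂ ⟶ X} {snd₂ : P₂ ⟶ S₂} (h₂ : IsPullback fst₂ snd₂ f b)
    (t : T ⟶ P₂) (t₁ : T ⟶ P₁) (e1 : t₁ ≫ fst₁ = t ≫ fst₂) (e2 : t₁ ≫ snd₁ = t ≫ snd₂ ≫ c)
    (p : T) (H : IsFlatAt snd₁ (t₁ p)) : IsFlatAt snd₂ (t p) := by
  let w : P₂ ⟶ P₁ := h₁.lift fst₂ (snd₂ ≫ c) (by rw [Category.assoc, hc, h₂.w])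
  have hw1 : w ≫ fst₁ = fst₂ := h₁.lift_fst _ _ _
  have hw2 : w ≫ snd₁ = snd₂ ≫ c := h₁.lift_snd _ _ _
  have h3 : IsPullback w snd₂ snd₁ c := by
    refine IsPullback.of_right (h₁₂ := fst₁) (h₂₂ := a) (v₁₃ := f) ?_ hw2 h₁
    rw [hw1, hc]
    exact h₂
  have h4 : t ≫ w = t₁ := by
    apply h₁.hom_ext
    · rw [Category.assoc, hw1, e1]
    · rw [Category.assoc, hw2, e2]
  refine IsFlatAt.of_isPullback h3 (t p) ?_
  rw [← Scheme.Hom.comp_apply, h4]
  exact H

theorem core {A N C A' Λ V₁ : Type u} [CommRing A] [CommRing N] [IsDomain N] [IsIntegrallyClosed N]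
    [CommRing C] [IsDomain C] [Algebra A N] [Algebra N C] [Algebra A C] [IsScalarTower A N C]
    [Algebra.IsIntegral N C] [FaithfulSMul N C] (hC : Flat2E.AIC1.IsAIC C)
    [CommRing A'] [Algebra A A'] [CommRing V₁] [IsDomain V₁] [Algebra N V₁]
    (hNV : Function.Injective (algebraMap N V₁)) (α : A' →+* V₁)
    (hα : α.comp (algebraMap A A') = (algebraMap N V₁).comp (algebraMap A N)) [Field Λ]
    {X : Scheme.{u}} (f : X ⟶ Spec (CommRingCat.of A)) [LocallyOfFinitePresentation f]
    (c : C →+* Λ) (v : V₁ →+* Λ) (hvc : v.comp (algebraMap N V₁) = c.comp (algebraMap N C))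
    (s : Spec (CommRingCat.of Λ) ⟶ X)
    (h1 : s ≫ f = Spec.map (CommRingCat.ofHom (v.comp α)) ≫
      Spec.map (CommRingCat.ofHom (algebraMap A A')))
    (h2 : s ≫ f = Spec.map (CommRingCat.ofHom c) ≫ Spec.map (CommRingCat.ofHom (algebraMap A C)))
    (H : IsFlatAt (pullback.snd f (Spec.map (CommRingCat.ofHom (algebraMap A A'))))
      (pullback.lift s (Spec.map (CommRingCat.ofHom (v.comp α))) h1 (closedPoint Λ))) :
    IsFlatAt (pullback.snd f (Spec.map (CommRingCat.ofHom (algebraMap A C))))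
      (pullback.lift s (Spec.map (CommRingCat.ofHom c)) h2 (closedPoint Λ)) := by
  obtain ⟨V, _, _, _, i, j, l, hl, hj, hij, hli, hlj⟩ :=
    FlatUniDom.exists_local_domain hNV v c hvc
  let n : Ideal C := RingHom.ker c
  have hn : n.IsPrime := RingHom.ker_isPrime _
  let R := Localization.AtPrime n
  obtain ⟨hH, hAC⟩ := FlatUniAC.henselian_of_isAIC hC n
  have hlj' : ∀ y : C, l (j y) = c y := fun y => DFunLike.congr_fun hlj y
  have hunit : ∀ y : n.primeCompl, IsUnit (j y) := fun y => by
    apply isUnit_of_map_unit l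
    rw [hlj', isUnit_iff_ne_zero]
    exact fun h => y.2 h
  let jR : R →+* V := IsLocalization.lift hunit
  have hjR : ∀ y : C, jR (algebraMap C R y) = j y := fun y => IsLocalization.lift_eq hunit y
  have hinj : Function.Injective jR := by
    rw [injective_iff_map_eq_zero]
    intro x hx
    obtain ⟨⟨a, s⟩, has⟩ := IsLocalization.surj n.primeCompl x
    have h3 : j a = 0 := by rw [← hjR, ← has, map_mul, hx, zero_mul]
    have h4 : a = 0 := hj (by rw [h3, map_zero])
    rw [h4, map_zero] at has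
    exact (IsUnit.mul_left_eq_zero (IsLocalization.map_units R s)).1 has
  have hloc : IsLocalHom jR := by
    refine ⟨fun x hx => ?_⟩
    obtain ⟨⟨a, s⟩, has⟩ := IsLocalization.surj n.primeCompl x
    have h3 : IsUnit (j a) := by
      rw [← hjR, ← has, map_mul, hjR]
      exact hx.mul (hunit s)
    have h4 : a ∈ n.primeCompl := fun h4 => by
      have := h3.map l
      rw [hlj', (RingHom.mem_ker).1 h4] at this
      exact not_isUnit_zero this
    have h5 := IsLocalization.map_units R (⟨a, h4⟩ : n.primeCompl)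
    rw [← has] at h5
    exact isUnit_of_mul_isUnit_left h5
  letI : Algebra R V := jR.toAlgebra
  have hloc' : IsLocalHom (algebraMap R V) := hloc
  let cR : R →+* Λ := l.comp jR
  have hcR : cR.comp (algebraMap C R) = c := by
    ext y
    change l (jR (algebraMap C R y)) = c y
    rw [hjR, hlj']
  have hcRloc : IsLocalHom cR := RingHom.isLocalHom_comp _ _
  let sC := pullback.lift s (Spec.map (CommRingCat.ofHom c)) h2
  have hsC2 : sC ≫ pullback.snd _ _ = Spec.map (CommRingCat.ofHom c) := pullback.lift_snd _ _ _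
  let gC := pullback.snd f (Spec.map (CommRingCat.ofHom (algebraMap A C)))
  let g := pullback.snd gC (Spec.map (CommRingCat.ofHom (algebraMap C R)))
  let sY : Spec (CommRingCat.of Λ) ⟶ pullback gC (Spec.map (CommRingCat.ofHom (algebraMap C R))) :=
    pullback.lift sC (Spec.map (CommRingCat.ofHom cR)) (by
      rw [hsC2, ← Spec.map_comp, ← CommRingCat.ofHom_comp, hcR])
  have hsY1 : sY ≫ pullback.fst _ _ = sC := pullback.lift_fst _ _ _
  have hsY2 : sY ≫ g = Spec.map (CommRingCat.ofHom cR) := pullback.lift_snd _ _ _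
  let sV : Spec (CommRingCat.of Λ) ⟶ pullback g (Spec.map (CommRingCat.ofHom (algebraMap R V))) :=
    pullback.lift sY (Spec.map (CommRingCat.ofHom l)) (by
      rw [hsY2, ← Spec.map_comp, ← CommRingCat.ofHom_comp])
  have hsV1 : sV ≫ pullback.fst _ _ = sY := pullback.lift_fst _ _ _
  have hsV2 : sV ≫ pullback.snd _ _ = Spec.map (CommRingCat.ofHom l) := pullback.lift_snd _ _ _
  refine FlatUniPt.isFlatAt_of_flat_baseChange (S := C) (V := R) gC _ (sY (closedPoint Λ)) ?_ ?_
  · rw [← Scheme.Hom.comp_apply, hsY1]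
  · refine FlatUniPt.isFlatAt_of_injective (S := R) g (sY (closedPoint Λ)) ?_ hinj
      (sV (closedPoint Λ)) ?_ ?_ ?_
    · rw [← Scheme.Hom.comp_apply, hsY2]
      exact IsLocalRing.comap_closedPoint cR
    · rw [← Scheme.Hom.comp_apply, hsV1]
    · rw [← Scheme.Hom.comp_apply, hsV2]
      exact IsLocalRing.comap_closedPoint l
    · have hc : Spec.map (CommRingCat.ofHom (i.comp α)) ≫
          Spec.map (CommRingCat.ofHom (algebraMap A A')) =
          Spec.map (CommRingCat.ofHom (algebraMap R V)) ≫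
            Spec.map (CommRingCat.ofHom (algebraMap C R)) ≫
              Spec.map (CommRingCat.ofHom (algebraMap A C)) := by
        rw [← Spec.map_comp, ← Spec.map_comp, ← Spec.map_comp, ← CommRingCat.ofHom_comp,
          ← CommRingCat.ofHom_comp, ← CommRingCat.ofHom_comp]
        congr 2
        rw [RingHom.comp_assoc, hα, ← RingHom.comp_assoc, hij]
        ext a
        change j (algebraMap N C (algebraMap A N a)) = jR (algebraMap C R (algebraMap A C a))
        rw [hjR, ← IsScalarTower.algebraMap_apply]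
      refine isFlatAt_of_factor_point (IsPullback.of_hasPullback f
        (Spec.map (CommRingCat.ofHom (algebraMap A A')))) _ hc
        ((IsPullback.of_hasPullback g (Spec.map (CommRingCat.ofHom (algebraMap R V)))).paste_horiz
          ((IsPullback.of_hasPullback gC (Spec.map (CommRingCat.ofHom (algebraMap C R)))).paste_horiz
          (IsPullback.of_hasPullback _ _))) sV (pullback.lift s
            (Spec.map (CommRingCat.ofHom (v.comp α))) h1) ?_ ?_ (closedPoint Λ) H
      · rw [pullback.lift_fst, ← Category.assoc, hsV1, ← Category.assoc, hsY1, pullback.lift_fst]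
      · rw [pullback.lift_snd, ← Category.assoc, hsV2, ← Spec.map_comp, ← CommRingCat.ofHom_comp,
          ← RingHom.comp_assoc, hli]

end Groth.Agent.Ega43.FlatUniMain
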