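import Groth.Agent.Ega43.FlatUniHens
import Groth.Agent.Sga3C.FlatPt
import Mathlib.AlgebraicGeometry.PullbackCarrier
import Mathlib.AlgebraicGeometry.Morphisms.FinitePresentation

/-!
# Descent of flatness from henselian local rings, schemes version (conditional on 05PG)
-/

set_option autoImplicit false
universe u
open CategoryTheory AlgebraicGeometry Limits TensorProduct IsLocalRing

namespace Groth.Agent.Ega43.FlatUniPt

open Groth.Agent.Sga3C.FlatPt

theorem isFlatAt_Spec_iff {A B : Type u} [CommRing A] [CommRing B] [Algebra A B]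
    (q : Ideal B) [hq : q.IsPrime] :
    IsFlatAt (Spec.map (CommRingCat.ofHom (algebraMap A B))) (⟨q, hq⟩ : PrimeSpectrum B) ↔
      Module.Flat A (Localization.AtPrime q) := by
  let x : Spec (CommRingCat.of B) := (⟨q, hq⟩ : PrimeSpectrum B)
  change Flat ((Spec (CommRingCat.of B)).fromSpecStalk x ≫ Spec.map (CommRingCat.ofHom (algebraMap A B))) ↔ _
  rw [Spec.fromSpecStalk_eq]
  rw [← Spec.map_comp, Flat.SpecMap_iff]
  let : Algebra B ((Spec (CommRingCat.of B)).presheaf.stalk x) :=
    StructureSheaf.stalkAlgebra B (⟨q, hq⟩ : PrimeSpectrum B)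
  have hl : IsLocalization.AtPrime ((Spec (CommRingCat.of B)).presheaf.stalk x) q :=
    StructureSheaf.IsLocalization.to_stalk B (⟨q, hq⟩ : PrimeSpectrum B)
  let e := IsLocalization.algEquiv q.primeCompl (Localization.AtPrime q)
    ((Spec (CommRingCat.of B)).presheaf.stalk x)
  let : Algebra A ((Spec (CommRingCat.of B)).presheaf.stalk x) :=
    ((algebraMap B ((Spec (CommRingCat.of B)).presheaf.stalk x)).comp (algebraMap A B)).toAlgebra
  have : IsScalarTower A B ((Spec (CommRingCat.of B)).presheaf.stalk x) :=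
    IsScalarTower.of_algebraMap_eq' rfl
  have h : Module.Flat A ((Spec (CommRingCat.of B)).presheaf.stalk x) ↔
      Module.Flat A (Localization.AtPrime q) :=
    (Module.Flat.equiv_iff (e.restrictScalars A).toLinearEquiv).symm
  exact h

theorem comap_eq_maximalIdeal {L T : Type u} [CommRing L] [IsLocalRing L] [CommRing T]
    (φ : L →+* T) (q : Ideal T) [hq : q.IsPrime] (h : (maximalIdeal L).map φ ≤ q) :
    q.comap φ = maximalIdeal L :=
  le_antisymm (IsLocalRing.le_maximalIdeal (Ideal.comap_ne_top φ hq.ne_top))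
    (Ideal.map_le_iff_le_comap.1 h)

/-- The local ring at a point of a scheme locally of finite presentation over `S`. -/
theorem exists_localModel {S : Type u} [CommRing S] {Y : Scheme.{u}}
    (g : Y ⟶ Spec (CommRingCat.of S)) [LocallyOfFinitePresentation g] (y : Y) :
    ∃ (L : Type u) (_ : CommRing L) (_ : IsLocalRing L) (_ : Algebra S L)
      (j : Spec (CommRingCat.of L) ⟶ Y), Flat j ∧
        j ≫ g = Spec.map (CommRingCat.ofHom (algebraMap S L)) ∧ j (closedPoint L) = y ∧
        FlatCA.EssFinitePresentation S L := by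
  obtain ⟨U, hU, hyU, -⟩ := exists_isAffineOpen_mem_and_subset (U := ⊤) (x := y) trivial
  let B := Γ(Y, U)
  let q := hU.primeIdealOf ⟨y, hyU⟩
  have hq : hU.fromSpec q = y := hU.fromSpec_primeIdealOf ⟨y, hyU⟩
  have : IsOpenImmersion hU.fromSpec := hU.isOpenImmersion_fromSpec
  let φ : CommRingCat.of S ⟶ Γ(Y, U) := Spec.preimage (hU.fromSpec ≫ g)
  have hφ : Spec.map φ = hU.fromSpec ≫ g := Spec.map_preimage _
  have hfp : φ.hom.FinitePresentation := by
    rw [← LocallyOfFinitePresentation.SpecMap_iff, hφ]
    infer_instance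
  let : Algebra S B := φ.hom.toAlgebra
  have hfp' : Algebra.FinitePresentation S B := hfp
  let L := Localization.AtPrime q.asIdeal
  refine ⟨L, inferInstance, inferInstance, inferInstance,
    Spec.map (CommRingCat.ofHom (algebraMap B L)) ≫ hU.fromSpec, ?_, ?_, ?_, ?_⟩
  · have : Flat (Spec.map (CommRingCat.ofHom (algebraMap B L))) := by
      rw [Flat.SpecMap_iff]
      exact (RingHom.flat_algebraMap_iff (R := B) (S := L)).mpr
        (IsLocalization.flat L q.asIdeal.primeCompl)
    infer_instance
  · rw [Category.assoc, ← hφ, ← Spec.map_comp]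
    rfl
  · rw [Scheme.Hom.comp_apply, ← hq]
    congr 1
    apply PrimeSpectrum.ext
    exact Localization.AtPrime.under_maximalIdeal
  · exact ⟨B, inferInstance, inferInstance, inferInstance, inferInstance, q.asIdeal.primeCompl,
      hfp', inferInstance⟩

section Local

variable {S : Type u} [CommRing S] [IsLocalRing S] {Y : Scheme.{u}}
    (g : Y ⟶ Spec (CommRingCat.of S)) (y : Y) (hy : g y = closedPoint S)
    {L : Type u} [CommRing L] [IsLocalRing L] [Algebra S L] (j : Spec (CommRingCat.of L) ⟶ Y)
    (hjg : j ≫ g = Spec.map (CommRingCat.ofHom (algebraMap S L))) (hjy : j (closedPoint L) = y)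

include hy hjg hjy in
theorem isLocalHom_of_point : IsLocalHom (algebraMap S L) := by
  rw [isLocalHom_iff_comap_closedPoint]
  change Spec.map (CommRingCat.ofHom (algebraMap S L)) (closedPoint L) = _
  rw [← hjg, Scheme.Hom.comp_apply, hjy, hy]

include hjg hjy in
/-- Flatness at a point, in terms of the local ring. -/
theorem isFlatAt_of_flat_local [Flat j] (h : Module.Flat S L) : IsFlatAt g y := by
  rw [← hjy]
  refine IsFlatAt.of_comp (isFlatAt_of_flat j _) ?_
  rw [hjg]
  have : Flat (Spec.map (CommRingCat.ofHom (algebraMap S L))) := by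
    rw [Flat.SpecMap_iff]
    exact (RingHom.flat_algebraMap_iff (R := S) (S := L)).mpr h
  exact isFlatAt_of_flat _ _

variable {V : Type u} [CommRing V] [Algebra S V]

/-- `Spec (V ⊗ L) → Y_V`. -/
noncomputable def toBC : Spec (CommRingCat.of (V ⊗[S] L)) ⟶
    pullback g (Spec.map (CommRingCat.ofHom (algebraMap S V))) :=
  pullback.lift (Spec.map (CommRingCat.ofHom
    (Algebra.TensorProduct.includeRight : L →ₐ[S] V ⊗[S] L).toRingHom) ≫ j)
    (Spec.map (CommRingCat.ofHom (algebraMap V (V ⊗[S] L)))) (by
      rw [Category.assoc, hjg, ← Spec.map_comp, ← Spec.map_comp, ← CommRingCat.ofHom_comp,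
        ← CommRingCat.ofHom_comp]
      congr 2
      ext s
      exact (AlgHom.commutes (Algebra.TensorProduct.includeRight : L →ₐ[S] V ⊗[S] L) s).trans
        (IsScalarTower.algebraMap_apply S V (V ⊗[S] L) s))

theorem toBC_fst : toBC g j hjg (V := V) ≫ pullback.fst _ _ =
    Spec.map (CommRingCat.ofHom
      (Algebra.TensorProduct.includeRight : L →ₐ[S] V ⊗[S] L).toRingHom) ≫ j :=
  pullback.lift_fst _ _ _

theorem toBC_snd : toBC g j hjg (V := V) ≫ pullback.snd _ _ =
    Spec.map (CommRingCat.ofHom (algebraMap V (V ⊗[S] L))) :=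
  pullback.lift_snd _ _ _

theorem isPullback_tensor : IsPullback (Spec.map (CommRingCat.ofHom (algebraMap V (V ⊗[S] L))))
    (Spec.map (CommRingCat.ofHom
      (Algebra.TensorProduct.includeRight : L →ₐ[S] V ⊗[S] L).toRingHom))
    (Spec.map (CommRingCat.ofHom (algebraMap S V)))
    (Spec.map (CommRingCat.ofHom (algebraMap S L))) :=
  isPullback_SpecMap_of_isPushout _ _ _ _ (CommRingCat.isPushout_tensorProduct S V L)

theorem isPullback_toBC : IsPullback (toBC g j hjg (V := V))
    (Spec.map (CommRingCat.ofHom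
      (Algebra.TensorProduct.includeRight : L →ₐ[S] V ⊗[S] L).toRingHom))
    (pullback.fst g (Spec.map (CommRingCat.ofHom (algebraMap S V)))) j := by
  refine IsPullback.of_right (h₁₂ := pullback.snd _ _) (h₂₂ := g)
    (v₁₃ := Spec.map (CommRingCat.ofHom (algebraMap S V))) ?_ (toBC_fst g j hjg)
    (IsPullback.of_hasPullback _ _).flip
  rw [toBC_snd, hjg]
  exact isPullback_tensor

end Local

section Main

variable {S : Type u} [CommRing S] {Y : Scheme.{u}}
    (g : Y ⟶ Spec (CommRingCat.of S)) [LocallyOfFinitePresentation g] (y : Y)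

/-- Scheme version of the flattening ideal. -/
theorem exists_ideal [HenselianLocalRing S] (hy : g y = closedPoint S) :
    ∃ I : Ideal S, (I = ⊥ → IsFlatAt g y) ∧
      ∀ (V : Type u) [CommRing V] [IsLocalRing V] [Algebra S V] [IsLocalHom (algebraMap S V)],
        (∀ v : ↥(pullback g (Spec.map (CommRingCat.ofHom (algebraMap S V)))),
          pullback.fst g (Spec.map (CommRingCat.ofHom (algebraMap S V))) v = y →
          pullback.snd g (Spec.map (CommRingCat.ofHom (algebraMap S V))) v = closedPoint V →
            IsFlatAt (pullback.snd g (Spec.map (CommRingCat.ofHom (algebraMap S V)))) v) →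
        I.map (algebraMap S V) = ⊥ := by
  obtain ⟨L, _, _, _, j, hj, hjg, hjy, hL⟩ := exists_localModel g y
  have := isLocalHom_of_point g y hy j hjg hjy
  have hft : Algebra.EssFiniteType S L := by
    obtain ⟨S₀, _, _, _, _, M, _, _⟩ := hL
    have : Algebra.EssFiniteType S S₀ := inferInstance
    have : Algebra.EssFiniteType S₀ L := Algebra.EssFiniteType.of_isLocalization L M
    exact Algebra.EssFiniteType.comp S S₀ L
  obtain ⟨I, -, hI, hflat, -⟩ := FlatUniHens.exists_flattening_ideal' (A := S) (B := L)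
  refine ⟨I, fun h0 => ?_, fun V _ _ _ _ H => ?_⟩
  · apply isFlatAt_of_flat_local g y j hjg hjy
    apply FlatUniHens.flat_of_flat_quotient_bot
    rw [hflat _ bot_le, h0]
  · apply hI
    intro q hq hqV hqL
    rw [← isFlatAt_Spec_iff, ← toBC_snd g j hjg]
    have h1 := isPullback_toBC g j hjg (V := V)
    have h2 : Flat (toBC g j hjg (V := V)) :=
      MorphismProperty.of_isPullback (P := @Flat) h1.flip hj
    refine IsFlatAt.comp (isFlatAt_of_flat _ _) (H _ ?_ ?_)
    · rw [← Scheme.Hom.comp_apply, toBC_fst, Scheme.Hom.comp_apply, ← hjy]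
      congr 1
      apply PrimeSpectrum.ext
      exact comap_eq_maximalIdeal
        (Algebra.TensorProduct.includeRight : L →ₐ[S] V ⊗[S] L).toRingHom q hqL
    · rw [← Scheme.Hom.comp_apply, toBC_snd]
      apply PrimeSpectrum.ext
      exact comap_eq_maximalIdeal (algebraMap V (V ⊗[S] L)) q hqV

/-- One point descent of flatness from a henselian local ring with algebraically closed residue
field, along an injective local homomorphism. -/
theorem isFlatAt_of_injective [HenselianLocalRing S] [IsAlgClosed (ResidueField S)]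
    (hy : g y = closedPoint S) {V : Type u} [CommRing V] [IsLocalRing V] [Algebra S V]
    [IsLocalHom (algebraMap S V)] (hinj : Function.Injective (algebraMap S V))
    (v : ↥(pullback g (Spec.map (CommRingCat.ofHom (algebraMap S V)))))
    (hvy : pullback.fst g (Spec.map (CommRingCat.ofHom (algebraMap S V))) v = y)
    (hvV : pullback.snd g (Spec.map (CommRingCat.ofHom (algebraMap S V))) v = closedPoint V)
    (hv : IsFlatAt (pullback.snd g (Spec.map (CommRingCat.ofHom (algebraMap S V)))) v) :
    IsFlatAt g y := by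
  obtain ⟨L, _, _, _, j, hj, hjg, hjy, hL⟩ := exists_localModel g y
  have := isLocalHom_of_point g y hy j hjg hjy
  have h1 := isPullback_toBC g j hjg (V := V)
  have h2 : Flat (toBC g j hjg (V := V)) :=
    MorphismProperty.of_isPullback (P := @Flat) h1.flip hj
  obtain ⟨z, hz1, hz2⟩ := Scheme.Pullback.exists_preimage_pullback
    (f := pullback.fst g (Spec.map (CommRingCat.ofHom (algebraMap S V)))) (g := j) v
    (closedPoint L) (by rw [hvy, hjy])
  let Q : Spec (CommRingCat.of (V ⊗[S] L)) := h1.isoPullback.inv z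
  have hQ1 : toBC g j hjg Q = v := by
    rw [← hz1, ← h1.isoPullback_inv_fst, Scheme.Hom.comp_apply]
  have hQ2 : Spec.map (CommRingCat.ofHom
      (Algebra.TensorProduct.includeRight : L →ₐ[S] V ⊗[S] L).toRingHom) Q = closedPoint L := by
    rw [← hz2, ← h1.isoPullback_inv_snd, Scheme.Hom.comp_apply]
  have hQ3 : Spec.map (CommRingCat.ofHom (algebraMap V (V ⊗[S] L))) Q = closedPoint V := by
    rw [← toBC_snd g j hjg, Scheme.Hom.comp_apply, hQ1, hvV]
  have hq : (PrimeSpectrum.asIdeal Q).IsPrime := PrimeSpectrum.isPrime Q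
  apply isFlatAt_of_flat_local g y j hjg hjy
  refine FlatUniHens.flat_of_injective_of_point hL hinj (PrimeSpectrum.asIdeal Q) ?_ ?_ ?_
  · rw [Ideal.map_le_iff_le_comap]
    exact (congrArg PrimeSpectrum.asIdeal hQ3).ge
  · rw [Ideal.map_le_iff_le_comap]
    exact (congrArg PrimeSpectrum.asIdeal hQ2).ge
  · rw [← isFlatAt_Spec_iff, ← toBC_snd g j hjg]
    refine IsFlatAt.comp (isFlatAt_of_flat _ _) ?_
    change IsFlatAt _ (toBC g j hjg Q)
    rw [hQ1]
    exact hv

omit [LocallyOfFinitePresentation g] in
/-- Flatness at a point descends along a flat base change. -/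
theorem isFlatAt_of_flat_baseChange {V : Type u} [CommRing V] [Algebra S V] [Module.Flat S V]
    (v : ↥(pullback g (Spec.map (CommRingCat.ofHom (algebraMap S V)))))
    (hvy : pullback.fst g (Spec.map (CommRingCat.ofHom (algebraMap S V))) v = y)
    (hv : IsFlatAt (pullback.snd g (Spec.map (CommRingCat.ofHom (algebraMap S V)))) v) :
    IsFlatAt g y := by
  have h1 : Flat (Spec.map (CommRingCat.ofHom (algebraMap S V))) := by
    rw [Flat.SpecMap_iff]
    exact (RingHom.flat_algebraMap_iff (R := S) (S := V)).mpr inferInstance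
  rw [← hvy]
  refine IsFlatAt.of_comp (isFlatAt_of_flat _ _) ?_
  rw [pullback.condition]
  exact IsFlatAt.comp hv (isFlatAt_of_flat _ _)

end Main

end Groth.Agent.Ega43.FlatUniPt
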