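import Mathlib.Algebra.Module.FinitePresentation
import Mathlib.RingTheory.FinitePresentation
import Mathlib.RingTheory.TensorProduct.IsBaseChangeRightExact
import Mathlib.RingTheory.TensorProduct.IsBaseChangePi
import Mathlib.RingTheory.TensorProduct.MvPolynomial
import Mathlib.RingTheory.FiniteType
import Mathlib.RingTheory.Polynomial.Basic

/-!
# Noetherian models of finitely presented modules

`exists_model` : if `B` is a finitely presented `A`-algebra and `M` a finitely presented `B`-module,
there are a `ℤ`-subalgebra of finite type `A₀` of `A` and a finite module `M₀` over some polynomial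
ring `A₀[x_1, …, x_n]` with `A ⊗[A₀] M₀ ≃ₗ[A] M`.
-/

set_option autoImplicit false

open TensorProduct Module

namespace Groth.Agent.Ega43.FpModModel

universe u v w

attribute [local instance] MvPolynomial.algebraMvPolynomial

/-- Model for a finitely presented module over a polynomial ring. -/
theorem exists_model_mvPolynomial {A : Type u} [CommRing A] (n : ℕ) (M : Type v) [AddCommGroup M]
    [Module (MvPolynomial (Fin n) A) M] [Module A M] [IsScalarTower A (MvPolynomial (Fin n) A) M]
    [Module.FinitePresentation (MvPolynomial (Fin n) A) M] :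
    ∃ (s : Finset A), ∀ A₀ : Subalgebra ℤ A, (s : Set A) ⊆ A₀ →
      ∃ (M₀ : Type u) (_ : AddCommGroup M₀)
      (_ : Module A₀ M₀) (_ : Module (MvPolynomial (Fin n) A₀) M₀)
      (_ : IsScalarTower A₀ (MvPolynomial (Fin n) A₀) M₀),
      Module.Finite (MvPolynomial (Fin n) A₀) M₀ ∧
      Nonempty (A ⊗[A₀] M₀ ≃ₗ[A] M) := by
  classical
  obtain ⟨r, m, g, f, hg, hfg⟩ :=
    Module.FinitePresentation.exists_fin' (MvPolynomial (Fin n) A) M
  let s : Finset A := Finset.univ.biUnion fun j : Fin m => Finset.univ.biUnion fun i : Fin r =>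
    (f (Pi.single j 1) i).coeffs
  refine ⟨s, fun A₀ hA₀ => ?_⟩
  have hcoeff : ∀ j i, f (Pi.single j 1) i ∈ Set.range (MvPolynomial.map (σ := Fin n)
      (algebraMap A₀ A)) := by
    intro j i
    rw [MvPolynomial.mem_range_map_iff_coeffs_subset]
    intro a ha
    refine ⟨⟨a, hA₀ ?_⟩, rfl⟩
    rw [Finset.mem_coe, Finset.mem_biUnion]
    refine ⟨j, Finset.mem_univ _, ?_⟩
    rw [Finset.mem_biUnion]
    exact ⟨i, Finset.mem_univ _, ha⟩
  choose v hv using hcoeff
  let P₀ := MvPolynomial (Fin n) A₀
  let P := MvPolynomial (Fin n) A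
  have hmap : ∀ x : P₀, algebraMap P₀ P x = MvPolynomial.map (algebraMap A₀ A) x := fun x => rfl
  let f₀ : (Fin m → P₀) →ₗ[P₀] (Fin r → P₀) := Fintype.linearCombination P₀ v
  have h0 : IsBaseChange P (Algebra.linearMap P₀ P) := IsBaseChange.linearMap P₀ P
  let h₁ : (Fin m → P₀) →ₗ[P₀] (Fin m → P) := (Algebra.linearMap P₀ P).compLeft (Fin m)
  let h₂ : (Fin r → P₀) →ₗ[P₀] (Fin r → P) := (Algebra.linearMap P₀ P).compLeft (Fin r)
  have comm₁ : h₂.comp f₀ = (f.restrictScalars P₀).comp h₁ := by
    refine LinearMap.pi_ext' fun j => ?_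
    refine LinearMap.ext_ring (funext fun i => ?_)
    have : (Algebra.linearMap P₀ P).compLeft (Fin m) (Pi.single j (1 : P₀)) =
        Pi.single j (1 : P) := by
      ext1 k
      by_cases hk : k = j
      · subst hk; simp
      · simp [hk]
    simp only [LinearMap.comp_apply, LinearMap.coe_single, f₀, Fintype.linearCombination_apply_single,
      one_smul, h₁, h₂, LinearMap.restrictScalars_apply]
    rw [this, ← hv, ← hmap]
    rfl
  let N₀ := LinearMap.range f₀
  let M₀ := (Fin r → P₀) ⧸ N₀
  let _ : Module P₀ M := Module.compHom M (algebraMap P₀ P)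
  have : IsScalarTower P₀ P M := IsScalarTower.of_algebraMap_smul (fun r x => rfl)
  let h₃ : M₀ →ₗ[P₀] M := N₀.liftQ ((g.restrictScalars P₀).comp h₂) (by
    rintro _ ⟨x, rfl⟩
    rw [LinearMap.mem_ker, LinearMap.comp_apply, ← LinearMap.comp_apply h₂ f₀, comm₁]
    exact hfg.apply_apply_eq_zero _)
  have comm₂ : h₃.comp N₀.mkQ = (g.restrictScalars P₀).comp h₂ := N₀.liftQ_mkQ _ _
  have hbc : IsBaseChange P h₃ :=
    IsBaseChange.of_right_exact P h₁ h₂ h₃ comm₁ comm₂ (h0.finitePow (Fin m)) (h0.finitePow (Fin r))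
      (LinearMap.exact_map_mkQ_range f₀) N₀.mkQ_surjective hfg hg
  refine ⟨M₀, inferInstance, inferInstance, inferInstance, inferInstance, inferInstance, ?_⟩
  refine ⟨(Algebra.IsPushout.cancelBaseChange A₀ A P₀ P M₀).symm ≪≫ₗ
    hbc.equiv.restrictScalars A⟩

/-- Noetherian model of a finitely presented module over a finitely presented algebra. -/
theorem exists_model (A : Type u) (B : Type w) [CommRing A] [CommRing B] [Algebra A B]
    [Algebra.FinitePresentation A B] (M : Type v) [AddCommGroup M] [Module B M] [Module A M]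
    [IsScalarTower A B M] [Module.FinitePresentation B M] :
    ∃ (n : ℕ) (s : Finset A), ∀ A₀ : Subalgebra ℤ A, (s : Set A) ⊆ A₀ →
      ∃ (M₀ : Type u) (_ : AddCommGroup M₀)
      (_ : Module A₀ M₀) (_ : Module (MvPolynomial (Fin n) A₀) M₀)
      (_ : IsScalarTower A₀ (MvPolynomial (Fin n) A₀) M₀),
      Module.Finite (MvPolynomial (Fin n) A₀) M₀ ∧
      Nonempty (A ⊗[A₀] M₀ ≃ₗ[A] M) := by
  obtain ⟨n, f, hf, hker⟩ := Algebra.FinitePresentation.out (R := A) (A := B)
  let P := MvPolynomial (Fin n) A
  let _ : Algebra P B := f.toAlgebra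
  have : IsScalarTower A P B := IsScalarTower.of_algebraMap_eq (fun a => (f.commutes a).symm)
  let _ : Module P M := Module.compHom M f.toRingHom
  have : IsScalarTower P B M := IsScalarTower.of_algebraMap_smul (fun r x => rfl)
  have : IsScalarTower A P M := IsScalarTower.of_algebraMap_smul (fun a x => by
    change f (algebraMap A P a) • x = a • x
    rw [f.commutes, algebraMap_smul])
  have h1 : Module.FinitePresentation P B :=
    Module.finitePresentation_of_surjective (Algebra.linearMap P B) hf hker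
  have h2 : Module.FinitePresentation P M := Module.FinitePresentation.trans P M B
  obtain ⟨s, hs⟩ := exists_model_mvPolynomial (A := A) n M
  exact ⟨n, s, hs⟩

/-- Same, with a Noetherian subring of finite type over `ℤ` chosen. -/
theorem exists_model' (A : Type u) (B : Type w) [CommRing A] [CommRing B] [Algebra A B]
    [Algebra.FinitePresentation A B] (M : Type v) [AddCommGroup M] [Module B M] [Module A M]
    [IsScalarTower A B M] [Module.FinitePresentation B M] :
    ∃ (A₀ : Subalgebra ℤ A) (n : ℕ) (M₀ : Type u) (_ : AddCommGroup M₀)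
      (_ : Module A₀ M₀) (_ : Module (MvPolynomial (Fin n) A₀) M₀)
      (_ : IsScalarTower A₀ (MvPolynomial (Fin n) A₀) M₀),
      IsNoetherianRing A₀ ∧ Module.Finite (MvPolynomial (Fin n) A₀) M₀ ∧
      Nonempty (A ⊗[A₀] M₀ ≃ₗ[A] M) := by
  obtain ⟨n, s, hs⟩ := exists_model A B M
  obtain ⟨M₀, i1, i2, i3, i4, h1, h2⟩ := hs (Algebra.adjoin ℤ (s : Set A)) Algebra.subset_adjoin
  have : Algebra.FiniteType ℤ (Algebra.adjoin ℤ (s : Set A)) :=
    (Subalgebra.fg_iff_finiteType _).mp (Subalgebra.fg_adjoin_finset s)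
  exact ⟨_, n, M₀, i1, i2, i3, i4, Algebra.FiniteType.isNoetherianRing ℤ _, h1, h2⟩

end Groth.Agent.Ega43.FpModModel
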