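import Groth.Agent.Ega43.FreeStrat
import Groth.Agent.Ega43.FpModModel
import Groth.Agent.Ega43.FlatLocusAway

/-!
# EGA IV 11.4.6
-/

set_option autoImplicit false

open TensorProduct

namespace Groth.Agent.Ega43.FreeNear

universe u

/-- EGA IV 11.4.6, given the openness of the flat locus. -/
theorem exists_free_away {A B : Type u} [CommRing A] [CommRing B] [Algebra A B]
    [Algebra.FinitePresentation A B] (p : Ideal A) [p.IsPrime] (hp : minimalPrimes A = {p})
    (M : Type u) [AddCommGroup M] [Module B M] [Module A M] [IsScalarTower A B M]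
    [Module.FinitePresentation B M]
    (hopen : IsOpen {q : PrimeSpectrum B |
      Module.Flat A (LocalizedModule q.asIdeal.primeCompl M)})
    (hflat : Module.Flat (Localization.AtPrime p) (LocalizedModule p.primeCompl M)) :
    ∃ t : A, t ∉ p ∧
      Module.Free (Localization.Away t) (LocalizedModule (Submonoid.powers t) M) := by
  -- `p` is the nilradical and every prime contained in `p` is `p`
  have hpmin : ∀ p' : Ideal A, p'.IsPrime → p' ≤ p → p' = p := by
    intro p' hp' hle
    have hmem : p ∈ minimalPrimes A := by rw [hp]; exact Set.mem_singleton p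
    exact le_antisymm hle (hmem.2 ⟨hp', bot_le⟩ hle)
  have hnil : ∀ a ∈ p, IsNilpotent a := by
    intro a ha
    rw [← mem_nilradical, nilradical, ← Ideal.sInf_minimalPrimes]
    change a ∈ sInf (minimalPrimes A)
    rw [hp, sInf_singleton]
    exact ha
  -- the flat locus
  obtain ⟨t₀, ht₀, hU⟩ := Ega43.FlatLocusAway.exists_notMem_of_isOpen p hpmin
    {q : PrimeSpectrum B | Module.Flat A (LocalizedModule q.asIdeal.primeCompl M)}
    hopen
    (fun q hq => Ega43.FlatLocusAway.flat_of_flat_atPrime M p hflat q.asIdeal hq.le)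
  -- the model
  obtain ⟨A₀, n, M₀, _, _, _, _, hN, hfin, ⟨e⟩⟩ := Ega43.FpModModel.exists_model' A B M
  obtain ⟨l, hl, hl'⟩ := Ega43.FreeStrat.exists_list.{u, u, u, u}
    (R := A₀) (S := MvPolynomial (Fin n) A₀) M₀ ⊥
  -- the first element of the list not in `p`
  have hex : ∃ i, ∃ hi : i < l.length, algebraMap A₀ A l[i] ∉ p := by
    by_contra hcon
    push Not at hcon
    have h1 : Ideal.span {a | a ∈ l} ≤ p.comap (algebraMap A₀ A) := by
      rw [Ideal.span_le]
      intro a ha
      obtain ⟨i, hi, rfl⟩ := List.getElem_of_mem ha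
      exact hcon i hi
    rw [bot_sup_eq] at hl
    rw [hl, top_le_iff] at h1
    exact (Ideal.IsPrime.comap (algebraMap A₀ A) (K := p)).ne_top h1
  classical
  let i := Nat.find hex
  obtain ⟨hi, hip⟩ : ∃ hi : i < l.length, algebraMap A₀ A l[i] ∉ p := Nat.find_spec hex
  have hlt : ∀ a ∈ l.take i, algebraMap A₀ A a ∈ p := by
    intro a ha
    obtain ⟨j, hj, rfl⟩ := List.getElem_of_mem ha
    rw [List.length_take, lt_min_iff] at hj
    rw [List.getElem_take]
    by_contra hcon
    exact Nat.find_min hex hj.1 ⟨hj.2, hcon⟩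
  let t : A := t₀ * algebraMap A₀ A l[i]
  have ht : t ∉ p := fun hmem => (‹p.IsPrime›.mem_or_mem hmem).elim ht₀ hip
  refine ⟨t, ht, ?_⟩
  let A' := Localization.Away t
  have hflat' : Module.Flat A' (A' ⊗[A] M) := by
    refine Ega43.FlatLocusAway.flat_localizationAway_of_forall (B := B) M t (fun q hq hqt => ?_)
    refine hU ⟨q, hq⟩ (fun hmem => hqt ?_)
    change algebraMap A B (t₀ * algebraMap A₀ A l[i]) ∈ q
    rw [map_mul]
    exact q.mul_mem_right _ hmem
  let J : Ideal A' := (Ideal.span {a | a ∈ (l.take i)}).map (algebraMap A₀ A')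
  have hJ : IsNilpotent J := by
    have h1 : (Ideal.span {a : A₀ | a ∈ (l.take i)}).FG :=
      Submodule.fg_span (List.finite_toSet (l.take i))
    have h2 : J.FG := h1.map _
    have h3 : J ≤ nilradical A' := by
      rw [Ideal.map_le_iff_le_comap, Ideal.span_le]
      intro a ha
      change IsNilpotent (algebraMap A₀ A' a)
      exact (hnil _ (hlt a ha)).map (algebraMap A A')
    obtain ⟨k, hk⟩ := Ideal.exists_pow_le_of_le_radical_of_fg h3 h2
    exact ⟨k, le_bot_iff.mp hk⟩
  let A'' := A' ⧸ J
  have hfree : Module.Free A'' (A'' ⊗[A₀] M₀) := by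
    refine hl' i hi A'' (fun a ha => ?_) (fun a ha => ?_) ?_ ?_
    · rw [Ideal.mem_bot.mp ha, map_zero]
    · change Ideal.Quotient.mk J (algebraMap A₀ A' a) = 0
      rw [Ideal.Quotient.eq_zero_iff_mem]
      exact Ideal.mem_map_of_mem _ (Ideal.subset_span ha)
    · change IsUnit (Ideal.Quotient.mk J (algebraMap A A' (algebraMap A₀ A l[i])))
      apply IsUnit.map
      have h1 : IsUnit (algebraMap A A' t) := IsLocalization.Away.algebraMap_isUnit t
      rw [map_mul, IsUnit.mul_iff] at h1
      exact h1.2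
    · exact Module.Flat.of_linearEquiv
        (((AlgebraTensorModule.cancelBaseChange A₀ A A'' A'' M₀).symm ≪≫ₗ
        (AlgebraTensorModule.congr (LinearEquiv.refl A'' A'') e)) ≪≫ₗ
        (AlgebraTensorModule.cancelBaseChange A A' A'' A'' M).symm)
  have hfree' : Module.Free A'' (A'' ⊗[A'] (A' ⊗[A] M)) :=
    Module.Free.of_equiv (((AlgebraTensorModule.cancelBaseChange A₀ A A'' A'' M₀).symm ≪≫ₗ
        (AlgebraTensorModule.congr (LinearEquiv.refl A'' A'') e)) ≪≫ₗ
        (AlgebraTensorModule.cancelBaseChange A A' A'' A'' M).symm)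
  have hfree'' : Module.Free A' (A' ⊗[A] M) :=
    Ega43.NilpotentFree.free_of_nilpotent J hJ
  exact Module.Free.of_equiv (LocalizedModule.equivTensorProduct (Submonoid.powers t) M).symm

end Groth.Agent.Ega43.FreeNear
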