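import Mathlib.RingTheory.Flat.EquationalCriterion
import Mathlib.LinearAlgebra.TensorProduct.Quotient
import Mathlib.LinearAlgebra.TensorProduct.Basis
import Groth.Agent.Ega43.NilpotentFlat

/-!
# Freeness and nilpotent ideals

* `exists_basis_of_flat` : if `J` is nilpotent, `M` is flat over `A` and `(m k)` reduces to a basis
  of `M / J M`, then `(m k)` is a basis of `M`.
* `free_of_nilpotent` : `M` flat and `M / J M` free over `A / J`, `J` nilpotent implies `M` free.
* `free_of_nilpotent_of_injective` : EGA IV 11.4.1.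
-/

set_option autoImplicit false

open TensorProduct Module

namespace Groth.Agent.Ega43.NilpotentFree

universe u v w w' t

variable {A : Type u} [CommRing A] {M : Type w} [AddCommGroup M] [Module A M]

theorem one_tmul_eq_zero_iff (J : Ideal A) (x : M) :
    (1 : A ⧸ J) ⊗ₜ[A] x = 0 ↔ x ∈ J • (⊤ : Submodule A M) := by
  rw [← (quotTensorEquivQuotSMul M J).map_eq_zero_iff, ← Submodule.Quotient.mk_eq_zero]
  have : (1 : A ⧸ J) = Ideal.Quotient.mk J 1 := rfl
  rw [this, quotTensorEquivQuotSMul_mk_tmul, one_smul]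

/-- Lifts of a basis of `M / J M` generate `M`. -/
theorem linearCombination_surjective (J : Ideal A) (hJ : IsNilpotent J) {κ : Type t}
    (b : Basis κ (A ⧸ J) ((A ⧸ J) ⊗[A] M)) (m : κ → M) (hm : ∀ k, 1 ⊗ₜ m k = b k) :
    Function.Surjective (Finsupp.linearCombination A m) := by
  rw [← LinearMap.range_eq_top]
  apply NilpotentFlat.eq_top_of_sup_smul_eq_top J hJ
  rw [eq_top_iff]
  intro x _
  -- write `1 ⊗ x` in the basis
  have h1 : ∀ c : κ →₀ (A ⧸ J), ∃ y ∈ LinearMap.range (Finsupp.linearCombination A m),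
      (1 : A ⧸ J) ⊗ₜ[A] y = Finsupp.linearCombination (A ⧸ J) b c := by
    intro c
    induction c using Finsupp.induction_linear with
    | zero => exact ⟨0, zero_mem _, by simp⟩
    | add c d hc hd =>
      obtain ⟨y, hy, hy'⟩ := hc
      obtain ⟨z, hz, hz'⟩ := hd
      exact ⟨y + z, add_mem hy hz, by rw [tmul_add, hy', hz', map_add]⟩
    | single k a =>
      obtain ⟨a, rfl⟩ := Ideal.Quotient.mk_surjective a
      refine ⟨a • m k, ⟨Finsupp.single k a, by simp⟩, ?_⟩
      rw [Finsupp.linearCombination_single, ← hm, tmul_smul, smul_tmul', smul_tmul']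
      rfl
  obtain ⟨y, hy, hy'⟩ := h1 (b.repr (1 ⊗ₜ x))
  rw [b.linearCombination_repr] at hy'
  have h2 : x - y ∈ J • (⊤ : Submodule A M) := by
    rw [← one_tmul_eq_zero_iff, tmul_sub, hy', sub_self]
  rw [Submodule.mem_sup]
  exact ⟨y, hy, x - y, h2, by abel⟩

/-- Relations between lifts of a basis of `M / J M` have coefficients in `J`. -/
theorem mem_of_linearCombination_eq_zero (J : Ideal A) {κ : Type t}
    (b : Basis κ (A ⧸ J) ((A ⧸ J) ⊗[A] M)) (m : κ → M) (hm : ∀ k, 1 ⊗ₜ m k = b k)
    (x : κ →₀ A) (hx : Finsupp.linearCombination A m x = 0) (k : κ) : x k ∈ J := by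
  have h1 : ∀ y : κ →₀ A, (1 : A ⧸ J) ⊗ₜ[A] (Finsupp.linearCombination A m y) =
      Finsupp.linearCombination (A ⧸ J) b (y.mapRange (Ideal.Quotient.mk J) (map_zero _)) := by
    intro y
    induction y using Finsupp.induction_linear with
    | zero => simp
    | add c d hc hd =>
      rw [map_add, tmul_add, hc, hd, ← map_add, Finsupp.mapRange_add (map_add _)]
    | single k a =>
      rw [Finsupp.mapRange_single, Finsupp.linearCombination_single,
        Finsupp.linearCombination_single, ← hm, tmul_smul, smul_tmul', smul_tmul']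
      rfl
  have h2 := h1 x
  rw [hx, tmul_zero] at h2
  have h3 : x.mapRange (Ideal.Quotient.mk J) (map_zero _) = 0 :=
    b.linearIndependent (by rw [← h2, map_zero])
  have h4 := DFunLike.congr_fun h3 k
  rw [Finsupp.mapRange_apply, Finsupp.zero_apply] at h4
  exact Ideal.Quotient.eq_zero_iff_mem.mp h4

/-- if `M` is flat, relations among lifts of a basis are trivial. -/
theorem linearIndependent_of_flat (J : Ideal A) (hJ : IsNilpotent J) [Module.Flat A M]
    {κ : Type t} (b : Basis κ (A ⧸ J) ((A ⧸ J) ⊗[A] M)) (m : κ → M)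
    (hm : ∀ k, 1 ⊗ₜ m k = b k) : LinearIndependent A m := by
  have hsurj := linearCombination_surjective J hJ b m hm
  rw [linearIndependent_iff, ← LinearMap.ker_eq_bot']
  apply NilpotentFlat.eq_bot_of_le_smul J hJ
  intro x hx
  rw [LinearMap.mem_ker] at hx
  have hxJ := mem_of_linearCombination_eq_zero J b m hm x hx
  -- the relation `∑ x k • m k = 0` is trivial
  have hsum : ∑ k : x.support, x k • m k = 0 := by
    rw [← hx, Finsupp.linearCombination_apply, Finsupp.sum]
    exact Finset.sum_coe_sort x.support (fun k => x k • m k)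
  obtain ⟨l, a, y, hy, ha⟩ := Module.Flat.isTrivialRelation_of_sum_smul_eq_zero hsum
  choose y' hy' using fun j => hsurj (y j)
  have hdecomp : x = ∑ k : x.support, x k • (Finsupp.single (k : κ) (1 : A) -
      ∑ j, a k j • y' j) := by
    simp only [smul_sub, Finset.sum_sub_distrib]
    have e1 : ∑ k : x.support, x k • (Finsupp.single (k : κ) (1 : A)) = x := by
      rw [Finset.sum_coe_sort x.support (fun k => x k • (Finsupp.single k (1 : A)))]
      conv_rhs => rw [← x.sum_single]
      rw [Finsupp.sum]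
      refine Finset.sum_congr rfl fun k _ => ?_
      simp
    have e2 : ∑ k : x.support, x k • ∑ j, a k j • y' j = 0 := by
      simp only [Finset.smul_sum, smul_smul]
      rw [Finset.sum_comm]
      refine Finset.sum_eq_zero fun j _ => ?_
      rw [← Finset.sum_smul, ha j, zero_smul]
    rw [e1, e2, sub_zero]
  rw [hdecomp]
  refine Submodule.sum_mem _ fun k _ => ?_
  apply Submodule.smul_mem_smul (hxJ k)
  rw [LinearMap.mem_ker, map_sub, Finsupp.linearCombination_single, one_smul, map_sum, sub_eq_zero]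
  have : ∑ j, Finsupp.linearCombination A m (a k j • y' j) = ∑ j, a k j • y j := by
    refine Finset.sum_congr rfl fun j _ => ?_
    rw [map_smul, hy']
  rw [this]
  exact hy k

/-- `J` nilpotent, `M` flat and `M / J M` free with basis the images of `m`: then `m` is a basis. -/
theorem exists_basis_of_flat (J : Ideal A) (hJ : IsNilpotent J) [Module.Flat A M]
    {κ : Type t} (b : Basis κ (A ⧸ J) ((A ⧸ J) ⊗[A] M)) (m : κ → M)
    (hm : ∀ k, 1 ⊗ₜ m k = b k) : ∃ b' : Basis κ A M, ⇑b' = m := by
  refine ⟨Basis.mk (linearIndependent_of_flat J hJ b m hm) ?_, Basis.coe_mk _ _⟩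
  rw [← Finsupp.range_linearCombination,
    LinearMap.range_eq_top.mpr (linearCombination_surjective J hJ b m hm)]

theorem exists_lift (J : Ideal A) (z : (A ⧸ J) ⊗[A] M) : ∃ m : M, 1 ⊗ₜ m = z := by
  induction z with
  | zero => exact ⟨0, by simp⟩
  | add x y hx hy =>
    obtain ⟨m, rfl⟩ := hx
    obtain ⟨n, rfl⟩ := hy
    exact ⟨m + n, by rw [tmul_add]⟩
  | tmul a m =>
    obtain ⟨a, rfl⟩ := Ideal.Quotient.mk_surjective a
    refine ⟨a • m, ?_⟩
    rw [tmul_smul, smul_tmul']
    congr 1
    rw [Algebra.smul_def, mul_one]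
    rfl

/-- A flat module which is free modulo a nilpotent ideal is free. -/
theorem free_of_nilpotent (J : Ideal A) (hJ : IsNilpotent J) [Module.Flat A M]
    [Module.Free (A ⧸ J) ((A ⧸ J) ⊗[A] M)] : Module.Free A M := by
  let b := Module.Free.chooseBasis (A ⧸ J) ((A ⧸ J) ⊗[A] M)
  choose m hm using fun k => exists_lift J (b k)
  obtain ⟨b', -⟩ := exists_basis_of_flat J hJ b m hm
  exact Module.Free.of_basis b'

/-- EGA IV 11.4.1: freeness descends along a jointly injective family of ring maps, for modules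
which are free modulo a nilpotent ideal. (flatness over the `B i` is enough). -/
theorem free_of_nilpotent_of_injective (J : Ideal A) (hJ : IsNilpotent J)
    {ι : Type w'} (B : ι → Type v) [∀ i, CommRing (B i)] [∀ i, Algebra A (B i)]
    (hB : ∀ a : A, (∀ i, algebraMap A (B i) a = 0) → a = 0)
    (hflat : ∀ i, Module.Flat (B i) (B i ⊗[A] M))
    (hJM : Module.Free (A ⧸ J) ((A ⧸ J) ⊗[A] M)) : Module.Free A M := by
  let b := Module.Free.chooseBasis (A ⧸ J) ((A ⧸ J) ⊗[A] M)
  choose m hm using fun k => exists_lift J (b k)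
  have hsurj := linearCombination_surjective J hJ b m hm
  have hli : LinearIndependent A m := by
    rw [linearIndependent_iff]
    intro x hx
    ext k
    rw [Finsupp.zero_apply]
    apply hB
    intro i
    let J' : Ideal (B i) := J.map (algebraMap A (B i))
    have hJ' : IsNilpotent J' := by
      obtain ⟨n, hn⟩ := hJ
      exact ⟨n, by rw [← Ideal.map_pow, hn, Submodule.zero_eq_bot, Ideal.map_bot,
        Submodule.zero_eq_bot]⟩
    let _ : Algebra (A ⧸ J) (B i ⧸ J') :=
      (Ideal.quotientMap J' (algebraMap A (B i)) Ideal.le_comap_map).toAlgebra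
    have : IsScalarTower A (A ⧸ J) (B i ⧸ J') := IsScalarTower.of_algebraMap_eq (fun a => rfl)
    let e : (B i ⧸ J') ⊗[A ⧸ J] ((A ⧸ J) ⊗[A] M) ≃ₗ[B i ⧸ J'] (B i ⧸ J') ⊗[B i] (B i ⊗[A] M) :=
      (AlgebraTensorModule.cancelBaseChange A (A ⧸ J) (B i ⧸ J') (B i ⧸ J') M) ≪≫ₗ
        (AlgebraTensorModule.cancelBaseChange A (B i) (B i ⧸ J') (B i ⧸ J') M).symm
    let b' : Basis _ (B i ⧸ J') ((B i ⧸ J') ⊗[B i] (B i ⊗[A] M)) :=
      (b.baseChange (B i ⧸ J')).map e
    have hb' : ∀ k, (1 : B i ⧸ J') ⊗ₜ ((1 : B i) ⊗ₜ[A] m k) = b' k := by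
      intro k
      simp only [b', Basis.map_apply, Basis.baseChange_apply, ← hm, e]
      simp
    have := hflat i
    obtain ⟨c, hc⟩ := exists_basis_of_flat J' hJ' b' (fun k => (1 : B i) ⊗ₜ[A] m k) hb'
    have h1 : ∀ y : _ →₀ A, (1 : B i) ⊗ₜ[A] (Finsupp.linearCombination A m y) =
        Finsupp.linearCombination (B i) c (y.mapRange (algebraMap A (B i)) (map_zero _)) := by
      intro y
      induction y using Finsupp.induction_linear with
      | zero => simp
      | add c d hc hd =>
        rw [map_add, tmul_add, hc, hd, ← map_add, Finsupp.mapRange_add (map_add _)]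
      | single k a =>
        rw [Finsupp.mapRange_single, Finsupp.linearCombination_single,
          Finsupp.linearCombination_single, hc, tmul_smul, smul_tmul', smul_tmul',
          Algebra.smul_def, smul_eq_mul]
    have h2 := h1 x
    rw [hx, tmul_zero] at h2
    have h3 : x.mapRange (algebraMap A (B i)) (map_zero _) = 0 :=
      c.linearIndependent (by rw [← h2, map_zero])
    have h4 := DFunLike.congr_fun h3 k
    rwa [Finsupp.mapRange_apply, Finsupp.zero_apply] at h4
  refine Module.Free.of_basis (Basis.mk hli ?_)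
  rw [← Finsupp.range_linearCombination, LinearMap.range_eq_top.mpr hsurj]

end Groth.Agent.Ega43.NilpotentFree
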