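import Mathlib.RingTheory.Ideal.MinimalPrime.Noetherian
import Mathlib.RingTheory.Ideal.MinimalPrime.Colon
import Groth.Agent.FlatA.GenericFree2
import Groth.Agent.Ega43.NilpotentFree

/-!
# Free strata of a flat module of finite type over an algebra of finite type

`exists_list` : `R` Noetherian, `S` a finite type `R`-algebra, `N` a finite `S`-module: there are
`l : List R` generating the unit ideal such that for every `R`-algebra `A'` in which `l[i]` is
invertible and the `l[j]`, `j < i`, vanish, if `A' ⊗ N` is flat then `A' ⊗ N` is free.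
-/

set_option autoImplicit false

open TensorProduct Module

namespace Groth.Agent.Ega43.FreeStrat

universe u v w w'

attribute [local instance] Algebra.TensorProduct.rightAlgebra

theorem exists_prime_pow_mul_le {R : Type u} [CommRing R] [IsNoetherianRing R] (I : Ideal R)
    (hI : I ≠ ⊤) : ∃ (p : Ideal R) (_ : p.IsPrime) (n : ℕ) (t : R), I ≤ p ∧ t ∉ p ∧
      ∀ x ∈ p ^ n, t * x ∈ I := by
  classical
  obtain ⟨p, hp⟩ := Ideal.nonempty_minimalPrimes hI
  have hpp : p.IsPrime := hp.isPrime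
  obtain ⟨n, hn⟩ := I.exists_radical_pow_le_of_fg I.radical.fg_of_isNoetherianRing
  have hn0 : n ≠ 0 := by
    rintro rfl
    rw [pow_zero, Ideal.one_eq_top, top_le_iff] at hn
    exact hI hn
  have h := I.finite_minimalPrimes_of_isNoetherianRing R
  rw [← I.sInf_minimalPrimes, ← h.coe_toFinset, ← h.toFinset.inf_id_eq_sInf,
    ← Finset.insert_erase (h.mem_toFinset.mpr hp), Finset.inf_insert, id_eq] at hn
  grw [← Ideal.mul_le_inf, mul_pow] at hn
  have hJ : ¬ ((h.toFinset.erase p).inf id) ^ n ≤ p := by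
    have (K : Ideal R) (hKI : K ≤ p) (hK : K ∈ I.minimalPrimes) : K = p :=
      le_antisymm hKI (hp.2 hK.1 hKI)
    simp only [hp.isPrime.pow_le_iff hn0, hp.isPrime.inf_le', not_exists, not_and]
    intro x hx hle
    rw [Finset.mem_erase, h.mem_toFinset] at hx
    exact hx.1 (this x hle hx.2)
  obtain ⟨t, ht, htp⟩ := SetLike.not_le_iff_exists.mp hJ
  refine ⟨p, hpp, n, t, hp.1.2, htp, fun x hx => hn ?_⟩
  exact mul_comm x t ▸ Ideal.mul_mem_mul hx ht

/-- Freeness of `A' ⊗[R] N` for `A'` killing `I`, inverting `t`. -/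
theorem free_of_flat_of_pow_mul_le {R : Type u} [CommRing R] {S : Type v} [CommRing S] [Algebra R S]
    [Algebra.FiniteType R S] (N : Type w) [AddCommGroup N] [Module S N] [Module R N]
    [IsScalarTower R S N] [Module.Finite S N] (I p : Ideal R) [p.IsPrime] (n : ℕ) (t : R)
    (ht : t ∉ p) (hpn : ∀ x ∈ p ^ n, t * x ∈ I) :
    ∃ t' : R, t' ∉ p ∧ ∀ (A' : Type w') [CommRing A'] [Algebra R A'],
      (∀ a ∈ I, algebraMap R A' a = 0) → IsUnit (algebraMap R A' t') →
      Module.Flat A' (A' ⊗[R] N) → Module.Free A' (A' ⊗[R] N) := by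
  let R' := R ⧸ p
  let S' := R' ⊗[R] S
  let e₀ : S' ⊗[S] N ≃ₗ[R'] R' ⊗[R] N := Algebra.IsPushout.cancelBaseChange R R' S S' N
  obtain ⟨f, hf, hfree⟩ := FlatA.GenericFree.genFree_of_finiteType (R := R') S' (S' ⊗[S] N)
  obtain ⟨f, rfl⟩ := Ideal.Quotient.mk_surjective f
  have hfp : f ∉ p := fun h => hf (Ideal.Quotient.eq_zero_iff_mem.mpr h)
  have hfree' := hfree.free_tensor (Localization.Away (Ideal.Quotient.mk p f))
  refine ⟨t * f, fun h => (‹p.IsPrime›.mem_or_mem h).elim ht hfp, ?_⟩
  intro A' _ _ hI htf hflat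
  rw [map_mul, IsUnit.mul_iff] at htf
  let J : Ideal A' := p.map (algebraMap R A')
  have hJ : IsNilpotent J := by
    refine ⟨n, ?_⟩
    rw [Submodule.zero_eq_bot, ← Ideal.map_pow, Ideal.map_eq_bot_iff_le_ker]
    intro x hx
    have h1 := hI _ (hpn x hx)
    rw [map_mul] at h1
    exact htf.1.mul_right_eq_zero.mp h1
  let _ : Algebra R' (A' ⧸ J) :=
    (Ideal.quotientMap J (algebraMap R A') Ideal.le_comap_map).toAlgebra
  have : IsScalarTower R R' (A' ⧸ J) := IsScalarTower.of_algebraMap_eq (fun a => rfl)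
  have hu : IsUnit (algebraMap R' (A' ⧸ J) (Ideal.Quotient.mk p f)) := by
    have : algebraMap R' (A' ⧸ J) (Ideal.Quotient.mk p f) =
      Ideal.Quotient.mk J (algebraMap R A' f) := rfl
    rw [this]
    exact htf.2.map _
  let L := Localization.Away (Ideal.Quotient.mk p f)
  let _ : Algebra L (A' ⧸ J) := (IsLocalization.Away.lift (Ideal.Quotient.mk p f) hu).toAlgebra
  have : IsScalarTower R' L (A' ⧸ J) := IsScalarTower.of_algebraMap_eq
    (fun a => (IsLocalization.Away.lift_eq (Ideal.Quotient.mk p f) hu a).symm)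
  have : Module.Free (A' ⧸ J) ((A' ⧸ J) ⊗[A'] (A' ⊗[R] N)) := by
    let e : (A' ⧸ J) ⊗[L] (L ⊗[R'] (S' ⊗[S] N)) ≃ₗ[A' ⧸ J] (A' ⧸ J) ⊗[A'] (A' ⊗[R] N) :=
      (AlgebraTensorModule.cancelBaseChange R' L (A' ⧸ J) (A' ⧸ J) (S' ⊗[S] N)) ≪≫ₗ
        (AlgebraTensorModule.congr (LinearEquiv.refl (A' ⧸ J) (A' ⧸ J)) e₀) ≪≫ₗ
        (AlgebraTensorModule.cancelBaseChange R R' (A' ⧸ J) (A' ⧸ J) N) ≪≫ₗ
        (AlgebraTensorModule.cancelBaseChange R A' (A' ⧸ J) (A' ⧸ J) N).symm
    exact Module.Free.of_equiv e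
  exact NilpotentFree.free_of_nilpotent J hJ

theorem exists_list {R : Type u} [CommRing R] [IsNoetherianRing R] {S : Type v} [CommRing S]
    [Algebra R S] [Algebra.FiniteType R S] (N : Type w) [AddCommGroup N] [Module S N] [Module R N]
    [IsScalarTower R S N] [Module.Finite S N] (I : Ideal R) :
    ∃ l : List R, I ⊔ Ideal.span {a | a ∈ l} = ⊤ ∧
      ∀ (i : ℕ) (hi : i < l.length) (A' : Type w') [CommRing A'] [Algebra R A'],
        (∀ a ∈ I, algebraMap R A' a = 0) → (∀ a ∈ l.take i, algebraMap R A' a = 0) →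
        IsUnit (algebraMap R A' l[i]) →
        Module.Flat A' (A' ⊗[R] N) → Module.Free A' (A' ⊗[R] N) := by
  induction I using IsNoetherian.induction with
  | hgt I ih =>
    by_cases hI : I = ⊤
    · subst hI
      exact ⟨[], by simp, fun i hi => absurd hi (by simp)⟩
    · obtain ⟨p, hp, n, t, hIp, htp, hpn⟩ := exists_prime_pow_mul_le I hI
      obtain ⟨t', ht', hfree⟩ := free_of_flat_of_pow_mul_le.{u, v, w, w'} (S := S) N I p n t htp hpn
      have hlt : I < I ⊔ Ideal.span {t'} := by
        refine lt_of_le_of_ne le_sup_left fun h => ht' (hIp ?_)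
        rw [h]
        exact Ideal.mem_sup_right (Ideal.mem_span_singleton_self t')
      obtain ⟨l, hl, hl'⟩ := ih _ hlt
      refine ⟨t' :: l, ?_, ?_⟩
      · rw [← hl, sup_assoc]
        congr 1
        rw [← Ideal.span_union]
        congr 1
        ext a
        simp
      · intro i hi A' _ _ hIA htake hunit hflat
        cases i with
        | zero => exact hfree A' hIA hunit hflat
        | succ i =>
          rw [List.take_succ_cons] at htake
          refine hl' i (by simpa using hi) A' ?_ (fun a ha => htake a (List.mem_cons_of_mem _ ha))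
            hunit hflat
          have h1 : I ⊔ Ideal.span {t'} ≤ RingHom.ker (algebraMap R A') := by
            rw [sup_le_iff, Ideal.span_singleton_le_iff_mem]
            exact ⟨fun a ha => hIA a ha, htake t' List.mem_cons_self⟩
          exact fun a ha => h1 ha

end Groth.Agent.Ega43.FreeStrat
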