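import Mathlib.AlgebraicGeometry.Fiber
import Mathlib.AlgebraicGeometry.Morphisms.OpenImmersion
import Groth.Prelude.Def_FDesc

/-!
# Geometric properties at a point

`GeomAt P f x`: for every field `K`, every morphism `Spec K ⟶ Y` and every point `z` of the base change
`X ×_Y Spec K` over `x`, the local ring at `z` satisfies `P`.

* `geomAt_iff_pullback`, `geomAt_fiber_iff`: comparison with the definitions used in `Def_FDesc`
  (geometrically reduced / geometrically pointwise integral fibre at `x`);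
* `geomAt_comp_openImmersion`, `geomAt_comp_mono`: localization on the source and on the target;
* `geomAt_Spec_iff`: the affine case.
-/

set_option autoImplicit false
set_option linter.dupNamespace false
universe u

open CategoryTheory Limits AlgebraicGeometry

namespace Groth.Agent.Ega43.GeomAt

/-- A property of rings is invariant under isomorphism. -/
def IsoClosed (P : ∀ (R : Type u) [CommRing R], Prop) : Prop :=
  ∀ (R S : Type u) [CommRing R] [CommRing S], (R ≃+* S) → P R → P S

/-- All local rings above `x` of the base changes of `f` to spectra of fields satisfy `P`. -/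
def GeomAt (P : ∀ (R : Type u) [CommRing R], Prop) {X Y : Scheme.{u}} (f : X ⟶ Y) (x : X) : Prop :=
  ∀ (K : Type u) [Field K] (Z : Scheme.{u}) (a : Z ⟶ X) (b : Z ⟶ Spec (CommRingCat.of K))
    (j : Spec (CommRingCat.of K) ⟶ Y), IsPullback a b f j → ∀ z : Z, a.base z = x →
      P (Z.presheaf.stalk z)

variable {P : ∀ (R : Type u) [CommRing R], Prop}

theorem stalk_iff_of_isOpenImmersion (hP : IsoClosed P) {Z W : Scheme.{u}} (ι : Z ⟶ W)
    [IsOpenImmersion ι] (z : Z) : P (W.presheaf.stalk (ι.base z)) ↔ P (Z.presheaf.stalk z) :=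
  ⟨hP _ _ (asIso (ι.stalkMap z)).commRingCatIsoToRingEquiv,
    hP _ _ (asIso (ι.stalkMap z)).commRingCatIsoToRingEquiv.symm⟩

theorem geomAt_iff_pullback (hP : IsoClosed P) {X Y : Scheme.{u}} (f : X ⟶ Y) (x : X) :
    GeomAt P f x ↔ ∀ (K : Type u) [Field K] (j : Spec (CommRingCat.of K) ⟶ Y)
      (x' : ↥(pullback f j)), (pullback.fst f j).base x' = x → P ((pullback f j).presheaf.stalk x') := by
  constructor
  · intro h K _ j x' hx'
    exact h K _ _ _ j (IsPullback.of_hasPullback f j) x' hx'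
  · intro h K _ Z a b j hpb z hz
    have h1 := h K j (hpb.isoPullback.hom.base z) (by
      rw [← hz, ← Scheme.Hom.comp_apply, hpb.isoPullback_hom_fst])
    exact (stalk_iff_of_isOpenImmersion hP hpb.isoPullback.hom z).1 h1

/-- The common shape of the definitions in `Def_FDesc`. -/
def SchFieldAt (P : ∀ (R : Type u) [CommRing R], Prop) {k : Type u} [Field k] {X : Scheme.{u}}
    (f : X ⟶ Spec (CommRingCat.of k)) (x : X) : Prop :=
  ∀ (K : Type u) [Field K] [Algebra k K] (x' : ↥(FBase.bc f K)), (FBase.bcπ f K).base x' = x →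
    P ((FBase.bc f K).presheaf.stalk x')

theorem isGeomReducedAt_iff {k : Type u} [Field k] {X : Scheme.{u}}
    (f : X ⟶ Spec (CommRingCat.of k)) (x : X) :
    FBase.IsGeomReducedAt f x ↔ SchFieldAt (fun R _ => _root_.IsReduced R) f x := Iff.rfl

theorem isGeomPtIntegralAt_iff {k : Type u} [Field k] {X : Scheme.{u}}
    (f : X ⟶ Spec (CommRingCat.of k)) (x : X) :
    FBase.IsGeomPtIntegralAt f x ↔ SchFieldAt (fun R _ => IsDomain R) f x := Iff.rfl

theorem schFieldAt_iff_of_isPullback (hP : IsoClosed P) {k : Type u} [Field k] {F X Y : Scheme.{u}}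
    {ι : F ⟶ X} {g : F ⟶ Spec (CommRingCat.of k)} {f : X ⟶ Y} {i : Spec (CommRingCat.of k) ⟶ Y}
    (hpb : IsPullback ι g f i) (hι : Function.Injective ι.base) (x : F)
    (hfac : ∀ (K : Type u) [Field K] (j : Spec (CommRingCat.of K) ⟶ Y) (t : Spec (CommRingCat.of K)),
      j.base t = f.base (ι.base x) → ∃ φ : k →+* K, j = Spec.map (CommRingCat.ofHom φ) ≫ i) :
    SchFieldAt P g x ↔ GeomAt P f (ι.base x) := by
  constructor
  · intro h K _ Z a b j hZ z hz
    obtain ⟨φ, rfl⟩ := hfac K j (b.base z) (by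
      rw [← Scheme.Hom.comp_apply, ← hZ.w, Scheme.Hom.comp_apply, hz])
    let : Algebra k K := φ.toAlgebra
    have h3 := IsPullback.of_hasPullback g (Spec.map (CommRingCat.ofHom (algebraMap k K)))
    let e := hZ.isoIsPullback _ _ (h3.paste_horiz hpb)
    have he := hZ.isoIsPullback_hom_fst _ _ (h3.paste_horiz hpb)
    have h4 := h K (e.hom.base z) (by
      apply hι
      have h5 : (e.hom ≫ pullback.fst g (Spec.map (CommRingCat.ofHom (algebraMap k K))) ≫ ι).base z =
        ι.base x := by rw [he, hz]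
      exact h5)
    exact (stalk_iff_of_isOpenImmersion hP e.hom z).1 h4
  · intro h K _ _ x' hx'
    have h3 := IsPullback.of_hasPullback g (Spec.map (CommRingCat.ofHom (algebraMap k K)))
    refine h K _ _ _ _ (h3.paste_horiz hpb) x' ?_
    exact congrArg ι.base hx'

theorem geomAt_fiber_iff (hP : IsoClosed P) {X Y : Scheme.{u}} (f : X ⟶ Y) (x : X) :
    SchFieldAt P (f.fiberToSpecResidueField (f.base x)) (f.asFiber x) ↔ GeomAt P f x := by
  have h2 : IsPullback (f.fiberι (f.base x)) (f.fiberToSpecResidueField (f.base x)) f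
        (Y.fromSpecResidueField (f.base x)) := IsPullback.of_hasPullback _ _
  have h1 := schFieldAt_iff_of_isPullback (k := IsLocalRing.ResidueField (Y.presheaf.stalk (f.base x)))
    hP h2 (f.fiberι (f.base x)).isEmbedding.injective (f.asFiber x) (by
      intro K _ j t ht
      obtain ⟨⟨y, φ⟩, rfl⟩ := (Scheme.SpecToEquivOfField K Y).symm.surjective j
      change (Spec.map φ ≫ Y.fromSpecResidueField y).base t = _ at ht
      rw [Scheme.Hom.fiberι_asFiber, Scheme.Hom.comp_apply, Scheme.fromSpecResidueField_apply] at ht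
      subst ht
      exact ⟨φ.hom, rfl⟩)
  rw [h1, Scheme.Hom.fiberι_asFiber]

theorem geomAt_comp_openImmersion (hP : IsoClosed P) {U X Y : Scheme.{u}} (i : U ⟶ X)
    [IsOpenImmersion i] (f : X ⟶ Y) (u : U) : GeomAt P (i ≫ f) u ↔ GeomAt P f (i.base u) := by
  constructor
  · intro h K _ Z a b j hpb z hz
    obtain ⟨z', hz1, hz2⟩ := Scheme.Pullback.exists_preimage_pullback (f := a) (g := i) z u hz
    have h1 := (IsPullback.of_hasPullback a i).flip.paste_vert hpb
    have h2 := h K _ _ _ j h1 z' hz2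
    have h3 := (stalk_iff_of_isOpenImmersion hP (pullback.fst a i) z').2 h2
    have h4 : (pullback.fst a i).base z' = z := hz1
    rw [h4] at h3
    exact h3
  · intro h K _ Z a b j hpb z hz
    let ι : Z ⟶ pullback f j := pullback.lift (a ≫ i) b (by rw [Category.assoc, hpb.w])
    have h1 : IsPullback a ι i (pullback.fst f j) := by
      refine IsPullback.of_bot ?_ (pullback.lift_fst _ _ _).symm (IsPullback.of_hasPullback f j)
      rw [pullback.lift_snd]
      exact hpb
    have : IsOpenImmersion ι := MorphismProperty.of_isPullback (P := @IsOpenImmersion) h1 inferInstance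
    have h2 := h K _ _ _ j (IsPullback.of_hasPullback f j) (ι.base z) (by
      rw [← Scheme.Hom.comp_apply, pullback.lift_fst, Scheme.Hom.comp_apply, hz])
    exact (stalk_iff_of_isOpenImmersion hP ι z).1 h2

theorem isPullback_comp_mono_iff {C : Type*} [Category C] {Z X A V Y : C} {a : Z ⟶ X} {b : Z ⟶ A}
    {g : X ⟶ V} {j : A ⟶ V} (m : V ⟶ Y) [Mono m] :
    IsPullback a b (g ≫ m) (j ≫ m) ↔ IsPullback a b g j := by
  constructor
  · intro h
    have w : a ≫ g = b ≫ j := by
      rw [← cancel_mono m, Category.assoc, Category.assoc, h.w]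
    refine ⟨⟨w⟩, ⟨PullbackCone.IsLimit.mk w (fun s => h.lift s.fst s.snd ?_) ?_ ?_ ?_⟩⟩
    · rw [← Category.assoc, s.condition, Category.assoc]
    · intro s; exact h.lift_fst _ _ _
    · intro s; exact h.lift_snd _ _ _
    · intro s t h1 h2
      apply h.hom_ext
      · rw [h1]; exact (h.lift_fst _ _ _).symm
      · rw [h2]; exact (h.lift_snd _ _ _).symm
  · intro h
    have w : a ≫ g ≫ m = b ≫ j ≫ m := by rw [← Category.assoc, h.w, Category.assoc]
    refine ⟨⟨w⟩, ⟨PullbackCone.IsLimit.mk w (fun s => h.lift s.fst s.snd ?_) ?_ ?_ ?_⟩⟩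
    · rw [← cancel_mono m, Category.assoc, Category.assoc, s.condition]
    · intro s; exact h.lift_fst _ _ _
    · intro s; exact h.lift_snd _ _ _
    · intro s t h1 h2
      apply h.hom_ext
      · rw [h1]; exact (h.lift_fst _ _ _).symm
      · rw [h2]; exact (h.lift_snd _ _ _).symm

theorem geomAt_comp_openImmersion_target {X V Y : Scheme.{u}} (g : X ⟶ V) (m : V ⟶ Y)
    [IsOpenImmersion m] (x : X) : GeomAt P (g ≫ m) x ↔ GeomAt P g x := by
  constructor
  · intro h K _ Z a b j hpb z hz
    exact h K Z a b (j ≫ m) ((isPullback_comp_mono_iff m).2 hpb) z hz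
  · intro h K _ Z a b j' hpb z hz
    have hrange : Set.range j'.base ⊆ Set.range m.base := by
      rintro _ ⟨t, rfl⟩
      have ht : t = b.base z := Subsingleton.elim (α := PrimeSpectrum K) _ _
      rw [ht, ← Scheme.Hom.comp_apply, ← hpb.w, Scheme.Hom.comp_apply, Scheme.Hom.comp_apply]
      exact ⟨_, rfl⟩
    let j := IsOpenImmersion.lift m j' hrange
    have hj : j ≫ m = j' := IsOpenImmersion.lift_fac m j' hrange
    rw [← hj] at hpb
    exact h K Z a b j ((isPullback_comp_mono_iff m).1 hpb) z hz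

open TensorProduct in
/-- Algebraic form of `GeomAt`. -/
def GeomAtAlg (P : ∀ (R : Type u) [CommRing R], Prop) (A B : Type u) [CommRing A] [CommRing B]
    [Algebra A B] (q : Ideal B) : Prop :=
  ∀ (K : Type u) [Field K] [Algebra A K] (Q : Ideal (B ⊗[A] K)) [Q.IsPrime],
    Q.comap (algebraMap B (B ⊗[A] K)) = q → P (Localization.AtPrime Q)

theorem stalk_Spec_iff (hP : IsoClosed P) (R : Type u) [CommRing R] (x : PrimeSpectrum R) :
    P ((Spec (CommRingCat.of R)).presheaf.stalk x) ↔ P (Localization.AtPrime x.asIdeal) :=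
  ⟨hP _ _ (Spec.stalkIso (CommRingCat.of R) x).commRingCatIsoToRingEquiv,
    hP _ _ (Spec.stalkIso (CommRingCat.of R) x).commRingCatIsoToRingEquiv.symm⟩

open TensorProduct in
theorem geomAt_Spec_iff (hP : IsoClosed P) (A B : Type u) [CommRing A] [CommRing B] [Algebra A B]
    (q : PrimeSpectrum B) :
    GeomAt P (Spec.map (CommRingCat.ofHom (algebraMap A B))) q ↔ GeomAtAlg P A B q.asIdeal := by
  have hpb : ∀ (K : Type u) [Field K] [Algebra A K], IsPullback
      (Spec.map (CommRingCat.ofHom (algebraMap B (B ⊗[A] K))))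
      (Spec.map (CommRingCat.ofHom (Algebra.TensorProduct.includeRight (R := A) (A := B)
        (B := K)).toRingHom))
      (Spec.map (CommRingCat.ofHom (algebraMap A B))) (Spec.map (CommRingCat.ofHom (algebraMap A K))) :=
    fun K _ _ => isPullback_SpecMap_of_isPushout _ _ _ _ (CommRingCat.isPushout_tensorProduct A B K)
  constructor
  · intro h K _ _ Q hQp hQ
    have h1 := h K _ _ _ _ (hpb K) ⟨Q, hQp⟩ (PrimeSpectrum.ext hQ)
    exact (stalk_Spec_iff hP _ ⟨Q, hQp⟩).1 h1
  · intro h K _ Z a b j hZ z hz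
    obtain ⟨ψ, rfl⟩ := Spec.map_surjective j
    let : Algebra A K := ψ.hom.toAlgebra
    let e := hZ.isoIsPullback _ _ (hpb K)
    have he := hZ.isoIsPullback_hom_fst _ _ (hpb K)
    let Q : PrimeSpectrum (B ⊗[A] K) := e.hom.base z
    have hQ : Q.asIdeal.comap (algebraMap B (B ⊗[A] K)) = q.asIdeal := by
      have h1 : (Spec.map (CommRingCat.ofHom (algebraMap B (B ⊗[A] K)))).base (e.hom.base z) = q := by
        rw [← Scheme.Hom.comp_apply, he, hz]
      exact congrArg PrimeSpectrum.asIdeal h1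
    have h2 := h K Q.asIdeal hQ
    exact (stalk_iff_of_isOpenImmersion hP e.hom z).1 ((stalk_Spec_iff hP _ Q).2 h2)

/-- `GeomAt` on affine charts. -/
theorem geomAt_fromSpec_iff (hP : IsoClosed P) {X Y : Scheme.{u}} (f : X ⟶ Y) {V : Y.Opens}
    (hV : IsAffineOpen V) {U : X.Opens} (hU : IsAffineOpen U) (e : U ≤ f ⁻¹ᵁ V)
    (z : Spec Γ(X, U)) : GeomAt P f (hU.fromSpec.base z) ↔ GeomAt P (Spec.map (f.appLE V U e)) z := by
  have hcomp : Spec.map (f.appLE V U e) ≫ hV.fromSpec = hU.fromSpec ≫ f :=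
    hV.SpecMap_appLE_fromSpec f hU e
  rw [← geomAt_comp_openImmersion hP hU.fromSpec f z, ← hcomp, geomAt_comp_openImmersion_target]

/-- `GeomAt` on affine charts, algebraic form. -/
theorem geomAt_fromSpec_iff_alg (hP : IsoClosed P) {X Y : Scheme.{u}} (f : X ⟶ Y) {V : Y.Opens}
    (hV : IsAffineOpen V) {U : X.Opens} (hU : IsAffineOpen U) (e : U ≤ f ⁻¹ᵁ V)
    (z : Spec Γ(X, U)) : GeomAt P f (hU.fromSpec.base z) ↔
      @GeomAtAlg P Γ(Y, V) Γ(X, U) _ _ (f.appLE V U e).hom.toAlgebra z.asIdeal := by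
  let : Algebra Γ(Y, V) Γ(X, U) := (f.appLE V U e).hom.toAlgebra
  rw [geomAt_fromSpec_iff hP f hV hU e z]
  exact geomAt_Spec_iff hP Γ(Y, V) Γ(X, U) z

/-- Reduction of openness of `{x | GeomAt P f x}` to the affine case. -/
theorem isOpen_geomAt (hP : IsoClosed P) {X Y : Scheme.{u}} (f : X ⟶ Y)
    (h : ∀ (V : Y.Opens) (_ : IsAffineOpen V) (U : X.Opens) (_ : IsAffineOpen U) (e : U ≤ f ⁻¹ᵁ V),
      IsOpen {x : Spec Γ(X, U) | GeomAt P (Spec.map (f.appLE V U e)) x}) :
    IsOpen {x : X | GeomAt P f x} := by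
  rw [isOpen_iff_forall_mem_open]
  intro x hx
  obtain ⟨V, hV, hfV, -⟩ := exists_isAffineOpen_mem_and_subset (X := Y) (x := f.base x) (U := ⊤) trivial
  obtain ⟨U, hU, hxU, hUV⟩ := exists_isAffineOpen_mem_and_subset (X := X) (x := x) (U := f ⁻¹ᵁ V) hfV
  have key := geomAt_fromSpec_iff hP f hV hU hUV
  refine ⟨hU.fromSpec.base '' {z | GeomAt P (Spec.map (f.appLE V U hUV)) z}, ?_,
    hU.fromSpec.isOpenEmbedding.isOpenMap _ (h V hV U hU hUV), ?_⟩
  · rintro _ ⟨z, hz, rfl⟩
    exact (key z).2 hz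
  · have h1 : x ∈ Set.range hU.fromSpec.base := by
      rw [hU.range_fromSpec]; exact hxU
    obtain ⟨z, rfl⟩ := h1
    exact ⟨z, (key z).1 hx, rfl⟩

end Groth.Agent.Ega43.GeomAt
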