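import Groth.Agent.Ega43.GeomAt
import Mathlib.AlgebraicGeometry.Morphisms.Flat
import Mathlib.AlgebraicGeometry.ResidueField

/-!
# `GeomAt` is invariant under base change

Let `P` be a property of rings, `X' = X ×_Y Y'` and `x'` a point of `X'` over `x`.

* `geomAt_of_isPullback`: if `GeomAt P f x` then `GeomAt P f' x'` (any `P`);
* `geomAt_iff_of_isPullback`: equivalence if `P` descends along flat local homomorphisms (`FlatDesc P`).
-/

set_option autoImplicit false
set_option linter.dupNamespace false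
universe u

open CategoryTheory Limits AlgebraicGeometry

namespace Groth.Agent.Ega43.GeomBC

open Groth.Agent.Ega43.GeomAt

variable {P : ∀ (R : Type u) [CommRing R], Prop}

/-- The property `P` descends from a local ring to the local ring below it along flat morphisms. -/
def FlatDesc (P : ∀ (R : Type u) [CommRing R], Prop) : Prop :=
  ∀ {X Y : Scheme.{u}} (g : X ⟶ Y) [Flat g] (x : X), P (X.presheaf.stalk x) →
    P (Y.presheaf.stalk (g.base x))

theorem geomAt_of_isPullback {X' X Y' Y : Scheme.{u}} {a : X' ⟶ X} {f' : X' ⟶ Y'} {f : X ⟶ Y}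
    {b : Y' ⟶ Y} (h : IsPullback a f' f b) (x' : X') (H : GeomAt P f (a.base x')) :
    GeomAt P f' x' := by
  intro K _ Z c d j hZ z hz
  refine H K Z (c ≫ a) d (j ≫ b) (hZ.paste_horiz h) z ?_
  rw [Scheme.Hom.comp_apply, hz]

theorem flat_of_isPullback_field {K M : Type u} [Field K] [Field M] {Z Z' : Scheme.{u}}
    {a : Z' ⟶ Z} {b : Z' ⟶ Spec (CommRingCat.of M)} {c : Z ⟶ Spec (CommRingCat.of K)}
    {d : Spec (CommRingCat.of M) ⟶ Spec (CommRingCat.of K)} (h : IsPullback a b c d) : Flat a :=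
  MorphismProperty.of_isPullback (P := @Flat) h.flip inferInstance

theorem geomAt_iff_of_isPullback (hP : FlatDesc P) {X' X Y' Y : Scheme.{u}} {a : X' ⟶ X}
    {f' : X' ⟶ Y'} {f : X ⟶ Y} {b : Y' ⟶ Y} (h : IsPullback a f' f b) (x' : X') :
    GeomAt P f' x' ↔ GeomAt P f (a.base x') := by
  refine ⟨fun H K _ Z c d j hZ z hz => ?_, geomAt_of_isPullback h x'⟩
  obtain ⟨w, hw1, hw2⟩ := Scheme.Pullback.exists_preimage_pullback (f := c) (g := a) z x' hz
  let W := pullback c a
  let M := W.residueField w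
  let m : Spec M ⟶ W := W.fromSpecResidueField w
  have hm : ∀ t, m.base t = w := fun t => Scheme.fromSpecResidueField_apply _ _
  let ZM := pullback d (m ≫ pullback.fst c a ≫ d)
  let l : Spec M ⟶ ZM := pullback.lift (m ≫ pullback.fst c a) (𝟙 _) (by simp)
  have hl1 : l ≫ pullback.fst _ _ = m ≫ pullback.fst c a := pullback.lift_fst _ _ _
  have hl2 : l ≫ pullback.snd _ _ = 𝟙 _ := pullback.lift_snd _ _ _
  have hZM : IsPullback (pullback.fst d (m ≫ pullback.fst c a ≫ d))
      (pullback.snd d (m ≫ pullback.fst c a ≫ d)) d (m ≫ pullback.fst c a ≫ d) :=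
    IsPullback.of_hasPullback _ _
  -- `ZM = X' ×_{Y'} Spec M`
  have e1 : (pullback.fst d (m ≫ pullback.fst c a ≫ d) ≫ c) ≫ f =
      (pullback.snd d (m ≫ pullback.fst c a ≫ d) ≫ m ≫ pullback.snd c a ≫ f') ≫ b := by
    simp only [Category.assoc]
    rw [hZ.w, ← Category.assoc (pullback.fst d _), pullback.condition]
    simp only [Category.assoc]
    rw [← hZ.w, ← h.w, pullback.condition_assoc]
  let c' : ZM ⟶ X' := h.lift (pullback.fst _ _ ≫ c)
    (pullback.snd _ _ ≫ m ≫ pullback.snd c a ≫ f') e1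
  have hc'1 : c' ≫ a = pullback.fst _ _ ≫ c := h.lift_fst _ _ _
  have hc'2 : c' ≫ f' = pullback.snd _ _ ≫ m ≫ pullback.snd c a ≫ f' := h.lift_snd _ _ _
  have hZM' : IsPullback c' (pullback.snd d (m ≫ pullback.fst c a ≫ d)) f'
      (m ≫ pullback.snd c a ≫ f') := by
    refine IsPullback.of_right (h₁₂ := a) (h₂₂ := b) (v₁₃ := f) ?_ hc'2 h
    have h3 := hZM.paste_horiz hZ
    rw [hc'1]
    convert h3 using 1
    simp only [Category.assoc]
    rw [← h.w, ← pullback.condition_assoc, hZ.w]
  let t : Spec M := IsLocalRing.closedPoint _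
  have h4 := H M ZM c' _ _ hZM' (l.base t) (by
    have : l ≫ c' = m ≫ pullback.snd c a := by
      apply h.hom_ext
      · rw [Category.assoc, hc'1, reassoc_of% hl1, Category.assoc, pullback.condition]
      · rw [Category.assoc, hc'2, reassoc_of% hl2, Category.assoc]
    rw [← Scheme.Hom.comp_apply, this, Scheme.Hom.comp_apply, hm, hw2])
  have : Flat (pullback.fst d (m ≫ pullback.fst c a ≫ d)) := flat_of_isPullback_field hZM
  have h5 := hP (pullback.fst d (m ≫ pullback.fst c a ≫ d)) (l.base t) h4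
  have h6 : (pullback.fst d (m ≫ pullback.fst c a ≫ d)).base (l.base t) = z := by
    rw [← Scheme.Hom.comp_apply, hl1, Scheme.Hom.comp_apply, hm, hw1]
  rw [h6] at h5
  exact h5

end Groth.Agent.Ega43.GeomBC
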