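import Groth.Prelude.Def_MoreMor
import Groth.Prelude.Def_FDesc
import Groth.Prelude.Def_Curv2
import Groth.Agent.S1559
import Groth.Agent.Ega1.GenPts
import Mathlib.AlgebraicGeometry.Geometrically.Integral
import Mathlib.AlgebraicGeometry.Geometrically.Connected

/-!
`geometrically P` of the fibre of `f` over `y`, in terms of field-valued points of `Y` with image
`y`; behaviour under restriction to an open of the target; geometrically pointwise integral +
geometrically connected => geometrically integral.
-/

set_option autoImplicit false
universe u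

open CategoryTheory CategoryTheory.Limits AlgebraicGeometry

namespace Groth.Agent.Ega43.GeomFibre

/-- `geometrically P` for the fibre over `y` is: `P` holds for the base change of `f` to every
field-valued point with image `y`. -/
theorem geometrically_fiber_iff (P : ObjectProperty Scheme.{u}) [P.IsClosedUnderIsomorphisms]
    {X Y : Scheme.{u}} (f : X ⟶ Y) (y : Y) :
    geometrically P (f.fiberToSpecResidueField y) ↔
      ∀ (K : Type u) [Field K] (t : Spec (CommRingCat.of K) ⟶ Y),
        (∀ s, t s = y) → P (pullback f t) := by
  constructor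
  · intro H K _ t ht
    obtain ⟨⟨y', φ⟩, rfl⟩ := (Scheme.SpecToEquivOfField _ _).symm.surjective t
    have hy : y' = y := by
      have := ht (IsLocalRing.closedPoint K)
      simpa [Scheme.SpecToEquivOfField] using this
    subst hy
    have h := IsPullback.of_hasPullback f ((Scheme.SpecToEquivOfField K Y).symm ⟨y', φ⟩)
    simp only [Scheme.SpecToEquivOfField, Equiv.coe_fn_symm_mk] at h ⊢
    let p : pullback f (Spec.map φ ≫ Y.fromSpecResidueField y') ⟶ f.fiber y' :=
      pullback.lift (pullback.fst _ _) (pullback.snd _ _ ≫ Spec.map φ) (by simp [h.w])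
    refine H (Spec.map φ) p (pullback.snd _ _) ?_
    refine .flip (.of_bot (.flip ?_) ?_ (IsPullback.of_hasPullback f (Y.fromSpecResidueField y')).flip)
    · convert! h
      exact pullback.lift_fst _ _ _
    · exact (pullback.lift_snd _ _ _).symm
  · intro H
    rw [geometrically_iff_of_isClosedUnderIsomorphisms]
    intro K _ t
    have h1 : IsPullback (pullback.fst (f.fiberToSpecResidueField y) t ≫ f.fiberι y)
        (pullback.snd (f.fiberToSpecResidueField y) t) f (t ≫ Y.fromSpecResidueField y) :=
      (IsPullback.of_hasPullback (f.fiberToSpecResidueField y) t).paste_horiz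
        (IsPullback.of_hasPullback f (Y.fromSpecResidueField y))
    refine P.prop_of_iso h1.isoPullback.symm (H K (t ≫ Y.fromSpecResidueField y) ?_)
    intro s
    rw [Scheme.Hom.comp_apply]
    exact Scheme.fromSpecResidueField_apply _ _

/-- All local rings are domains. -/
def Pdom : ObjectProperty Scheme.{u} := fun Z => ∀ z : Z, IsDomain (Z.presheaf.stalk z)

instance : Pdom.{u}.IsClosedUnderIsomorphisms where
  of_iso {Z Z'} e h z := by
    have h1 := h (e.inv z)
    have e1 : Z.presheaf.stalk (e.inv z) ≅ Z'.presheaf.stalk z := asIso (e.inv.stalkMap z)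
    exact e1.commRingCatIsoToRingEquiv.symm.toMulEquiv.isDomain _

theorem forall_isGeomPtIntegralAt_iff {X : Scheme.{u}} {k : Type u} [Field k]
    (f : X ⟶ Spec (CommRingCat.of k)) :
    (∀ x : X, FBase.IsGeomPtIntegralAt f x) ↔ geometrically Pdom f := by
  rw [geometrically_iff_of_commRing_of_isClosedUnderIsomorphisms]
  constructor
  · intro h K _ _ z
    exact h _ K z rfl
  · intro h x K _ _ x' _
    exact h K x'

theorem restrict_iso {X Y T : Scheme.{u}} (f : X ⟶ Y) (V : Y.Opens) (t : T ⟶ V) :
    Nonempty (pullback (f ∣_ V) t ≅ pullback f (t ≫ V.ι)) :=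
  ⟨((IsPullback.of_hasPullback (f ∣_ V) t).paste_horiz
    (isPullback_morphismRestrict f V).flip).isoPullback⟩

theorem geometrically_fiber_restrict_iff (P : ObjectProperty Scheme.{u}) [P.IsClosedUnderIsomorphisms]
    {X Y : Scheme.{u}} (f : X ⟶ Y) (V : Y.Opens) (y : V) :
    geometrically P ((f ∣_ V).fiberToSpecResidueField y) ↔
      geometrically P (f.fiberToSpecResidueField y.1) := by
  rw [geometrically_fiber_iff, geometrically_fiber_iff]
  constructor
  · intro H K _ t ht
    have hr : Set.range t ⊆ Set.range V.ι := by
      rintro _ ⟨s, rfl⟩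
      rw [ht s]
      simp
    let t' : Spec (CommRingCat.of K) ⟶ V := IsOpenImmersion.lift V.ι t hr
    have ht' : t' ≫ V.ι = t := IsOpenImmersion.lift_fac _ _ _
    have h1 := H K t' (by
      intro s
      apply Subtype.ext
      have := congrArg (fun h => h s) (congrArg (fun g => (g : Spec (CommRingCat.of K) ⟶ Y).base) ht')
      rw [← ht s]
      exact this)
    obtain ⟨e⟩ := restrict_iso f V t'
    rw [ht'] at e
    exact P.prop_of_iso e h1
  · intro H K _ t ht
    obtain ⟨e⟩ := restrict_iso f V t
    refine P.prop_of_iso e.symm (H K (t ≫ V.ι) ?_)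
    intro s
    rw [Scheme.Hom.comp_apply, ht s]
    rfl

/-- A scheme over a field which is geometrically pointwise integral, geometrically connected and
locally of finite type is geometrically integral. -/
theorem geometricallyIntegral_of {X : Scheme.{u}} {k : Type u} [Field k]
    (f : X ⟶ Spec (CommRingCat.of k)) [LocallyOfFiniteType f] (h : geometrically Pdom f)
    [GeometricallyConnected f] : GeometricallyIntegral f := by
  have hP : ObjectProperty.IsClosedUnderIsomorphisms AlgebraicGeometry.IsIntegral.{u} :=
    ⟨fun {Z Z'} e h => by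
      have : IsIntegral Z := h
      have : Nonempty Z' := ⟨e.hom (Classical.arbitrary Z)⟩
      exact isIntegral_of_isOpenImmersion e.inv⟩
  refine ⟨?_⟩
  rw [geometrically_iff_of_commRing_of_isClosedUnderIsomorphisms]
  intro K _ _
  have h1 : Pdom (pullback f (Spec.map (CommRingCat.ofHom (algebraMap k K)))) :=
    pullback_of_geometrically h K _
  have h2 : ConnectedSpace ↥(pullback f (Spec.map (CommRingCat.ofHom (algebraMap k K)))) :=
    pullback_of_geometrically GeometricallyConnected.geometrically_connectedSpace K _
  have : LocallyOfFiniteType (pullback.snd f (Spec.map (CommRingCat.ofHom (algebraMap k K)))) :=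
    inferInstance
  have : IsLocallyNoetherian (pullback f (Spec.map (CommRingCat.ofHom (algebraMap k K)))) :=
    LocallyOfFiniteType.isLocallyNoetherian (pullback.snd f _)
  exact (Groth.Agent.Ega1.GenPts.isIntegral_iff _).mpr ⟨h2, h1⟩

theorem geometrically_pdom_of_geometricallyIntegral {X Y : Scheme.{u}} (f : X ⟶ Y)
    [GeometricallyIntegral f] : geometrically Pdom f := by
  intro K _ y Z fst snd h z
  have : IsIntegral Z := GeometricallyIntegral.geometrically_isIntegral y fst snd h
  infer_instance

theorem connectedSpace_of_unique {α : Type*} [TopologicalSpace α]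
    (h : Nonempty (Unique (_root_.ConnectedComponents α))) : ConnectedSpace α := by
  obtain ⟨hu⟩ := h
  obtain ⟨x, -⟩ := ConnectedComponents.surjective_coe (default : _root_.ConnectedComponents α)
  have h1 : connectedComponent x = Set.univ := by
    refine Set.eq_univ_of_forall fun y => ?_
    have : (y : _root_.ConnectedComponents α) = x := Subsingleton.elim _ _
    rw [ConnectedComponents.coe_eq_coe] at this
    rw [← this]
    exact mem_connectedComponent
  have h2 : IsPreconnected (Set.univ : Set α) := h1 ▸ isPreconnected_connectedComponent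
  exact { isPreconnected_univ := h2, toNonempty := ⟨x⟩ }

theorem geometricallyConnected_of_nGeomConnComp {X Y : Scheme.{u}} (f : X ⟶ Y) (y : Y)
    (h : MoreMor.nGeomConnComp f y = 1) : GeometricallyConnected (f.fiberToSpecResidueField y) := by
  let k := Y.residueField y
  let : (f.fiber y).Over (Spec (CommRingCat.of k)) := ⟨f.fiberToSpecResidueField y⟩
  have h1 : ConnectedSpace (Curv2.bc k (f.fiber y) (SeparableClosure k)) := by
    change ConnectedSpace ↥(MoreMor.geomFiber f y)
    have h2 : ENat.card (_root_.ConnectedComponents (↥(MoreMor.geomFiber f y))) = 1 := h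
    rw [ENat.card_eq_one_iff_unique] at h2
    exact connectedSpace_of_unique h2
  exact Groth.Agent.S1559.result k (f.fiber y)

theorem nGeomConnComp_eq_one {X Y : Scheme.{u}} (f : X ⟶ Y) (y : Y)
    (h : GeometricallyConnected (f.fiberToSpecResidueField y)) :
    MoreMor.nGeomConnComp f y = 1 := by
  have h1 : ConnectedSpace ↥(MoreMor.geomFiber f y) :=
    pullback_of_geometrically h.geometrically_connectedSpace _ _
  unfold MoreMor.nGeomConnComp
  rw [ENat.card_eq_one_iff_unique]
  obtain ⟨x⟩ : Nonempty ↥(MoreMor.geomFiber f y) := inferInstance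
  exact ⟨⟨⟨(x : _root_.ConnectedComponents ↥(MoreMor.geomFiber f y))⟩,
    fun y => Subsingleton.elim _ _⟩⟩

/-- EGA IV 12.2.4 (viii), from (vii) and from the local constancy of the number of geometric connected
components of the fibres of a flat proper morphism with geometrically reduced fibres. -/
theorem isOpen_geometricallyIntegral {X Y : Scheme.{u}} (f : X ⟶ Y) [IsProper f]
    (h : IsOpen {y : Y | ∀ x : ↥(f.fiber y), FBase.IsGeomPtIntegralAt (f.fiberToSpecResidueField y) x})
    (hc : ∀ (V : Y.Opens), GeometricallyReduced (f ∣_ V) →
      IsLocallyConstant (fun s : ↑V => MoreMor.nGeomConnComp (f ∣_ V) s)) :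
    IsOpen {y : Y | GeometricallyIntegral (f.fiberToSpecResidueField y)} := by
  have hU : {y : Y | ∀ x : ↥(f.fiber y), FBase.IsGeomPtIntegralAt (f.fiberToSpecResidueField y) x} =
      {y : Y | geometrically Pdom (f.fiberToSpecResidueField y)} := by
    ext y
    exact forall_isGeomPtIntegralAt_iff _
  rw [hU] at h
  let V : Y.Opens := ⟨_, h⟩
  have hred : GeometricallyReduced (f ∣_ V) := by
    refine ⟨?_⟩
    rw [geometrically_iff_forall_fiberToSpecResidueField]
    intro y
    have h1 : geometrically Pdom ((f ∣_ V).fiberToSpecResidueField y) :=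
      (geometrically_fiber_restrict_iff Pdom f V y).mpr y.2
    intro K _ t Z fst snd hp
    have h2 : Pdom Z := h1 t fst snd hp
    have : ∀ x : Z, _root_.IsReduced (Z.presheaf.stalk x) := fun x => by
      have := h2 x
      infer_instance
    exact isReduced_of_isReduced_stalk Z
  have hlc := hc V hred
  have hopen : IsOpen {s : ↑V | MoreMor.nGeomConnComp (f ∣_ V) s = 1} := hlc.isOpen_fiber 1
  have himg : {y : Y | GeometricallyIntegral (f.fiberToSpecResidueField y)} =
      Subtype.val '' {s : ↑V | MoreMor.nGeomConnComp (f ∣_ V) s = 1} := by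
    have hcl : ∀ s : ↑V, GeometricallyConnected ((f ∣_ V).fiberToSpecResidueField s) ↔
        GeometricallyConnected (f.fiberToSpecResidueField s.1) := by
      intro s
      rw [geometricallyConnected_iff, geometricallyConnected_iff]
      exact geometrically_fiber_restrict_iff (fun Z => ConnectedSpace Z) f V s
    ext y
    constructor
    · intro hy
      have hy' : GeometricallyIntegral (f.fiberToSpecResidueField y) := hy
      have hyV : y ∈ V := geometrically_pdom_of_geometricallyIntegral (f.fiberToSpecResidueField y)
      refine ⟨⟨y, hyV⟩, ?_, rfl⟩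
      refine nGeomConnComp_eq_one _ _ ((hcl ⟨y, hyV⟩).mpr ?_)
      refine ⟨?_⟩
      intro K _ t Z fst snd hp
      have : IsIntegral Z := GeometricallyIntegral.geometrically_isIntegral t fst snd hp
      change ConnectedSpace Z
      infer_instance
    · rintro ⟨s, hs, rfl⟩
      have h1 := geometricallyConnected_of_nGeomConnComp (f ∣_ V) s hs
      have h2 : GeometricallyConnected (f.fiberToSpecResidueField s.1) := (hcl s).mp h1
      have h3 : geometrically Pdom (f.fiberToSpecResidueField s.1) := s.2
      have : LocallyOfFiniteType (f.fiberToSpecResidueField s.1) :=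
        MorphismProperty.pullback_snd _ _ inferInstance
      exact @geometricallyIntegral_of _ (Y.residueField s.1) _ (f.fiberToSpecResidueField s.1)
        this h3 h2
  rw [himg]
  exact V.2.isOpenMap_subtype_val _ hopen

end Groth.Agent.Ega43.GeomFibre
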