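import Groth.Agent.Ega43.GeomFibreStalk

set_option autoImplicit false

open CategoryTheory CategoryTheory.Limits AlgebraicGeometry TensorProduct

namespace Groth.Agent.Ega43.GeomFibreStalk

universe u

/-- Version of `isReduced_of_isGeomReducedAt_aux` for a given field extension of the residue field. -/
theorem isReduced_of_isGeomReducedAt_aux2 {X Y : Scheme.{u}} (f : X ⟶ Y) (x : X)
    (hred : FBase.IsGeomReducedAt (k := Y.residueField (f x)) (f.fiberToSpecResidueField (f x))
      (f.asFiber x)) {A B : Type u} [CommRing A] [CommRing B] [IsLocalRing A] [IsLocalRing B]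
    [Algebra A B]
    (a : Spec (CommRingCat.of A) ⟶ Y) [Mono a] (b : Spec (CommRingCat.of B) ⟶ X) [Flat b]
    [IsPreimmersion b]
    (h : b ≫ f = Spec.map (CommRingCat.ofHom (algebraMap A B)) ≫ a)
    (hb : b (IsLocalRing.closedPoint B) = x)
    (K : Type u) [Field K] [Algebra A K]
    (hint : (algebraMap A K).IsIntegral)
    (φ : Y.residueField (f x) ⟶ CommRingCat.of K)
    (hK : Spec.map (CommRingCat.ofHom (algebraMap A K)) ≫ a =
      Spec.map φ ≫ Y.fromSpecResidueField (f x)) :
    IsReduced (K ⊗[A] B) := by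
  let _ : Algebra (Y.residueField (f x)) K := φ.hom.toAlgebra
  exact isReduced_of_isGeomReducedAt_aux f x hred a b h hb K hint hK

theorem isIntegral_algebraicClosure (A : Type u) [CommRing A] [IsLocalRing A] :
    (algebraMap A (AlgebraicClosure (IsLocalRing.ResidueField A))).IsIntegral := by
  rw [IsScalarTower.algebraMap_eq A
      (IsLocalRing.ResidueField A) (AlgebraicClosure (IsLocalRing.ResidueField A))]
  exact RingHom.IsIntegral.trans _ _
    (RingHom.isIntegral_of_surjective _ IsLocalRing.residue_surjective)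
    (algebraMap_isIntegral_iff.mpr inferInstance)

theorem spec_map_algebraicClosure (Y : Scheme.{u}) (y : Y) :
    Spec.map (CommRingCat.ofHom (algebraMap (Y.presheaf.stalk y)
      (AlgebraicClosure (IsLocalRing.ResidueField (Y.presheaf.stalk y))))) ≫ Y.fromSpecStalk y =
    Spec.map (CommRingCat.ofHom (algebraMap (IsLocalRing.ResidueField (Y.presheaf.stalk y))
      (AlgebraicClosure (IsLocalRing.ResidueField (Y.presheaf.stalk y))))) ≫
        Y.fromSpecResidueField y := by
  have h1 : CommRingCat.ofHom (algebraMap (Y.presheaf.stalk y)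
      (AlgebraicClosure (IsLocalRing.ResidueField (Y.presheaf.stalk y)))) =
      CommRingCat.ofHom (IsLocalRing.residue (Y.presheaf.stalk y)) ≫
        CommRingCat.ofHom (algebraMap (IsLocalRing.ResidueField (Y.presheaf.stalk y))
      (AlgebraicClosure (IsLocalRing.ResidueField (Y.presheaf.stalk y)))) := by
    rw [← CommRingCat.ofHom_comp]
    rfl
  rw [h1, Spec.map_comp, Category.assoc]
  rfl


/-- Version of `isReduced_of_isGeomReducedAt_aux2` for objects of `CommRingCat`. -/
theorem isReduced_of_isGeomReducedAt_aux3 {X Y : Scheme.{u}} (f : X ⟶ Y) (x : X)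
    (hred : FBase.IsGeomReducedAt (k := Y.residueField (f x)) (f.fiberToSpecResidueField (f x))
      (f.asFiber x)) (A B : CommRingCat.{u}) [IsLocalRing A] [IsLocalRing B]
    [Algebra A B]
    (a : Spec A ⟶ Y) [Mono a] (b : Spec B ⟶ X) [Flat b] [IsPreimmersion b]
    (h : b ≫ f = Spec.map (CommRingCat.ofHom (algebraMap A B)) ≫ a)
    (hb : b (IsLocalRing.closedPoint B) = x)
    (K : Type u) [Field K] [Algebra A K]
    (hint : (algebraMap A K).IsIntegral)
    (φ : Y.residueField (f x) ⟶ CommRingCat.of K)
    (hK : Spec.map (CommRingCat.ofHom (algebraMap A K)) ≫ a =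
      Spec.map φ ≫ Y.fromSpecResidueField (f x)) :
    IsReduced (K ⊗[A] B) :=
  isReduced_of_isGeomReducedAt_aux2 f x hred (A := A) (B := B) a b h hb K hint φ hK

/-- If the fibre of `f` is geometrically reduced at `x`, then `κ̄ ⊗_{𝒪_y} 𝒪_x` is reduced. -/
theorem isReduced_of_isGeomReducedAt {X Y : Scheme.{u}} (f : X ⟶ Y) (x : X)
    (hred : FBase.IsGeomReducedAt (k := Y.residueField (f x)) (f.fiberToSpecResidueField (f x))
      (f.asFiber x)) [Algebra (Y.presheaf.stalk (f x)) (X.presheaf.stalk x)]
    (halg : CommRingCat.ofHom (algebraMap (Y.presheaf.stalk (f x)) (X.presheaf.stalk x)) =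
      f.stalkMap x) :
    IsReduced (AlgebraicClosure (IsLocalRing.ResidueField (Y.presheaf.stalk (f x)))
      ⊗[Y.presheaf.stalk (f x)] X.presheaf.stalk x) := by
  have hflat : Flat (X.fromSpecStalk x) := StalkPull.flat_fromSpecStalk X x
  have h : X.fromSpecStalk x ≫ f = Spec.map (CommRingCat.ofHom
      (algebraMap (Y.presheaf.stalk (f x)) (X.presheaf.stalk x))) ≫ Y.fromSpecStalk (f x) := by
    rw [halg]
    exact (Scheme.SpecMap_stalkMap_fromSpecStalk f).symm
  exact isReduced_of_isGeomReducedAt_aux3 f x hred (Y.presheaf.stalk (f x))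
    (X.presheaf.stalk x) (Y.fromSpecStalk (f x)) (X.fromSpecStalk x)
    h Scheme.fromSpecStalk_closedPoint
    (AlgebraicClosure (IsLocalRing.ResidueField (Y.presheaf.stalk (f x))))
    (isIntegral_algebraicClosure _) _ (spec_map_algebraicClosure Y (f x))

end Groth.Agent.Ega43.GeomFibreStalk
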