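import Groth.Agent.Ega43.UnivOpenDvr
import Groth.Prelude.Def_FDesc
import Mathlib.AlgebraicGeometry.Fiber
import Mathlib.RingTheory.LocalProperties.Reduced
import Mathlib.FieldTheory.IsAlgClosed.AlgebraicClosure

set_option autoImplicit false

open CategoryTheory CategoryTheory.Limits AlgebraicGeometry TensorProduct

namespace Groth.Agent.Ega43.GeomFibreStalk

universe u

/-- A flat preimmersion induces isomorphisms on stalks. -/
theorem stalkMap_bijective {X Y : Scheme.{u}} (f : X ⟶ Y) [Flat f] [IsPreimmersion f] (x : X) :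
    Function.Bijective (f.stalkMap x).hom :=
  ⟨UnivOpenDvr.stalkMap_injective_of_flat f x, f.stalkMap_surjective x⟩

section

variable {X Y : Scheme.{u}} (f : X ⟶ Y) {A B : Type u} [CommRing A] [CommRing B] [Algebra A B]
  (a : Spec (CommRingCat.of A) ⟶ Y) [Mono a] (b : Spec (CommRingCat.of B) ⟶ X) [Flat b]
  [IsPreimmersion b]
  (h : b ≫ f = Spec.map (CommRingCat.ofHom (algebraMap A B)) ≫ a)

include h in
/-- The local rings of the base change of a fibre to a field extension `K`, in terms of `K ⊗_A B`. -/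
theorem exists_ringEquiv_stalk (y : Y) (K : Type u) [Field K] [Algebra (Y.residueField y) K]
    [Algebra A K]
    (hK : Spec.map (CommRingCat.ofHom (algebraMap A K)) ≫ a =
      Spec.map (CommRingCat.ofHom (algebraMap (Y.residueField y) K)) ≫ Y.fromSpecResidueField y)
    (P : Ideal (K ⊗[A] B)) [P.IsPrime] (z : PrimeSpectrum B)
    (hz : P.comap (Algebra.TensorProduct.includeRight : B →ₐ[A] K ⊗[A] B) = z.asIdeal)
    (pt : f.fiber y) (hpt : (f.fiberι y) pt = b z) :
    ∃ x' : ↥(FBase.bc (k := Y.residueField y) (f.fiberToSpecResidueField y) K),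
      (FBase.bcπ (k := Y.residueField y) (f.fiberToSpecResidueField y) K) x' = pt ∧
      Nonempty ((FBase.bc (k := Y.residueField y) (f.fiberToSpecResidueField y) K).presheaf.stalk x'
        ≃+* Localization.AtPrime P) := by
  let j := StalkPull.lift f a b h K
  have hj1 : Flat j := StalkPull.flat_lift f a b h K
  have hj2 : IsPreimmersion j := StalkPull.isPreimmersion_lift f a b h K
  let r : Spec (CommRingCat.of K) ⟶ Spec (Y.residueField y) :=
    Spec.map (CommRingCat.ofHom (algebraMap (Y.residueField y) K))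
  let e1 : pullback f (Spec.map (CommRingCat.ofHom (algebraMap A K)) ≫ a) ≅
      pullback f (r ≫ Y.fromSpecResidueField y) := pullback.congrHom rfl hK
  let e2 : pullback (pullback.snd f (Y.fromSpecResidueField y)) r ≅
      pullback f (r ≫ Y.fromSpecResidueField y) :=
    pullbackLeftPullbackSndIso f (Y.fromSpecResidueField y) r
  let j' : Spec (CommRingCat.of (K ⊗[A] B)) ⟶
      FBase.bc (k := Y.residueField y) (f.fiberToSpecResidueField y) K := j ≫ e1.hom ≫ e2.inv
  have hj'1 : Flat j' := by
    have : Flat (j ≫ e1.hom ≫ e2.inv) := inferInstance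
    exact this
  have hj'2 : IsPreimmersion j' := by
    have : IsPreimmersion (j ≫ e1.hom ≫ e2.inv) := inferInstance
    exact this
  let ξ : Spec (CommRingCat.of (K ⊗[A] B)) := ⟨P, inferInstance⟩
  refine ⟨j' ξ, ?_, ?_⟩
  · have hinj : Function.Injective (f.fiberι y) := (f.fiberι y).isEmbedding.injective
    apply hinj
    rw [hpt]
    have h1 : (j ≫ e1.hom ≫ e2.inv) ≫ pullback.fst (pullback.snd f (Y.fromSpecResidueField y)) r ≫
        pullback.fst f (Y.fromSpecResidueField y) =
        Spec.map (CommRingCat.ofHom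
          (Algebra.TensorProduct.includeRight : B →ₐ[A] K ⊗[A] B).toRingHom) ≫ b := by
      rw [Category.assoc, Category.assoc, pullbackLeftPullbackSndIso_inv_fst]
      have h2 : e1.hom ≫ pullback.fst f (r ≫ Y.fromSpecResidueField y) = pullback.fst _ _ := by
        exact (pullback.lift_fst _ _ _).trans (Category.comp_id _)
      rw [h2]
      exact StalkPull.lift_fst f a b h K
    have h3 := congrArg (fun φ : Spec (CommRingCat.of (K ⊗[A] B)) ⟶ X => φ ξ) h1
    refine Eq.trans ?_ (h3.trans ?_)
    · rfl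
    · change b (Spec.map _ ξ) = b z
      congr 1
      exact PrimeSpectrum.ext hz
  · have hb := stalkMap_bijective j' ξ
    let E1 : (FBase.bc (k := Y.residueField y) (f.fiberToSpecResidueField y) K).presheaf.stalk
        (j' ξ) ≃+* (Spec (CommRingCat.of (K ⊗[A] B))).presheaf.stalk ξ :=
      RingEquiv.ofBijective (j'.stalkMap ξ).hom hb
    let E2 : (Spec (CommRingCat.of (K ⊗[A] B))).presheaf.stalk ξ ≃+* Localization.AtPrime P :=
      (StructureSheaf.stalkIso (K ⊗[A] B) ξ).symm.toRingEquiv
    exact ⟨E1.trans E2⟩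

end

/-- Primes of `K ⊗_A B` which are maximal lie over the maximal ideal of the local ring `B` when `K` is
an algebraic extension of the residue field of `A`. -/
theorem comap_eq_maximalIdeal {A B K : Type u} [CommRing A] [IsLocalRing A] [CommRing B]
    [IsLocalRing B] [Algebra A B] [Field K] [Algebra A K]
    (hint : (algebraMap A K).IsIntegral) (P : Ideal (K ⊗[A] B)) [P.IsMaximal] :
    P.comap (Algebra.TensorProduct.includeRight : B →ₐ[A] K ⊗[A] B) =
      IsLocalRing.maximalIdeal B := by
  have hint' : Algebra.IsIntegral A K := ⟨hint⟩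
  have h1 : (algebraMap B (B ⊗[A] K)).IsIntegral := algebraMap_isIntegral_iff.mpr inferInstance
  have h2 : ((Algebra.TensorProduct.includeRight : B →ₐ[A] K ⊗[A] B) : B →+* K ⊗[A] B) =
      ((Algebra.TensorProduct.comm A B K : B ⊗[A] K ≃ₐ[A] K ⊗[A] B) : B ⊗[A] K →+* K ⊗[A] B).comp
        (algebraMap B (B ⊗[A] K)) := by
    ext x
    rfl
  have h3 : ((Algebra.TensorProduct.includeRight : B →ₐ[A] K ⊗[A] B) : B →+* K ⊗[A] B).IsIntegral := by
    rw [h2]
    exact RingHom.IsIntegral.trans _ _ h1
      (RingHom.isIntegral_of_surjective _ (Algebra.TensorProduct.comm A B K).surjective)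
  have h4 : (P.comap ((Algebra.TensorProduct.includeRight : B →ₐ[A] K ⊗[A] B) :
      B →+* K ⊗[A] B)).IsMaximal := Ideal.isMaximal_comap_of_isIntegral_of_isMaximal' _ h3 P
  exact IsLocalRing.eq_maximalIdeal h4

/-- If the fibre of `f` is geometrically reduced at `x`, then `κ̄ ⊗_{𝒪_y} 𝒪_x` is reduced. -/
theorem isReduced_of_isGeomReducedAt_aux {X Y : Scheme.{u}} (f : X ⟶ Y) (x : X)
    (hred : FBase.IsGeomReducedAt (k := Y.residueField (f x)) (f.fiberToSpecResidueField (f x))
      (f.asFiber x)) {A B : Type u} [CommRing A] [CommRing B] [IsLocalRing A] [IsLocalRing B]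
    [Algebra A B]
    (a : Spec (CommRingCat.of A) ⟶ Y) [Mono a] (b : Spec (CommRingCat.of B) ⟶ X) [Flat b]
    [IsPreimmersion b]
    (h : b ≫ f = Spec.map (CommRingCat.ofHom (algebraMap A B)) ≫ a)
    (hb : b (IsLocalRing.closedPoint B) = x)
    (K : Type u) [Field K] [Algebra (Y.residueField (f x)) K] [Algebra A K]
    (hint : (algebraMap A K).IsIntegral)
    (hK : Spec.map (CommRingCat.ofHom (algebraMap A K)) ≫ a =
      Spec.map (CommRingCat.ofHom (algebraMap (Y.residueField (f x)) K)) ≫
        Y.fromSpecResidueField (f x)) :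
    IsReduced (K ⊗[A] B) := by
  refine isReduced_ofLocalizationMaximal (K ⊗[A] B) ?_
  intro P hP
  have hPm := comap_eq_maximalIdeal (B := B) hint P
  have : P.IsPrime := hP.isPrime
  obtain ⟨x', hx', ⟨e⟩⟩ := exists_ringEquiv_stalk f a b h
    (f x) K hK P (IsLocalRing.closedPoint B) hPm (f.asFiber x) (by
      rw [hb, Scheme.Hom.fiberι_asFiber])
  have := hred K x' hx'
  exact isReduced_of_injective e.symm e.symm.injective

end Groth.Agent.Ega43.GeomFibreStalk
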