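import Groth.Agent.Ega43.GeomAt
import Groth.Agent.Fdesc.TensorDomain
import Groth.Agent.Fdesc.DomainLocus
import Mathlib.RingTheory.Filtration
import Mathlib.RingTheory.DedekindDomain.Dvr
import Mathlib.RingTheory.Ideal.GoingUp

/-!
# Geometric pointwise integrality: algebra

* `DomAt q`: elementwise form of "`B_q` is a domain";
* `domAt_of_quot`: `B_q` is a domain if `π` is regular and `B_q / π` is a domain (`B` Noetherian);
-/

set_option autoImplicit false
universe u v

namespace Groth.Agent.Ega43.GeomIntAlg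

open TensorProduct

/-- Elementwise form of "`B_q` is a domain". -/
def DomAt {B : Type*} [CommRing B] (q : Ideal B) : Prop :=
  ∀ a b : B, (∃ s ∉ q, s * (a * b) = 0) → (∃ s ∉ q, s * a = 0) ∨ (∃ s ∉ q, s * b = 0)

theorem isDomain_iff {B : Type*} [CommRing B] (q : Ideal B) [q.IsPrime] :
    IsDomain (Localization.AtPrime q) ↔ DomAt q := by
  constructor
  · intro h a b ⟨s, hs, hab⟩
    have h1 : algebraMap B (Localization.AtPrime q) a * algebraMap B (Localization.AtPrime q) b = 0 := by
      rw [← map_mul, IsLocalization.map_eq_zero_iff q.primeCompl]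
      exact ⟨⟨s, hs⟩, hab⟩
    rcases mul_eq_zero.1 h1 with h2 | h2
    · rw [IsLocalization.map_eq_zero_iff q.primeCompl] at h2
      obtain ⟨t, ht⟩ := h2
      exact Or.inl ⟨t, t.2, ht⟩
    · rw [IsLocalization.map_eq_zero_iff q.primeCompl] at h2
      obtain ⟨t, ht⟩ := h2
      exact Or.inr ⟨t, t.2, ht⟩
  · intro h
    have : NoZeroDivisors (Localization.AtPrime q) := by
      refine ⟨fun {x y} hxy => ?_⟩
      obtain ⟨a, s, rfl⟩ := IsLocalization.exists_mk'_eq q.primeCompl x
      obtain ⟨b, t, rfl⟩ := IsLocalization.exists_mk'_eq q.primeCompl y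
      rw [← IsLocalization.mk'_mul, IsLocalization.mk'_eq_zero_iff] at hxy
      obtain ⟨c, hc⟩ := hxy
      rcases h a b ⟨c, c.2, hc⟩ with ⟨d, hd, hda⟩ | ⟨d, hd, hda⟩
      · left
        rw [IsLocalization.mk'_eq_zero_iff]
        exact ⟨⟨d, hd⟩, hda⟩
      · right
        rw [IsLocalization.mk'_eq_zero_iff]
        exact ⟨⟨d, hd⟩, hda⟩
    exact NoZeroDivisors.to_isDomain _

theorem DomAt.mono {B : Type*} [CommRing B] {q q' : Ideal B} [q.IsPrime] [q'.IsPrime] (hle : q ≤ q')
    (h : DomAt q') : DomAt q := by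
  intro a b ⟨s, hs, hab⟩
  have h1 : (∃ t ∉ q', t * (s * a) = 0) ∨ (∃ t ∉ q', t * b = 0) :=
    h (s * a) b ⟨1, (Ideal.ne_top_iff_one _).1 (Ideal.IsPrime.ne_top inferInstance),
      by rw [one_mul, mul_assoc]; exact hab⟩
  rcases h1 with ⟨t, ht, hta⟩ | ⟨t, ht, htb⟩
  · exact Or.inl ⟨t * s, fun hmem => (Ideal.IsPrime.mem_or_mem inferInstance hmem).elim
      (fun h => ht (hle h)) hs, by rw [mul_assoc]; exact hta⟩
  · exact Or.inr ⟨t, fun h => ht (hle h), htb⟩

/-- A Noetherian local ring with a regular element `x` of the maximal ideal generating a prime ideal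
is a domain. -/
theorem isDomain_of_regular {C : Type*} [CommRing C] [IsLocalRing C] [IsNoetherianRing C] (x : C)
    (hx : x ∈ IsLocalRing.maximalIdeal C) (hreg : ∀ y, x * y = 0 → y = 0)
    (h : ∀ a b, a * b ∈ Ideal.span {x} → a ∈ Ideal.span {x} ∨ b ∈ Ideal.span {x}) : IsDomain C := by
  have hne : Ideal.span {x} ≠ ⊤ := by
    intro h1
    have h2 : Ideal.span {x} ≤ IsLocalRing.maximalIdeal C :=
      (Ideal.span_singleton_le_iff_mem _).2 hx
    rw [h1, top_le_iff] at h2
    exact (Ideal.IsPrime.ne_top inferInstance) h2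
  have hI := Ideal.iInf_pow_eq_bot_of_isLocalRing _ hne
  have key : ∀ a : C, a ≠ 0 → ∃ (n : ℕ) (a' : C), a = x ^ n * a' ∧ a' ∉ Ideal.span {x} := by
    intro a ha
    have h1 : ∃ n : ℕ, a ∉ Ideal.span {x} ^ n := by
      by_contra hcon
      push Not at hcon
      apply ha
      have : a ∈ (⨅ i, Ideal.span {x} ^ i : Ideal C) := by
        rw [Ideal.mem_iInf]; exact hcon
      rw [hI] at this
      exact this
    classical
    obtain ⟨n, hn⟩ : ∃ n, Nat.find h1 = n + 1 := by
      cases hn : Nat.find h1 with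
      | zero =>
        have h2 := Nat.find_spec h1
        rw [hn, pow_zero, Ideal.one_eq_top] at h2
        exact (h2 trivial).elim
      | succ n => exact ⟨n, rfl⟩
    have h2 : a ∈ Ideal.span {x} ^ n := by
      by_contra h3
      exact Nat.find_min h1 (m := n) (by rw [hn]; exact Nat.lt_succ_self n) h3
    have h3 := Nat.find_spec h1
    rw [hn] at h3
    rw [Ideal.span_singleton_pow, Ideal.mem_span_singleton'] at h2
    obtain ⟨a', rfl⟩ := h2
    refine ⟨n, a', mul_comm _ _, fun h4 => h3 ?_⟩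
    rw [Ideal.mem_span_singleton'] at h4
    obtain ⟨c, rfl⟩ := h4
    rw [Ideal.span_singleton_pow, Ideal.mem_span_singleton']
    exact ⟨c, by ring⟩
  have : NoZeroDivisors C := by
    refine ⟨fun {a b} hab => ?_⟩
    by_contra hcon
    push Not at hcon
    obtain ⟨n, a', ha, ha'⟩ := key a hcon.1
    obtain ⟨m, b', hb, hb'⟩ := key b hcon.2
    have h1 : ∀ (k : ℕ) (y : C), x ^ k * y = 0 → y = 0 := by
      intro k
      induction k with
      | zero => intro y hy; simpa using hy
      | succ k ih => intro y hy; exact ih y (hreg _ (by rw [← hy]; ring))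
    have h2 : a' * b' = 0 := by
      apply h1 (n + m)
      rw [ha, hb] at hab
      rw [← hab]; ring
    rcases h a' b' (by rw [h2]; exact Ideal.zero_mem _) with h3 | h3
    · exact ha' h3
    · exact hb' h3
  exact NoZeroDivisors.to_isDomain _

/-- `D_Q` is a domain when `D` is Noetherian, `π` is a nonzerodivisor of `D` and `D_Q / π` is the
local ring at `Q'` of the quotient `E` and is a domain. -/
theorem domAt_of_quot {D E : Type*} [CommRing D] [IsNoetherianRing D] [CommRing E] (f : D →+* E)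
    (hf : Function.Surjective f) (Q : Ideal D) [Q.IsPrime] (Q' : Ideal E) [Q'.IsPrime]
    (hQ : Q'.comap f = Q) (hQ' : DomAt Q') (π : D) (hπ : f π = 0)
    (hker : ∀ d : D, f d = 0 → ∃ s ∉ Q, s * d ∈ Ideal.span {π}) (hreg : ∀ y : D, π * y = 0 → y = 0) :
    DomAt Q := by
  rw [← isDomain_iff]
  have hπQ : π ∈ Q := by
    rw [← hQ, Ideal.mem_comap, hπ]; exact Ideal.zero_mem _
  refine isDomain_of_regular (C := Localization.AtPrime Q) (algebraMap D _ π) ?_ ?_ ?_
  · rw [← Localization.AtPrime.map_eq_maximalIdeal]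
    exact Ideal.mem_map_of_mem _ hπQ
  · intro y hy
    obtain ⟨a, s, rfl⟩ := IsLocalization.exists_mk'_eq Q.primeCompl y
    rw [← IsLocalization.mk'_one (M := Q.primeCompl) (S := Localization.AtPrime Q) π,
      ← IsLocalization.mk'_mul, IsLocalization.mk'_eq_zero_iff] at hy
    obtain ⟨c, hc⟩ := hy
    rw [IsLocalization.mk'_eq_zero_iff]
    exact ⟨c, hreg _ (by rw [← hc]; ring)⟩
  · intro a b hab
    obtain ⟨a, s, rfl⟩ := IsLocalization.exists_mk'_eq Q.primeCompl a
    obtain ⟨b, t, rfl⟩ := IsLocalization.exists_mk'_eq Q.primeCompl b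
    have hmap : Ideal.span {algebraMap D (Localization.AtPrime Q) π} =
        (Ideal.span {π}).map (algebraMap D (Localization.AtPrime Q)) := by
      rw [Ideal.map_span, Set.image_singleton]
    rw [hmap] at hab ⊢
    rw [← IsLocalization.mk'_mul, IsLocalization.mk'_mem_map_algebraMap_iff] at hab
    rw [IsLocalization.mk'_mem_map_algebraMap_iff, IsLocalization.mk'_mem_map_algebraMap_iff]
    obtain ⟨u, hu, hab⟩ := hab
    have h1 : f u * (f a * f b) = 0 := by
      rw [Ideal.mem_span_singleton'] at hab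
      obtain ⟨c, hc⟩ := hab
      rw [← map_mul, ← map_mul, ← hc, map_mul, hπ, mul_zero]
    have h2 : ∀ d : D, (∃ w ∉ Q', w * f d = 0) → ∃ s ∈ Q.primeCompl, s * d ∈ Ideal.span {π} := by
      intro d ⟨w, hw, hwd⟩
      obtain ⟨w, rfl⟩ := hf w
      obtain ⟨s', hs', hs2⟩ := hker (w * d) (by rw [map_mul, hwd])
      refine ⟨s' * w, ?_, by rw [mul_assoc]; exact hs2⟩
      intro hmem
      rcases Ideal.IsPrime.mem_or_mem inferInstance hmem with h3 | h3
      · exact hs' h3
      · rw [← hQ] at h3; exact hw h3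
    rcases hQ' (f a) (f b) ⟨f u, fun h3 => hu (by rw [← hQ]; exact h3), h1⟩ with h3 | h3
    · exact Or.inl (h2 a h3)
    · exact Or.inr (h2 b h3)

/-- `DomAt` descends along flat ring homomorphisms. -/
theorem DomAt.of_flat {D C : Type u} [CommRing D] [CommRing C] (φ : D →+* C) (hφ : φ.Flat)
    (r : Ideal C) [r.IsPrime] (h : DomAt r) : DomAt (r.comap φ) := by
  rw [← isDomain_iff] at h ⊢
  exact Fdesc.DomainLocus.isDomain_of_flat φ hφ r

end Groth.Agent.Ega43.GeomIntAlg
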