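import Groth.Agent.Ega43.GeomIntAlg
import Groth.Agent.VarietyB.KrullAkizuki

/-!
# Geometric pointwise integrality over a discrete valuation ring

`domAt_finite`: let `R` be a DVR, `B` a flat finite type `R`-algebra, `q0 ≤ q1` primes of `B` over the
generic and the closed point. If `B` is geometrically pointwise integral over `R` at `q1` then the local rings
of `B ⊗ L` over `q0` are domains for every finite extension `L` of the fraction field.
-/

set_option autoImplicit false
universe u v

namespace Groth.Agent.Ega43.GeomIntDvr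

open TensorProduct IsLocalRing
open Groth.Agent.Ega43.GeomIntAlg Groth.Agent.Ega43.GeomAt

/-- In a Dedekind domain, a nonzero prime is generated by one element after localization. -/
theorem exists_uniformizer (S : Type*) [CommRing S] [IsDedekindDomain S] (n : Ideal S) [n.IsPrime]
    (hn : n ≠ ⊥) : ∃ π ∈ n, π ≠ 0 ∧ ∀ x ∈ n, ∃ s ∉ n, s * x ∈ Ideal.span {π} := by
  have := IsLocalization.AtPrime.isDiscreteValuationRing_of_dedekind_domain S hn
    (Localization.AtPrime n)
  obtain ⟨ϖ, hϖ⟩ := IsDiscreteValuationRing.exists_irreducible (Localization.AtPrime n)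
  have hm := hϖ.maximalIdeal_eq
  obtain ⟨a, t, rfl⟩ := IsLocalization.exists_mk'_eq n.primeCompl ϖ
  have ha : a ∈ n := by
    have h1 : IsLocalization.mk' (Localization.AtPrime n) a t ∈ maximalIdeal (Localization.AtPrime n) := by
      rw [hm]; exact Ideal.mem_span_singleton_self _
    exact (IsLocalization.AtPrime.mk'_mem_maximal_iff (Localization.AtPrime n) n a t).1 h1
  have hspan : Ideal.span {IsLocalization.mk' (Localization.AtPrime n) a t} =
      (Ideal.span {a}).map (algebraMap S (Localization.AtPrime n)) := by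
    rw [Ideal.map_span, Set.image_singleton]
    apply Ideal.span_singleton_eq_span_singleton.2
    have h1 : IsUnit (algebraMap S (Localization.AtPrime n) t) :=
      IsLocalization.map_units _ t
    refine ⟨h1.unit, ?_⟩
    rw [IsUnit.unit_spec]
    exact IsLocalization.mk'_spec _ _ _
  refine ⟨a, ha, ?_, ?_⟩
  · rintro rfl
    exact hϖ.ne_zero (by simp)
  · intro x hx
    have h1 : algebraMap S (Localization.AtPrime n) x ∈ maximalIdeal (Localization.AtPrime n) := by
      rw [← Localization.AtPrime.map_eq_maximalIdeal]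
      exact Ideal.mem_map_of_mem _ hx
    rw [hm, hspan, IsLocalization.algebraMap_mem_map_algebraMap_iff n.primeCompl] at h1
    obtain ⟨s, hs, h2⟩ := h1
    exact ⟨s, hs, h2⟩

/-- Domains at points of base changes to Dedekind domains. -/
theorem domAt_dedekind {R B S : Type u} [CommRing R] [CommRing B] [Algebra R B]
    [Algebra.FiniteType R B] [Module.Flat R B] [CommRing S] [IsDedekindDomain S] [Algebra R S]
    (Q1 : Ideal (B ⊗[R] S)) [Q1.IsPrime]
    (hn : Q1.comap (Algebra.TensorProduct.includeRight : S →ₐ[R] B ⊗[R] S) ≠ ⊥)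
    (h : GeomAtAlg (fun R _ => IsDomain R) R B (Q1.comap (algebraMap B (B ⊗[R] S)))) :
    DomAt Q1 := by
  let n := Q1.comap (Algebra.TensorProduct.includeRight : S →ₐ[R] B ⊗[R] S)
  have hnp : n.IsPrime := Ideal.IsPrime.comap _
  have hnm : n.IsMaximal := hnp.isMaximal hn
  let K := S ⧸ n
  let _ : Field K := Ideal.Quotient.field n
  let f : B ⊗[R] S →ₐ[R] B ⊗[R] K :=
    Algebra.TensorProduct.map (AlgHom.id R B) (Ideal.Quotient.mkₐ R n)
  have hfs : Function.Surjective f :=
    TensorProduct.map_surjective Function.surjective_id (Ideal.Quotient.mkₐ_surjective R n)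
  have hker : RingHom.ker f = n.map (Algebra.TensorProduct.includeRight : S →ₐ[R] B ⊗[R] S) := by
    have h1 := Algebra.TensorProduct.lTensor_ker (A := B) (Ideal.Quotient.mkₐ R n)
      (Ideal.Quotient.mkₐ_surjective R n)
    have h2 : RingHom.ker (Ideal.Quotient.mkₐ R n) = n := by
      ext x
      rw [RingHom.mem_ker]
      exact Ideal.Quotient.eq_zero_iff_mem
    rw [h2] at h1
    exact h1
  have hkle : RingHom.ker f ≤ Q1 := by
    rw [hker]; exact Ideal.map_comap_le
  let Q' : Ideal (B ⊗[R] K) := Q1.map (f : B ⊗[R] S →+* B ⊗[R] K)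
  have hQ'p : Q'.IsPrime := Ideal.map_isPrime_of_surjective (f := (f : B ⊗[R] S →+* B ⊗[R] K)) hfs hkle
  have hQ' : Q'.comap (f : B ⊗[R] S →+* B ⊗[R] K) = Q1 := by
    have h3 := Ideal.comap_map_of_surjective (f : B ⊗[R] S →+* B ⊗[R] K) hfs Q1
    exact h3.trans (sup_eq_left.2 hkle)
  have hfB : (f : B ⊗[R] S →+* B ⊗[R] K).comp (algebraMap B (B ⊗[R] S)) = algebraMap B (B ⊗[R] K) := by
    ext b
    simp [f, Algebra.TensorProduct.algebraMap_apply]
  have h1 := h K Q' (by
    rw [← hfB, ← Ideal.comap_comap, hQ'])
  have h2 : DomAt Q' := (isDomain_iff Q').1 h1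
  obtain ⟨π, hπn, hπ0, hπ⟩ := exists_uniformizer S n hn
  have hN : IsNoetherianRing (B ⊗[R] S) := by
    have h3 : IsNoetherianRing (S ⊗[R] B) := Algebra.FiniteType.isNoetherianRing S _
    exact isNoetherianRing_of_ringEquiv _ (Algebra.TensorProduct.comm R S B).toRingEquiv
  refine domAt_of_quot (f : B ⊗[R] S →+* B ⊗[R] K) hfs Q1 Q' hQ' h2
    (Algebra.TensorProduct.includeRight (R := R) (A := B) π) ?_ ?_ ?_
  · change f _ = 0
    rw [← RingHom.mem_ker, hker]
    exact Ideal.mem_map_of_mem _ hπn
  · intro d hd
    have hd' : d ∈ n.map (Algebra.TensorProduct.includeRight : S →ₐ[R] B ⊗[R] S) := by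
      rw [← hker]; exact hd
    clear hd
    induction hd' using Submodule.span_induction with
    | mem x hx =>
      obtain ⟨y, hy, rfl⟩ := hx
      obtain ⟨s, hs, h3⟩ := hπ y hy
      refine ⟨Algebra.TensorProduct.includeRight (R := R) (A := B) s, fun h4 => hs h4, ?_⟩
      rw [Ideal.mem_span_singleton'] at h3
      obtain ⟨c, hc⟩ := h3
      rw [Ideal.mem_span_singleton']
      refine ⟨Algebra.TensorProduct.includeRight (R := R) (A := B) c, ?_⟩
      change _ = Algebra.TensorProduct.includeRight (R := R) (A := B) s *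
        Algebra.TensorProduct.includeRight (R := R) (A := B) y
      rw [← map_mul, ← map_mul, hc]
    | zero => exact ⟨1, (Ideal.ne_top_iff_one _).1 (Ideal.IsPrime.ne_top inferInstance),
        by rw [mul_zero]; exact Ideal.zero_mem _⟩
    | add x y _ _ hx hy =>
      obtain ⟨s, hs, hx⟩ := hx
      obtain ⟨t, ht, hy⟩ := hy
      refine ⟨s * t, fun h4 => (Ideal.IsPrime.mem_or_mem inferInstance h4).elim hs ht, ?_⟩
      have : s * t * (x + y) = t * (s * x) + s * (t * y) := by ring
      rw [this]
      exact Ideal.add_mem _ (Ideal.mul_mem_left _ _ hx) (Ideal.mul_mem_left _ _ hy)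
    | smul c x _ hx =>
      obtain ⟨s, hs, hx⟩ := hx
      refine ⟨s, hs, ?_⟩
      have : s * c • x = c * (s * x) := by rw [smul_eq_mul]; ring
      rw [this]
      exact Ideal.mul_mem_left _ _ hx
  · intro y hy
    let μ : S →ₗ[R] S := LinearMap.mulLeft R π
    have hμ : Function.Injective μ := by
      intro a b hab
      exact mul_left_cancel₀ hπ0 hab
    have h3 : Function.Injective (μ.lTensor B) := Module.Flat.lTensor_preserves_injective_linearMap μ hμ
    have h4 : ∀ z : B ⊗[R] S, μ.lTensor B z =
        Algebra.TensorProduct.includeRight (R := R) (A := B) π * z := by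
      intro z
      induction z with
      | zero => simp
      | tmul b s => simp [μ, Algebra.TensorProduct.includeRight_apply, Algebra.TensorProduct.tmul_mul_tmul]
      | add x y hx hy => rw [map_add, hx, hy, mul_add]
    apply h3
    rw [map_zero, h4, hy]

end Groth.Agent.Ega43.GeomIntDvr
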