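import Groth.Agent.Ega43.GeomIntDvr
import Mathlib.FieldTheory.IsAlgClosed.AlgebraicClosure
import Mathlib.RingTheory.LocalRing.ResidueField.Ideal
import Mathlib.RingTheory.Flat.FaithfullyFlat.Algebra

/-!
# Geometric pointwise integrality over a discrete valuation ring, II

`geomAtAlg_dvr`: let `R` be a DVR, `B` a flat finite type `R`-algebra, `q0 ≤ q1` primes of `B` over the
generic and the closed point. If `B` is geometrically pointwise integral over `R` at `q1`, so it is at `q0`.
-/

set_option autoImplicit false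
universe u v

namespace Groth.Agent.Ega43.GeomIntDvr

open TensorProduct IsLocalRing
open Groth.Agent.Ega43.GeomIntAlg Groth.Agent.Ega43.GeomAt

/-- the finite extension case -/
theorem domAt_finite {R B L : Type u} [CommRing R] [IsDomain R] [IsDiscreteValuationRing R]
    [CommRing B] [Algebra R B] [Algebra.FiniteType R B] [Module.Flat R B] {q0 q1 : Ideal B}
    [q0.IsPrime] [q1.IsPrime] (hle : q0 ≤ q1) (h1 : q1.comap (algebraMap R B) ≠ ⊥)
    (h : GeomAtAlg (fun R _ => IsDomain R) R B q1) (K : Type u) [Field K] [Algebra R K]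
    [IsFractionRing R K] [Field L] [Algebra R L] [Algebra K L] [IsScalarTower R K L]
    [FiniteDimensional K L] (QL : Ideal (B ⊗[R] L)) [QL.IsPrime]
    (hQL : QL.comap (algebraMap B (B ⊗[R] L)) = q0) : DomAt QL := by
  have hRL : Function.Injective (algebraMap R L) := by
    rw [IsScalarTower.algebraMap_eq R K L]
    exact (algebraMap K L).injective.comp (IsFractionRing.injective R K)
  let S := integralClosure R L
  have hNS : IsNoetherianRing S :=
    VarietyB.KrullAkizuki.krullAkizuki (R := R) (K := K) (L := L) (A := S) Subtype.val_injective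
  have hIC : IsIntegrallyClosed S := integralClosure.isIntegrallyClosedOfFiniteExtension K
  have hDim : Ring.DimensionLEOne S := inferInstance
  have hDed : IsDedekindDomain S := { hNS, hIC, hDim with }
  let φ : B ⊗[R] S →ₐ[R] B ⊗[R] L := Algebra.TensorProduct.map (AlgHom.id R B) S.val
  have hφi : Function.Injective φ :=
    Module.Flat.lTensor_preserves_injective_linearMap (M := B) S.val.toLinearMap Subtype.val_injective
  have hφB : (φ : B ⊗[R] S →+* B ⊗[R] L).comp (algebraMap B (B ⊗[R] S)) =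
      algebraMap B (B ⊗[R] L) := by
    ext b
    simp [φ, Algebra.TensorProduct.algebraMap_apply]
  let QS : Ideal (B ⊗[R] S) := QL.comap (φ : B ⊗[R] S →+* B ⊗[R] L)
  have hQSp : QS.IsPrime := Ideal.IsPrime.comap _
  have hQS : QS.comap (algebraMap B (B ⊗[R] S)) = q0 := by
    rw [Ideal.comap_comap, hφB, hQL]
  obtain ⟨Q1, hQ1, hQ1p, hQ1c⟩ := Ideal.exists_ideal_over_prime_of_isIntegral_of_isPrime q1 QS
    (by rw [hQS]; exact hle)
  have hn : Q1.comap (Algebra.TensorProduct.includeRight : S →ₐ[R] B ⊗[R] S) ≠ ⊥ := by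
    intro h2
    apply h1
    rw [eq_bot_iff]
    intro r hr
    have h3 : algebraMap R S r ∈ Q1.comap
        (Algebra.TensorProduct.includeRight : S →ₐ[R] B ⊗[R] S) := by
      rw [Ideal.mem_comap, AlgHom.commutes, Algebra.TensorProduct.algebraMap_apply]
      rw [← hQ1c] at hr
      exact hr
    rw [h2, Ideal.mem_bot] at h3
    have h4 : algebraMap R L r = 0 := congrArg Subtype.val h3
    rw [Ideal.mem_bot]
    exact hRL (by rw [h4, map_zero])
  have hdom1 : DomAt Q1 := domAt_dedekind Q1 hn (by rw [hQ1c]; exact h)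
  have hdomS : DomAt QS := hdom1.mono hQ1
  -- clearing denominators
  have hAlg : Algebra.IsAlgebraic R L := by
    have : Algebra.IsAlgebraic K L := inferInstance
    exact (IsFractionRing.comap_isAlgebraic_iff (A := R) (K := K) (C := L)).2 this
  have hden : ∀ z : B ⊗[R] L, ∃ r : R, r ≠ 0 ∧ ∃ w : B ⊗[R] S, φ w = r • z := by
    intro z
    induction z with
    | zero => exact ⟨1, one_ne_zero, 0, by simp⟩
    | tmul b l =>
      obtain ⟨r, hr, hl⟩ := (hAlg.1 l).exists_integral_multiple
      refine ⟨r, hr, b ⊗ₜ ⟨r • l, hl⟩, ?_⟩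
      change b ⊗ₜ[R] (r • l) = _
      rw [TensorProduct.tmul_smul]
    | add x y hx hy =>
      obtain ⟨r, hr, w, hw⟩ := hx
      obtain ⟨r', hr', w', hw'⟩ := hy
      refine ⟨r * r', mul_ne_zero hr hr', r' • w + r • w', ?_⟩
      rw [map_add, map_smul, map_smul, hw, hw', smul_add, smul_smul, smul_smul, mul_comm r' r]
  have hunit : ∀ r : R, r ≠ 0 → IsUnit (algebraMap R (B ⊗[R] L) r) := by
    intro r hr
    have h2 : IsUnit (algebraMap R L r) := by
      rw [isUnit_iff_ne_zero]
      intro h3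
      exact hr (hRL (by rw [h3, map_zero]))
    have h3 := h2.map (Algebra.TensorProduct.includeRight : L →ₐ[R] B ⊗[R] L)
    rwa [AlgHom.commutes] at h3
  have hmem : ∀ r : R, r ≠ 0 → ∀ z : B ⊗[R] L, r • z ∈ QL → z ∈ QL := by
    intro r hr z hz
    rw [Algebra.smul_def] at hz
    exact (Ideal.unit_mul_mem_iff_mem QL (hunit r hr)).1 hz
  intro a b ⟨s, hs, hab⟩
  obtain ⟨r1, hr1, a', ha⟩ := hden a
  obtain ⟨r2, hr2, b', hb⟩ := hden b
  obtain ⟨r3, hr3, s', hs'⟩ := hden s
  have h5 : s' * (a' * b') = 0 := by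
    apply hφi
    rw [map_mul, map_mul, ha, hb, hs', map_zero]
    have : r3 • s * (r1 • a * r2 • b) = (r3 * r1 * r2) • (s * (a * b)) := by
      simp only [Algebra.smul_def, map_mul]; ring
    rw [this, hab, smul_zero]
  have h6 : s' ∉ QS := by
    intro h7
    apply hs
    apply hmem r3 hr3
    rw [← hs']
    exact h7
  have hfin : ∀ (d : B ⊗[R] L) (r : R), r ≠ 0 → ∀ d' : B ⊗[R] S, φ d' = r • d →
      (∃ t ∉ QS, t * d' = 0) → ∃ t ∉ QL, t * d = 0 := by
    rintro d r hr d' hd ⟨t, ht, htd⟩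
    refine ⟨φ t, fun h8 => ht h8, ?_⟩
    have h9 : r • (φ t * d) = 0 := by
      have h10 := congrArg φ htd
      rw [map_mul, hd, map_zero] at h10
      rw [← h10]
      simp only [Algebra.smul_def]; ring
    rw [Algebra.smul_def] at h9
    exact (hunit r hr).mul_right_eq_zero.1 h9
  rcases hdomS a' b' ⟨s', h6, h5⟩ with h7 | h7
  · exact Or.inl (hfin a r1 hr1 a' ha h7)
  · exact Or.inr (hfin b r2 hr2 b' hb h7)

/-- Passage to an algebraic extension from its finite subextensions. -/
theorem domAt_of_finite_level {R B : Type u} [CommRing R] [CommRing B] [Algebra R B]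
    [Module.Flat R B] (K Ω : Type u) [Field K] [Algebra R K] [Field Ω] [Algebra R Ω] [Algebra K Ω]
    [IsScalarTower R K Ω] [Algebra.IsAlgebraic K Ω] (Q : Ideal (B ⊗[R] Ω)) [Q.IsPrime]
    (h : ∀ L : IntermediateField K Ω, FiniteDimensional K L →
      DomAt (Q.comap (Algebra.TensorProduct.map (AlgHom.id R B) (L.val.restrictScalars R) :
        B ⊗[R] L →ₐ[R] B ⊗[R] Ω))) : DomAt Q := by
  have hsub : ∀ z : B ⊗[R] Ω, ∃ T : Set Ω, T.Finite ∧ ∀ L : IntermediateField K Ω, T ⊆ L →
      z ∈ Set.range (Algebra.TensorProduct.map (AlgHom.id R B) (L.val.restrictScalars R) :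
        B ⊗[R] L →ₐ[R] B ⊗[R] Ω) := by
    intro z
    induction z with
    | zero => exact ⟨∅, Set.finite_empty, fun L _ => ⟨0, map_zero _⟩⟩
    | tmul b w =>
      refine ⟨{w}, Set.finite_singleton w, fun L hL => ⟨b ⊗ₜ ⟨w, hL rfl⟩, rfl⟩⟩
    | add x y hx hy =>
      obtain ⟨T, hT, hx⟩ := hx
      obtain ⟨T', hT', hy⟩ := hy
      refine ⟨T ∪ T', hT.union hT', fun L hL => ?_⟩
      obtain ⟨x', hx'⟩ := hx L (Set.subset_union_left.trans hL)
      obtain ⟨y', hy'⟩ := hy L (Set.subset_union_right.trans hL)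
      exact ⟨x' + y', by rw [map_add, hx', hy']⟩
  intro a b ⟨s, hs, hab⟩
  obtain ⟨Ta, hTa, ha⟩ := hsub a
  obtain ⟨Tb, hTb, hb⟩ := hsub b
  obtain ⟨Ts, hTs, hs'⟩ := hsub s
  let T := Ta ∪ Tb ∪ Ts
  have hT : T.Finite := (hTa.union hTb).union hTs
  let L := IntermediateField.adjoin K T
  have hLT : T ⊆ L := IntermediateField.subset_adjoin K T
  have : Finite T := hT
  have hfd : FiniteDimensional K L :=
    IntermediateField.finiteDimensional_adjoin fun x _ => Algebra.IsIntegral.isIntegral x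
  have hφi : Function.Injective (Algebra.TensorProduct.map (AlgHom.id R B)
      (L.val.restrictScalars R) : B ⊗[R] L →ₐ[R] B ⊗[R] Ω) :=
    Module.Flat.lTensor_preserves_injective_linearMap (M := B)
      (L.val.restrictScalars R).toLinearMap (algebraMap L Ω).injective
  obtain ⟨a, rfl⟩ := ha L ((Set.subset_union_left.trans Set.subset_union_left).trans hLT)
  obtain ⟨b, rfl⟩ := hb L ((Set.subset_union_right.trans Set.subset_union_left).trans hLT)
  obtain ⟨s, rfl⟩ := hs' L (Set.subset_union_right.trans hLT)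
  have h5 : s * (a * b) = 0 := by
    apply hφi
    rw [map_mul, map_mul, hab, map_zero]
  rcases h L hfd a b ⟨s, hs, h5⟩ with ⟨t, ht, hta⟩ | ⟨t, ht, htb⟩
  · exact Or.inl ⟨_, ht, by rw [← map_mul, hta, map_zero]⟩
  · exact Or.inr ⟨_, ht, by rw [← map_mul, htb, map_zero]⟩

end Groth.Agent.Ega43.GeomIntDvr
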