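import Mathlib.RingTheory.Smooth.Field
import Mathlib.RingTheory.Nilpotent.GeometricallyReduced
import Mathlib.RingTheory.TensorProduct.Free

/-!
# Finitely generated geometrically reduced field extensions are formally smooth

`formallySmooth_of_isReduced`: `L/k` essentially of finite type field extension with
`AlgebraicClosure k ⊗[k] L` reduced is formally smooth over `k`.
-/

set_option autoImplicit false

open TensorProduct

namespace Groth.Agent.Ega43.SepSmooth

variable {k L : Type*} [Field k] [Field L] [Algebra k L]

/-- If `AlgebraicClosure k ⊗ L` is reduced then `p`-th powers of linearly independent elements of `L` are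
linearly independent. -/
theorem linearIndepOn_pow (h : IsReduced (AlgebraicClosure k ⊗[k] L)) (p : ℕ) [Fact p.Prime]
    [CharP k p] (s : Finset L) (hs : LinearIndepOn k _root_.id (s : Set L)) :
    LinearIndepOn k (· ^ p) (s : Set L) := by
  classical
  let K := AlgebraicClosure k
  have hcK : CharP K p := charP_of_injective_algebraMap (algebraMap k K).injective p
  have hinj : Function.Injective (algebraMap K (K ⊗[k] L)) :=
    Algebra.TensorProduct.includeLeft_injective (S := K) (algebraMap k L).injective
  have hcT : CharP (K ⊗[k] L) p := charP_of_injective_algebraMap hinj p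
  have hs0 : LinearIndepOn k _root_.id (s : Set L) := hs
  rw [LinearIndepOn, linearIndependent_iff'] at hs ⊢
  intro t a hta i hi
  have hroot : ∀ x : k, ∃ b : K, b ^ p = algebraMap k K x := fun x =>
    IsAlgClosed.exists_pow_nat_eq _ (Nat.Prime.pos Fact.out)
  choose r hr using hroot
  have hz : (∑ j ∈ t, r (a j) ⊗ₜ[k] (j : L)) = 0 := by
    apply pow_eq_zero_iff (M₀ := K ⊗[k] L) (n := p) (Nat.Prime.ne_zero Fact.out) |>.1
    rw [sum_pow_char p]
    have : ∀ j ∈ t, (r (a j) ⊗ₜ[k] (j : L)) ^ p = (1 : K) ⊗ₜ[k] (a j • (j : L) ^ p) := by
      intro j _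
      rw [Algebra.TensorProduct.tmul_pow, hr, Algebra.algebraMap_eq_smul_one,
        TensorProduct.smul_tmul]
    rw [Finset.sum_congr rfl this, ← TensorProduct.tmul_sum]
    have hta' : ∑ j ∈ t, a j • (j : L) ^ p = 0 := hta
    rw [hta', TensorProduct.tmul_zero]
  -- linear independence of `1 ⊗ x`
  have hbc : LinearIndependent K (fun x : (s : Set L) => (1 : K) ⊗ₜ[k] (x : L)) := by
    let b := Module.Basis.extend hs0
    let B := Algebra.TensorProduct.basis K b
    have := B.linearIndependent.comp
      (fun x : (s : Set L) => (⟨x, hs0.subset_extend (Set.subset_univ _) x.2⟩ :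
        hs0.extend (Set.subset_univ _)))
      (fun x y hxy => by
        have h1 := congrArg Subtype.val hxy
        exact Subtype.ext h1)
    convert this using 2
    simp [B, b]
  rw [linearIndependent_iff'] at hbc
  have h0 := hbc t (fun j => r (a j)) (by
    have : ∀ j ∈ t, r (a j) • (1 : K) ⊗ₜ[k] (j : L) = r (a j) ⊗ₜ[k] (j : L) := by
      intro j _
      rw [TensorProduct.smul_tmul', smul_eq_mul, mul_one]
    rw [Finset.sum_congr rfl this, hz]) i hi
  have h1 := hr (a i)
  rw [h0, zero_pow (Nat.Prime.ne_zero Fact.out)] at h1
  exact (map_eq_zero _).1 h1.symm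

/-- A finitely generated field extension which is geometrically reduced is formally smooth. -/
theorem formallySmooth_of_isReduced (h : IsReduced (AlgebraicClosure k ⊗[k] L))
    [Algebra.EssFiniteType k L] : Algebra.FormallySmooth k L := by
  obtain _ | ⟨p, hp, hpk⟩ := CharP.exists' k
  · infer_instance
  · have : ExpChar k p := .prime hp.out
    obtain ⟨s, hs, H⟩ :=
      exists_isTranscendenceBasis_and_isSeparable_of_linearIndepOn_pow_of_essFiniteType
        (k := k) (K := L) p hp.out (fun s hs => linearIndepOn_pow h p s hs)
    have : Algebra.IsSeparable (↥(IntermediateField.adjoin k (Set.range ((↑) : s → L)))) L := by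
      convert! H <;> simp
    exact .of_algebraicIndependent_of_isSeparable hs.1

end Groth.Agent.Ega43.SepSmooth
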