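import Mathlib.RingTheory.Smooth.IntegralClosure
import Mathlib.RingTheory.Nilpotent.GeometricallyReduced

/-!
# Smooth algebras over reduced rings are reduced

`isReduced_of_smooth`: if `R` is reduced and `S` is smooth over `R` then `S` is reduced (no Noetherian
hypothesis). The proof uses that smooth base change commutes with integral closure, applied to `R[X]`.
-/

set_option autoImplicit false

open TensorProduct

namespace Groth.Agent.Ega43.SmoothReduced

/-- Over a reduced ring, the elements of `R[X]` integral over `R` are the constants. -/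
theorem coeff_eq_zero_of_isIntegral {R : Type*} [CommRing R] [IsReduced R]
    (f : Polynomial R) (hf : IsIntegral R f) (i : ℕ) (hi : i ≠ 0) : f.coeff i = 0 := by
  have key : f.coeff i ∈ nilradical R := by
    rw [nilradical_eq_sInf]
    refine (Submodule.mem_sInf).2 ?_
    intro p hp
    have hp' : Ideal.IsPrime p := hp
    have : IsDomain (R ⧸ p) := Ideal.Quotient.isDomain p
    rw [← Ideal.Quotient.eq_zero_iff_mem, ← Polynomial.coeff_map]
    have hint : IsIntegral (R ⧸ p) (f.map (Ideal.Quotient.mk p)) := by
      have h1 : IsIntegral R (f.map (Ideal.Quotient.mk p)) := by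
        have := hf.map (Polynomial.mapAlgHom (R := R) (Ideal.Quotient.mkₐ R p))
        exact this
      exact h1.tower_top
    by_contra hne
    have hdeg : (f.map (Ideal.Quotient.mk p)).natDegree ≠ 0 := by
      intro h0
      apply hne
      apply Polynomial.coeff_eq_zero_of_natDegree_lt
      rw [h0]
      exact Nat.pos_of_ne_zero hi
    refine Polynomial.transcendental _ hdeg ?_ hint.isAlgebraic
    rw [mem_nonZeroDivisors_iff_ne_zero, ne_eq, Polynomial.leadingCoeff_eq_zero]
    intro h0
    rw [h0] at hdeg
    exact hdeg Polynomial.natDegree_zero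
  rw [nilradical_eq_zero] at key
  simpa using key

/-- A smooth algebra over a reduced ring is reduced. -/
theorem isReduced_of_smooth (R S : Type*) [CommRing R] [CommRing S] [Algebra R S] [IsReduced R]
    [Algebra.Smooth R S] : IsReduced S := by
  constructor
  intro n hn
  have hbij := TensorProduct.toIntegralClosure_bijective_of_smooth (R := R) (S := S)
    (B := Polynomial R)
  have hint : IsIntegral S (n ⊗ₜ[R] (Polynomial.X : Polynomial R)) := by
    obtain ⟨k, hk⟩ := hn
    refine ⟨Polynomial.X ^ k, Polynomial.monic_X_pow k, ?_⟩
    rw [Polynomial.eval₂_X_pow, Algebra.TensorProduct.tmul_pow, hk, TensorProduct.zero_tmul]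
  obtain ⟨t, ht⟩ := hbij.2 ⟨_, hint⟩
  -- the linear functional `coefficient of X`
  let φ : S ⊗[R] Polynomial R →ₗ[S] S :=
    (TensorProduct.AlgebraTensorModule.rid R S S).toLinearMap ∘ₗ
      TensorProduct.AlgebraTensorModule.map (LinearMap.id : S →ₗ[S] S) (Polynomial.lcoeff R 1)
  have h1 : φ (n ⊗ₜ[R] (Polynomial.X : Polynomial R)) = n := by
    simp [φ]
  have h2 : ∀ t : S ⊗[R] integralClosure R (Polynomial R),
      φ ((TensorProduct.toIntegralClosure R S (Polynomial R) t : S ⊗[R] Polynomial R)) = 0 := by
    intro t
    induction t with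
    | zero => simp
    | add x y hx hy => rw [map_add]; simp only [AddMemClass.coe_add, map_add, hx, hy, add_zero]
    | tmul x y =>
      have := coeff_eq_zero_of_isIntegral (y : Polynomial R) y.2 1 one_ne_zero
      simp [φ, TensorProduct.toIntegralClosure, this]
  rw [← h1, ← h2 t, ht]

end Groth.Agent.Ega43.SmoothReduced
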