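import Mathlib.RingTheory.Smooth.Fiber
import Mathlib.RingTheory.Ideal.GoingUp
import Mathlib.RingTheory.Localization.BaseChange
import Mathlib.RingTheory.Ideal.MinimalPrime.Noetherian
import Groth.Agent.Ega43.SmoothReduced
import Groth.Agent.Ega43.SepSmooth

set_option autoImplicit false
set_option linter.style.haveILetI false

open TensorProduct

namespace Groth.Agent.Ega43.GeomRedAlg

/-- Criterion for reducedness of a localization. -/
theorem isReduced_localization_iff {T : Type*} [CommRing T] (M : Submonoid T) (T' : Type*)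
    [CommRing T'] [Algebra T T'] [IsLocalization M T'] :
    IsReduced T' ↔ ∀ w : T, IsNilpotent w → ∃ s ∈ M, s * w = 0 := by
  constructor
  · intro h w hw
    have h0 : algebraMap T T' w = 0 := (hw.map (algebraMap T T')).eq_zero
    rw [IsLocalization.map_eq_zero_iff M] at h0
    obtain ⟨m, hm⟩ := h0
    exact ⟨m, m.2, hm⟩
  · intro h
    constructor
    intro z hz
    obtain ⟨n, hn⟩ := hz
    obtain ⟨w, m, rfl⟩ := IsLocalization.exists_mk'_eq M z
    have h0 : algebraMap T T' (w ^ n) = 0 := by
      have h1 : (IsLocalization.mk' T' w m * algebraMap T T' m) ^ n = 0 := by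
        rw [mul_pow, hn, zero_mul]
      rwa [IsLocalization.mk'_spec, ← map_pow] at h1
    rw [IsLocalization.map_eq_zero_iff M] at h0
    obtain ⟨c, hc⟩ := h0
    have hnil : IsNilpotent ((c : T) * w) := by
      refine ⟨n + 1, ?_⟩
      have : ((c : T) * w) ^ (n + 1) = (c : T) ^ n * w * (c * w ^ n) := by ring
      rw [this, hc, mul_zero]
    obtain ⟨s, hs, hsw⟩ := h _ hnil
    rw [IsLocalization.mk'_eq_zero_iff]
    exact ⟨⟨s, hs⟩ * c, by rw [Submonoid.coe_mul, mul_assoc]; exact hsw⟩

/-- All local rings of `F ⊗[k] K` at primes over `q` satisfy `P`. -/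
def FieldAt (P : ∀ (R : Type _) [CommRing R], Prop) (k F K : Type*) [Field k] [CommRing F] [Algebra k F]
    [CommRing K] [Algebra k K] (q : Ideal F) : Prop :=
  ∀ (Q : Ideal (F ⊗[k] K)) [Q.IsPrime], Q.comap (algebraMap F (F ⊗[k] K)) = q →
    P (Localization.AtPrime Q)

/-- Field-theoretic core: if all local rings of `F ⊗ K` (`K/k` algebraic) at primes over `q` are reduced
then a nilpotent element of `F ⊗ K` is killed by an element outside `q`. -/
theorem exists_notMem_smul_eq_zero {k F K : Type*} [Field k] [CommRing F] [Algebra k F] [Field K]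
    [Algebra k K] [Algebra.IsAlgebraic k K] (q : Ideal F) [q.IsPrime]
    (h : FieldAt (fun R _ => IsReduced R) k F K q)
    (w : F ⊗[k] K) (hw : IsNilpotent w) : ∃ s : F, s ∉ q ∧ s • w = 0 := by
  by_contra hcon
  push Not at hcon
  let I : Ideal (F ⊗[k] K) := Ideal.span {w} |>.annihilator
  have hI : ∀ x, x ∈ I ↔ x * w = 0 := by
    intro x
    simp only [I]
    rw [Submodule.mem_annihilator_span_singleton, smul_eq_mul]
  have hle : I.comap (algebraMap F (F ⊗[k] K)) ≤ q := by
    intro s hs
    by_contra hsq
    apply hcon s hsq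
    rw [Ideal.mem_comap, hI] at hs
    rw [Algebra.smul_def, hs]
  obtain ⟨Q, hQI, hQp, hQ⟩ := Ideal.exists_ideal_over_prime_of_isIntegral q I hle
  have hred : IsReduced (Localization.AtPrime Q) := h Q hQ
  rw [isReduced_localization_iff Q.primeCompl] at hred
  obtain ⟨s, hs, hsw⟩ := hred w hw
  exact hs (hQI ((hI s).2 hsw))

/-- Variant: `F_P ⊗ K` is reduced for every prime `P ≤ q`. -/
theorem isReduced_localization_tensor {k F K : Type*} [Field k] [CommRing F] [Algebra k F] [Field K]
    [Algebra k K] [Algebra.IsAlgebraic k K] (q : Ideal F) [q.IsPrime]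
    (h : FieldAt (fun R _ => IsReduced R) k F K q)
    (P : Ideal F) [P.IsPrime] (hP : P ≤ q) : IsReduced (Localization.AtPrime P ⊗[k] K) := by
  letI : Algebra (F ⊗[k] K) (Localization.AtPrime P ⊗[k] K) :=
    (Algebra.TensorProduct.map (Algebra.ofId F (Localization.AtPrime P))
      (AlgHom.id k K)).toAlgebra
  haveI : IsScalarTower F (F ⊗[k] K) (Localization.AtPrime P ⊗[k] K) :=
    .of_algebraMap_eq <| by intro x; simp [RingHom.algebraMap_toAlgebra]
  haveI := IsLocalization.tensorProduct_tensorProduct k K P.primeCompl (Localization.AtPrime P)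
    (by ext; simp [RingHom.algebraMap_toAlgebra])
  rw [isReduced_localization_iff (Algebra.algebraMapSubmonoid (F ⊗[k] K) P.primeCompl)]
  intro w hw
  obtain ⟨s, hs, hsw⟩ := exists_notMem_smul_eq_zero q h w hw
  refine ⟨algebraMap F _ s, Algebra.mem_algebraMapSubmonoid_of_mem
    (⟨s, fun hsP => hs (hP hsP)⟩ : P.primeCompl), ?_⟩
  rw [← Algebra.smul_def, hsw]

theorem isReduced_localization {k F K : Type*} [Field k] [CommRing F] [Algebra k F] [Field K]
    [Algebra k K] [Algebra.IsAlgebraic k K] (q : Ideal F) [q.IsPrime]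
    (h : FieldAt (fun R _ => IsReduced R) k F K q)
    (P : Ideal F) [P.IsPrime] (hP : P ≤ q) : IsReduced (Localization.AtPrime P) := by
  have := isReduced_localization_tensor q h P hP
  exact isReduced_of_injective
    (Algebra.TensorProduct.includeLeft : Localization.AtPrime P →ₐ[k] Localization.AtPrime P ⊗[k] K)
    (Algebra.TensorProduct.includeLeft_injective (algebraMap k K).injective)

/-- If `F` is geometrically reduced at `q` over `k` then `F` is smooth at the minimal primes
contained in `q`. -/
theorem isSmoothAt_of_mem_minimalPrimes {k F : Type*} [Field k] [CommRing F] [Algebra k F]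
    [Algebra.EssFiniteType k F] (q : Ideal F) [q.IsPrime]
    (h : FieldAt (fun R _ => IsReduced R) k F (AlgebraicClosure k) q)
    (P : Ideal F) [P.IsPrime] (hPm : P ∈ minimalPrimes F) (hP : P ≤ q) :
    Algebra.IsSmoothAt k P := by
  have h1 := isReduced_localization_tensor q h P hP
  have h2 := isReduced_localization q h P hP
  have h3 : Ring.KrullDimLE 0 (Localization.AtPrime P) :=
    Ring.KrullDimLE.of_isLocalization P hPm _
  have h4 : IsField (Localization.AtPrime P) := Ring.KrullDimLE.isField_of_isReduced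
  letI : Field (Localization.AtPrime P) := h4.toField
  have h5 : IsReduced (AlgebraicClosure k ⊗[k] Localization.AtPrime P) :=
    isReduced_of_injective
      (Algebra.TensorProduct.comm k (AlgebraicClosure k) (Localization.AtPrime P))
      (Algebra.TensorProduct.comm k (AlgebraicClosure k) (Localization.AtPrime P)).injective
  exact SepSmooth.formallySmooth_of_isReduced h5

/-- Pointwise fibre criterion of smoothness. -/
theorem isSmoothAt_of_fiber {A B : Type*} [CommRing A] [CommRing B] [Algebra A B] [Module.Flat A B]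
    [Algebra.FinitePresentation A B] (p : Ideal A) [p.IsPrime] (P : Ideal (p.Fiber B)) [P.IsPrime]
    [Algebra.IsSmoothAt p.ResidueField P] :
    Algebra.IsSmoothAt A (P.comap (Algebra.TensorProduct.includeRight : B →ₐ[A] p.Fiber B)) := by
  set r := P.comap (Algebra.TensorProduct.includeRight : B →ₐ[A] p.Fiber B) with hr
  obtain ⟨h, hP, hsm⟩ := Algebra.IsSmoothAt.exists_notMem_smooth p.ResidueField P
  obtain ⟨a, ha, s, e⟩ := Ideal.Fiber.exists_smul_eq_one_tmul p h
  have ha' : IsUnit (algebraMap A (p.Fiber B) a) := by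
    rw [IsScalarTower.algebraMap_apply A p.ResidueField (p.Fiber B)]
    refine IsUnit.map _ ?_
    rw [isUnit_iff_ne_zero, ne_eq, Ideal.algebraMap_residueField_eq_zero]
    exact ha
  have hsr : s ∉ r := by
    intro hs
    rw [hr, Ideal.mem_comap] at hs
    have h2 : (1 : p.ResidueField) ⊗ₜ[A] s ∈ P := hs
    rw [← e, Algebra.smul_def] at h2
    exact hP ((Ideal.unit_mul_mem_iff_mem P ha').1 h2)
  have hsm2 : Algebra.FormallySmooth p.ResidueField
      (Localization.Away ((1 : p.ResidueField) ⊗ₜ[A] s)) := by
    rw [← Algebra.basicOpen_subset_smoothLocus_iff]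
    have h3 := (Algebra.basicOpen_subset_smoothLocus_iff (R := p.ResidueField) (f := h)).2 hsm.1
    refine subset_trans ?_ h3
    have : (1 : p.ResidueField) ⊗ₜ[A] s = algebraMap A (p.Fiber B) a * h := by
      rw [← e, Algebra.smul_def]
    rw [this]
    exact PrimeSpectrum.basicOpen_mul_le_right _ _
  let Bs := Localization.Away s
  have hfib : Algebra.FormallySmooth p.ResidueField (p.Fiber Bs) :=
    .of_equiv (IsLocalization.Away.tensorProductEquivTMulRight A p.ResidueField s Bs).symm
  have hFP : Algebra.FinitePresentation A Bs := by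
    have : Algebra.FinitePresentation B Bs := IsLocalization.Away.finitePresentation s
    exact .trans _ B _
  have hflat : Module.Flat A Bs := Module.Flat.trans A B Bs
  have hdisj : Disjoint (Submonoid.powers s : Set B) (r : Set B) := by
    rw [Set.disjoint_left]
    rintro _ ⟨n, rfl⟩ hn
    exact hsr (Ideal.IsPrime.mem_of_pow_mem inferInstance n hn)
  have hprime := IsLocalization.isPrime_of_isPrime_disjoint (Submonoid.powers s) Bs r inferInstance
    hdisj
  have hcomap := IsLocalization.under_map_of_isPrime_disjoint (Submonoid.powers s) Bs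
    (inferInstance : r.IsPrime) hdisj
  set q' := r.map (algebraMap B Bs) with hq'
  have hlies : q'.LiesOver p := by
    constructor
    have h5 : P.LiesOver p := inferInstance
    have h6 : q'.under A = (q'.under B).under A := by
      rw [Ideal.under_under]
    rw [h6, hcomap, hr]
    refine h5.over.trans ?_
    ext x
    simp only [Ideal.under, Ideal.mem_comap]
    have : algebraMap A (p.Fiber B) x = Algebra.TensorProduct.includeRight (algebraMap A B x) :=
      ((Algebra.TensorProduct.includeRight : B →ₐ[A] p.Fiber B).commutes x).symm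
    rw [this]
  have hmem : (⟨q', hprime⟩ : PrimeSpectrum Bs) ∈ Algebra.smoothLocus A Bs :=
    Algebra.IsSmoothAt.of_formallySmooth_fiber p q'
  rw [← Algebra.smoothLocus_comap_of_isLocalization s] at hmem
  have h7 : PrimeSpectrum.comap (algebraMap B Bs) ⟨q', hprime⟩ = ⟨r, inferInstance⟩ := by
    ext1
    exact hcomap
  rw [Set.mem_preimage, h7] at hmem
  exact hmem

/-- In a reduced ring an element outside all minimal primes is a nonzerodivisor. -/
theorem mem_nonZeroDivisors_of_forall_minimalPrimes {R : Type*} [CommRing R] [IsReduced R] (x : R)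
    (h : ∀ P ∈ minimalPrimes R, x ∉ P) : x ∈ nonZeroDivisors R := by
  rw [mem_nonZeroDivisors_iff_right]
  intro y hy
  by_contra hy0
  have hrad : (⊥ : Ideal R).radical = ⊥ := by
    exact nilradical_eq_zero R
  have hx : x ∈ ⋃ p ∈ (⊥ : Ideal R).minimalPrimes, (p : Set R) := by
    rw [Ideal.iUnion_minimalPrimes]
    refine ⟨y, ?_, ?_⟩
    · rw [hrad]; simpa using hy0
    · rw [hrad, mul_comm, hy]; exact Submodule.zero_mem _
  simp only [Set.mem_iUnion] at hx
  obtain ⟨P, hP, hxP⟩ := hx
  exact h P hP hxP

theorem comap_mem_minimalPrimes {R : Type*} [CommRing R] (q : Ideal R) [q.IsPrime]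
    (P' : Ideal (Localization.AtPrime q)) (hP' : P' ∈ minimalPrimes (Localization.AtPrime q)) :
    P'.comap (algebraMap R (Localization.AtPrime q)) ∈ minimalPrimes R ∧
      P'.comap (algebraMap R (Localization.AtPrime q)) ≤ q := by
  constructor
  · have := IsLocalization.minimalPrimes_map q.primeCompl (Localization.AtPrime q) (⊥ : Ideal R)
    rw [Ideal.map_bot] at this
    have h2 : P' ∈ (⊥ : Ideal (Localization.AtPrime q)).minimalPrimes := hP'
    rw [this] at h2
    exact h2
  · intro x hx
    by_contra hxq
    have hu : IsUnit (algebraMap R (Localization.AtPrime q) x) :=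
      IsLocalization.map_units (Localization.AtPrime q) (⟨x, hxq⟩ : q.primeCompl)
    exact hP'.1.1.ne_top (Ideal.eq_top_of_isUnit_mem _ hx hu)

theorem algebraMap_mem_nonZeroDivisors {F : Type*} [CommRing F] (q : Ideal F) [q.IsPrime]
    (hred : IsReduced (Localization.AtPrime q)) (x : F)
    (h : ∀ P ∈ minimalPrimes F, P ≤ q → x ∉ P) :
    algebraMap F (Localization.AtPrime q) x ∈ nonZeroDivisors (Localization.AtPrime q) := by
  apply mem_nonZeroDivisors_of_forall_minimalPrimes
  intro P' hP' hmem
  obtain ⟨h1, h2⟩ := comap_mem_minimalPrimes q P' hP'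
  exact h _ h1 h2 hmem

/-- Existence of an element `g` of `B` with `D(g)` in the smooth locus and regular on the local ring of the
fibre at `q`. -/
theorem exists_basicOpen_subset_smoothLocus {A B : Type*} [CommRing A] [CommRing B] [Algebra A B]
    [Module.Flat A B] [Algebra.FinitePresentation A B] (p : Ideal A) [p.IsPrime]
    (q : Ideal (p.Fiber B)) [q.IsPrime]
    (h : FieldAt (fun R _ => IsReduced R) p.ResidueField (p.Fiber B) (AlgebraicClosure p.ResidueField) q) :
    ∃ g : B, (PrimeSpectrum.basicOpen g : Set (PrimeSpectrum B)) ⊆ Algebra.smoothLocus A B ∧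
      algebraMap (p.Fiber B) (Localization.AtPrime q) ((1 : p.ResidueField) ⊗ₜ[A] g) ∈
        nonZeroDivisors (Localization.AtPrime q) := by
  have hFT : Algebra.FiniteType p.ResidueField (p.Fiber B) := inferInstance
  have hNoeth : IsNoetherianRing (p.Fiber B) := Algebra.FiniteType.isNoetherianRing p.ResidueField _
  let ι : B →ₐ[A] p.Fiber B := Algebra.TensorProduct.includeRight
  let S : Set (Ideal (p.Fiber B)) := {P | P ∈ minimalPrimes (p.Fiber B) ∧ P ≤ q}
  have hS : S.Finite := (minimalPrimes.finite_of_isNoetherianRing (p.Fiber B)).subset (fun P hP => hP.1)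
  let J : Ideal B := PrimeSpectrum.vanishingIdeal ((Algebra.smoothLocus A B)ᶜ)
  have hclosed : IsClosed ((Algebra.smoothLocus A B)ᶜ) := Algebra.isOpen_smoothLocus.isClosed_compl
  have hzero : PrimeSpectrum.zeroLocus (J : Set B) = (Algebra.smoothLocus A B)ᶜ := by
    rw [PrimeSpectrum.zeroLocus_vanishingIdeal_eq_closure, hclosed.closure_eq]
  have hex : ∃ g ∈ J, ∀ P ∈ S, g ∉ P.comap ι := by
    by_contra hcon
    push Not at hcon
    have hsub : (J : Set B) ⊆ ⋃ P ∈ S, (P.comap ι : Ideal B) := by
      intro g hg
      obtain ⟨P, hP, hgP⟩ := hcon g hg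
      simp only [Set.mem_iUnion]
      exact ⟨P, hP, hgP⟩
    rw [Ideal.subset_union_prime_finite hS (f := fun P => P.comap ι) ⊥ ⊥] at hsub
    · obtain ⟨P, hP, hJP⟩ := hsub
      have hPp : P.IsPrime := hP.1.1.1
      have := isSmoothAt_of_mem_minimalPrimes q h P hP.1 hP.2
      have h1 : Algebra.IsSmoothAt A (P.comap ι) := isSmoothAt_of_fiber p P
      have h2 : (⟨P.comap ι, inferInstance⟩ : PrimeSpectrum B) ∈ PrimeSpectrum.zeroLocus (J : Set B) :=
        hJP
      rw [hzero] at h2
      exact h2 h1
    · intro P hP _ _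
      have hPp : P.IsPrime := hP.1.1.1
      infer_instance
  obtain ⟨g, hgJ, hg⟩ := hex
  refine ⟨g, ?_, ?_⟩
  · intro x hx
    by_contra hxc
    exact hx ((PrimeSpectrum.mem_vanishingIdeal _ _).1 hgJ x hxc)
  · have hred : IsReduced (Localization.AtPrime q) := isReduced_localization q h q le_rfl
    exact algebraMap_mem_nonZeroDivisors q hred _ fun P hP hPq hmem => hg P ⟨hP, hPq⟩ hmem

end Groth.Agent.Ega43.GeomRedAlg
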