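import Mathlib.RingTheory.Flat.Equalizer
import Groth.Agent.Ega43.GeomRedAlg

/-!
# Reducedness of base changes from a regular element with smooth complement
-/

set_option autoImplicit false
set_option linter.style.haveILetI false

open TensorProduct

namespace Groth.Agent.Ega43.GeomRedAlg2

open Groth.Agent.Ega43.GeomRedAlg

section

variable {A B K : Type*} [CommRing A] [CommRing B] [Algebra A B] [CommRing K] [Algebra A K]

/-- The map `B ⊗ K → M⁻¹B ⊗ K`. -/
noncomputable def locMap (A K : Type*) {B : Type*} [CommRing A] [CommRing B] [Algebra A B] [CommRing K]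
    [Algebra A K] (M : Submonoid B) : B ⊗[A] K →ₐ[B] Localization M ⊗[A] K :=
  Algebra.TensorProduct.map (Algebra.ofId B (Localization M)) (AlgHom.id A K)

/-- `M⁻¹B ⊗ K` is the localization of `B ⊗ K`: kernel. -/
theorem exists_smul_eq_zero (M : Submonoid B) (x : B ⊗[A] K) (hx : locMap A K M x = 0) :
    ∃ m ∈ M, m • x = 0 := by
  letI : Algebra (B ⊗[A] K) (Localization M ⊗[A] K) := (locMap A K M).toAlgebra
  haveI : IsScalarTower B (B ⊗[A] K) (Localization M ⊗[A] K) :=
    .of_algebraMap_eq' (locMap A K M).comp_algebraMap.symm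
  haveI := IsLocalization.tensorProduct_tensorProduct A K M (Localization M)
    (by ext; simp [RingHom.algebraMap_toAlgebra, locMap])
  have h0 : algebraMap (B ⊗[A] K) (Localization M ⊗[A] K) x = 0 := hx
  rw [IsLocalization.map_eq_zero_iff (Algebra.algebraMapSubmonoid (B ⊗[A] K) M)] at h0
  obtain ⟨⟨_, m, hm, rfl⟩, h1⟩ := h0
  exact ⟨m, hm, by rw [Algebra.smul_def]; exact h1⟩

theorem exists_smul_eq_zero_of_isReduced (M : Submonoid B)
    (h : IsReduced (Localization M ⊗[A] K)) (w : B ⊗[A] K) (hw : IsNilpotent w) :
    ∃ m ∈ M, m • w = 0 :=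
  exists_smul_eq_zero M w (hw.map (locMap A K M)).eq_zero

/-- If `g` is regular on `B'` and `B'/g` is `A`-flat then `g` is regular on `B' ⊗ K`. -/
theorem smul_injective_of_flat (g : B) (hg : g ∈ nonZeroDivisors B)
    (hflat : Module.Flat A (B ⧸ Ideal.span {g})) (x : B ⊗[A] K) (hx : g • x = 0) : x = 0 := by
  let μ : B →ₗ[A] B := LinearMap.mulLeft A g
  have hμ : Function.Injective μ := by
    intro a b hab
    have : g * (a - b) = 0 := by
      rw [mul_sub, sub_eq_zero]; exact hab
    rw [mem_nonZeroDivisors_iff_right] at hg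
    exact sub_eq_zero.1 (hg _ (by rw [mul_comm]; exact this))
  let π : B →ₗ[A] B ⧸ Ideal.span {g} := (Ideal.Quotient.mkₐ A (Ideal.span {g})).toLinearMap
  have hex : Function.Exact μ π := by
    intro b
    constructor
    · intro hb
      have hb' : b ∈ Ideal.span {g} := Ideal.Quotient.eq_zero_iff_mem.1 hb
      obtain ⟨c, hc⟩ := Ideal.mem_span_singleton'.1 hb'
      exact ⟨c, by simp only [μ, LinearMap.mulLeft_apply]; rw [mul_comm]; exact hc⟩
    · rintro ⟨c, rfl⟩
      exact Ideal.Quotient.eq_zero_iff_mem.2 (Ideal.mul_mem_right _ _ (Ideal.mem_span_singleton_self g))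
  have hinj := LinearMap.lTensor_injective_of_exact_of_flat π
    (Ideal.Quotient.mk_surjective) μ hμ hex K
  have hcomm : ∀ y : B ⊗[A] K, TensorProduct.comm A B K (g • y) =
      μ.lTensor K (TensorProduct.comm A B K y) := by
    intro y
    induction y with
    | zero => simp
    | add a b ha hb => rw [smul_add, map_add, map_add, map_add, ha, hb]
    | tmul b c => simp [TensorProduct.smul_tmul', μ]
  have h1 := hcomm x
  rw [hx, map_zero] at h1
  have h2 := hinj (h1.symm.trans (map_zero _).symm)
  exact (TensorProduct.comm A B K).map_eq_zero_iff.1 h2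

end

/-- **Reducedness of base changes.** -/
theorem isReduced_of_regular {A B K : Type*} [CommRing A] [CommRing B] [Algebra A B]
    [Algebra.FinitePresentation A B] [Field K] [Algebra A K] (M : Submonoid B) (q : Ideal B)
    [q.IsPrime] (hM : M ≤ q.primeCompl) (g : B)
    (hg : (PrimeSpectrum.basicOpen g : Set (PrimeSpectrum B)) ⊆ Algebra.smoothLocus A B)
    (hreg : algebraMap B (Localization M) g ∈ nonZeroDivisors (Localization M))
    (hflat : Module.Flat A
      (Localization M ⧸ Ideal.span {algebraMap B (Localization M) g}))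
    (Q : Ideal (B ⊗[A] K)) [Q.IsPrime] (hQ : Q.comap (algebraMap B (B ⊗[A] K)) = q) :
    IsReduced (Localization.AtPrime Q) := by
  rw [isReduced_localization_iff Q.primeCompl]
  intro w hw
  have hsm : Algebra.Smooth A (Localization.Away g) :=
    Algebra.basicOpen_subset_smoothLocus_iff_smooth.1 hg
  have hred : IsReduced (Localization.Away g ⊗[A] K) := by
    have h1 : IsReduced (K ⊗[A] Localization.Away g) := SmoothReduced.isReduced_of_smooth K _
    exact isReduced_of_injective (Algebra.TensorProduct.comm A (Localization.Away g) K)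
      (Algebra.TensorProduct.comm A (Localization.Away g) K).injective
  obtain ⟨_, ⟨n, rfl⟩, hn⟩ := exists_smul_eq_zero_of_isReduced (Submonoid.powers g) hred w hw
  have h0 : locMap A K M w = 0 := by
    have h1 : ∀ m : ℕ, (g ^ m) • locMap A K M w = 0 → locMap A K M w = 0 := by
      intro m
      induction m with
      | zero => intro h; simpa using h
      | succ m ih =>
        intro h
        apply ih
        refine smul_injective_of_flat (A := A) (B := Localization M) (K := K) _ hreg hflat _ ?_
        rw [algebraMap_smul, smul_smul, ← pow_succ', h]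
    apply h1 n
    rw [← map_smul]
    simp only at hn
    rw [hn, map_zero]
  obtain ⟨s, hs, hsw⟩ := exists_smul_eq_zero M w h0
  refine ⟨algebraMap B _ s, ?_, by rw [← Algebra.smul_def, hsw]⟩
  intro hsQ
  apply hM hs
  rw [← hQ]
  exact hsQ

/-- `B_q` is reduced if `A` is reduced at the image of `q`, `D(g)` is in the smooth locus and `g` is
regular on `B_q`. -/
theorem isReduced_localization_of_regular {A B : Type*} [CommRing A] [CommRing B] [Algebra A B]
    [Algebra.FinitePresentation A B] (p : Ideal A) [p.IsPrime] (q : Ideal B) [q.IsPrime]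
    (hq : q.comap (algebraMap A B) = p) (g : B)
    (hg : (PrimeSpectrum.basicOpen g : Set (PrimeSpectrum B)) ⊆ Algebra.smoothLocus A B)
    (hreg : algebraMap B (Localization.AtPrime q) g ∈ nonZeroDivisors (Localization.AtPrime q))
    (hred : IsReduced (Localization.AtPrime p)) : IsReduced (Localization.AtPrime q) := by
  rw [isReduced_localization_iff q.primeCompl]
  intro w hw
  have hsm : Algebra.Smooth A (Localization.Away g) :=
    Algebra.basicOpen_subset_smoothLocus_iff_smooth.1 hg
  have hred2 : IsReduced (Localization.AtPrime p ⊗[A] Localization.Away g) :=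
    SmoothReduced.isReduced_of_smooth (Localization.AtPrime p) _
  -- `w ⊗ 1` is nilpotent in `B_g ⊗ A_p`
  have hred3 : IsReduced (Localization.Away g ⊗[A] Localization.AtPrime p) :=
    isReduced_of_injective (Algebra.TensorProduct.comm A (Localization.Away g) (Localization.AtPrime p))
      (Algebra.TensorProduct.comm A (Localization.Away g) (Localization.AtPrime p)).injective
  obtain ⟨_, ⟨n, rfl⟩, hn⟩ := exists_smul_eq_zero_of_isReduced (A := A) (K := Localization.AtPrime p)
    (Submonoid.powers g) hred3 (algebraMap B _ w) (hw.map _)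
  have h1 : ((g ^ n * w) ⊗ₜ[A] (1 : Localization.AtPrime p)) = 0 := by
    simpa [Algebra.TensorProduct.algebraMap_apply, TensorProduct.smul_tmul'] using hn
  -- hence `g ^ n * w` is killed by an element of `A ∖ p`
  have h2 : ∃ a : A, a ∉ p ∧ algebraMap A B a * (g ^ n * w) = 0 := by
    have hloc : IsLocalization (Algebra.algebraMapSubmonoid B p.primeCompl)
      (B ⊗[A] Localization.AtPrime p) := inferInstance
    have h3 : algebraMap B (B ⊗[A] Localization.AtPrime p) (g ^ n * w) = 0 := by
      simpa [Algebra.TensorProduct.algebraMap_apply] using h1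
    rw [IsLocalization.map_eq_zero_iff (Algebra.algebraMapSubmonoid B p.primeCompl)] at h3
    obtain ⟨⟨_, a, ha, rfl⟩, h4⟩ := h3
    exact ⟨a, ha, h4⟩
  obtain ⟨a, ha, h4⟩ := h2
  have h5 : algebraMap B (Localization.AtPrime q) w = 0 := by
    have h6 : algebraMap B (Localization.AtPrime q) (algebraMap A B a) *
        (algebraMap B (Localization.AtPrime q) g ^ n * algebraMap B (Localization.AtPrime q) w) = 0 := by
      rw [← map_pow, ← map_mul, ← map_mul, h4, map_zero]
    have hu : IsUnit (algebraMap B (Localization.AtPrime q) (algebraMap A B a)) :=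
      IsLocalization.map_units (Localization.AtPrime q) (⟨algebraMap A B a, by
        intro h; apply ha; rw [← hq]; exact h⟩ : q.primeCompl)
    rw [hu.mul_right_eq_zero] at h6
    exact (mem_nonZeroDivisors_iff.1 (pow_mem hreg n)).1 _ h6
  rw [IsLocalization.map_eq_zero_iff q.primeCompl] at h5
  obtain ⟨s, hs⟩ := h5
  exact ⟨s, s.2, hs⟩

end Groth.Agent.Ega43.GeomRedAlg2
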