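import Groth.Agent.Ega43.GeomRedAlg2
import Groth.Agent.Ega43.GeomAt
import Groth.Agent.Flat2D.SliceAway
set_option autoImplicit false
set_option linter.style.haveILetI false
universe u
open TensorProduct
namespace Groth.Agent.Ega43.GeomRedMain
open Groth.Agent.Ega43.GeomRedAlg Groth.Agent.Ega43.GeomRedAlg2

variable {A B : Type u} [CommRing A] [CommRing B] [Algebra A B]

/-- `(κ ⊗ B) ⊗ K ≃ B ⊗ K`. -/
noncomputable def fiberTensorEquiv (k K : Type u) [Field k] [Algebra A k] [Field K] [Algebra k K]
    [Algebra A K] [IsScalarTower A k K] : (k ⊗[A] B) ⊗[k] K ≃+* B ⊗[A] K :=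
  ((Algebra.TensorProduct.comm k (k ⊗[A] B) K).toRingEquiv.trans
    (Algebra.TensorProduct.cancelBaseChange A k k K B).toRingEquiv).trans
    (Algebra.TensorProduct.comm A K B).toRingEquiv

theorem fiberTensorEquiv_apply (k K : Type u) [Field k] [Algebra A k] [Field K] [Algebra k K]
    [Algebra A K] [IsScalarTower A k K] (b : B) :
    fiberTensorEquiv (A := A) (B := B) k K (algebraMap (k ⊗[A] B) ((k ⊗[A] B) ⊗[k] K) (1 ⊗ₜ[A] b)) =
      algebraMap B (B ⊗[A] K) b := by
  simp [fiberTensorEquiv, Algebra.TensorProduct.algebraMap_apply]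

/-- transport of the local property along a ring isomorphism -/
theorem localization_atPrime_of_ringEquiv {P : ∀ (R : Type u) [CommRing R], Prop}
    (hP : GeomAt.IsoClosed P) {R S : Type u} [CommRing R] [CommRing S] (e : R ≃+* S) (Q : Ideal R)
    [Q.IsPrime] (Q' : Ideal S) [Q'.IsPrime] (h : Q'.comap (e : R →+* S) = Q) :
    P (Localization.AtPrime Q') → P (Localization.AtPrime Q) := by
  refine hP _ _ (IsLocalization.ringEquivOfRingEquiv (M := Q'.primeCompl) (T := Q.primeCompl)
    (Localization.AtPrime Q') (Localization.AtPrime Q) e.symm ?_)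
  ext x
  simp only [Submonoid.mem_map, Ideal.mem_primeCompl_iff]
  constructor
  · rintro ⟨y, hy, rfl⟩
    intro hmem
    rw [← h, Ideal.mem_comap] at hmem
    apply hy
    have h1 : (e : R →+* S) ((e.symm : S →+* R) y) = y := e.apply_symm_apply y
    rw [← h1]
    exact hmem
  · intro hx
    refine ⟨e x, ?_, by simp⟩
    intro hmem
    apply hx
    rw [← h]
    exact hmem

/-- From the condition on `B ⊗ K` to the condition on the fibre. -/
theorem fieldAt_of_geomAtAlg {P : ∀ (R : Type u) [CommRing R], Prop} (hP : GeomAt.IsoClosed P)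
    (q : Ideal B) (h : GeomAt.GeomAtAlg P A B q)
    (k K : Type u) [Field k] [Algebra A k] [Field K] [Algebra k K] [Algebra A K]
    [IsScalarTower A k K] (q' : Ideal (k ⊗[A] B))
    (hq' : q'.comap (Algebra.TensorProduct.includeRight : B →ₐ[A] k ⊗[A] B) = q) :
    FieldAt P k (k ⊗[A] B) K q' := by
  intro Q hQp hQ
  let e := fiberTensorEquiv (A := A) (B := B) k K
  let Q' : Ideal (B ⊗[A] K) := Q.comap (e.symm : B ⊗[A] K →+* _)
  have hQ'p : Q'.IsPrime := Ideal.IsPrime.comap _
  have h1 : Q'.comap (algebraMap B (B ⊗[A] K)) = q := by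
    rw [← hq', ← hQ]
    ext b
    simp only [Q', Ideal.mem_comap]
    rw [← fiberTensorEquiv_apply k K b]
    simp [e]
  have h2 := h K Q' h1
  refine localization_atPrime_of_ringEquiv hP e Q Q' ?_ h2
  ext x
  simp [Q']


/-- kernel of `B → κ(p) ⊗ B` -/
theorem exists_smul_mem_of_one_tmul_eq_zero (p : Ideal A) [p.IsPrime] (b : B)
    (hb : (1 : p.ResidueField) ⊗ₜ[A] b = 0) :
    ∃ a : A, a ∉ p ∧ a • b ∈ p.map (algebraMap A B) := by
  let := Algebra.TensorProduct.rightAlgebra (R := A) (A := p.ResidueField) (B := B)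
  have h1 := (Ideal.Fiber.algEquivQuotient (S := B) p).commutes b
  have h2 : algebraMap B (p.Fiber B) b = (1 : p.ResidueField) ⊗ₜ[A] b := rfl
  rw [h2, hb, map_zero] at h1
  have h3 := h1.symm
  rw [IsScalarTower.algebraMap_apply B (Localization (Algebra.algebraMapSubmonoid B p.primeCompl)),
    Ideal.Quotient.algebraMap_eq, Ideal.Quotient.eq_zero_iff_mem,
    ← Localization.AtPrime.map_eq_maximalIdeal, Ideal.map_map, ← IsScalarTower.algebraMap_eq,
    IsScalarTower.algebraMap_eq A B, ← Ideal.map_map,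
    IsLocalization.algebraMap_mem_map_algebraMap_iff (Algebra.algebraMapSubmonoid B p.primeCompl)] at h3
  obtain ⟨_, ⟨a, ha, rfl⟩, h4⟩ := h3
  exact ⟨a, ha, by rwa [Algebra.smul_def]⟩

/-- Regularity on the local ring of the fibre, in terms of `B_q`. -/
theorem regular_of_fiber (p : Ideal A) [p.IsPrime] (q : Ideal B) [q.IsPrime]
    (q' : Ideal (p.Fiber B)) [q'.IsPrime]
    (hq : q'.comap (Algebra.TensorProduct.includeRight : B →ₐ[A] p.Fiber B) = q) (g : B)
    (hg : algebraMap (p.Fiber B) (Localization.AtPrime q') ((1 : p.ResidueField) ⊗ₜ[A] g) ∈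
      nonZeroDivisors (Localization.AtPrime q'))
    (x : Localization.AtPrime q)
    (hx : algebraMap B (Localization.AtPrime q) g * x ∈
      (p.map (algebraMap A B)).map (algebraMap B (Localization.AtPrime q))) :
    x ∈ (p.map (algebraMap A B)).map (algebraMap B (Localization.AtPrime q)) := by
  obtain ⟨b, s, rfl⟩ := IsLocalization.exists_mk'_eq q.primeCompl x
  rw [← IsLocalization.mk'_one (M := q.primeCompl) (S := Localization.AtPrime q) g,
    ← IsLocalization.mk'_mul, IsLocalization.mk'_mem_map_algebraMap_iff] at hx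
  rw [IsLocalization.mk'_mem_map_algebraMap_iff]
  obtain ⟨t, ht, htg⟩ := hx
  -- `1 ⊗ (t g b) = 0`
  have h0 : ∀ c ∈ p.map (algebraMap A B), (1 : p.ResidueField) ⊗ₜ[A] c = 0 := by
    intro c hc
    have h1 : p.map (algebraMap A B) ≤ RingHom.ker
        (Algebra.TensorProduct.includeRight : B →ₐ[A] p.Fiber B) := by
      rw [Ideal.map_le_iff_le_comap]
      intro a ha
      rw [Ideal.mem_comap, RingHom.mem_ker, AlgHom.commutes,
        IsScalarTower.algebraMap_apply A p.ResidueField (p.Fiber B),
        Ideal.algebraMap_residueField_eq_zero.2 ha, map_zero]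
    exact h1 hc
  have h1 : ((1 : p.ResidueField) ⊗ₜ[A] t) * (((1 : p.ResidueField) ⊗ₜ[A] g) *
      ((1 : p.ResidueField) ⊗ₜ[A] b)) = 0 := by
    rw [Algebra.TensorProduct.tmul_mul_tmul, Algebra.TensorProduct.tmul_mul_tmul, one_mul, one_mul]
    exact h0 _ htg
  have hu : IsUnit (algebraMap (p.Fiber B) (Localization.AtPrime q')
      ((1 : p.ResidueField) ⊗ₜ[A] t)) := by
    refine IsLocalization.map_units (Localization.AtPrime q')
      (⟨(1 : p.ResidueField) ⊗ₜ[A] t, ?_⟩ : q'.primeCompl)
    intro hmem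
    apply ht
    rw [← hq]
    exact hmem
  have h2 : algebraMap (p.Fiber B) (Localization.AtPrime q') ((1 : p.ResidueField) ⊗ₜ[A] b) = 0 := by
    have h3 := congrArg (algebraMap (p.Fiber B) (Localization.AtPrime q')) h1
    rw [map_mul, map_mul, map_zero, hu.mul_right_eq_zero] at h3
    exact (mem_nonZeroDivisors_iff.1 hg).1 _ h3
  rw [IsLocalization.map_eq_zero_iff q'.primeCompl] at h2
  obtain ⟨u, hu2⟩ := h2
  obtain ⟨a, ha, s', e⟩ := Ideal.Fiber.exists_smul_eq_one_tmul p (u : p.Fiber B)
  have hs' : s' ∉ q := by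
    intro hmem
    rw [← hq] at hmem
    have h3 : (1 : p.ResidueField) ⊗ₜ[A] s' ∈ q' := hmem
    rw [← e, Algebra.smul_def] at h3
    have ha' : IsUnit (algebraMap A (p.Fiber B) a) := by
      rw [IsScalarTower.algebraMap_apply A p.ResidueField (p.Fiber B)]
      refine IsUnit.map _ ?_
      rw [isUnit_iff_ne_zero, ne_eq, Ideal.algebraMap_residueField_eq_zero]
      exact ha
    exact u.2 ((Ideal.unit_mul_mem_iff_mem q' ha').1 h3)
  have h4 : (1 : p.ResidueField) ⊗ₜ[A] (s' * b) = 0 := by
    have : (1 : p.ResidueField) ⊗ₜ[A] (s' * b) =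
        ((1 : p.ResidueField) ⊗ₜ[A] s') * ((1 : p.ResidueField) ⊗ₜ[A] b) := by
      rw [Algebra.TensorProduct.tmul_mul_tmul, one_mul]
    rw [this, ← e, smul_mul_assoc, hu2, smul_zero]
  obtain ⟨c, hc, h5⟩ := exists_smul_mem_of_one_tmul_eq_zero p (s' * b) h4
  refine ⟨algebraMap A B c * s', ?_, ?_⟩
  · have hcq : algebraMap A B c ∉ q := by
      intro hmem
      rw [← hq, Ideal.mem_comap, AlgHom.commutes] at hmem
      have hover : q'.LiesOver p := inferInstance
      apply hc
      rw [hover.over]
      exact hmem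
    exact fun hmem => (Ideal.IsPrime.mem_or_mem inferInstance hmem).elim hcq hs'
  · rw [mul_assoc, ← Algebra.smul_def]
    exact h5

/-- From the fibre at `q` to a neighbourhood. -/
theorem exists_away_of_fieldAt [Algebra.FinitePresentation A B] [Module.Flat A B]
    (q : PrimeSpectrum B) (h : GeomAt.GeomAtAlg (fun R _ => IsReduced R) A B q.asIdeal) :
    ∃ g s : B, s ∉ q.asIdeal ∧
      (PrimeSpectrum.basicOpen g : Set (PrimeSpectrum B)) ⊆ Algebra.smoothLocus A B ∧
      algebraMap B (Localization.Away s) g ∈ nonZeroDivisors (Localization.Away s) ∧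
      Module.Flat A (Localization.Away s ⧸ Ideal.span {algebraMap B (Localization.Away s) g}) := by
  let p : Ideal A := q.asIdeal.comap (algebraMap A B)
  have hover : q.asIdeal.LiesOver p := ⟨rfl⟩
  let q' : PrimeSpectrum (p.Fiber B) :=
    PrimeSpectrum.primesOverOrderIsoFiber A B p ⟨q.asIdeal, q.2, hover⟩
  have hq' : q'.asIdeal.comap (Algebra.TensorProduct.includeRight : B →ₐ[A] p.Fiber B) = q.asIdeal := by
    have h1 := (PrimeSpectrum.primesOverOrderIsoFiber A B p).symm_apply_apply
      ⟨q.asIdeal, q.2, hover⟩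
    have h2 := congrArg Subtype.val h1
    rw [PrimeSpectrum.coe_primesOverOrderIsoFiber_symm_apply] at h2
    exact h2
  have hP : GeomAt.IsoClosed.{u} (fun R _ => IsReduced R) := by
    intro R S _ _ e hR
    exact isReduced_of_injective e.symm e.symm.injective
  have hfield := fieldAt_of_geomAtAlg hP q.asIdeal h p.ResidueField
    (AlgebraicClosure p.ResidueField) q'.asIdeal hq'
  obtain ⟨g, hg1, hg2⟩ := exists_basicOpen_subset_smoothLocus p q'.asIdeal hfield
  by_cases hgq : g ∈ q.asIdeal
  · have hreg := regular_of_fiber p q.asIdeal q'.asIdeal hq' g hg2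
    let := Localization.AtPrime.algebraOfLiesOver p q.asIdeal
    have hcomp : (IsLocalRing.maximalIdeal (Localization.AtPrime p)).map
        (algebraMap (Localization.AtPrime p) (Localization.AtPrime q.asIdeal)) =
        (p.map (algebraMap A B)).map (algebraMap B (Localization.AtPrime q.asIdeal)) := by
      rw [← Localization.AtPrime.map_eq_maximalIdeal, Ideal.map_map, Ideal.map_map,
        ← IsScalarTower.algebraMap_eq, ← IsScalarTower.algebraMap_eq]
    have hflat1 : Module.Flat A (Localization.AtPrime q.asIdeal) := Module.Flat.trans A B _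
    have hflat2 : Module.Flat (Localization.AtPrime p) (Localization.AtPrime q.asIdeal) := by
      exact (Module.flat_iff_of_isLocalization (Localization.AtPrime p) p.primeCompl _).2 hflat1
    obtain ⟨s, hs, hs2⟩ := Flat2D.SliceAway.exists_away (R := A) (A := B)
      (Rp := Localization.AtPrime p) (Aq := Localization.AtPrime q.asIdeal) p q.asIdeal rfl g hgq
      (by rw [hcomp]; exact fun b hb => hreg b hb)
    exact ⟨g, s, hs, hg1, hs2 (Localization.Away s)⟩
  · have hu : IsUnit (algebraMap B (Localization.Away g) g) :=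
      IsLocalization.Away.algebraMap_isUnit g
    refine ⟨g, g, hgq, hg1, hu.mem_nonZeroDivisors, ?_⟩
    have : Subsingleton (Localization.Away g ⧸ Ideal.span {algebraMap B (Localization.Away g) g}) := by
      rw [Ideal.Quotient.subsingleton_iff, Ideal.span_singleton_eq_top]
      exact hu
    infer_instance

/-- regularity passes from `B_s` to `B_q`. -/
theorem nonZeroDivisors_localization_of_away {B : Type*} [CommRing B] (q : Ideal B) [q.IsPrime] (s : B)
    (hs : s ∉ q) (g : B)
    (hreg : algebraMap B (Localization.Away s) g ∈ nonZeroDivisors (Localization.Away s)) :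
    algebraMap B (Localization.AtPrime q) g ∈ nonZeroDivisors (Localization.AtPrime q) := by
  rw [mem_nonZeroDivisors_iff_right]
  intro x hx
  obtain ⟨b, t, rfl⟩ := IsLocalization.exists_mk'_eq q.primeCompl x
  rw [← IsLocalization.mk'_one (M := q.primeCompl) (S := Localization.AtPrime q) g,
    ← IsLocalization.mk'_mul, IsLocalization.mk'_eq_zero_iff] at hx
  obtain ⟨c, hc⟩ := hx
  have h1 : algebraMap B (Localization.Away s) (c * b) = 0 := by
    rw [mem_nonZeroDivisors_iff_right] at hreg
    apply hreg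
    rw [← map_mul, mul_assoc, hc, map_zero]
  rw [IsLocalization.map_eq_zero_iff (Submonoid.powers s)] at h1
  obtain ⟨⟨_, n, rfl⟩, hn⟩ := h1
  rw [IsLocalization.mk'_eq_zero_iff]
  refine ⟨⟨s ^ n, fun h => hs (Ideal.IsPrime.mem_of_pow_mem inferInstance n h)⟩ * c, ?_⟩
  rw [Submonoid.coe_mul, mul_assoc]
  exact hn

theorem isOpen_geomAtAlg_isReduced [Algebra.FinitePresentation A B] [Module.Flat A B] :
    IsOpen {q : PrimeSpectrum B | GeomAt.GeomAtAlg (fun R _ => IsReduced R) A B q.asIdeal} := by
  rw [isOpen_iff_forall_mem_open]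
  intro q hq
  obtain ⟨g, s, hs, hg, hreg, hflat⟩ := exists_away_of_fieldAt q hq
  refine ⟨PrimeSpectrum.basicOpen s, ?_, (PrimeSpectrum.basicOpen s).2, hs⟩
  intro q1 hq1 K _ _ Q _ hQ
  exact isReduced_of_regular (Submonoid.powers s) q1.asIdeal
    (Submonoid.powers_le.2 hq1) g hg hreg hflat Q hQ

theorem isoClosed_isReduced : GeomAt.IsoClosed.{u} (fun R _ => IsReduced R) := by
  intro R S _ _ e hR
  exact isReduced_of_injective e.symm e.symm.injective

end Groth.Agent.Ega43.GeomRedMain
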