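import Groth.Agent.Ega43.LimRed
import Mathlib.AlgebraicGeometry.QuasiAffine

/-!
# One object form of descent of affine (quasi-affine) morphisms along cofiltered limits
-/

set_option autoImplicit false
set_option backward.isDefEq.respectTransparency false
set_option backward.defeqAttrib.useBackward true
universe u
open CategoryTheory AlgebraicGeometry Limits

namespace Groth.Agent.Ega43.LimAffine

open Groth.Agent.Ega43.LimBC Groth.Agent.Ega43.LimRed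

theorem exists_forall_exists_isAffineOpen (R : Scheme.{u} → Prop)
    (R1 : ∀ {J : Type u} [SmallCategory J] [IsCofiltered J] (D : J ⥤ Scheme.{u}) (c : Cone D)
      (_ : IsLimit c) [∀ (i j : J) (f : i ⟶ j), IsAffineHom (D.map f)]
      [∀ i, CompactSpace (D.obj i)] [∀ i, QuasiSeparatedSpace (D.obj i)], R c.pt →
      ∃ j, R (D.obj j))
    (R2 : ∀ {X Y : Scheme.{u}} (f : X ⟶ Y) [IsAffineHom f], R Y → R X)
    {I : Type u} [SmallCategory I] [IsCofiltered I]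
    (D : I ⥤ Scheme.{u}) (c : Cone D) (hc : IsLimit c)
    [∀ (i j : I) (f : i ⟶ j), IsAffineHom (D.map f)]
    (i₀ : I) [CompactSpace (D.obj i₀)] [QuasiSeparatedSpace (D.obj i₀)]
    {X₀ : Scheme.{u}} (f₀ : X₀ ⟶ D.obj i₀)
    [QuasiCompact f₀] [QuasiSeparated f₀]
    (H : ∀ U : (D.obj i₀).Opens, IsAffineOpen U →
      R ((pullback.snd f₀ (c.π.app i₀)) ⁻¹ᵁ (c.π.app i₀ ⁻¹ᵁ U))) :
    ∃ (i : I) (φ : i ⟶ i₀), ∀ x : D.obj i, ∃ U : (D.obj i).Opens, IsAffineOpen U ∧ x ∈ U ∧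
      R ((pullback.snd f₀ (D.map φ)) ⁻¹ᵁ U) := by
  classical
  let E := bcDiagram D i₀ f₀
  let e := bcCone D c i₀ f₀
  have he : IsLimit e := isLimitBcCone D c i₀ f₀ hc
  let j₀ : Over i₀ := Over.mk (𝟙 i₀)
  have hE3 : ∀ (i j : Over i₀) (f : i ⟶ j), IsAffineHom (E.map f) := fun i j f ↦
    isAffineHom_bcDiagram_map D i₀ f₀ f
  have key (U : (D.obj i₀).Opens) (hU : IsAffineOpen U) : ∃ j : Over i₀,
      R ((pullback.snd f₀ (D.map j.hom)) ⁻¹ᵁ (D.map j.hom ⁻¹ᵁ U)) := by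
    let V : (E.obj j₀).Opens := (pullback.snd f₀ (D.map j₀.hom)) ⁻¹ᵁ (D.map j₀.hom ⁻¹ᵁ U)
    have hV (j : Over i₀) (f : j ⟶ j₀) :
        E.map f ⁻¹ᵁ V = (pullback.snd f₀ (D.map j.hom)) ⁻¹ᵁ (D.map j.hom ⁻¹ᵁ U) := by
      have h3 := (isPullback_map D i₀ f₀ f).w
      have h4 : D.map f.left ≫ D.map j₀.hom = D.map j.hom := by rw [← D.map_comp, Over.w f]
      simp only [V, E]
      rw [← Scheme.Hom.comp_preimage, h3, Scheme.Hom.comp_preimage, ← Scheme.Hom.comp_preimage _ (D.map j₀.hom), h4]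
    have hV' : e.π.app j₀ ⁻¹ᵁ V = (pullback.snd f₀ (c.π.app i₀)) ⁻¹ᵁ (c.π.app i₀ ⁻¹ᵁ U) := by
      have h3 := (isPullback_π D c i₀ f₀ j₀).w
      have h4 : c.π.app j₀.left ≫ D.map j₀.hom = c.π.app i₀ := c.w _
      simp only [V, e]
      rw [← Scheme.Hom.comp_preimage, h3, Scheme.Hom.comp_preimage, ← Scheme.Hom.comp_preimage _ (D.map j₀.hom), h4]
    have hj (j : Over i₀) : CompactSpace ((pullback.snd f₀ (D.map j.hom)) ⁻¹ᵁ (D.map j.hom ⁻¹ᵁ U)) ∧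
        QuasiSeparatedSpace ((pullback.snd f₀ (D.map j.hom)) ⁻¹ᵁ (D.map j.hom ⁻¹ᵁ U)) := by
      have h5 : IsAffineOpen (D.map j.hom ⁻¹ᵁ U) := hU.preimage _
      have : IsAffine (D.map j.hom ⁻¹ᵁ U) := h5
      have h6 : QuasiCompact ((pullback.snd f₀ (D.map j.hom)) ∣_ (D.map j.hom ⁻¹ᵁ U)) :=
        IsZariskiLocalAtTarget.restrict (P := @QuasiCompact) inferInstance _
      have h7 : QuasiSeparated ((pullback.snd f₀ (D.map j.hom)) ∣_ (D.map j.hom ⁻¹ᵁ U)) :=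
        IsZariskiLocalAtTarget.restrict (P := @QuasiSeparated) inferInstance _
      exact ⟨QuasiCompact.compactSpace_of_compactSpace
        ((pullback.snd f₀ (D.map j.hom)) ∣_ (D.map j.hom ⁻¹ᵁ U)),
        quasiSeparatedSpace_of_quasiSeparated
        ((pullback.snd f₀ (D.map j.hom)) ∣_ (D.map j.hom ⁻¹ᵁ U))⟩
    have h1 (j : Over j₀) : CompactSpace ((opensDiagram E j₀ V).obj j) := by
      change CompactSpace ↑(E.map j.hom ⁻¹ᵁ V)
      rw [hV]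
      exact (hj _).1
    have h2 (j : Over j₀) : QuasiSeparatedSpace ((opensDiagram E j₀ V).obj j) := by
      change QuasiSeparatedSpace ↑(E.map j.hom ⁻¹ᵁ V)
      rw [hV]
      exact (hj _).2
    obtain ⟨j, hj⟩ := R1 _ _ (isLimitOpensCone E e he j₀ V) (by
      change R ↑(e.π.app j₀ ⁻¹ᵁ V)
      rw [hV']
      exact H U hU)
    refine ⟨j.left, ?_⟩
    change R ↑(E.map j.hom ⁻¹ᵁ V) at hj
    rwa [hV] at hj
  -- take a finite affine open cover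
  choose U hU hxU using fun x : D.obj i₀ ↦ (D.obj i₀).isBasis_affineOpens.exists_subset_of_mem_open
    (Set.mem_univ x) isOpen_univ
  choose V hV hVU using hU
  obtain ⟨σ, hσ⟩ := CompactSpace.elim_nhds_subcover
    (fun x ↦ ((V x : (D.obj i₀).Opens) : Set (D.obj i₀)))
    (fun x ↦ (V x).2.mem_nhds (by have := (hxU x).1; rw [← hVU] at this; exact this))
  choose j hj using fun x ↦ key (V x) (hV x)
  obtain ⟨l, hl⟩ := IsCofiltered.inf_objs_exists (σ.image j)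
  refine ⟨l.left, l.hom, fun x ↦ ?_⟩
  obtain ⟨y, hy, hxy⟩ := Set.mem_iUnion₂.mp (hσ.ge (Set.mem_univ (D.map l.hom x)))
  obtain ⟨φ⟩ := hl (Finset.mem_image_of_mem j hy)
  refine ⟨D.map l.hom ⁻¹ᵁ V y, (hV y).preimage _, hxy, ?_⟩
  have h3 := (isPullback_map D i₀ f₀ φ).w
  have h4 : D.map φ.left ≫ D.map (j y).hom = D.map l.hom := by rw [← D.map_comp, Over.w φ]
  have h5 : pullback.snd f₀ (D.map l.hom) ⁻¹ᵁ D.map l.hom ⁻¹ᵁ V y =
      E.map φ ⁻¹ᵁ (pullback.snd f₀ (D.map (j y).hom) ⁻¹ᵁ D.map (j y).hom ⁻¹ᵁ V y) := by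
    simp only [E]
    rw [← Scheme.Hom.comp_preimage _ (pullback.snd f₀ (D.map (j y).hom)), h3,
      Scheme.Hom.comp_preimage, ← Scheme.Hom.comp_preimage _ (D.map (j y).hom), h4]
  rw [h5]
  have : IsAffineHom (E.map φ ∣_ (pullback.snd f₀ (D.map (j y).hom) ⁻¹ᵁ D.map (j y).hom ⁻¹ᵁ V y)) :=
    IsZariskiLocalAtTarget.restrict (P := @IsAffineHom) (hE3 _ _ φ) _
  exact R2 (E.map φ ∣_ (pullback.snd f₀ (D.map (j y).hom) ⁻¹ᵁ D.map (j y).hom ⁻¹ᵁ V y)) (hj y)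

theorem descendsOne_isAffineHom : DescendsOne ⊤ @IsAffineHom := by
  intro I _ _ D c hc _ _ _ i₀ X₀ f₀ _ _ _ h
  obtain ⟨i, φ, hφ⟩ := exists_forall_exists_isAffineOpen (fun X ↦ IsAffine X)
    (fun D c hc _ _ _ h ↦ Scheme.exists_isAffine_of_isLimit D c hc)
    (fun f _ h ↦ isAffine_of_isAffineHom f) D c hc i₀ f₀ (fun U hU ↦ by
      have : IsAffineHom (c.π.app i₀) := isAffineHom_π_app _ _ hc i₀
      exact (hU.preimage (c.π.app i₀)).preimage _)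
  refine ⟨i, φ, isAffineHom_of_forall_exists_isAffineOpen _ fun x ↦ ?_⟩
  obtain ⟨U, hU, hxU, h⟩ := hφ x
  exact ⟨U, hxU, hU, h⟩

end Groth.Agent.Ega43.LimAffine
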