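import Groth.Agent.Ega43.LimFinite
import Groth.Agent.Ega43.LimDesc

/-!
# Comparison of the two one object forms, and descent of finite and affine morphisms in the form
`LimDesc.Descends`.
-/

set_option autoImplicit false
set_option backward.isDefEq.respectTransparency false
universe u
open CategoryTheory AlgebraicGeometry Limits

namespace Groth.Agent.Ega43.LimCompare

open Groth.Agent.Ega43.LimRed

theorem descends_of_descendsOne {Q P : MorphismProperty Scheme.{u}} [P.RespectsIso]
    (hQ : ∀ {X Y : Scheme.{u}} (f : X ⟶ Y) [LocallyOfFinitePresentation f], Q f)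
    (H : DescendsOne Q P) : Groth.Agent.Ega43.LimDesc.Descends P := by
  intro I _ _ D c hc _ _ _ i₀ X₀ f₀ _ _ _ X q f h hf
  obtain ⟨i, φ, hφ⟩ := H D c hc i₀ f₀ (hQ f₀) (by
    rw [← h.isoPullback_inv_snd]
    exact (MorphismProperty.cancel_left_of_respectsIso P _ _).mpr hf)
  exact ⟨i, φ, _, pullback.fst _ _, pullback.snd _ _, .of_hasPullback _ _, hφ⟩

theorem descends_isAffineHom : Groth.Agent.Ega43.LimDesc.Descends @IsAffineHom.{u} := by
  have := MorphismProperty.IsStableUnderBaseChange.respectsIso (P := @IsAffineHom.{u})
  exact @descends_of_descendsOne ⊤ @IsAffineHom this (fun _ _ ↦ trivial)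
    @Groth.Agent.Ega43.LimAffine.descendsOne_isAffineHom

theorem descends_isFinite : Groth.Agent.Ega43.LimDesc.Descends @IsFinite.{u} := by
  have := MorphismProperty.IsStableUnderBaseChange.respectsIso (P := @IsFinite.{u})
  exact @descends_of_descendsOne @LocallyOfFiniteType @IsFinite this
    (fun f _ ↦ (inferInstance : LocallyOfFiniteType f))
    @Groth.Agent.Ega43.LimFinite.descendsOne_isFinite

end Groth.Agent.Ega43.LimCompare
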