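import Groth.Agent.Ega43.LimTarget
import Groth.Agent.Ega43.LimAffine
import Mathlib.AlgebraicGeometry.Morphisms.Finite
import Mathlib.RingTheory.Polynomial.Basic
import Mathlib.Algebra.Polynomial.Lifts

/-!
# Descent of finite morphisms along cofiltered limits (one object form)
-/

set_option autoImplicit false
set_option backward.isDefEq.respectTransparency false
set_option backward.defeqAttrib.useBackward true
universe u
open CategoryTheory AlgebraicGeometry Limits

namespace Groth.Agent.Ega43.LimFinite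

open Groth.Agent.Ega43.LimBC Groth.Agent.Ega43.LimRed Groth.Agent.Ega43.LimTarget

lemma π_appTop {J : Type u} [SmallCategory J] {D : J ⥤ Scheme.{u}} (c : Cone D) {i j : J}
    (f : i ⟶ j) (t : Γ(D.obj j, ⊤)) :
    (c.π.app i).appTop.hom ((D.map f).appTop.hom t) = (c.π.app j).appTop.hom t := by
  have h : (c.π.app i ≫ D.map f).appTop = (c.π.app j).appTop := by rw [c.w f]
  rw [Scheme.Hom.comp_appTop] at h
  exact congr($(h).hom t)

theorem exists_mem_lifts {J : Type u} [SmallCategory J] [IsCofiltered J] (D : J ⥤ Scheme.{u})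
    (c : Cone D) (hc : IsLimit c) [∀ (i j : J) (f : i ⟶ j), IsAffineHom (D.map f)]
    [∀ i, CompactSpace (D.obj i)] [∀ i, QuasiSeparatedSpace (D.obj i)] (j : J)
    (p : Polynomial Γ(c.pt, ⊤)) :
    ∃ (l : J) (_ : l ⟶ j), p ∈ Polynomial.lifts (c.π.app l).appTop.hom := by
  classical
  choose i t ht using exists_appTop_π_eq_of_isLimit D c hc
  obtain ⟨l, hl⟩ := IsCofiltered.inf_objs_exists (insert j (p.support.image fun n ↦ i (p.coeff n)))
  obtain ⟨φ⟩ := hl (Finset.mem_insert_self _ _)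
  refine ⟨l, φ, ?_⟩
  rw [Polynomial.lifts_iff_coeff_lifts]
  intro n
  by_cases hn : n ∈ p.support
  · obtain ⟨ψ⟩ := hl (Finset.mem_insert_of_mem (Finset.mem_image_of_mem _ hn))
    refine ⟨(D.map ψ).appTop (t (p.coeff n)), ?_⟩
    conv_rhs => rw [ht (p.coeff n)]
    exact π_appTop c ψ _
  · rw [Polynomial.notMem_support_iff.mp hn]
    exact ⟨0, map_zero _⟩

/-- If a section becomes integral in the limit, then it becomes integral at a finite stage. -/
theorem exists_isIntegralElem {J : Type u} [SmallCategory J] [IsCofiltered J]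
    (D E : J ⥤ Scheme.{u}) (c : Cone D) (hc : IsLimit c) (e : Cone E) (he : IsLimit e)
    [∀ (i j : J) (f : i ⟶ j), IsAffineHom (D.map f)]
    [∀ (i j : J) (f : i ⟶ j), IsAffineHom (E.map f)]
    [∀ i, CompactSpace (D.obj i)] [∀ i, QuasiSeparatedSpace (D.obj i)]
    [∀ i, CompactSpace (E.obj i)]
    (α : E ⟶ D) (a : e.pt ⟶ c.pt) (ha : ∀ j, e.π.app j ≫ α.app j = a ≫ c.π.app j) (j : J)
    (x : Γ(E.obj j, ⊤)) (hx : a.appTop.hom.IsIntegralElem ((e.π.app j).appTop x)) :
    ∃ (k : J) (φ : k ⟶ j), (α.app k).appTop.hom.IsIntegralElem ((E.map φ).appTop x) := by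
  obtain ⟨p, hp, hpx⟩ := hx
  obtain ⟨l, φ, hl⟩ := exists_mem_lifts D c hc j p
  obtain ⟨q, hq, -, hq'⟩ := Polynomial.lifts_and_natDegree_eq_and_monic hl hp
  let s : Γ(E.obj l, ⊤) := q.eval₂ (α.app l).appTop.hom ((E.map φ).appTop x)
  have hs : (e.π.app l).appTop s = 0 := by
    have h1 : (e.π.app l).appTop.hom.comp (α.app l).appTop.hom =
        a.appTop.hom.comp (c.π.app l).appTop.hom := by
      rw [← CommRingCat.hom_comp, ← CommRingCat.hom_comp, ← Scheme.Hom.comp_appTop,
        ← Scheme.Hom.comp_appTop, ha]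
    have h2 : (e.π.app l).appTop ((E.map φ).appTop x) = (e.π.app j).appTop x := by
      exact π_appTop e φ x
    change (e.π.app l).appTop.hom (q.eval₂ _ _) = 0
    rw [Polynomial.hom_eval₂, h1, ← Polynomial.eval₂_map, hq]
    erw [h2]
    exact hpx
  obtain ⟨k, ψ, hk⟩ := exists_appTop_map_eq_zero_of_isLimit E e he s hs
  refine ⟨k, ψ ≫ φ, q.map (D.map ψ).appTop.hom, hq'.map _, ?_⟩
  have h1 : (E.map ψ).appTop.hom.comp (α.app l).appTop.hom =
        (α.app k).appTop.hom.comp (D.map ψ).appTop.hom := by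
    rw [← CommRingCat.hom_comp, ← CommRingCat.hom_comp, ← Scheme.Hom.comp_appTop,
      ← Scheme.Hom.comp_appTop, α.naturality]
  have h2 : (E.map (ψ ≫ φ)).appTop x = (E.map ψ).appTop ((E.map φ).appTop x) := by
    simp
  rw [Polynomial.eval₂_map, ← h1, h2]
  erw [← Polynomial.hom_eval₂]
  exact hk

/-- In a pushout square of rings, if generators of `A` over `R` become integral over `R'`, then
the pushout is finite over `R'`. -/
theorem finite_of_isPushout {R A R' A' : Type u} [CommRing R] [CommRing A] [CommRing R']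
    [CommRing A'] [Algebra R A] [Algebra R R'] [Algebra R A'] [Algebra A A'] [Algebra R' A']
    [IsScalarTower R A A'] [IsScalarTower R R' A'] (h : Algebra.IsPushout R R' A A')
    (s : Finset A) (hs : Algebra.adjoin R (s : Set A) = ⊤)
    (hint : ∀ x ∈ s, IsIntegral R' (algebraMap A A' x)) : Module.Finite R' A' := by
  have h1 (x : A) : algebraMap A A' x ∈ Algebra.adjoin R' ((algebraMap A A') '' (s : Set A)) := by
    have hx : x ∈ Algebra.adjoin R (s : Set A) := hs ▸ Algebra.mem_top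
    induction hx using Algebra.adjoin_induction with
    | mem x hx => exact Algebra.subset_adjoin ⟨x, hx, rfl⟩
    | algebraMap r =>
      rw [← IsScalarTower.algebraMap_apply R A A', IsScalarTower.algebraMap_apply R R' A']
      exact Subalgebra.algebraMap_mem _ _
    | add x y _ _ hx hy => rw [map_add]; exact add_mem hx hy
    | mul x y _ _ hx hy => rw [map_mul]; exact mul_mem hx hy
  have h2 : Algebra.adjoin R' ((algebraMap A A') '' (s : Set A)) = ⊤ := by
    rw [eq_top_iff]
    rintro z -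
    refine h.out.inductionOn z (motive := fun z ↦
      z ∈ Algebra.adjoin R' ((algebraMap A A') '' (s : Set A))) (zero_mem _) (fun m ↦ h1 m)
      (fun r n hn ↦ Subalgebra.smul_mem _ hn r) (fun _ _ h1 h2 ↦ add_mem h1 h2)
  have h3 := Algebra.finite_adjoin_of_finite_of_isIntegral (R := R')
    ((s.finite_toSet).image (algebraMap A A')) (by
      rintro _ ⟨x, hx, rfl⟩
      exact hint x hx)
  rw [h2] at h3
  exact Module.Finite.equiv (Subalgebra.topEquiv (R := R') (A := A')).toLinearEquiv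

/-- Scheme version: for a cartesian square with affine corners. -/
theorem isFinite_of_isPullback {X' X S' S : Scheme.{u}} {p : X' ⟶ X} {f' : X' ⟶ S'} {f : X ⟶ S}
    {g : S' ⟶ S} [IsAffine X] [IsAffine S] [IsAffine S'] (h : IsPullback p f' f g)
    (s : Finset Γ(X, ⊤)) (hs : @Algebra.adjoin _ _ _ _ f.appTop.hom.toAlgebra (s : Set Γ(X, ⊤)) = ⊤)
    (hint : ∀ x ∈ s, f'.appTop.hom.IsIntegralElem (p.appTop.hom x)) : IsFinite f' := by
  have : IsAffine X' := .of_isPullback h
  have hp := isPushout_appTop_of_isPullback h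
  algebraize [f.appTop.hom, g.appTop.hom, p.appTop.hom, f'.appTop.hom,
    p.appTop.hom.comp f.appTop.hom]
  have : IsScalarTower Γ(S, ⊤) Γ(S', ⊤) Γ(X', ⊤) := IsScalarTower.of_algebraMap_eq' (by
    exact congr($(hp.w).hom))
  have hp' : Algebra.IsPushout Γ(S, ⊤) Γ(S', ⊤) Γ(X, ⊤) Γ(X', ⊤) :=
    CommRingCat.isPushout_iff_isPushout.mp hp.flip
  have := finite_of_isPushout hp' s hs hint
  rw [HasAffineProperty.iff_of_isAffine (P := @IsFinite)]
  exact ⟨inferInstance, this⟩

lemma isIntegralElem_of_comp_eq {A B A' B' : Type*} [CommRing A] [CommRing B] [CommRing A']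
    [CommRing B'] {f : A →+* B} {f' : A' →+* B'} {g : B →+* B'} {h : A →+* A'}
    (H : g.comp f = f'.comp h) {y : B} (hy : f.IsIntegralElem y) : f'.IsIntegralElem (g y) := by
  obtain ⟨p, hp, hpy⟩ := hy
  refine ⟨p.map h, hp.map _, ?_⟩
  rw [Polynomial.eval₂_map, ← H, ← Polynomial.hom_eval₂, hpy, map_zero]

theorem descendsAff_isFinite : DescendsAff @LocallyOfFiniteType @IsFinite.{u} := by
  classical
  intro I _ _ D c hc _ i₀ X₀ f₀ hft _ _ hfin
  have hD (i j : I) (f : i ⟶ j) : IsAffineHom (D.map f) := inferInstance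
  -- reduce to the case where `f₀` is affine
  obtain ⟨i₁, φ₁, h1⟩ := Groth.Agent.Ega43.LimAffine.descendsOne_isAffineHom D c hc i₀ f₀ trivial
    (by have := hfin; infer_instance)
  let X₁ := pullback f₀ (D.map φ₁)
  let f₁ : X₁ ⟶ D.obj i₁ := pullback.snd f₀ (D.map φ₁)
  have hf₁ : IsAffineHom f₁ := h1
  have hf₁' : LocallyOfFiniteType f₁ := MorphismProperty.pullback_snd _ _ hft
  have hX₁ : IsAffine X₁ := isAffine_of_isAffineHom f₁
  have hfin₁ : IsFinite (pullback.snd f₁ (c.π.app i₁)) := by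
    have := MorphismProperty.IsStableUnderBaseChange.respectsIso (P := @IsFinite.{u})
    refine (prop_pullback_snd_iff (P := @IsFinite) f₀ (c.π.app i₁) (D.map φ₁)).mpr ?_
    rw [c.w]
    exact hfin
  obtain ⟨s, hs⟩ := (HasRingHomProperty.appTop (P := @LocallyOfFiniteType) f₁ hf₁').out
  let E := bcDiagram D i₁ f₁
  let e := bcCone D c i₁ f₁
  have he : IsLimit e := isLimitBcCone D c i₁ f₁ hc
  let c' := c.whisker (Over.forget i₁)
  have hc' : IsLimit c' := (Functor.Initial.isLimitWhiskerEquiv (Over.forget i₁) c).symm hc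
  let j₁ : Over i₁ := Over.mk (𝟙 i₁)
  have hE1 : ∀ (i j : Over i₁) (f : i ⟶ j), IsAffineHom (E.map f) := fun i j f ↦
    isAffineHom_bcDiagram_map D i₁ f₁ f
  have hE2 (j : Over i₁) : IsAffine (E.obj j) := by
    have : IsAffineHom (pullback.snd f₁ (D.map j.hom)) :=
      MorphismProperty.pullback_snd _ _ hf₁
    exact isAffine_of_isAffineHom (pullback.snd f₁ (D.map j.hom))
  have hD2 (j : Over i₁) : IsAffine ((Over.forget i₁ ⋙ D).obj j) :=
    inferInstanceAs (IsAffine (D.obj j.left))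
  have hD3 : ∀ (i j : Over i₁) (f : i ⟶ j), IsAffineHom ((Over.forget i₁ ⋙ D).map f) :=
    fun i j f ↦ hD _ _ _
  let q₁ : E.obj j₁ ⟶ X₁ := pullback.fst f₁ (D.map (𝟙 i₁))
  have hcpt : IsAffine c.pt := Scheme.isAffine_of_isLimit _ hc
  let a : e.pt ⟶ c'.pt := pullback.snd f₁ (c.π.app i₁)
  have hafin : a.appTop.hom.Finite := by
    have : IsFinite a := hfin₁
    have : IsAffine c'.pt := hcpt
    exact a.finite_appTop
  have key (x : Γ(X₁, ⊤)) := exists_isIntegralElem (Over.forget i₁ ⋙ D) E c' hc' e he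
    (bcSnd D i₁ f₁) a (fun j ↦ (isPullback_π D c i₁ f₁ j).w) j₁ (q₁.appTop x)
    (hafin.to_isIntegral _)
  choose j φ hj using key
  obtain ⟨l, hl⟩ := IsCofiltered.inf_objs_exists (insert j₁ (s.image j))
  refine ⟨l.left, l.hom ≫ φ₁, ?_⟩
  have hl2 : IsFinite (pullback.snd f₁ (D.map l.hom)) := by
    refine isFinite_of_isPullback (IsPullback.of_hasPullback f₁ (D.map l.hom)) s hs
      fun x hx ↦ ?_
    obtain ⟨ψ⟩ := hl (Finset.mem_insert_of_mem (Finset.mem_image_of_mem _ hx))
    let ql : E.obj l ⟶ X₁ := pullback.fst f₁ (D.map l.hom)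
    have h2 : ql = E.map ψ ≫ E.map (φ x) ≫ q₁ := by
      have h3 : E.map (φ x) ≫ q₁ = pullback.fst f₁ (D.map (j x).hom) :=
        bcDiagram_map_fst D i₁ f₁ (φ x)
      rw [h3]
      exact (bcDiagram_map_fst D i₁ f₁ ψ).symm
    have h4 : ql.appTop.hom x = (E.map ψ).appTop.hom ((E.map (φ x)).appTop.hom
        (q₁.appTop.hom x)) := by
      rw [h2, Scheme.Hom.comp_appTop, Scheme.Hom.comp_appTop]
      simp
    change (pullback.snd f₁ (D.map l.hom)).appTop.hom.IsIntegralElem (ql.appTop.hom x)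
    rw [h4]
    refine isIntegralElem_of_comp_eq (h := (D.map ψ.left).appTop.hom) ?_ (hj x)
    have h5 := (isPullback_map D i₁ f₁ ψ).w
    rw [← CommRingCat.hom_comp, ← CommRingCat.hom_comp, ← Scheme.Hom.comp_appTop,
      ← Scheme.Hom.comp_appTop]
    exact congr(($h5).appTop.hom)
  refine prop_of_isPullback (P := @IsFinite) (f₀ := f₀) (n := D.map l.hom ≫ D.map φ₁)
    (p := pullback.fst f₀ (D.map (l.hom ≫ φ₁))) ?_ ?_
  · rw [← D.map_comp]
    exact .of_hasPullback _ _
  · have := MorphismProperty.IsStableUnderBaseChange.respectsIso (P := @IsFinite.{u})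
    exact (prop_pullback_snd_iff (P := @IsFinite) f₀ (D.map l.hom) (D.map φ₁)).mp hl2

/-- Descent of finite morphisms along cofiltered limits, one object form. -/
theorem descendsOne_isFinite : DescendsOne @LocallyOfFiniteType @IsFinite.{u} :=
  descendsOne_of_affine descendsAff_isFinite

end Groth.Agent.Ega43.LimFinite
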