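import Groth.Agent.Ega43.LimBC

/-!
# Reduction of the `EGA IV 8.10.5` rows to a one object form
-/

set_option autoImplicit false
set_option backward.isDefEq.respectTransparency false
set_option backward.defeqAttrib.useBackward true
universe u
open CategoryTheory AlgebraicGeometry Limits

namespace Groth.Agent.Ega43.LimRed

open Groth.Agent.Ega43.LimBC

/-- The one object form of descent of the property `P` along cofiltered limits. -/
def DescendsOne (Q P : MorphismProperty Scheme.{u}) : Prop :=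
  ∀ {I : Type u} [SmallCategory I] [IsCofiltered I]
    (D : I ⥤ Scheme.{u}) (c : Cone D) (_ : IsLimit c)
    [∀ (i j : I) (f : i ⟶ j), IsAffineHom (D.map f)]
    [∀ i, CompactSpace (D.obj i)] [∀ i, QuasiSeparatedSpace (D.obj i)]
    (i₀ : I) {X₀ : Scheme.{u}} (f₀ : X₀ ⟶ D.obj i₀) (_ : Q f₀)
    [QuasiCompact f₀] [QuasiSeparated f₀],
    P (pullback.snd f₀ (c.π.app i₀)) → ∃ (i : I) (φ : i ⟶ i₀), P (pullback.snd f₀ (D.map φ))

theorem exists_of_descendsOne {Q P : MorphismProperty Scheme.{u}} [Q.RespectsIso] [P.RespectsIso]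
    (H : DescendsOne Q P) {I : Type u} [SmallCategory I] [IsCofiltered I]
    (D : I ⥤ Scheme.{u}) (c : Limits.Cone D) (hc : Limits.IsLimit c)
    [∀ (i j : I) (f : i ⟶ j), IsAffineHom (D.map f)] (i₀ : I) [CompactSpace (D.obj i₀)]
    [QuasiSeparatedSpace (D.obj i₀)] {X₀ Y₀ : Scheme.{u}} (f₀ : X₀ ⟶ Y₀) (g₀ : Y₀ ⟶ D.obj i₀)
    [QuasiCompact g₀] [QuasiSeparated g₀]
    [QuasiCompact (f₀ ≫ g₀)] [QuasiSeparated (f₀ ≫ g₀)] (hQ : Q f₀)
    {X Y : Scheme.{u}} (f : X ⟶ Y) (g : Y ⟶ c.pt) (qY : Y ⟶ Y₀) (qX : X ⟶ X₀)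
    (hY : IsPullback qY g g₀ (c.π.app i₀)) (hX : IsPullback qX f f₀ qY) (hf : P f) :
    ∃ (i : I) (φ : i ⟶ i₀) (Xi Yi : Scheme.{u}) (fi : Xi ⟶ Yi) (gi : Yi ⟶ D.obj i) (pY : Yi ⟶ Y₀)
      (pX : Xi ⟶ X₀), IsPullback pY gi g₀ (D.map φ) ∧ IsPullback pX fi f₀ pY ∧ P fi := by
  let E := bcDiagram D i₀ g₀
  let e := bcCone D c i₀ g₀
  have he : IsLimit e := isLimitBcCone D c i₀ g₀ hc
  let j₀ : Over i₀ := Over.mk (𝟙 i₀)
  have : CompactSpace Y₀ := QuasiCompact.compactSpace_of_compactSpace g₀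
  have : QuasiSeparatedSpace Y₀ := (quasiSeparated_iff_quasiSeparatedSpace g₀).mp inferInstance
  have hfst (j : Over i₀) : IsAffineHom (pullback.fst g₀ (D.map j.hom)) :=
    MorphismProperty.pullback_fst _ _ inferInstance
  have hE1 (j : Over i₀) : CompactSpace (E.obj j) :=
    QuasiCompact.compactSpace_of_compactSpace (pullback.fst g₀ (D.map j.hom))
  have hE2 (j : Over i₀) : QuasiSeparatedSpace (E.obj j) := by
    have := quasiSeparatedSpace_of_quasiSeparated (pullback.fst g₀ (D.map j.hom))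
    exact this
  have hE3 : ∀ (i j : Over i₀) (f : i ⟶ j), IsAffineHom (E.map f) := fun i j f ↦
    isAffineHom_bcDiagram_map D i₀ g₀ f
  let p₀ : E.obj j₀ ⟶ Y₀ := pullback.fst g₀ (D.map (𝟙 i₀))
  have hp₀ : IsIso p₀ := by
    have : IsIso (D.map (𝟙 i₀)) := inferInstance
    exact inferInstanceAs (IsIso (pullback.fst g₀ (D.map (𝟙 i₀))))
  have hqc : QuasiCompact f₀ := QuasiCompact.of_comp f₀ g₀
  have hqs : QuasiSeparated f₀ := QuasiSeparated.of_comp f₀ g₀
  have hlim : IsPullback (qX) (f ≫ hY.isoPullback.hom) (f₀ ≫ inv p₀) (e.π.app j₀) := by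
    refine IsPullback.of_iso hX (Iso.refl _) (Iso.refl _) (hY.isoPullback) (asIso p₀).symm
      (by simp) (by simp) (by simp) ?_
    simp only [Iso.symm_hom, asIso_inv]
    have h3 : e.π.app j₀ ≫ p₀ = pullback.fst _ _ := bcCone_π_fst D c i₀ g₀ j₀
    rw [IsIso.comp_inv_eq, Category.assoc, h3, IsPullback.isoPullback_hom_fst]
  have hP : P (pullback.snd (f₀ ≫ inv p₀) (e.π.app j₀)) := by
    have h1 : P (f ≫ hY.isoPullback.hom) := (MorphismProperty.cancel_right_of_respectsIso P _ _).mpr hf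
    rw [← hlim.isoPullback_inv_snd]
    exact (MorphismProperty.cancel_left_of_respectsIso P _ _).mpr h1
  obtain ⟨j, φ, hj⟩ := H E e he j₀ (f₀ ≫ inv p₀)
    ((MorphismProperty.cancel_right_of_respectsIso Q _ _).mpr hQ) hP
  refine ⟨j.left, j.hom, pullback (f₀ ≫ inv p₀) (E.map φ), E.obj j,
    pullback.snd _ _, pullback.snd _ _, pullback.fst _ _, pullback.fst _ _, .of_hasPullback _ _,
    ?_, hj⟩
  have h2 : IsPullback (pullback.fst (f₀ ≫ inv p₀) (E.map φ)) (pullback.snd _ _)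
    (f₀ ≫ inv p₀) (E.map φ) := .of_hasPullback _ _
  refine IsPullback.of_iso h2 (Iso.refl _) (Iso.refl _) (Iso.refl _) (asIso p₀)
      (by simp) (by simp) (by simp) ?_
  simp only [Iso.refl_hom, Category.id_comp, asIso_hom]
  exact bcDiagram_map_fst D i₀ g₀ φ

end Groth.Agent.Ega43.LimRed
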