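import Groth.Agent.Ega43.LimRed

/-!
# Reduction of the one object form of descent to affine stages

If `P` is Zariski local on the target and stable under base change, then in `DescendsOne Q P` we
may assume that all the schemes `D.obj i` are affine.
-/

set_option autoImplicit false
set_option backward.isDefEq.respectTransparency false
set_option backward.defeqAttrib.useBackward true
universe u
open CategoryTheory AlgebraicGeometry Limits

namespace Groth.Agent.Ega43.LimTarget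

open Groth.Agent.Ega43.LimBC Groth.Agent.Ega43.LimRed

/-- The one object form of descent of `P`, where all stages are affine. -/
def DescendsAff (Q P : MorphismProperty Scheme.{u}) : Prop :=
  ∀ {I : Type u} [SmallCategory I] [IsCofiltered I]
    (D : I ⥤ Scheme.{u}) (c : Cone D) (_ : IsLimit c)
    [∀ i, IsAffine (D.obj i)]
    (i₀ : I) {X₀ : Scheme.{u}} (f₀ : X₀ ⟶ D.obj i₀) (_ : Q f₀)
    [QuasiCompact f₀] [QuasiSeparated f₀],
    P (pullback.snd f₀ (c.π.app i₀)) → ∃ (i : I) (φ : i ⟶ i₀), P (pullback.snd f₀ (D.map φ))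

lemma prop_of_isPullback_comp {P : MorphismProperty Scheme.{u}} [P.IsStableUnderBaseChange]
    {X₀ S₀ S₁ S₂ X₂ : Scheme.{u}} {f₀ : X₀ ⟶ S₀} {m : S₂ ⟶ S₁} {n : S₁ ⟶ S₀} {p : X₂ ⟶ X₀}
    {f₂ : X₂ ⟶ S₂} (h : IsPullback p f₂ f₀ (m ≫ n)) (hP : P (pullback.snd f₀ n)) : P f₂ :=
  MorphismProperty.of_isPullback
    (IsPullback.of_right' h (IsPullback.of_hasPullback f₀ n)) hP

lemma prop_of_isPullback {P : MorphismProperty Scheme.{u}} [P.IsStableUnderBaseChange]
    {X₀ S₀ S₂ X₂ : Scheme.{u}} {f₀ : X₀ ⟶ S₀} {n : S₂ ⟶ S₀} {p : X₂ ⟶ X₀}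
    {f₂ : X₂ ⟶ S₂} (h : IsPullback p f₂ f₀ n) (hP : P (pullback.snd f₀ n)) : P f₂ := by
  refine prop_of_isPullback_comp (m := 𝟙 _) (n := n) (p := p) ?_ hP
  rwa [Category.id_comp]

lemma prop_pullback_snd_iff {P : MorphismProperty Scheme.{u}} [P.RespectsIso]
    {X₀ S₀ S₁ S₂ : Scheme.{u}} (f₀ : X₀ ⟶ S₀) (m : S₂ ⟶ S₁) (n : S₁ ⟶ S₀) :
    P (pullback.snd (pullback.snd f₀ n) m) ↔ P (pullback.snd f₀ (m ≫ n)) := by
  have h := (IsPullback.of_hasPullback (pullback.snd f₀ n) m).paste_horiz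
    (IsPullback.of_hasPullback f₀ n)
  rw [← h.isoPullback_hom_snd]
  exact MorphismProperty.cancel_left_of_respectsIso P _ _

theorem descendsOne_of_affine {Q P : MorphismProperty Scheme.{u}} [P.IsStableUnderBaseChange]
    [Q.IsStableUnderBaseChange] [IsZariskiLocalAtTarget P] (H : DescendsAff Q P) :
    DescendsOne Q P := by
  classical
  have hP' : P.RespectsIso := MorphismProperty.IsStableUnderBaseChange.respectsIso
  intro I _ _ D c hc _ _ _ i₀ X₀ f₀ hQ _ _ hP
  let 𝒰 := (D.obj i₀).affineCover.finiteSubcover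
  have h𝒰 (k) : IsAffine (𝒰.X k) := inferInstanceAs (IsAffine (Spec _))
  -- the property at stage `j` over the member `k` of the cover
  let K (k : 𝒰.I₀) (j : Over i₀) : Prop :=
    P (pullback.snd f₀ (pullback.snd (𝒰.f k) (D.map j.hom) ≫ D.map j.hom))
  have key (k : 𝒰.I₀) : ∃ j, K k j := by
    let E := bcDiagram D i₀ (𝒰.f k)
    let e := bcCone D c i₀ (𝒰.f k)
    have he : IsLimit e := isLimitBcCone D c i₀ (𝒰.f k) hc
    let j₀ : Over i₀ := Over.mk (𝟙 i₀)
    have hE1 (j : Over i₀) : IsAffine (E.obj j) := by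
      have : IsAffineHom (pullback.fst (𝒰.f k) (D.map j.hom)) :=
        MorphismProperty.pullback_fst _ _ inferInstance
      exact isAffine_of_isAffineHom (pullback.fst (𝒰.f k) (D.map j.hom))
    let t₀ : E.obj j₀ ⟶ D.obj i₀ := pullback.snd (𝒰.f k) (D.map (𝟙 i₀))
    have ht₀ : t₀ ≫ D.map (𝟙 i₀) = t₀ := by simp
    have h1 : e.π.app j₀ ≫ t₀ = pullback.snd (𝒰.f k) (c.π.app i₀) ≫ c.π.app i₀ := by
      exact (isPullback_π D c i₀ (𝒰.f k) j₀).w
    have hqc : QuasiCompact (pullback.snd f₀ t₀) := MorphismProperty.pullback_snd _ _ inferInstance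
    have hqs : QuasiSeparated (pullback.snd f₀ t₀) := MorphismProperty.pullback_snd _ _ inferInstance
    obtain ⟨j, φ, hj⟩ := H E e he j₀ (pullback.snd f₀ t₀) (MorphismProperty.pullback_snd _ _ hQ) (by
      have h2 := (IsPullback.of_hasPullback (pullback.snd f₀ t₀) (e.π.app j₀)).paste_horiz
        (IsPullback.of_hasPullback f₀ t₀)
      rw [h1] at h2
      exact prop_of_isPullback_comp h2 hP)
    refine ⟨j, ?_⟩
    have h3 : E.map φ ≫ t₀ = pullback.snd (𝒰.f k) (D.map j.hom) ≫ D.map j.hom := by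
      have h4 : E.map φ ≫ t₀ = pullback.snd (𝒰.f k) (D.map j.hom) ≫ D.map φ.left :=
        (isPullback_map D i₀ (𝒰.f k) φ).w
      have h5 : D.map j.hom = D.map φ.left := by
        have := Over.w φ
        rw [← this]
        simp [j₀]
      rw [h4, ← h5]
    have h6 := (prop_pullback_snd_iff (P := P) f₀ (E.map φ) t₀).mp hj
    rw [h3] at h6
    exact h6
  choose j hj using key
  obtain ⟨l, hl⟩ := IsCofiltered.inf_objs_exists (Finset.univ.image j)
  refine ⟨l.left, l.hom, ?_⟩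
  have hl' (k : 𝒰.I₀) : K k l := by
    obtain ⟨φ⟩ := hl (Finset.mem_image_of_mem j (Finset.mem_univ k))
    have h6 : pullback.snd (𝒰.f k) (D.map l.hom) ≫ D.map l.hom =
        (bcDiagram D i₀ (𝒰.f k)).map φ ≫ (pullback.snd (𝒰.f k) (D.map (j k).hom) ≫
          D.map (j k).hom) := by
      have h4 := (isPullback_map D i₀ (𝒰.f k) φ).w
      rw [← Category.assoc]
      erw [h4]
      rw [Category.assoc, ← D.map_comp, Over.w φ]
    change P _
    rw [h6]
    exact prop_of_isPullback_comp (IsPullback.of_hasPullback _ _) (hj k)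
  refine IsZariskiLocalAtTarget.of_openCover (𝒰.pullback₂ (D.map l.hom)) fun k ↦ ?_
  exact (prop_pullback_snd_iff (P := P) f₀ (pullback.snd (𝒰.f k) (D.map l.hom))
    (D.map l.hom)).mpr (hl' k)

end Groth.Agent.Ega43.LimTarget
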