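import Groth.Agent.Ega43.LimSurj

/-!
# Descent of universal injectivity along cofiltered limits
-/

set_option autoImplicit false
universe v u
open CategoryTheory AlgebraicGeometry CategoryTheory.Limits Topology

namespace Groth.Agent.Ega43.LimUnivInj

open Groth.Agent.Ega43.LimDesc Groth.Agent.Ega43.LimSurj

section Category

variable {C : Type u} [Category.{v} C] [HasPullbacks C]
  {X Y X₀ Y₀ : C} {q : X ⟶ X₀} {f : X ⟶ Y} {f₀ : X₀ ⟶ Y₀} {g : Y ⟶ Y₀}

/-- The map `X ×_Y X ⟶ X₀ ×_{Y₀} X₀` induced by a commutative square. -/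
noncomputable def diagMap (h : IsPullback q f f₀ g) : pullback f f ⟶ pullback f₀ f₀ :=
  pullback.map _ _ _ _ q q g h.w.symm h.w.symm

@[reassoc (attr := simp)]
lemma diagMap_fst (h : IsPullback q f f₀ g) :
    diagMap h ≫ pullback.fst f₀ f₀ = pullback.fst f f ≫ q := pullback.lift_fst _ _ _

@[reassoc (attr := simp)]
lemma diagMap_snd (h : IsPullback q f f₀ g) :
    diagMap h ≫ pullback.snd f₀ f₀ = pullback.snd f f ≫ q := pullback.lift_snd _ _ _

lemma diagMap_isPullback_fst (h : IsPullback q f f₀ g) :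
    IsPullback (diagMap h) (pullback.fst f f) (pullback.fst f₀ f₀) q := by
  have h1 : IsPullback (pullback.snd f f ≫ q) (pullback.fst f f) f₀ (f ≫ g) :=
    (IsPullback.of_hasPullback f f).flip.paste_horiz h
  have h2 : IsPullback (diagMap h ≫ pullback.snd f₀ f₀) (pullback.fst f f) f₀ (q ≫ f₀) := by
    rw [diagMap_snd, h.w]
    exact h1
  exact IsPullback.of_right h2 (diagMap_fst h) (IsPullback.of_hasPullback f₀ f₀).flip

lemma diagMap_isPullback (h : IsPullback q f f₀ g) :
    IsPullback (diagMap h) (pullback.fst f f ≫ f) (pullback.fst f₀ f₀ ≫ f₀) g :=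
  (diagMap_isPullback_fst h).paste_vert h

lemma diagonal_isPullback (h : IsPullback q f f₀ g) :
    IsPullback q (pullback.diagonal f) (pullback.diagonal f₀) (diagMap h) := by
  refine IsPullback.of_bot (v₂₁ := pullback.fst f f) (v₂₂ := pullback.fst f₀ f₀) (h₃₁ := q) ?_ ?_
    (diagMap_isPullback_fst h)
  · rw [pullback.diagonal_fst, pullback.diagonal_fst]
    exact IsPullback.of_vert_isIso ⟨by simp⟩
  · apply pullback.hom_ext <;> simp

end Category

/-- If `P` descends along cofiltered limits, then so does `P.diagonal`. -/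
theorem Descends.diagonal {P : MorphismProperty Scheme.{u}} [P.RespectsIso] (hP : Descends P) :
    Descends P.diagonal := by
  intro I _ _ D c hc _ _ _ i₀ X₀ f₀ _ _ _ X q f hpb hf
  have : LocallyOfFinitePresentation (pullback.diagonal f₀ ≫ pullback.fst f₀ f₀ ≫ f₀) := by
    simpa
  have : QuasiCompact (pullback.diagonal f₀ ≫ pullback.fst f₀ f₀ ≫ f₀) := by
    simpa
  have : QuasiSeparated (pullback.diagonal f₀ ≫ pullback.fst f₀ f₀ ≫ f₀) := by
    simpa
  obtain ⟨i, φ, Xi, Yi, fi, gi, pY, pX, h1, h2, h3⟩ := Descends.result hP D c hc i₀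
    (pullback.diagonal f₀) (pullback.fst f₀ f₀ ≫ f₀)
    (pullback.diagonal f) (pullback.fst f f ≫ f) (diagMap hpb) q
    (diagMap_isPullback hpb) (diagonal_isPullback hpb) hf
  refine ⟨i, φ, pullback f₀ (D.map φ), pullback.fst _ _, pullback.snd _ _,
    IsPullback.of_hasPullback _ _, ?_⟩
  have h := IsPullback.of_hasPullback f₀ (D.map φ)
  let e : Yi ≅ pullback (pullback.snd f₀ (D.map φ)) (pullback.snd f₀ (D.map φ)) :=
    IsPullback.isoIsPullback _ _ h1 (diagMap_isPullback h)
  have he : e.inv ≫ pY = diagMap h := IsPullback.isoIsPullback_inv_fst _ _ _ _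
  have h4 := diagonal_isPullback h
  have h5 : IsPullback pX (fi ≫ e.hom) (pullback.diagonal f₀) (diagMap h) :=
    IsPullback.of_iso h2 (Iso.refl _) (Iso.refl _) e (Iso.refl _) (by simp) (by simp) (by simp)
      (by simp [← he])
  let e' : Xi ≅ pullback f₀ (D.map φ) := IsPullback.isoIsPullback _ _ h5 h4
  have he' : e'.inv ≫ fi ≫ e.hom = pullback.diagonal (pullback.snd f₀ (D.map φ)) :=
    IsPullback.isoIsPullback_inv_snd _ _ _ _
  change P (pullback.diagonal (pullback.snd f₀ (D.map φ)))
  rw [← he', P.cancel_left_of_respectsIso, P.cancel_right_of_respectsIso]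
  exact h3

theorem descends_universallyInjective : Descends @UniversallyInjective.{u} := by
  rw [universallyInjective_eq_diagonal]
  exact Descends.diagonal descends_surjective

end Groth.Agent.Ega43.LimUnivInj
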