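import Groth.Agent.Ega43.LimitDescendIso

/-!
# To descend a property which is local at the target, it is enough to treat affine systems

`descendsLim_of_isAffine`: if `P` is Zariski local at the target and stable under base change, then to
show `DescendsLim P` one may assume that all `E.obj j` are affine.
-/

set_option autoImplicit false
set_option backward.isDefEq.respectTransparency false
set_option backward.defeqAttrib.useBackward true

universe u

open CategoryTheory AlgebraicGeometry Limits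

namespace Groth.Agent.Ega43.LimitDescendAffineTarget

open LimitDescend LimitDescendIso

/-- The affine form of `DescendsLim`. -/
def DescendsLimAffine (P : MorphismProperty Scheme.{u}) : Prop :=
  ∀ {J : Type u} [SmallCategory J] [IsCofiltered J] (E : J ⥤ Scheme.{u}) (c : Cone E)
    (_ : IsLimit c) [∀ j, IsAffine (E.obj j)]
    {B X₀ : Scheme.{u}} (t : ∀ j, E.obj j ⟶ B)
    (_ : ∀ {i j : J} (φ : i ⟶ j), E.map φ ≫ t j = t i) (f₀ : X₀ ⟶ B)
    [LocallyOfFinitePresentation f₀] [QuasiCompact f₀] [QuasiSeparated f₀]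
    (p : c.pt ⟶ B) (_ : ∀ j, c.π.app j ≫ t j = p)
    {X : Scheme.{u}} (q : X ⟶ X₀) (f : X ⟶ c.pt) (_ : IsPullback q f f₀ p),
    P f → ∃ j, P (pullback.snd f₀ (t j))

lemma prop_snd_comp {P : MorphismProperty Scheme.{u}} [P.IsStableUnderBaseChange]
    {X₀ B Y Y' : Scheme.{u}} (f₀ : X₀ ⟶ B) (a : Y' ⟶ Y) (b : Y ⟶ B) (b' : Y' ⟶ B) (h : a ≫ b = b')
    (hP : P (pullback.snd f₀ b)) : P (pullback.snd f₀ b') := by
  subst h
  have h1 : IsPullback (pullback.fst f₀ b) (pullback.snd f₀ b) f₀ b := IsPullback.of_hasPullback _ _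
  have h2 : IsPullback (pullback.fst f₀ (a ≫ b)) (pullback.snd f₀ (a ≫ b)) f₀ (a ≫ b) :=
    IsPullback.of_hasPullback _ _
  have h3 : IsPullback (h1.lift (pullback.fst f₀ (a ≫ b)) (pullback.snd f₀ (a ≫ b) ≫ a)
      (by rw [Category.assoc, pullback.condition])) (pullback.snd f₀ (a ≫ b))
      (pullback.snd f₀ b) a :=
    IsPullback.of_right (by simpa using h2) (by simp) h1
  exact MorphismProperty.of_isPullback h3 hP

/-- Reduction to affine systems. -/
theorem descendsLim_of_isAffine {P : MorphismProperty Scheme.{u}} [IsZariskiLocalAtTarget P]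
    [P.IsStableUnderBaseChange] (hP : DescendsLimAffine P) : DescendsLim P := by
  intro J _ _ E c hc _ _ _ B X₀ t ht f₀ _ _ _ p hp X q f hX hf
  obtain ⟨i₀⟩ := IsCofiltered.nonempty (C := J)
  obtain ⟨s, hs, hs'⟩ := isCompact_iff_finite_and_eq_biUnion_affineOpens.mp
    (show IsCompact ((⊤ : (E.obj i₀).Opens) : Set (E.obj i₀)) from isCompact_univ)
  have key : ∀ V : s, ∃ k : Over i₀, P (pullback.snd f₀ ((E.map k.hom ⁻¹ᵁ V.1.1).ι ≫ t k.left)) := by
    intro V
    have (k : Over i₀) : IsAffine ((opensDiagram E i₀ V.1.1).obj k) := V.1.2.preimage (E.map k.hom)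
    have h1 : IsPullback (pullback.fst f (c.π.app i₀ ⁻¹ᵁ V.1.1).ι)
      (pullback.snd f (c.π.app i₀ ⁻¹ᵁ V.1.1).ι) f (c.π.app i₀ ⁻¹ᵁ V.1.1).ι :=
      IsPullback.of_hasPullback _ _
    exact hP (opensDiagram E i₀ V.1.1) (opensCone E c i₀ V.1.1) (isLimitOpensCone E c hc i₀ V.1.1)
      (fun k ↦ (E.map k.hom ⁻¹ᵁ V.1.1).ι ≫ t k.left) (by
        intro k l φ
        simp [ht]) f₀ ((c.π.app i₀ ⁻¹ᵁ V.1.1).ι ≫ p) (by
        intro j
        simp [hp]) _ _ (h1.paste_horiz hX)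
      (MorphismProperty.pullback_snd _ _ hf)
  choose k hk using key
  have : Finite s := hs
  obtain ⟨l, fl, g, hg⟩ := IsCofiltered.wideCospan (fun V : s ↦ (k V).hom)
  have hl : ∀ V : s, P (pullback.snd f₀ ((E.map fl ⁻¹ᵁ V.1.1).ι ≫ t l)) := by
    intro V
    have e : E.map fl ⁻¹ᵁ V.1.1 ≤ E.map (g V) ⁻¹ᵁ E.map (k V).hom ⁻¹ᵁ V.1.1 := by
      rw [← Scheme.Hom.comp_preimage, ← E.map_comp, hg V]
    refine prop_snd_comp f₀ ((E.map (g V)).resLE _ _ e) _ _ ?_ (hk V)
    simp [ht]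
  refine ⟨l, ?_⟩
  have hcov : ⨆ V : s, (E.map fl ⁻¹ᵁ V.1.1) = ⊤ := by
    rw [← Scheme.Hom.preimage_iSup, iSup_subtype, ← hs', Scheme.Hom.preimage_top]
  refine IsZariskiLocalAtTarget.of_iSup_eq_top _ hcov fun V ↦ ?_
  have h1 : IsPullback ((pullback.snd f₀ (t l) ⁻¹ᵁ (E.map fl ⁻¹ᵁ V.1.1)).ι ≫ pullback.fst f₀ (t l))
      (pullback.snd f₀ (t l) ∣_ (E.map fl ⁻¹ᵁ V.1.1)) f₀ ((E.map fl ⁻¹ᵁ V.1.1).ι ≫ t l) :=
    (isPullback_morphismRestrict (pullback.snd f₀ (t l)) (E.map fl ⁻¹ᵁ V.1.1)).flip.paste_horiz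
      (IsPullback.of_hasPullback f₀ (t l))
  exact prop_of_isPullback_of_isPullback (IsPullback.of_hasPullback _ _) h1 (Iso.refl _)
    (by simp) (hl V)

end Groth.Agent.Ega43.LimitDescendAffineTarget
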