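import Groth.Agent.Ega43.LimitDescendOpen
import Groth.Agent.Ega43.LimitDescendClosed
import Mathlib.AlgebraicGeometry.Morphisms.Immersion

/-!
# Immersions descend to a finite stage
-/

set_option autoImplicit false

universe u

open CategoryTheory AlgebraicGeometry Limits

namespace Groth.Agent.Ega43.LimitDescendImm

open LimitDescend LimitDescendOpen LimitDescendClosed

/-- Immersions descend. -/
theorem descendsLim_isImmersion : DescendsLim @IsImmersion.{u} := by
  intro J _ _ E c hc _ _ _ B X₀ t ht f₀ _ _ _ p hp X q f hX hf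
  have hf' : IsImmersion f := hf
  have : CompactSpace X := Scheme.compactSpace_of_isLimit (pbDiagram t ht f₀)
    (pbCone t ht f₀ c p hp q f hX) (isLimitPbCone t ht f₀ c p hp q f hX hc)
  have hK : IsCompact (Set.range f) := isCompact_range f.continuous
  have hKU : Set.range f ⊆ (f.coborderRange : Set c.pt) := by
    rintro _ ⟨x, rfl⟩
    have h1 : (f.liftCoborder ≫ f.coborderRange.ι) x ∈ (f.coborderRange : Set c.pt) :=
      (f.liftCoborder x).2
    rwa [f.liftCoborder_ι] at h1
  obtain ⟨U₀, hU₀, hU₀o, hKU₀, hU₀U⟩ := PrespectralSpace.exists_isCompact_and_isOpen_between hK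
    f.coborderRange.2 hKU
  let U : c.pt.Opens := ⟨U₀, hU₀o⟩
  have hUle : U ≤ f.coborderRange := hU₀U
  have hr : Set.range f ⊆ Set.range U.ι := by rwa [Scheme.Opens.range_ι]
  let g : X ⟶ U := IsOpenImmersion.lift U.ι f hr
  have hg : g ≫ U.ι = f := IsOpenImmersion.lift_fac _ _ _
  have hgc : IsClosedImmersion g := by
    have h1 : g ≫ c.pt.homOfLE hUle = f.liftCoborder := by
      rw [← cancel_mono f.coborderRange.ι, Category.assoc, Scheme.homOfLE_ι, hg, f.liftCoborder_ι]
    have : IsClosedImmersion (g ≫ c.pt.homOfLE hUle) := by rw [h1]; infer_instance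
    have : IsSeparated (c.pt.homOfLE hUle) := inferInstance
    exact IsClosedImmersion.of_comp g (c.pt.homOfLE hUle)
  obtain ⟨j, V, g', hV, hg', hg'i⟩ := exists_corestrict descendsLim_isClosedImmersion E c hc t ht f₀ p
    hp q f hX U hU₀ g hg hgc
  refine ⟨j, ?_⟩
  have : IsClosedImmersion g' := hg'i
  change IsImmersion (pullback.snd f₀ (t j))
  rw [← hg']
  infer_instance

end Groth.Agent.Ega43.LimitDescendImm
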