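import Mathlib.RingTheory.Unramified.LocalStructure
import Mathlib.RingTheory.Unramified.LocalRing
import Mathlib.RingTheory.EssentialFiniteness

set_option autoImplicit false

open IsLocalRing TensorProduct

namespace Groth.Agent.Ega43.UnramLocal

universe u

/-- Local structure of unramified local algebras: an essentially finite type, formally unramified
local `A`-algebra is (up to localization) a quotient of an étale `A`-algebra. -/
theorem exists_etale_of_formallyUnramified (A C : Type u) [CommRing A] [CommRing C] [IsLocalRing C]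
    [Algebra A C] [Algebra.EssFiniteType A C] [Algebra.FormallyUnramified A C] :
    ∃ (E : Type u) (_ : CommRing E) (_ : Algebra A E) (_ : Algebra.Etale A E) (χ : E →ₐ[A] C),
      ∀ c : C, ∃ e s : E, IsUnit (χ s) ∧ c * χ s = χ e := by
  let C₀ := Algebra.EssFiniteType.subalgebra A C
  let M := Algebra.EssFiniteType.submonoid A C
  let 𝔠 : Ideal C₀ := (maximalIdeal C).comap (algebraMap C₀ C)
  have hprime : 𝔠.IsPrime := Ideal.comap_isPrime _ _
  have hM : 𝔠.primeCompl = M := by
    ext x
    change ¬ (algebraMap C₀ C x ∈ maximalIdeal C) ↔ IsUnit (algebraMap C₀ C x)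
    simp [mem_maximalIdeal]
  have hloc : IsLocalization.AtPrime C 𝔠 := by
    change IsLocalization 𝔠.primeCompl C
    rw [hM]
    exact Algebra.EssFiniteType.isLocalization A C
  let e : C ≃ₐ[C₀] Localization.AtPrime 𝔠 := IsLocalization.algEquiv 𝔠.primeCompl _ _
  have hun : Algebra.IsUnramifiedAt A 𝔠 :=
    Algebra.FormallyUnramified.of_equiv (e.restrictScalars A)
  obtain ⟨f, hf, P, φ, hφ⟩ := Algebra.IsUnramifiedAt.exists_hasStandardEtaleSurjectionOn (R := A) 𝔠
  have hfu : IsUnit (algebraMap C₀ C f) := by
    by_contra h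
    exact hf ((mem_maximalIdeal _).mpr h)
  let g : Localization.Away f →+* C := IsLocalization.Away.lift f hfu
  have hg : ∀ x, g (algebraMap C₀ (Localization.Away f) x) = algebraMap C₀ C x :=
    fun x => IsLocalization.Away.lift_eq f hfu x
  let g' : Localization.Away f →ₐ[A] C :=
    { g with
      commutes' := fun r => by
        change g (algebraMap A _ r) = _
        rw [IsScalarTower.algebraMap_apply A C₀ (Localization.Away f), hg,
          ← IsScalarTower.algebraMap_apply A C₀ C] }
  have hg' : ∀ x, g' (algebraMap C₀ (Localization.Away f) x) = algebraMap C₀ C x := hg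
  refine ⟨P.Ring, inferInstance, inferInstance, inferInstance, g'.comp φ, ?_⟩
  intro c
  obtain ⟨⟨x, s⟩, hxs⟩ := IsLocalization.surj 𝔠.primeCompl c
  obtain ⟨a, ha⟩ := hφ (algebraMap C₀ _ x)
  obtain ⟨b, hb⟩ := hφ (algebraMap C₀ _ s)
  refine ⟨a, b, ?_, ?_⟩
  · rw [AlgHom.comp_apply, hb, hg']
    exact IsLocalization.map_units C s
  · rw [AlgHom.comp_apply, AlgHom.comp_apply, ha, hb, hg', hg']
    exact hxs

end Groth.Agent.Ega43.UnramLocal
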