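import Groth.Agent.Ega43.UnivOpenFlat
import Groth.Agent.Ega43.UnramLocal
import Groth.Agent.Ega43.EtaleReduced
import Mathlib.RingTheory.TensorProduct.MvPolynomial
import Mathlib.RingTheory.AlgebraicIndependent.Basic
import Mathlib.RingTheory.AlgebraicIndependent.TranscendenceBasis
import Mathlib.FieldTheory.Separable
import Mathlib.FieldTheory.IntermediateField.Adjoin.Basic
import Mathlib.RingTheory.LocalProperties.Reduced
import Mathlib.RingTheory.TensorProduct.Maps

set_option autoImplicit false

open IsLocalRing TensorProduct

namespace Groth.Agent.Ega43.SepFlat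

universe u

/-- The base change of an étale algebra over a polynomial ring to a field is reduced. -/
theorem isReduced_baseChange (A E : Type u) (ι : Type u) [Finite ι] [CommRing A] [CommRing E]
    [Algebra A E] [Algebra (MvPolynomial ι A) E] [IsScalarTower A (MvPolynomial ι A) E]
    [Algebra.Etale (MvPolynomial ι A) E] (K : Type u) [Field K] [Algebra A K] :
    IsReduced (K ⊗[A] E) := by
  let P := MvPolynomial ι A
  let e₁ : P ⊗[A] K ≃+* MvPolynomial ι K :=
    (Algebra.TensorProduct.comm A P K).toRingEquiv.trans
      (MvPolynomial.algebraTensorAlgEquiv A K).toRingEquiv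
  have h1 : IsReduced (P ⊗[A] K) := isReduced_of_injective e₁ e₁.injective
  have h2 : IsNoetherianRing (P ⊗[A] K) := isNoetherianRing_of_ringEquiv _ e₁.symm
  have h3 : IsReduced ((P ⊗[A] K) ⊗[P] E) := EtaleReduced.isReduced_of_etale (P ⊗[A] K) ((P ⊗[A] K) ⊗[P] E)
  let e₂ : K ⊗[A] E ≃+* (P ⊗[A] K) ⊗[P] E :=
    (Algebra.TensorProduct.comm A K E).toRingEquiv.trans
      ((Algebra.TensorProduct.cancelBaseChange A P P E K).symm.toRingEquiv.trans
        (Algebra.TensorProduct.comm P E (P ⊗[A] K)).toRingEquiv)
  exact isReduced_of_injective e₂ e₂.injective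

section

variable {A C : Type u} [CommRing A] [IsLocalRing A] [CommRing C] [IsLocalRing C] [Algebra A C]
  [IsLocalHom (algebraMap A C)]

/-- If the residues of `b i` are algebraically independent over `κ(A)`, the preimage of the maximal
ideal of `C` in the polynomial ring is generated by the maximal ideal of `A`. -/
theorem comap_aeval_maximalIdeal {ι : Type u} (b : ι → C)
    (hb : AlgebraicIndependent (ResidueField A) (fun i => residue C (b i))) :
    (maximalIdeal C).comap (MvPolynomial.aeval b : MvPolynomial ι A →ₐ[A] C) =
      (maximalIdeal A).map (MvPolynomial.C : A →+* MvPolynomial ι A) := by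
  ext F
  rw [MvPolynomial.mem_map_C_iff, Ideal.mem_comap]
  have h1 : residue C (MvPolynomial.aeval b F) =
      MvPolynomial.aeval (fun i => residue C (b i)) (MvPolynomial.map (residue A) F) := by
    rw [MvPolynomial.aeval_def, MvPolynomial.aeval_def, MvPolynomial.eval₂_map,
      MvPolynomial.hom_eval₂]
    rfl
  have h2 : MvPolynomial.aeval b F ∈ maximalIdeal C ↔ residue C (MvPolynomial.aeval b F) = 0 :=
    (residue_eq_zero_iff _).symm
  rw [h2, h1, map_eq_zero_iff _ hb]
  constructor
  · intro h m
    have h3 := congrArg (MvPolynomial.coeff m) h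
    rw [MvPolynomial.coeff_map, MvPolynomial.coeff_zero, residue_eq_zero_iff] at h3
    exact h3
  · intro h
    ext m
    rw [MvPolynomial.coeff_map, MvPolynomial.coeff_zero, residue_eq_zero_iff]
    exact h m

/-- Flatness at a generic point of a geometrically reduced fibre (algebraic form).  Let `A` be a
reduced Noetherian local ring and `C` a local `A`-algebra essentially of finite type, with
`𝔪_A C = 𝔪_C`, whose residue field is separably generated over the residue field of `A`.  If `C`
satisfies the openness condition on discrete valuation rings then `C` is flat over `A`. -/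
theorem flat_of_separablyGenerated [IsNoetherianRing A] [IsReduced A] [Algebra.EssFiniteType A C]
    (hmax : (maximalIdeal A).map (algebraMap A C) = maximalIdeal C)
    (s : Finset (ResidueField C))
    (hs : IsTranscendenceBasis (ResidueField A) ((↑) : s → ResidueField C))
    (hsep : Algebra.IsSeparable
      (IntermediateField.adjoin (ResidueField A) (s : Set (ResidueField C))) (ResidueField C))
    (hUO : UnivOpenFlat.DVROpen A C) : Module.Flat A C := by
  -- lift the transcendence basis
  have hlift : ∀ i : s, ∃ c : C, residue C c = i := fun i => residue_surjective _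
  choose b hb using hlift
  have hindep : AlgebraicIndependent (ResidueField A) (fun i => residue C (b i)) := by
    have : (fun i => residue C (b i)) = ((↑) : s → ResidueField C) := funext hb
    rw [this]
    exact hs.1
  let P := MvPolynomial s A
  let ev : P →ₐ[A] C := MvPolynomial.aeval b
  let algPC : Algebra P C := ev.toRingHom.toAlgebra
  have hst : IsScalarTower A P C := IsScalarTower.of_algebraMap_eq' ev.comp_algebraMap.symm
  have hevb : ∀ i : s, algebraMap P C (MvPolynomial.X i) = b i := fun i =>
    MvPolynomial.aeval_X b i
  let 𝔞 : Ideal P := (maximalIdeal C).comap (algebraMap P C)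
  have h𝔞prime : 𝔞.IsPrime := Ideal.comap_isPrime _ _
  have h𝔞 : 𝔞 = (maximalIdeal A).map (algebraMap A P) := comap_aeval_maximalIdeal b hindep
  have hessP : Algebra.EssFiniteType P C := Algebra.EssFiniteType.of_comp A P C
  -- the local ring of `P` at `𝔞`
  let L := Localization.AtPrime 𝔞
  have hLunit : ∀ y : 𝔞.primeCompl, IsUnit (algebraMap P C y) := by
    intro y
    by_contra h
    exact y.2 ((mem_maximalIdeal _).mpr h)
  let algLC : Algebra L C := (IsLocalization.lift (M := 𝔞.primeCompl) hLunit).toAlgebra
  have hstL : IsScalarTower P L C :=
    IsScalarTower.of_algebraMap_eq fun x => (IsLocalization.lift_eq hLunit x).symm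
  have hessL : Algebra.EssFiniteType L C := Algebra.EssFiniteType.of_comp P L C
  have hlocL : IsLocalHom (algebraMap L C) := by
    refine ⟨fun x hx => ?_⟩
    obtain ⟨⟨y, t⟩, hy⟩ := IsLocalization.surj 𝔞.primeCompl x
    have h1 : IsUnit (algebraMap P C y) := by
      rw [IsScalarTower.algebraMap_apply P L C, ← hy, map_mul,
        ← IsScalarTower.algebraMap_apply P L C]
      exact hx.mul (hLunit t)
    have h2 : y ∈ 𝔞.primeCompl := by
      intro h
      exact (mem_maximalIdeal _).mp h h1
    have h3 : IsUnit (algebraMap P L y) := IsLocalization.map_units L ⟨y, h2⟩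
    rw [← hy] at h3
    exact isUnit_of_mul_isUnit_left h3
  have hmaxL : (maximalIdeal L).map (algebraMap L C) = maximalIdeal C := by
    apply le_antisymm
    · rw [Ideal.map_le_iff_le_comap]
      intro x hx
      exact (map_mem_nonunits_iff (algebraMap L C) x).mpr hx
    · rw [← Localization.AtPrime.map_eq_maximalIdeal, Ideal.map_map,
        ← IsScalarTower.algebraMap_eq, h𝔞, Ideal.map_map, ← IsScalarTower.algebraMap_eq, hmax]
  have hstAL : IsScalarTower A L C := by
    refine IsScalarTower.of_algebraMap_eq fun x => ?_
    rw [IsScalarTower.algebraMap_apply A P C, IsScalarTower.algebraMap_apply A P L,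
      ← IsScalarTower.algebraMap_apply P L C]
  have hlocAL : IsLocalHom (algebraMap A L) := by
    refine ⟨fun a ha => ?_⟩
    have h1 : IsUnit (algebraMap A C a) := by
      rw [IsScalarTower.algebraMap_apply A L C]
      exact ha.map _
    exact isUnit_of_map_unit (algebraMap A C) a h1
  have hstk : IsScalarTower (ResidueField A) (ResidueField L) (ResidueField C) := by
    refine IsScalarTower.of_algebraMap_eq fun x => ?_
    obtain ⟨a, rfl⟩ := residue_surjective x
    change residue C (algebraMap A C a) = residue C (algebraMap L C (algebraMap A L a))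
    rw [← IsScalarTower.algebraMap_apply A L C]
  have hsepL : Algebra.IsSeparable (ResidueField L) (ResidueField C) := by
    let j : ResidueField L →ₐ[ResidueField A] ResidueField C :=
      IsScalarTower.toAlgHom (ResidueField A) (ResidueField L) (ResidueField C)
    have hle : IntermediateField.adjoin (ResidueField A) (s : Set (ResidueField C)) ≤
        j.fieldRange := by
      rw [IntermediateField.adjoin_le_iff]
      intro x hx
      refine ⟨residue L (algebraMap P L (MvPolynomial.X ⟨x, hx⟩)), ?_⟩
      change residue C (algebraMap L C (algebraMap P L (MvPolynomial.X ⟨x, hx⟩))) = x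
      rw [← IsScalarTower.algebraMap_apply P L C, hevb, hb]
    let e := AlgEquiv.ofInjective j j.injective
    let g : IntermediateField.adjoin (ResidueField A) (s : Set (ResidueField C)) →+*
        ResidueField L :=
      (e.symm : j.range →+* ResidueField L).comp
        (Subring.inclusion (S := (IntermediateField.adjoin (ResidueField A)
          (s : Set (ResidueField C))).toSubring) (T := j.range.toSubring) hle)
    let _ : Algebra (IntermediateField.adjoin (ResidueField A) (s : Set (ResidueField C)))
      (ResidueField L) := g.toAlgebra
    have hg : ∀ x, algebraMap (ResidueField L) (ResidueField C) (g x) = x := by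
      intro x
      have h1 : j (e.symm ⟨x, hle x.2⟩) = x := by
        have := AlgEquiv.ofInjective_apply j j.injective (e.symm ⟨x, hle x.2⟩)
        rw [← this]
        change ((e (e.symm ⟨x, hle x.2⟩) : j.range) : ResidueField C) = x
        rw [AlgEquiv.apply_symm_apply]
      exact h1
    have : IsScalarTower (IntermediateField.adjoin (ResidueField A) (s : Set (ResidueField C)))
        (ResidueField L) (ResidueField C) :=
      IsScalarTower.of_algebraMap_eq fun x => (hg x).symm
    exact Algebra.isSeparable_tower_top_of_isSeparable
      (IntermediateField.adjoin (ResidueField A) (s : Set (ResidueField C)))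
      (ResidueField L) (ResidueField C)
  have hunL : Algebra.FormallyUnramified L C :=
    Algebra.FormallyUnramified.of_map_maximalIdeal hmaxL
  have hunPL : Algebra.FormallyUnramified P L :=
    Algebra.FormallyUnramified.of_isLocalization 𝔞.primeCompl
  have hunP : Algebra.FormallyUnramified P C := Algebra.FormallyUnramified.comp P L C
  obtain ⟨E, _, algPE, _, χP, hχ⟩ := UnramLocal.exists_etale_of_formallyUnramified P C
  let algAE : Algebra A E := ((algebraMap P E).comp (algebraMap A P)).toAlgebra
  have hstE : IsScalarTower A P E := IsScalarTower.of_algebraMap_eq' rfl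
  let χ : E →ₐ[A] C := χP.restrictScalars A
  have hχ' : ∀ x, χ x = χP x := fun _ => rfl
  let q : Ideal E := (maximalIdeal C).comap χ
  have hqprime : q.IsPrime := Ideal.comap_isPrime _ _
  have hredE : IsReduced E := EtaleReduced.isReduced_of_etale P E
  have hredEq : IsReduced (Localization.AtPrime q) :=
    isReduced_localizationPreserves q.primeCompl _ hredE
  have hftE : Algebra.FiniteType A E := Algebra.FiniteType.trans (S := P) inferInstance inferInstance
  have hflE : Module.Flat A E := Module.Flat.trans A P E
  refine UnivOpenFlat.flat_of_dvrOpen χ q rfl hχ hredEq ?_ ?_ hUO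
  · have hqP : ∀ y : P, algebraMap P E y ∈ q ↔ y ∈ 𝔞 := by
      intro y
      change χP (algebraMap P E y) ∈ maximalIdeal C ↔ algebraMap P C y ∈ maximalIdeal C
      rw [AlgHom.commutes]
    have hqA : q.under A = maximalIdeal A := by
      ext a
      change χ (algebraMap A E a) ∈ maximalIdeal C ↔ _
      rw [AlgHom.commutes, mem_maximalIdeal, mem_maximalIdeal, mem_nonunits_iff,
        isUnit_map_iff, mem_nonunits_iff]
    have hunit : ∀ y : 𝔞.primeCompl, IsUnit (algebraMap P (Localization.AtPrime q) y) := by
      intro y
      rw [IsScalarTower.algebraMap_apply P E (Localization.AtPrime q)]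
      refine IsLocalization.map_units (M := q.primeCompl) _ ⟨algebraMap P E y, ?_⟩
      intro h
      exact y.2 ((hqP y).mp h)
    let algLEq : Algebra L (Localization.AtPrime q) :=
      (IsLocalization.lift (M := 𝔞.primeCompl) hunit).toAlgebra
    have hstLEq : IsScalarTower P L (Localization.AtPrime q) :=
      IsScalarTower.of_algebraMap_eq fun x => (IsLocalization.lift_eq hunit x).symm
    have hess1 : Algebra.EssFiniteType E (Localization.AtPrime q) :=
      Algebra.EssFiniteType.of_isLocalization _ q.primeCompl
    have hess2 : Algebra.EssFiniteType P (Localization.AtPrime q) :=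
      Algebra.EssFiniteType.comp P E _
    have hess3 : Algebra.EssFiniteType L (Localization.AtPrime q) :=
      Algebra.EssFiniteType.of_comp P L _
    have hloc3 : IsLocalHom (algebraMap L (Localization.AtPrime q)) := by
      refine ⟨fun x hx => ?_⟩
      obtain ⟨⟨y, t⟩, hy⟩ := IsLocalization.surj 𝔞.primeCompl x
      have h1 : IsUnit (algebraMap P (Localization.AtPrime q) y) := by
        rw [IsScalarTower.algebraMap_apply P L (Localization.AtPrime q), ← hy, map_mul,
          ← IsScalarTower.algebraMap_apply P L (Localization.AtPrime q)]
        exact hx.mul (hunit t)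
      have h2 : y ∈ 𝔞.primeCompl := by
        intro h
        rw [IsScalarTower.algebraMap_apply P E (Localization.AtPrime q),
          IsLocalization.AtPrime.isUnit_to_map_iff _ q] at h1
        exact h1 ((hqP y).mpr h)
      have h3 : IsUnit (algebraMap P L y) := IsLocalization.map_units L ⟨y, h2⟩
      rw [← hy] at h3
      exact isUnit_of_mul_isUnit_left h3
    have hun3 : Algebra.FormallyUnramified L (Localization.AtPrime q) :=
      Algebra.FormallyUnramified.of_restrictScalars P L _
    have h5 := Algebra.FormallyUnramified.map_maximalIdeal (R := L)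
      (S := Localization.AtPrime q)
    rw [← Localization.AtPrime.map_eq_maximalIdeal, Ideal.map_map,
      ← IsScalarTower.algebraMap_eq, h𝔞, Ideal.map_map, ← IsScalarTower.algebraMap_eq] at h5
    rw [hqA, h5]
  · intro K _ _
    exact isReduced_baseChange A E s K

end

end Groth.Agent.Ega43.SepFlat
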