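import Groth.Agent.Ega43.SepGen
import Groth.Agent.Ega43.SepFlat
import Groth.Agent.Ega43.FlatAss

set_option autoImplicit false

open IsLocalRing TensorProduct

namespace Groth.Agent.Ega43.LocalFlat

universe u

/-- `𝔪_A B` is radical when `κ̄ ⊗ B` is reduced. -/
theorem isRadical_map {A B : Type u} [CommRing A] [IsLocalRing A] [CommRing B] [Algebra A B]
    (hred : IsReduced (AlgebraicClosure (ResidueField A) ⊗[A] B)) :
    ((maximalIdeal A).map (algebraMap A B)).IsRadical := by
  intro x hx
  obtain ⟨n, hn⟩ := hx
  let Kbar := AlgebraicClosure (ResidueField A)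
  -- elements of `𝔪_A B` die in `κ̄ ⊗ B`
  have h0 : (maximalIdeal A).map (algebraMap A B) ≤ RingHom.ker
      (Algebra.TensorProduct.includeRight : B →ₐ[A] Kbar ⊗[A] B) := by
    rw [Ideal.map_le_iff_le_comap]
    intro a ha
    rw [Ideal.mem_comap, RingHom.mem_ker, AlgHom.commutes,
      IsScalarTower.algebraMap_apply A Kbar (Kbar ⊗[A] B),
      IsScalarTower.algebraMap_apply A (ResidueField A) Kbar]
    have : algebraMap A (ResidueField A) a = 0 := (residue_eq_zero_iff a).mpr ha
    rw [this, map_zero, map_zero]
  have h1 : (Algebra.TensorProduct.includeRight : B →ₐ[A] Kbar ⊗[A] B) x = 0 := by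
    have h2 : IsNilpotent ((Algebra.TensorProduct.includeRight : B →ₐ[A] Kbar ⊗[A] B) x) :=
      ⟨n, by rw [← map_pow]; exact h0 hn⟩
    exact h2.eq_zero
  -- pass to `κ ⊗ B`
  have h3 : (1 : ResidueField A) ⊗ₜ[A] x = 0 := by
    have hinj : Function.Injective (Algebra.TensorProduct.includeRight :
        (ResidueField A ⊗[A] B) →ₐ[ResidueField A] Kbar ⊗[ResidueField A] (ResidueField A ⊗[A] B)) :=
      Algebra.TensorProduct.includeRight_injective (algebraMap (ResidueField A) Kbar).injective
    apply hinj
    rw [map_zero]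
    have h4 := congrArg (Algebra.TensorProduct.cancelBaseChange A (ResidueField A)
      (ResidueField A) Kbar B).symm h1
    rw [map_zero] at h4
    rw [← h4]
    rfl
  have h5 : (TensorProduct.quotTensorEquivQuotSMul B (maximalIdeal A))
      ((1 : ResidueField A) ⊗ₜ[A] x) = 0 :=
    (LinearEquiv.map_eq_zero_iff _).mpr h3
  have h6 : (TensorProduct.quotTensorEquivQuotSMul B (maximalIdeal A))
      ((1 : ResidueField A) ⊗ₜ[A] x) = Submodule.Quotient.mk x := by
    have := TensorProduct.quotTensorEquivQuotSMul_mk_tmul (M := B) (maximalIdeal A) 1 x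
    rw [one_smul] at this
    exact this
  rw [h6, Submodule.Quotient.mk_eq_zero] at h5
  have h7 : (maximalIdeal A) • (⊤ : Submodule A B) =
      ((maximalIdeal A).map (algebraMap A B)).restrictScalars A := by
    exact Ideal.smul_top_eq_map _
  rw [h7] at h5
  exact h5

/-- `κ̄ ⊗ κ(C)` is reduced if `κ̄ ⊗_A C` is, when `𝔪_A C = 𝔪_C`. -/
theorem isReduced_residueField {A C : Type u} [CommRing A] [IsLocalRing A] [CommRing C]
    [IsLocalRing C] [Algebra A C] [IsLocalHom (algebraMap A C)]
    (hmax : (maximalIdeal A).map (algebraMap A C) = maximalIdeal C)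
    (hred : IsReduced (AlgebraicClosure (ResidueField A) ⊗[A] C)) :
    IsReduced (AlgebraicClosure (ResidueField A) ⊗[ResidueField A] ResidueField C) := by
  let k := ResidueField A
  let Kbar := AlgebraicClosure k
  let N := Kbar ⊗[A] C
  -- the map `κ(C) → N`
  have h0 : ∀ c ∈ maximalIdeal C, (Algebra.TensorProduct.includeRight : C →ₐ[A] N) c = 0 := by
    rw [← hmax]
    intro c hc
    have : (maximalIdeal A).map (algebraMap A C) ≤ RingHom.ker
        (Algebra.TensorProduct.includeRight : C →ₐ[A] N) := by
      rw [Ideal.map_le_iff_le_comap]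
      intro a ha
      rw [Ideal.mem_comap, RingHom.mem_ker, AlgHom.commutes,
        IsScalarTower.algebraMap_apply A Kbar N,
        IsScalarTower.algebraMap_apply A k Kbar]
      have : algebraMap A k a = 0 := (residue_eq_zero_iff a).mpr ha
      rw [this, map_zero, map_zero]
    exact this hc
  let h : ResidueField C →+* N :=
    Ideal.Quotient.lift (maximalIdeal C) (Algebra.TensorProduct.includeRight : C →ₐ[A] N) h0
  have hh : ∀ c, h (residue C c) = (1 : Kbar) ⊗ₜ[A] c := fun c => Ideal.Quotient.lift_mk _ _ _
  let hk : ResidueField C →ₐ[k] N :=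
    { h with
      commutes' := fun r => by
        obtain ⟨a, rfl⟩ := residue_surjective r
        change h (residue C (algebraMap A C a)) = algebraMap k N (residue A a)
        rw [hh]
        have h1 : algebraMap k N (residue A a) = (algebraMap k Kbar (residue A a)) ⊗ₜ[A] (1 : C) :=
          rfl
        rw [h1]
        have h2 : algebraMap k Kbar (residue A a) = algebraMap A Kbar a := rfl
        rw [h2, Algebra.algebraMap_eq_smul_one, Algebra.algebraMap_eq_smul_one,
          TensorProduct.tmul_smul, TensorProduct.smul_tmul'] }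
  have hhk : ∀ c, hk (residue C c) = (1 : Kbar) ⊗ₜ[A] c := hh
  let inl : Kbar →ₐ[k] N := IsScalarTower.toAlgHom k Kbar N
  let g : Kbar ⊗[k] ResidueField C →ₐ[k] N :=
    Algebra.TensorProduct.lift inl hk (fun _ _ => mul_comm _ _)
  let f : N →ₐ[A] Kbar ⊗[k] ResidueField C :=
    Algebra.TensorProduct.lift
      ((Algebra.TensorProduct.includeLeft : Kbar →ₐ[k] Kbar ⊗[k] ResidueField C).restrictScalars A)
      (((Algebra.TensorProduct.includeRight : ResidueField C →ₐ[k]
        Kbar ⊗[k] ResidueField C).restrictScalars A).comp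
          (IsScalarTower.toAlgHom A C (ResidueField C)))
      (fun _ _ => mul_comm _ _)
  have hfg : ∀ x, f (g x) = x := by
    intro x
    induction x with
    | zero => rw [map_zero, map_zero]
    | add x y hx hy => rw [map_add, map_add, hx, hy]
    | tmul a r =>
      obtain ⟨c, rfl⟩ := residue_surjective r
      have h1 : g (a ⊗ₜ residue C c) = inl a * hk (residue C c) :=
        Algebra.TensorProduct.lift_tmul _ _ _ _ _
      have h2 : inl a = a ⊗ₜ[A] (1 : C) := rfl
      rw [h1, hhk, h2, Algebra.TensorProduct.tmul_mul_tmul, mul_one, one_mul]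
      have h3 : f (a ⊗ₜ[A] c) = (a ⊗ₜ[k] (1 : ResidueField C)) * ((1 : Kbar) ⊗ₜ[k] residue C c) :=
        Algebra.TensorProduct.lift_tmul _ _ _ _ _
      rw [h3, Algebra.TensorProduct.tmul_mul_tmul, mul_one, one_mul]
  exact isReduced_of_injective g (Function.LeftInverse.injective hfg)

/-- Algebraic form of EGA IV 15.2.3: let `A → B` be a local homomorphism of local rings, essentially
of finite type, `A` Noetherian and reduced, such that `κ̄ ⊗_A B` is reduced and the localizations of
`B` at the primes minimal over `𝔪_A B` satisfy the openness condition on discrete valuation rings.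
Then `B` is flat over `A`. -/
theorem flat_of_dvrOpen_minimalPrimes {A B : Type u} [CommRing A] [IsLocalRing A]
    [IsNoetherianRing A] [IsReduced A] [CommRing B] [IsLocalRing B] [Algebra A B]
    [IsLocalHom (algebraMap A B)] [Algebra.EssFiniteType A B]
    (hred : IsReduced (AlgebraicClosure (ResidueField A) ⊗[A] B))
    (hUO : ∀ (z : Ideal B) [z.IsPrime], z ∈ ((maximalIdeal A).map (algebraMap A B)).minimalPrimes →
      UnivOpenFlat.DVROpen A (Localization.AtPrime z)) :
    Module.Flat A B := by
  have hNB : IsNoetherianRing B := Algebra.EssFiniteType.isNoetherianRing A B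
  have hrad := isRadical_map hred
  refine FlatAss.flat_of_flat_minimalPrimes hrad ?_
  intro z hzp hz
  let k := ResidueField A
  let Kbar := AlgebraicClosure k
  have hmz : (maximalIdeal A).map (algebraMap A (Localization.AtPrime z)) =
      maximalIdeal (Localization.AtPrime z) := by
    rw [UnivOpenCore.maximalIdeal_eq_map_of_mem_minimalPrimes hrad z hz, Ideal.map_map,
      ← IsScalarTower.algebraMap_eq]
  have hloc : IsLocalHom (algebraMap A (Localization.AtPrime z)) := by
    refine ⟨fun a ha => ?_⟩
    by_contra hna
    have h1 : algebraMap A (Localization.AtPrime z) a ∈ maximalIdeal (Localization.AtPrime z) := by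
      rw [← hmz]
      exact Ideal.mem_map_of_mem _ ((mem_maximalIdeal a).mpr hna)
    exact (mem_maximalIdeal _).mp h1 ha
  have hess1 : Algebra.EssFiniteType B (Localization.AtPrime z) :=
    Algebra.EssFiniteType.of_isLocalization _ z.primeCompl
  have hess : Algebra.EssFiniteType A (Localization.AtPrime z) :=
    Algebra.EssFiniteType.comp A B _
  have hessk : Algebra.EssFiniteType k (ResidueField (Localization.AtPrime z)) := by
    have h1 : Algebra.EssFiniteType A (ResidueField (Localization.AtPrime z)) :=
      Algebra.EssFiniteType.comp A (Localization.AtPrime z) _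
    exact Algebra.EssFiniteType.of_comp A k _
  -- reducedness of the base change
  have hredz : IsReduced (Kbar ⊗[A] (Localization.AtPrime z)) := by
    let φ : Kbar ⊗[A] B →ₐ[Kbar] Kbar ⊗[A] (Localization.AtPrime z) :=
      Algebra.TensorProduct.map (AlgHom.id Kbar Kbar) (IsScalarTower.toAlgHom A B _)
    let _ : Algebra (Kbar ⊗[A] B) (Kbar ⊗[A] (Localization.AtPrime z)) := φ.toRingHom.toAlgebra
    have hst : IsScalarTower Kbar (Kbar ⊗[A] B) (Kbar ⊗[A] (Localization.AtPrime z)) :=
      IsScalarTower.of_algebraMap_eq' φ.comp_algebraMap.symm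
    have hl := IsLocalization.tensorProduct_tensorProduct_right A Kbar z.primeCompl
      (Localization.AtPrime z) (by
        ext b
        change φ ((1 : Kbar) ⊗ₜ b) = (1 : Kbar) ⊗ₜ algebraMap B _ b
        rfl)
    exact @isReduced_localizationPreserves _ _ _ _ _ _ hl hred
  have hredres := isReduced_residueField hmz hredz
  obtain ⟨s, hs, hsep⟩ := SepGen.exists_separating_transcendenceBasis k
    (ResidueField (Localization.AtPrime z)) hredres
  exact SepFlat.flat_of_separablyGenerated hmz s hs hsep (hUO z hz)

end Groth.Agent.Ega43.LocalFlat
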