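import Groth.Agent.Ega43.LocusRed
import Groth.Agent.Ega43.LimDesc

/-!
# Reduction of constructibility of fibrewise loci to the affine case

* `FP f`: finite presentation in the sense of EGA (locally of finite presentation, qc, qs)
* `isLocallyConstructible_of_Spec_base`: reduction to affine `S`
* `isConstructible_of_Spec_target`: reduction to affine `Y` (for properties local on the target)
* `isConstructible_of_Spec_source`: reduction to affine `X` (for properties local on the source)
-/

set_option autoImplicit false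
universe u
open CategoryTheory AlgebraicGeometry CategoryTheory.Limits Topology

namespace Groth.Agent.Ega43.LocusAff

open Groth.Agent.Ega43.Locus Groth.Agent.Ega43.LimDesc

/-- Morphisms of finite presentation. -/
structure FP {X Y : Scheme.{u}} (f : X ⟶ Y) : Prop where
  lfp : LocallyOfFinitePresentation f
  qc : QuasiCompact f
  qs : QuasiSeparated f

section

variable {X Y Z S T X' Y' : Scheme.{u}}

theorem FP.mk' (f : X ⟶ Y) [LocallyOfFinitePresentation f] [QuasiCompact f] [QuasiSeparated f] :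
    FP f := ⟨inferInstance, inferInstance, inferInstance⟩

theorem FP.comp {f : X ⟶ Y} {g : Y ⟶ Z} (hf : FP f) (hg : FP g) : FP (f ≫ g) := by
  have := hf.lfp; have := hf.qc; have := hf.qs
  have := hg.lfp; have := hg.qc; have := hg.qs
  exact ⟨inferInstance, inferInstance, inferInstance⟩

theorem FP.of_comp {f : X ⟶ Y} {g : Y ⟶ Z} (hfg : FP (f ≫ g)) (hg : FP g) : FP f := by
  have := hfg.lfp; have := hfg.qc; have := hfg.qs
  have := hg.lfp; have := hg.qc; have := hg.qs
  exact ⟨locallyOfFinitePresentation_of_comp f g, .of_comp f g, .of_comp f g⟩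

theorem FP.of_isPullback {f : X ⟶ Y} {f' : X' ⟶ Y'} {qX : X' ⟶ X} {qY : Y' ⟶ Y}
    (h : IsPullback qX f' f qY) (hf : FP f) : FP f' := by
  exact ⟨MorphismProperty.of_isPullback h hf.lfp, MorphismProperty.of_isPullback h hf.qc,
    MorphismProperty.of_isPullback h hf.qs⟩

theorem FP.of_isOpenImmersion_of_qc {f : X ⟶ Y} [IsOpenImmersion f] (hf : QuasiCompact f) : FP f :=
  ⟨inferInstance, inferInstance, inferInstance⟩

theorem FP.snd {f : X ⟶ Z} (hf : FP f) (g : Y ⟶ Z) : FP (pullback.snd f g) :=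
  hf.of_isPullback (IsPullback.of_hasPullback f g)

theorem FP.of_isOpenImmersion_of_isAffine {A : CommRingCat.{u}} (f : X ⟶ Y) (g : Y ⟶ Spec A)
    [IsAffine X] [IsOpenImmersion f] (hg : FP g) : FP (f ≫ g) := by
  have := hg.lfp
  have : QuasiCompact (f ≫ g) := (quasiCompact_iff_compactSpace _).mpr inferInstance
  exact ⟨inferInstance, inferInstance, inferInstance⟩

theorem fp_SpecMap_iff {A B : CommRingCat.{u}} (φ : A ⟶ B) :
    FP (Spec.map φ) ↔ φ.hom.FinitePresentation :=
  ⟨fun h ↦ (LocallyOfFinitePresentation.SpecMap_iff _).mp h.lfp, fun h ↦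
    ⟨(LocallyOfFinitePresentation.SpecMap_iff _).mpr h, inferInstance, inferInstance⟩⟩

/-- Reduction to affine base `S`. -/
theorem isLocallyConstructible_of_Spec_base {P : MorphismProperty Scheme.{u}} (hP : FpqcInv P)
    (H : ∀ {X Y : Scheme.{u}} {A : CommRingCat.{u}} (f : X ⟶ Y) (g : Y ⟶ Spec A),
      FP g → FP (f ≫ g) → IsConstructible (locus P f g))
    (f : X ⟶ Y) (g : Y ⟶ S) (hg : FP g) (hfg : FP (f ≫ g)) :
    IsLocallyConstructible (locus P f g) := by
  refine isLocallyConstructible_locus hP f g fun A t _ ↦ H _ _ (hg.snd t) ?_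
  rw [pullback.lift_snd]
  exact hfg.snd t

/-- Reduction to affine `Y`. -/
theorem isConstructible_of_Spec_target {P : MorphismProperty Scheme.{u}}
    [IsZariskiLocalAtTarget P] {A : CommRingCat.{u}}
    (H : ∀ {X : Scheme.{u}} {D : CommRingCat.{u}} (f : X ⟶ Spec D) (g : Spec D ⟶ Spec A),
      FP g → FP (f ≫ g) → IsConstructible (locus P f g))
    (f : X ⟶ Y) (g : Y ⟶ Spec A) (hg : FP g) (hfg : FP (f ≫ g)) :
    IsConstructible (locus P f g) := by
  have := hg.qc
  have : CompactSpace Y := QuasiCompact.compactSpace_of_compactSpace g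
  let 𝒰 := Y.affineCover.finiteSubcover
  have h1 : locus P f g = ⋂ i, locus P (pullback.snd f (𝒰.f i)) (𝒰.f i ≫ g) := by
    ext s
    rw [Set.mem_iInter]
    exact mem_locus_iff_openCover_target f g 𝒰 s
  rw [h1]
  refine IsConstructible.iInter fun i ↦ ?_
  have h2 : FP (𝒰.f i ≫ g) := FP.of_isOpenImmersion_of_isAffine _ _ hg
  exact H _ _ h2 (((hfg.of_comp hg).snd (𝒰.f i)).comp h2)

/-- Reduction to affine `X`. -/
theorem isConstructible_of_Spec_source {P : MorphismProperty Scheme.{u}}
    [IsZariskiLocalAtTarget P] [IsZariskiLocalAtSource P] {A : CommRingCat.{u}}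
    (H : ∀ {D C : CommRingCat.{u}} (φ : A ⟶ D) (ψ : D ⟶ C),
      φ.hom.FinitePresentation → ψ.hom.FinitePresentation →
      IsConstructible (locus P (Spec.map ψ) (Spec.map φ)))
    (f : X ⟶ Y) (g : Y ⟶ Spec A) (hg : FP g) (hfg : FP (f ≫ g)) :
    IsConstructible (locus P f g) := by
  refine isConstructible_of_Spec_target ?_ f g hg hfg
  intro X D f g hg hfg
  have := hfg.qc
  have : CompactSpace X := QuasiCompact.compactSpace_of_compactSpace (f ≫ g)
  let 𝒰 := X.affineCover.finiteSubcover
  have h1 : locus P f g = ⋂ i, locus P (𝒰.f i ≫ f) g := by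
    ext s
    rw [Set.mem_iInter]
    exact mem_locus_iff_openCover_source f g 𝒰 s
  rw [h1]
  refine IsConstructible.iInter fun i ↦ ?_
  have h2 : FP (𝒰.f i ≫ f ≫ g) := FP.of_isOpenImmersion_of_isAffine _ _ hfg
  have key : ∀ (W : Scheme.{u}) (_ : ∃ C : CommRingCat.{u}, W = Spec C) (h : W ⟶ Spec D),
      FP (h ≫ g) → IsConstructible (locus P h g) := by
    rintro _ ⟨C, rfl⟩ h hh
    obtain ⟨ψ, rfl⟩ := Spec.map_surjective h
    obtain ⟨φ, rfl⟩ := Spec.map_surjective g
    exact H _ _ ((fp_SpecMap_iff _).mp hg) ((fp_SpecMap_iff _).mp (hh.of_comp hg))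
  exact key _ ⟨_, rfl⟩ _ ((Category.assoc (𝒰.f i) f g).symm ▸ h2)

end

end Groth.Agent.Ega43.LocusAff
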