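import Groth.Agent.Ega43.Locus
import Groth.Agent.Ega43.LimUnivInj

/-!
# Elementary fibrewise loci: surjective, universally injective

-/

set_option autoImplicit false
universe u
open CategoryTheory AlgebraicGeometry CategoryTheory.Limits Topology

namespace Groth.Agent.Ega43.LocusElem

open Groth.Agent.Ega43.Locus Groth.Agent.Ega43.LimDesc Groth.Agent.Ega43.LimUnivInj

theorem isLocallyConstructible_compl {X : Type*} [TopologicalSpace X] {s : Set X}
    (hs : IsLocallyConstructible s) : IsLocallyConstructible sᶜ := by
  intro x
  obtain ⟨U, hU, hU', hs'⟩ := hs x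
  exact ⟨U, hU, hU', hs'.compl⟩

variable {X Y S T K : Scheme.{u}}

lemma range_bcMap (f : X ⟶ Y) (g : Y ⟶ S) (k : K ⟶ S) :
    Set.range (bcMap f g k) = pullback.fst g k ⁻¹' (Set.range f) := by
  have := Scheme.image_preimage_eq_of_isPullback (isPullback_bcMap f g k) Set.univ
  rw [Set.preimage_univ, Set.image_univ, Set.image_univ] at this
  exact this

lemma mem_locus_surjective_iff (f : X ⟶ Y) (g : Y ⟶ S) (s : S) :
    s ∈ locus @Surjective f g ↔ s ∉ g '' (Set.range f)ᶜ := by
  change Surjective (bcMap f g (S.fromSpecResidueField s)) ↔ _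
  rw [surjective_iff, ← Set.range_eq_univ, range_bcMap, Set.preimage_eq_univ_iff,
    Scheme.Pullback.range_fst, Scheme.range_fromSpecResidueField]
  constructor
  · rintro h ⟨y, hy, rfl⟩
    exact hy (h (by simp))
  · intro h y hy
    by_contra hy'
    exact h ⟨y, hy', by simpa using hy⟩

section FP

variable (f : X ⟶ Y) (g : Y ⟶ S) [LocallyOfFinitePresentation g] [QuasiCompact g]
    [QuasiSeparated g]
    [LocallyOfFinitePresentation (f ≫ g)] [QuasiCompact (f ≫ g)] [QuasiSeparated (f ≫ g)]

include f g in
omit [QuasiSeparated (f ≫ g)] in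
theorem isLocallyConstructible_locus_surjective :
    IsLocallyConstructible (locus @Surjective f g) := by
  have : LocallyOfFinitePresentation f := locallyOfFinitePresentation_of_comp f g
  have : QuasiCompact f := .of_comp f g
  have h1 : IsLocallyConstructible (Set.range f) := by
    simpa using f.isLocallyConstructible_image (s := Set.univ) (by simp)
  have h2 := isLocallyConstructible_compl
    (g.isLocallyConstructible_image (isLocallyConstructible_compl h1))
  convert h2 using 1
  ext s
  exact mem_locus_surjective_iff f g s

end FP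

/-- The locus of `P.diagonal`. -/
theorem locus_diagonal (P : MorphismProperty Scheme.{u}) [P.RespectsIso] (f : X ⟶ Y) (g : Y ⟶ S) :
    locus P.diagonal f g = locus P (pullback.diagonal f) (pullback.fst f f ≫ f ≫ g) := by
  ext s
  let k := S.fromSpecResidueField s
  symm
  have h := isPullback_bcMap f g k
  have h1 : IsPullback (diagMap h) ((pullback.fst (bcMap f g k) (bcMap f g k) ≫ bcMap f g k) ≫
      pullback.snd g k) (pullback.fst f f ≫ f ≫ g) k := by
    rw [← Category.assoc (pullback.fst f f)]
    exact (diagMap_isPullback h).paste_vert (IsPullback.of_hasPullback g k)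
  exact mem_locus_iff_of_isPullback h1 (diagonal_isPullback h)

section FP

variable (f : X ⟶ Y) (g : Y ⟶ S) [LocallyOfFinitePresentation g] [QuasiCompact g]
    [QuasiSeparated g]
    [LocallyOfFinitePresentation (f ≫ g)] [QuasiCompact (f ≫ g)] [QuasiSeparated (f ≫ g)]

omit [QuasiCompact g] in
/-- The constructibility of all `P`-loci implies that of all `P.diagonal`-loci. -/
theorem isLocallyConstructible_locus_diagonal (P : MorphismProperty Scheme.{u}) [P.RespectsIso]
    (H : ∀ {X Y : Scheme.{u}} (f : X ⟶ Y) (g : Y ⟶ S)
      [LocallyOfFinitePresentation g] [QuasiCompact g] [QuasiSeparated g]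
      [LocallyOfFinitePresentation (f ≫ g)] [QuasiCompact (f ≫ g)] [QuasiSeparated (f ≫ g)],
      IsLocallyConstructible (locus P f g)) :
    IsLocallyConstructible (locus P.diagonal f g) := by
  have : LocallyOfFinitePresentation f := locallyOfFinitePresentation_of_comp f g
  have : QuasiCompact f := .of_comp f g
  have : QuasiSeparated f := .of_comp f g
  rw [locus_diagonal]
  have h1 : pullback.diagonal f ≫ pullback.fst f f ≫ f ≫ g = f ≫ g := by simp
  have : LocallyOfFinitePresentation (pullback.diagonal f ≫ pullback.fst f f ≫ f ≫ g) := by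
    rw [h1]; infer_instance
  have : QuasiCompact (pullback.diagonal f ≫ pullback.fst f f ≫ f ≫ g) := by
    rw [h1]; infer_instance
  have : QuasiSeparated (pullback.diagonal f ≫ pullback.fst f f ≫ f ≫ g) := by
    rw [h1]; infer_instance
  exact H _ _

theorem isLocallyConstructible_locus_universallyInjective :
    IsLocallyConstructible (locus @UniversallyInjective f g) := by
  rw [universallyInjective_eq_diagonal]
  exact isLocallyConstructible_locus_diagonal f g @Surjective
    (fun f g _ _ _ _ _ _ ↦ isLocallyConstructible_locus_surjective f g)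

end FP

end Groth.Agent.Ega43.LocusElem
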