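import Groth.Agent.Ega43.LocusAff
import Groth.Agent.Ega43.LocusElem
import Mathlib.RingTheory.Unramified.Locus
import Mathlib.RingTheory.Kaehler.TensorProduct
import Mathlib.RingTheory.LocalRing.Module
import Mathlib.AlgebraicGeometry.Morphisms.FormallyUnramified

/-!
# The formally unramified locus and the monomorphism locus are constructible
-/

set_option autoImplicit false
universe u
open CategoryTheory AlgebraicGeometry CategoryTheory.Limits Topology TensorProduct

namespace Groth.Agent.Ega43.LocusUnram

open Groth.Agent.Ega43.Locus Groth.Agent.Ega43.LocusAff Groth.Agent.Ega43.LocusRed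
  Groth.Agent.Ega43.LocusElem

/-- The support of the base change of a finite module. -/
theorem support_baseChange {C C' M : Type*} [CommRing C] [CommRing C'] [Algebra C C']
    [AddCommGroup M] [Module C M] [Module.Finite C M] :
    Module.support C' (C' ⊗[C] M) =
      PrimeSpectrum.comap (algebraMap C C') ⁻¹' Module.support C M := by
  ext q'
  let q := PrimeSpectrum.comap (algebraMap C C') q'
  rw [Set.mem_preimage, Module.mem_support_iff_nontrivial_residueField_tensorProduct,
    Module.mem_support_iff_nontrivial_residueField_tensorProduct]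
  let φ : q.asIdeal.ResidueField →+* q'.asIdeal.ResidueField :=
    Ideal.ResidueField.map q.asIdeal q'.asIdeal (algebraMap C C') rfl
  algebraize [φ]
  have : IsScalarTower C q.asIdeal.ResidueField q'.asIdeal.ResidueField := by
    refine .of_algebraMap_eq fun x ↦ ?_
    have h1 : φ (algebraMap C q.asIdeal.ResidueField x) =
      algebraMap C' q'.asIdeal.ResidueField (algebraMap C C' x) :=
      Ideal.ResidueField.map_algebraMap q.asIdeal q'.asIdeal (algebraMap C C') rfl x
    rw [RingHom.algebraMap_toAlgebra, h1, ← IsScalarTower.algebraMap_apply]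
  let e1 : q'.asIdeal.ResidueField ⊗[C'] (C' ⊗[C] M) ≃ₗ[C'] q'.asIdeal.ResidueField ⊗[C] M :=
    (AlgebraTensorModule.cancelBaseChange C C' C' q'.asIdeal.ResidueField M)
  let e2 : q'.asIdeal.ResidueField ⊗[q.asIdeal.ResidueField] (q.asIdeal.ResidueField ⊗[C] M)
      ≃ₗ[q.asIdeal.ResidueField] q'.asIdeal.ResidueField ⊗[C] M :=
    AlgebraTensorModule.cancelBaseChange C _ _ q'.asIdeal.ResidueField M
  rw [e1.nontrivial_congr, ← e2.nontrivial_congr]
  exact Module.FaithfullyFlat.nontrivial_tensorProduct_iff_right ..

/-- The unramified locus is compatible with base change. -/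
theorem unramifiedLocus_baseChange (D D' C C' : Type u) [CommRing D] [CommRing D'] [CommRing C]
    [CommRing C'] [Algebra D D'] [Algebra D C] [Algebra D C'] [Algebra D' C'] [Algebra C C']
    [IsScalarTower D D' C'] [IsScalarTower D C C'] [Algebra.IsPushout D D' C C']
    [Algebra.FiniteType D C] :
    Algebra.unramifiedLocus D' C' =
      PrimeSpectrum.comap (algebraMap C C') ⁻¹' Algebra.unramifiedLocus D C := by
  rw [Algebra.unramifiedLocus_eq_compl_support, Algebra.unramifiedLocus_eq_compl_support,
    Set.preimage_compl, ← support_baseChange,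
    (KaehlerDifferential.tensorKaehlerEquiv D D' C C').support_eq]

theorem fpqcInv_formallyUnramified : FpqcInv @FormallyUnramified.{u} :=
  FpqcInv.of_descendsAlong @FormallyUnramified

section

variable {X Y S K : Scheme.{u}}

/-- The image of the fibre. -/
theorem range_qX_of_field {X' Y' : Scheme.{u}} {K : Type u} [Field K]
    {f : X ⟶ Y} {g : Y ⟶ S} {f' : X' ⟶ Y'}
    {a' : Y' ⟶ Spec (.of K)} {qX : X' ⟶ X} {qY : Y' ⟶ Y} {k : Spec (.of K) ⟶ S}
    (hY : IsPullback qY a' g k) (hX : IsPullback qX f' f qY) :
    Set.range qX = (f ≫ g) ⁻¹' {k (IsLocalRing.closedPoint K)} := by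
  have h := (hX.paste_vert hY).flip
  have h1 := Scheme.image_preimage_eq_of_isPullback h Set.univ
  rw [Set.preimage_univ, Set.image_univ, Set.image_univ] at h1
  have h2 : Set.range k = {k (IsLocalRing.closedPoint K)} := by
    ext x
    constructor
    · rintro ⟨y, rfl⟩
      rw [Set.mem_singleton_iff]
      congr 1
      exact Subsingleton.elim _ _
    · rintro rfl
      exact ⟨_, rfl⟩
  rw [← h2]
  exact h1

/-- If the property is pointwise on the source then the locus is the complement of an image. -/
theorem locus_eq_compl_image {P : MorphismProperty Scheme.{u}} (f : X ⟶ Y) (g : Y ⟶ S)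
    (U : Set X) (H : ∀ s, s ∈ locus P f g ↔ (f ≫ g) ⁻¹' {s} ⊆ U) :
    locus P f g = ((f ≫ g) '' Uᶜ)ᶜ := by
  ext s
  rw [H]
  constructor
  · rintro h ⟨x, hx, rfl⟩
    exact hx (h rfl)
  · rintro h x rfl
    by_contra hx
    exact h ⟨x, hx, rfl⟩

end


/-- Description of the unramified locus in the affine case. -/
theorem mem_locus_formallyUnramified_Spec_iff {A D C : CommRingCat.{u}} (φ : A ⟶ D) (ψ : D ⟶ C)
    (hψ : ψ.hom.FiniteType) (p : Spec A) :
    letI := ψ.hom.toAlgebra
    p ∈ locus @FormallyUnramified (Spec.map ψ) (Spec.map φ) ↔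
      (Spec.map ψ ≫ Spec.map φ) ⁻¹' {p} ⊆ Algebra.unramifiedLocus D C := by
  algebraize [ψ.hom]
  have hprime : p.asIdeal.IsPrime := PrimeSpectrum.isPrime p
  let κ : A ⟶ .of p.asIdeal.ResidueField := CommRingCat.ofHom (algebraMap A p.asIdeal.ResidueField)
  have hp : Spec.map κ (IsLocalRing.closedPoint p.asIdeal.ResidueField) = p := by
    refine PrimeSpectrum.ext ?_
    change (IsLocalRing.maximalIdeal p.asIdeal.ResidueField).comap
      (algebraMap A p.asIdeal.ResidueField) = p.asIdeal
    rw [IsLocalRing.maximalIdeal_eq_bot]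
    exact Ideal.ker_algebraMap_residueField _
  have h1 : IsPushout φ κ (pushout.inl φ κ) (pushout.inr φ κ) := IsPushout.of_hasPushout φ κ
  let D' := pushout φ κ
  let d : D ⟶ D' := pushout.inl φ κ
  have h2 : IsPushout ψ d (pushout.inl ψ d) (pushout.inr ψ d) := IsPushout.of_hasPushout _ _
  let C' := pushout ψ d
  let c : C ⟶ C' := pushout.inl ψ d
  let ψ' : D' ⟶ C' := pushout.inr ψ d
  have h3 := isPullback_SpecMap_of_isPushout _ _ _ _ h1
  have h4 := isPullback_SpecMap_of_isPushout _ _ _ _ h2
  have h5 := mem_locus_iff_of_field fpqcInv_formallyUnramified h3 h4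
  rw [hp] at h5
  rw [h5]
  algebraize [ψ'.hom, c.hom, d.hom, ψ'.hom.comp d.hom]
  have htow : IsScalarTower D C C' := .of_algebraMap_eq' (congr_arg CommRingCat.Hom.hom h2.w.symm)
  have h6 : Algebra.IsPushout D D' C C' :=
    (CommRingCat.isPushout_iff_isPushout.mp h2).symm
  have h7 := unramifiedLocus_baseChange D D' C C'
  have h8 := range_qX_of_field h3 h4
  rw [hp] at h8
  rw [← h8]
  rw [HasRingHomProperty.Spec_iff (P := @FormallyUnramified)]
  change Algebra.FormallyUnramified D' C' ↔ _
  rw [← Algebra.unramifiedLocus_eq_univ_iff, h7, Set.preimage_eq_univ_iff]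
  rfl

theorem isConstructible_locus_formallyUnramified_Spec {A D C : CommRingCat.{u}} (φ : A ⟶ D)
    (ψ : D ⟶ C) (hφ : φ.hom.FinitePresentation) (hψ : ψ.hom.FinitePresentation) :
    IsConstructible (locus @FormallyUnramified (Spec.map ψ) (Spec.map φ)) := by
  refine isConstructible_locus_Spec fpqcInv_formallyUnramified ?_ φ ψ hφ hψ
  intro A D C φ ψ _ _ hφ hψ
  refine ⟨1, one_ne_zero, ?_⟩
  rw [PrimeSpectrum.basicOpen_one]
  change IsConstructible (Set.univ ∩ locus @FormallyUnramified (Spec.map ψ) (Spec.map φ))
  rw [Set.univ_inter]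
  algebraize [φ.hom, ψ.hom]
  have : Algebra.FiniteType A D := inferInstance
  have : IsNoetherianRing D := Algebra.FiniteType.isNoetherianRing A D
  have : Algebra.FiniteType D C := inferInstance
  have : IsNoetherianRing C := Algebra.FiniteType.isNoetherianRing D C
  rw [locus_eq_compl_image (Spec.map ψ) (Spec.map φ) (Algebra.unramifiedLocus D C)
    (mem_locus_formallyUnramified_Spec_iff φ ψ (RingHom.FiniteType.of_finitePresentation hψ))]
  have : LocallyOfFinitePresentation (Spec.map φ) := (fp_SpecMap_iff _).mpr hφ |>.lfp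
  have : LocallyOfFinitePresentation (Spec.map ψ) := (fp_SpecMap_iff _).mpr hψ |>.lfp
  refine IsConstructible.compl (Scheme.Hom.isConstructible_image _ (IsConstructible.compl ?_))
  have hns : TopologicalSpace.NoetherianSpace (PrimeSpectrum C) := inferInstance
  exact (hns.isCompact _).isConstructible Algebra.isOpen_unramifiedLocus

variable {X Y S : Scheme.{u}}

set_option backward.isDefEq.respectTransparency.types false in
theorem isLocallyConstructible_locus_formallyUnramified (f : X ⟶ Y) (g : Y ⟶ S) (hg : FP g)
    (hfg : FP (f ≫ g)) : IsLocallyConstructible (locus @FormallyUnramified f g) :=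
  isLocallyConstructible_of_Spec_base fpqcInv_formallyUnramified
    (fun f g hg hfg ↦ isConstructible_of_Spec_source
      (fun φ ψ hφ hψ ↦ isConstructible_locus_formallyUnramified_Spec φ ψ hφ hψ) f g hg hfg) f g hg hfg

/-- Monomorphisms locally of finite type. -/
theorem mono_iff (f : X ⟶ Y) [LocallyOfFiniteType f] :
    Mono f ↔ UniversallyInjective f ∧ FormallyUnramified f := by
  constructor
  · intro h
    exact ⟨inferInstance, inferInstance⟩
  · rintro ⟨h1, h2⟩
    have h3 : Surjective (pullback.diagonal f) := (UniversallyInjective.iff_diagonal f).mp h1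
    have h4 : IsOpenImmersion (pullback.diagonal f) := inferInstance
    have h5 : IsIso (pullback.diagonal f) := (isIso_iff_isOpenImmersion_and_surjective _).mpr ⟨h4, h3⟩
    exact (pullback.isIso_diagonal_iff f).mp h5

theorem isLocallyConstructible_locus_mono (f : X ⟶ Y) (g : Y ⟶ S) (hg : FP g)
    (hfg : FP (f ≫ g)) :
    IsLocallyConstructible (locus (MorphismProperty.monomorphisms Scheme.{u}) f g) := by
  have := hg.lfp; have := hg.qc; have := hg.qs
  have := hfg.lfp; have := hfg.qc; have := hfg.qs
  convert (isLocallyConstructible_locus_universallyInjective f g).inter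
    (isLocallyConstructible_locus_formallyUnramified f g hg hfg) using 1
  ext s
  have h1 : FP (bcMap f g (S.fromSpecResidueField s)) :=
    (hfg.of_comp hg).of_isPullback (isPullback_bcMap f g _)
  have := h1.lfp
  exact mono_iff (bcMap f g (S.fromSpecResidueField s))

end Groth.Agent.Ega43.LocusUnram
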