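import Groth.Agent.Ega43.LocusProper
import Groth.Agent.Ega43.LocusUnram

/-!
# EGA IV 9.6.1 (ix): the locus of fibre maps which are closed immersions
-/

set_option autoImplicit false
universe u
open CategoryTheory AlgebraicGeometry CategoryTheory.Limits Topology

namespace Groth.Agent.Ega43.LocusClosedImm

open Groth.Agent.Ega43.Locus Groth.Agent.Ega43.LocusAff Groth.Agent.Ega43.LocusProper

/-- The locus of fibre maps which are closed immersions is locally constructible. -/
theorem isLocallyConstructible_locus_isClosedImmersion {X Y S : Scheme.{u}} (f : X ⟶ Y)
    (g : Y ⟶ S) (hg : FP g) (hfg : FP (f ≫ g)) :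
    IsLocallyConstructible (locus @IsClosedImmersion f g) := by
  have h1 : locus @IsClosedImmersion f g =
      locus @IsProper f g ∩ locus (MorphismProperty.monomorphisms Scheme.{u}) f g := by
    ext s
    exact IsClosedImmersion.iff_isProper_and_mono (bcMap f g (S.fromSpecResidueField s))
  rw [h1]
  exact (isLocallyConstructible_locus_isProper f g hg hfg).inter
    (LocusUnram.isLocallyConstructible_locus_mono f g hg hfg)

end Groth.Agent.Ega43.LocusClosedImm
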