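import Groth.Agent.Ega43.LocusAff
import Groth.Agent.Ega43.ResSysSch

/-!
# Constructibility of loci via stages of the residue field system
-/

set_option autoImplicit false
universe u
open CategoryTheory AlgebraicGeometry CategoryTheory.Limits Topology TensorProduct Opposite

namespace Groth.Agent.Ega43.LocusStage

open Groth.Agent.Ega43.Locus Groth.Agent.Ega43.LocusAff Groth.Agent.Ega43.ResSys
  Groth.Agent.Ega43.ResSysSch Groth.Agent.Ega43.ConsCrit

section

variable {R : Type u} [CommRing R] {X Y : Scheme.{u}} (f : X ⟶ Y) (g : Y ⟶ Spec (.of R))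

/-- If the fibre at `p` has `P` then the base change to some stage has `P`. -/
theorem exists_stage {P : MorphismProperty Scheme.{u}} [P.RespectsIso]
    (hP : DescRow P) (hg : FP g) (hfg : FP (f ≫ g))
    (p : PrimeSpectrum R) (hp : p ∈ locus P f g) :
    ∃ (j : Idx p.asIdeal),
      P (bcMap f g (toBase p.asIdeal (op j))) := by
  have := hg.lfp; have := hg.qc; have := hg.qs
  have := hfg.lfp; have := hfg.qc; have := hfg.qs
  let K := p.asIdeal.ResidueField
  let i₀ := idx₀ p.asIdeal
  let b := toBase p.asIdeal i₀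
  let g₀ : Y ⟶ (ResSysSch.diag p.asIdeal).obj i₀ := g ≫ inv b
  let k := Spec.map (CommRingCat.ofHom (algebraMap R K))
  have hfg : f ≫ g₀ = (f ≫ g) ≫ inv b := by simp [g₀]
  have : LocallyOfFinitePresentation g₀ := by dsimp only [g₀]; infer_instance
  have : QuasiCompact g₀ := by dsimp only [g₀]; infer_instance
  have : QuasiSeparated g₀ := by dsimp only [g₀]; infer_instance
  have : LocallyOfFinitePresentation (f ≫ g₀) := by rw [hfg]; infer_instance
  have : QuasiCompact (f ≫ g₀) := by rw [hfg]; infer_instance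
  have : QuasiSeparated (f ≫ g₀) := by rw [hfg]; infer_instance
  have h1 : IsPullback (pullback.fst g k) (pullback.snd g k) g₀ ((cone p.asIdeal K).π.app i₀) := by
    refine IsPullback.of_iso (IsPullback.of_hasPullback g k) (Iso.refl _) (Iso.refl _) (Iso.refl _)
      (asIso b).symm ?_ ?_ ?_ ?_
    · simp
    · simp
    · simp [g₀]
    · rw [Iso.symm_hom, asIso_inv, IsIso.comp_inv_eq]
      exact (cone_toBase p.asIdeal K i₀).symm
  have hp' : P (bcMap f g k) := (mem_locus_iff_residueField f g p).mp hp
  obtain ⟨i, φ, Xi, Yi, fi, gi, pY, pX, hY, hX, hPi⟩ :=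
    hP (ResSysSch.diag p.asIdeal) (cone p.asIdeal K) (isLimit p.asIdeal K) i₀ f g₀ (bcMap f g k)
      (pullback.snd g k) (pullback.fst g k) (pullback.fst (f ≫ g) k) h1 (isPullback_bcMap f g k) hp'
  refine ⟨i.unop, ?_⟩
  refine (iff_bcMap_of_isPullback (f := f) (g := g) (f' := fi) (a' := gi) (qX := pX) (qY := pY)
    (k := toBase p.asIdeal i) ?_ hX).mp hPi
  refine IsPullback.of_iso hY (Iso.refl _) (Iso.refl _) (Iso.refl _) (asIso b) ?_ ?_ ?_ ?_
  · simp
  · simp
  · simp [g₀]
  · simp [b]

/-- The image of a stage in the spectrum. -/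
theorem range_toBase (p : Ideal R) [p.IsPrime] (j : Idx p) :
    Set.range (toBase p (op j)) = loc j := by
  apply Set.Subset.antisymm
  · rintro _ ⟨y, rfl⟩
    change PrimeSpectrum.comap (algebraMap R (Stage j)) y ∈ loc j
    refine ⟨fun a ha ↦ ?_, ?_⟩
    · change algebraMap R (Stage j) a ∈ y.asIdeal
      rw [algebraMap_num j a ha]
      exact y.asIdeal.zero_mem
    · intro h
      have h' : algebraMap R (Stage j) (den j) ∈ y.asIdeal := h
      exact y.2.ne_top (Ideal.eq_top_of_isUnit_mem _ h' (isUnit_algebraMap_den j))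
  · intro (t : PrimeSpectrum R) ht
    obtain ⟨a, ha⟩ := exists_factor_residueField (⟨p, inferInstance⟩ : PrimeSpectrum R) j t ht
    have h1 : Spec.map (CommRingCat.ofHom (algebraMap R t.asIdeal.ResidueField))
        (⊥ : PrimeSpectrum t.asIdeal.ResidueField) = t := by
      change PrimeSpectrum.comap (algebraMap R t.asIdeal.ResidueField) ⊥ = t
      ext1
      exact t.asIdeal.ker_algebraMap_residueField
    refine ⟨a (⊥ : PrimeSpectrum t.asIdeal.ResidueField), Eq.trans ?_ h1⟩
    rw [← ha]
    rfl

theorem finitePresentation_stage (p : Ideal R) [p.IsPrime] (j : Idx p) :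
    (algebraMap R (Stage j)).FinitePresentation := by
  have h1 : (algebraMap R (R ⧸ num j)).FinitePresentation :=
    RingHom.FinitePresentation.of_surjective _ Ideal.Quotient.mk_surjective (by
      rw [Ideal.Quotient.algebraMap_eq, Ideal.mk_ker]; exact num_fg j)
  have h2 : (algebraMap (R ⧸ num j) (Stage j)).FinitePresentation := by
    have : Algebra.FinitePresentation (R ⧸ num j) (Stage j) :=
      IsLocalization.Away.finitePresentation (Ideal.Quotient.mk (num j) (den j))
    exact (RingHom.finitePresentation_algebraMap).mpr this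
  rw [IsScalarTower.algebraMap_eq R (R ⧸ num j) (Stage j)]
  exact h2.comp h1

/-- If the locus over a stage is constructible then the locus is constructible near `p`. -/
theorem exists_of_stage {P : MorphismProperty Scheme.{u}} (hP : FpqcInv P)
    (p : PrimeSpectrum R) (j : Idx p.asIdeal)
    (h : IsConstructible (locus P (bcMap f g (toBase p.asIdeal (op j)))
      (pullback.snd g (toBase p.asIdeal (op j))))) :
    ∃ V : Set (PrimeSpectrum R), IsConstructible V ∧ p ∈ V ∧ IsConstructible (V ∩ locus P f g) := by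
  refine ⟨loc j, isConstructible_loc j, mem_loc _ j, ?_⟩
  rw [locus_bcMap hP] at h
  have h1 := PrimeSpectrum.isConstructible_comap_image (finitePresentation_stage p.asIdeal j) h
  convert h1 using 1
  rw [← range_toBase]
  ext x
  constructor
  · rintro ⟨⟨y, rfl⟩, hx⟩
    exact ⟨y, hx, rfl⟩
  · rintro ⟨y, hy, rfl⟩
    exact ⟨⟨y, rfl⟩, hy⟩

end

section

variable {X Y : Scheme.{u}}

theorem fp_bcMap_snd {S T : Scheme.{u}} (f : X ⟶ Y) (g : Y ⟶ S) (hfg : FP (f ≫ g)) (k : T ⟶ S) :
    FP (bcMap f g k ≫ pullback.snd g k) := by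
  rw [pullback.lift_snd]
  exact hfg.snd _

/-- Dévissage: to prove constructibility of the `P`-locus one may assume that the morphism has a property `Q`
weaker than `P`, if `Q` descends along limits and the `Q`-locus is constructible. -/
theorem isConstructible_of_stage {P Q W : MorphismProperty Scheme.{u}} (hP : FpqcInv P)
    [Q.RespectsIso] (hQ : DescRow Q) (hPQ : P ≤ Q) [W.IsStableUnderBaseChange]
    (hlQ : ∀ {X Y : Scheme.{u}} {A : CommRingCat.{u}} (f : X ⟶ Y) (g : Y ⟶ Spec A),
      FP g → FP (f ≫ g) → W f → IsConstructible (locus Q f g))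
    (H : ∀ {X Y : Scheme.{u}} {A : CommRingCat.{u}} (f : X ⟶ Y) (g : Y ⟶ Spec A),
      FP g → FP (f ≫ g) → W f → Q f → IsConstructible (locus P f g))
    {A : CommRingCat.{u}} (f : X ⟶ Y) (g : Y ⟶ Spec A) (hg : FP g) (hfg : FP (f ≫ g)) (hW : W f) :
    IsConstructible (locus P f g) := by
  refine isConstructible_of_forall_exists (X := PrimeSpectrum A) (locus P f g) fun p ↦ ?_
  by_cases hp : p ∈ locus Q f g
  · obtain ⟨j, hj⟩ := exists_stage (R := A) f g hQ hg hfg p hp
    refine exists_of_stage (R := A) f g hP p j ?_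
    exact H (A := .of (Stage j)) _ _ (hg.snd _) (fp_bcMap_snd f g hfg _)
      (MorphismProperty.of_isPullback (isPullback_bcMap f g _) hW) hj
  · refine ⟨(locus Q f g)ᶜ, (hlQ f g hg hfg hW).compl, hp, ?_⟩
    have : (locus Q f g)ᶜ ∩ locus P f g = ∅ := by
      ext x
      simp only [Set.mem_inter_iff, Set.mem_compl_iff, Set.mem_empty_iff_false, iff_false, not_and]
      intro h1 h2
      exact h1 (hPQ _ h2)
    exact Eq.subst (motive := fun s : Set (PrimeSpectrum A) ↦ IsConstructible s) this.symm .empty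

/-- Reduction to affine `Y`, keeping a property `W`. -/
theorem isConstructible_of_Spec_target' {P W : MorphismProperty Scheme.{u}}
    [IsZariskiLocalAtTarget P] [W.IsStableUnderBaseChange] {A : CommRingCat.{u}}
    (H : ∀ {X : Scheme.{u}} {D : CommRingCat.{u}} (f : X ⟶ Spec D) (g : Spec D ⟶ Spec A),
      FP g → FP (f ≫ g) → W f → IsConstructible (locus P f g))
    (f : X ⟶ Y) (g : Y ⟶ Spec A) (hg : FP g) (hfg : FP (f ≫ g)) (hW : W f) :
    IsConstructible (locus P f g) := by
  have := hg.qc
  have : CompactSpace Y := QuasiCompact.compactSpace_of_compactSpace g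
  let 𝒰 := Y.affineCover.finiteSubcover
  have h1 : locus P f g = ⋂ i, locus P (pullback.snd f (𝒰.f i)) (𝒰.f i ≫ g) := by
    ext s
    rw [Set.mem_iInter]
    exact mem_locus_iff_openCover_target f g 𝒰 s
  rw [h1]
  refine IsConstructible.iInter fun i ↦ ?_
  have h2 : FP (𝒰.f i ≫ g) := FP.of_isOpenImmersion_of_isAffine _ _ hg
  exact H _ _ h2 (((hfg.of_comp hg).snd (𝒰.f i)).comp h2)
    (MorphismProperty.pullback_snd _ _ hW)

end

end Groth.Agent.Ega43.LocusStage
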