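import Groth.Agent.Ega43.LocusSep
import Groth.Agent.Ega43.LocusStage
import Groth.Agent.Ega43.LimitDescendClosed
import Groth.Agent.S2583
import Groth.Agent.S0385

/-!
# The finite locus is locally constructible (EGA IV 9.6.1 (vi))
-/

set_option autoImplicit false
universe u
open CategoryTheory hiding IsDiscrete
open AlgebraicGeometry CategoryTheory.Limits Topology TensorProduct

namespace Groth.Agent.Ega43.LocusFinite

open Groth.Agent.Ega43.Locus Groth.Agent.Ega43.LocusAff Groth.Agent.Ega43.LocusSep
  Groth.Agent.Ega43.LocusStage Groth.Agent.Ega43.ClosedRange Groth.Agent.Ega43.ResSysSch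
  Groth.Agent.Ega43.LimUnivInj

/-- A finite algebra is a quotient of a finite and finitely presented algebra. -/
theorem exists_finite_finitePresentation_surjective (D B : Type u) [CommRing D] [CommRing B]
    [Algebra D B] [Module.Finite D B] :
    ∃ (E : Type u) (_ : CommRing E) (_ : Algebra D E) (π : E →ₐ[D] B),
      Module.Finite D E ∧ Algebra.FinitePresentation D E ∧ Function.Surjective π := by
  obtain ⟨n, f, hf⟩ := Algebra.FiniteType.iff_quotient_mvPolynomial''.mp
    (inferInstance : Algebra.FiniteType D B)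
  have hint : Algebra.IsIntegral D B := inferInstance
  choose P hPm hP using fun i : Fin n ↦ hint.isIntegral (f (MvPolynomial.X i))
  let r : Fin n → MvPolynomial (Fin n) D := fun i ↦ Polynomial.aeval (MvPolynomial.X i) (P i)
  let I : Ideal (MvPolynomial (Fin n) D) := Ideal.span (Set.range r)
  have hI : I.FG := Submodule.fg_span (Set.finite_range r)
  have hfI : ∀ a : MvPolynomial (Fin n) D, a ∈ I → f a = 0 := by
    intro a ha
    have h1 : I ≤ RingHom.ker f := by
      refine Ideal.span_le.mpr ?_
      rintro _ ⟨i, rfl⟩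
      change f (Polynomial.aeval (MvPolynomial.X i) (P i)) = 0
      rw [← Polynomial.aeval_algHom_apply]
      exact hP i
    exact h1 ha
  have hfp : Algebra.FinitePresentation D (MvPolynomial (Fin n) D ⧸ I) :=
    Algebra.FinitePresentation.quotient hI
  have hadj : Algebra.adjoin D (Set.range fun i : Fin n ↦
      (Ideal.Quotient.mkₐ D I (MvPolynomial.X i))) = ⊤ := by
    have h1 : (Set.range fun i : Fin n ↦ (Ideal.Quotient.mkₐ D I (MvPolynomial.X i))) =
        Ideal.Quotient.mkₐ D I '' (Set.range (MvPolynomial.X : Fin n → MvPolynomial (Fin n) D)) := by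
      rw [← Set.range_comp]; rfl
    rw [h1, ← AlgHom.map_adjoin, MvPolynomial.adjoin_range_X, Algebra.map_top,
      AlgHom.range_eq_top]
    exact Ideal.Quotient.mkₐ_surjective D I
  have hint' : Algebra.IsIntegral D (MvPolynomial (Fin n) D ⧸ I) := by
    have h1 : Algebra.IsIntegral D (Algebra.adjoin D (Set.range fun i : Fin n ↦
      (Ideal.Quotient.mkₐ D I (MvPolynomial.X i)))) := by
      refine Algebra.IsIntegral.adjoin ?_
      rintro _ ⟨i, rfl⟩
      refine ⟨P i, hPm i, ?_⟩
      have : Polynomial.aeval (Ideal.Quotient.mkₐ D I (MvPolynomial.X i)) (P i) = 0 := by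
        rw [Polynomial.aeval_algHom_apply]
        exact Ideal.Quotient.eq_zero_iff_mem.mpr (Ideal.subset_span ⟨i, rfl⟩)
      exact this
    rw [hadj] at h1
    exact Algebra.IsIntegral.of_surjective
      (Subalgebra.topEquiv (R := D) (A := MvPolynomial (Fin n) D ⧸ I)).toAlgHom
      Subalgebra.topEquiv.surjective
  have : Module.Finite D (MvPolynomial (Fin n) D ⧸ I) := Algebra.IsIntegral.finite
  refine ⟨MvPolynomial (Fin n) D ⧸ I, inferInstance, inferInstance, Ideal.Quotient.liftₐ I f hfI,
    inferInstance, hfp, ?_⟩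
  intro b
  obtain ⟨a, rfl⟩ := hf b
  exact ⟨Ideal.Quotient.mk I a, rfl⟩

/-- A finite morphism to an affine scheme embeds in a finite morphism of finite presentation. -/
theorem exists_closedImmersion {T : Scheme.{u}} {D : CommRingCat.{u}} (π : T ⟶ Spec D) [IsFinite π] :
    ∃ (T' : Scheme.{u}) (i : T ⟶ T') (ρ : T' ⟶ Spec D), IsClosedImmersion i ∧ IsFinite ρ ∧ FP ρ ∧
      i ≫ ρ = π := by
  have : IsAffine T := isAffine_of_isAffineHom π
  obtain ⟨φ, hφ⟩ := Spec.map_surjective (T.isoSpec.inv ≫ π)
  have h1 : IsFinite (Spec.map φ) := by rw [hφ]; infer_instance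
  have h2 : φ.hom.Finite := (IsFinite.SpecMap_iff φ).mp h1
  algebraize [φ.hom]
  obtain ⟨E, _, _, p, hE, hE', hp⟩ := exists_finite_finitePresentation_surjective D Γ(T, ⊤)
  have h3 : IsClosedImmersion (Spec.map (CommRingCat.ofHom p.toRingHom)) :=
    IsClosedImmersion.spec_of_surjective _ hp
  refine ⟨Spec (.of E), T.isoSpec.hom ≫ Spec.map (CommRingCat.ofHom p.toRingHom),
    Spec.map (CommRingCat.ofHom (algebraMap D E)), inferInstance, ?_, ?_, ?_⟩
  · rw [IsFinite.SpecMap_iff]
    exact RingHom.finite_algebraMap.mpr hE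
  · rw [fp_SpecMap_iff]
    exact RingHom.finitePresentation_algebraMap.mpr hE'
  · rw [Category.assoc, ← Spec.map_comp]
    have : CommRingCat.ofHom (algebraMap D E) ≫ CommRingCat.ofHom p.toRingHom = φ := by
      ext x
      exact p.commutes x
    rw [this, hφ]
    simp

/-- The key case. -/
theorem isConstructible_locus_of_factor {X T' : Scheme.{u}} {D A : CommRingCat.{u}}
    (j : X ⟶ T') (ρ : T' ⟶ Spec D) (g : Spec D ⟶ Spec A) [IsImmersion j] [QuasiCompact j]
    [IsFinite ρ] (hρ : FP ρ) (hg : FP g) (hfg : FP (j ≫ ρ ≫ g)) :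
    IsConstructible (locus @IsFinite (j ≫ ρ) g) := by
  have hiso : MorphismProperty.RespectsIso (C := Scheme.{u}) @IsFinite :=
    MorphismProperty.IsStableUnderBaseChange.respectsIso
  have key : locus @IsFinite (j ≫ ρ) g = locus closedRange j (ρ ≫ g) := by
    ext s
    let k := (Spec A).fromSpecResidueField s
    have h1 := isPullback_bcMap j (ρ ≫ g) k
    have h2 := isPullback_bcMap ρ g k
    have h3 : s ∈ locus @IsFinite (j ≫ ρ) g ↔ IsFinite (bcMap j (ρ ≫ g) k ≫ bcMap ρ g k) :=
      mem_locus_iff_of_isPullback (P := @IsFinite) (IsPullback.of_hasPullback g k) (h1.paste_vert h2)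
    have i1 : IsFinite (bcMap ρ g k) := MorphismProperty.of_isPullback h2 inferInstance
    have i2 : IsImmersion (bcMap j (ρ ≫ g) k) := MorphismProperty.of_isPullback h1 inferInstance
    rw [h3]
    change _ ↔ closedRange (bcMap j (ρ ≫ g) k)
    constructor
    · intro h
      have h4 : IsFinite (bcMap j (ρ ≫ g) k) := IsFinite.of_comp _ (bcMap ρ g k)
      exact (bcMap j (ρ ≫ g) k).isClosedMap.isClosed_range
    · intro h
      have h4 : IsClosedImmersion (bcMap j (ρ ≫ g) k) := .of_isPreimmersion _ h
      infer_instance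
  rw [key]
  have hj : FP j := hfg.of_comp (hρ.comp hg)
  have := hj.lfp
  have := (hρ.comp hg).lfp
  have := (hρ.comp hg).qc
  exact (isLocallyConstructible_locus_closedRange j (ρ ≫ g)).isConstructible

theorem isConstructible_locus_of_isSeparated {X : Scheme.{u}} {D A : CommRingCat.{u}}
    (f : X ⟶ Spec D) (g : Spec D ⟶ Spec A) (hg : FP g) (hfg : FP (f ≫ g))
    (hW : (@LocallyQuasiFinite ⊓ @IsSeparated : MorphismProperty Scheme.{u}) f) :
    IsConstructible (locus @IsFinite f g) := by
  obtain ⟨hf1, hf2⟩ := hW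
  have hf := hfg.of_comp hg
  have := hf.lfp; have := hf.qc
  obtain ⟨T, j, π, hj, hj', hπ, rfl⟩ := Groth.Agent.S0385.result f
  obtain ⟨T', i, ρ, hi, hρ, hρ', rfl⟩ := exists_closedImmersion π
  rw [← Category.assoc] at hfg ⊢
  have : IsImmersion (j ≫ i) := inferInstance
  exact isConstructible_locus_of_factor (j ≫ i) ρ g hρ' hg (by simpa using hfg)

set_option backward.isDefEq.respectTransparency.types false in
theorem descRow_isSeparated : DescRow @IsSeparated.{u} := by
  have hiso : MorphismProperty.RespectsIso (C := Scheme.{u}) @IsClosedImmersion :=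
    MorphismProperty.IsStableUnderBaseChange.respectsIso
  have h1 : DescRow (MorphismProperty.diagonal @IsClosedImmersion.{u}) :=
    Descends.descRow (Descends.diagonal LimitDescendClosed.descends_isClosedImmersion)
  rwa [← IsSeparated.isSeparated_eq_diagonal_isClosedImmersion] at h1

theorem descRow_locallyQuasiFinite : DescRow @LocallyQuasiFinite.{u} := by
  intro I _ _ D c hc _ i₀ _ _ _ _ f₀ g₀ _ _ _ _ _ _ _ _ f g qY qX hY hX hf
  exact Groth.Agent.S2583.result D c hc i₀ f₀ g₀ f g qY qX hY hX

variable {X Y S : Scheme.{u}}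

set_option backward.isDefEq.respectTransparency.types false in
instance : IsZariskiLocalAtTarget @IsFinite.{u} := inferInstance

theorem stable_qfs : MorphismProperty.IsStableUnderBaseChange (C := Scheme.{u})
    (@LocallyQuasiFinite ⊓ @IsSeparated) where
  of_isPullback h := fun ⟨h1, h2⟩ ↦
    ⟨MorphismProperty.of_isPullback h h1, MorphismProperty.of_isPullback h h2⟩

/-- The finite locus. -/
theorem isLocallyConstructible_locus_isFinite (f : X ⟶ Y) (g : Y ⟶ S) (hg : FP g)
    (hfg : FP (f ≫ g)) : IsLocallyConstructible (locus @IsFinite f g) := by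
  refine isLocallyConstructible_of_Spec_base fpqcInv_isFinite ?_ f g hg hfg
  intro X Y A f g hg hfg
  have h1 : MorphismProperty.RespectsIso (C := Scheme.{u}) @LocallyQuasiFinite :=
    MorphismProperty.IsStableUnderBaseChange.respectsIso
  have h2 : MorphismProperty.RespectsIso (C := Scheme.{u}) @IsSeparated :=
    MorphismProperty.IsStableUnderBaseChange.respectsIso
  refine isConstructible_of_stage (Q := @LocallyQuasiFinite) (W := ⊤) fpqcInv_isFinite
    descRow_locallyQuasiFinite (fun _ _ _ h ↦ have : IsFinite _ := h; inferInstance)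
    (fun f g hg hfg _ ↦ (LocusQF.isLocallyConstructible_locus_locallyQuasiFinite f g hg
      hfg).isConstructible) ?_ f g hg hfg trivial
  intro X Y A f g hg hfg _ hqf
  refine isConstructible_of_stage (Q := @IsSeparated) (W := @LocallyQuasiFinite) fpqcInv_isFinite
    descRow_isSeparated (fun _ _ _ h ↦ have : IsFinite _ := h; inferInstance)
    (fun f g hg hfg _ ↦ (isLocallyConstructible_locus_isSeparated f g hg
      hfg).isConstructible) ?_ f g hg hfg hqf
  intro X Y A f g hg hfg hqf hsep
  have h3 : MorphismProperty.IsStableUnderBaseChange (C := Scheme.{u})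
      (@LocallyQuasiFinite ⊓ @IsSeparated) := stable_qfs
  exact isConstructible_of_Spec_target' (P := @IsFinite)
    (W := (@LocallyQuasiFinite ⊓ @IsSeparated : MorphismProperty Scheme.{u}))
    (fun f g hg hfg hW ↦ isConstructible_locus_of_isSeparated f g hg hfg hW) f g hg hfg ⟨hqf, hsep⟩

end Groth.Agent.Ega43.LocusFinite
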