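import Groth.Agent.Ega43.LocusUnram
import Groth.Agent.Ega43.FlatFibreCrit
import Mathlib.AlgebraicGeometry.Morphisms.FlatMono

/-!
# The flat locus, the open immersion locus and the isomorphism locus are constructible
-/

set_option autoImplicit false
universe u
open CategoryTheory AlgebraicGeometry CategoryTheory.Limits Topology TensorProduct

namespace Groth.Agent.Ega43.LocusFlat

open Groth.Agent.Ega43.Locus Groth.Agent.Ega43.LocusAff Groth.Agent.Ega43.LocusRed
  Groth.Agent.Ega43.LocusElem Groth.Agent.Ega43.LocusUnram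

theorem flat_codescendsAlong : RingHom.CodescendsAlong RingHom.Flat.{u, u} RingHom.FaithfullyFlat := by
  refine .mk _ RingHom.Flat.respectsIso fun R S T _ _ _ _ _ h h' ↦ ?_
  rw [RingHom.flat_algebraMap_iff] at h' ⊢
  rw [RingHom.faithfullyFlat_algebraMap_iff] at h
  exact Module.Flat.of_flat_tensorProduct R T S

theorem fpqcInv_flat : FpqcInv @Flat.{u} :=
  have : MorphismProperty.DescendsAlong @Flat.{u} (@Surjective ⊓ @Flat ⊓ @QuasiCompact) :=
    HasRingHomProperty.descendsAlong_flat flat_codescendsAlong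
  FpqcInv.of_descendsAlong @Flat

/-- Membership in a locus in the affine case, with tensor products. -/
theorem mem_locus_Spec_iff {P : MorphismProperty Scheme.{u}} (hP : FpqcInv P)
    {A D C : CommRingCat.{u}} (φ : A ⟶ D) (ψ : D ⟶ C) (p : Spec A) :
    letI := φ.hom.toAlgebra
    letI := ψ.hom.toAlgebra
    p ∈ locus P (Spec.map ψ) (Spec.map φ) ↔
      P (Spec.map (CommRingCat.ofHom (algebraMap (D ⊗[A] p.asIdeal.ResidueField)
        ((D ⊗[A] p.asIdeal.ResidueField) ⊗[D] C)))) := by
  algebraize [φ.hom, ψ.hom]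
  have hprime : p.asIdeal.IsPrime := PrimeSpectrum.isPrime p
  let κ : A ⟶ .of p.asIdeal.ResidueField := CommRingCat.ofHom (algebraMap A p.asIdeal.ResidueField)
  have hp : Spec.map κ (IsLocalRing.closedPoint p.asIdeal.ResidueField) = p := by
    refine PrimeSpectrum.ext ?_
    change (IsLocalRing.maximalIdeal p.asIdeal.ResidueField).comap
      (algebraMap A p.asIdeal.ResidueField) = p.asIdeal
    rw [IsLocalRing.maximalIdeal_eq_bot]
    exact Ideal.ker_algebraMap_residueField _
  have h1 : IsPushout φ κ _ _ := CommRingCat.isPushout_tensorProduct A D p.asIdeal.ResidueField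
  have h2 : IsPushout ψ _ _ _ :=
    (CommRingCat.isPushout_tensorProduct D (D ⊗[A] p.asIdeal.ResidueField) C).flip
  have h3 := isPullback_SpecMap_of_isPushout _ _ _ _ h1
  have h4 := isPullback_SpecMap_of_isPushout _ _ _ _ h2
  have h5 := mem_locus_iff_of_field hP h3 h4
  rw [hp] at h5
  exact h5

theorem mem_locus_flat_Spec_iff {A D C : CommRingCat.{u}} (φ : A ⟶ D) (ψ : D ⟶ C) (p : Spec A) :
    letI := φ.hom.toAlgebra
    letI := ψ.hom.toAlgebra
    p ∈ locus @Flat (Spec.map ψ) (Spec.map φ) ↔
      Module.Flat (D ⊗[A] p.asIdeal.ResidueField)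
        ((D ⊗[A] p.asIdeal.ResidueField) ⊗[D] C) := by
  rw [mem_locus_Spec_iff fpqcInv_flat, HasRingHomProperty.Spec_iff (P := @Flat)]
  exact RingHom.flat_algebraMap_iff

/-- Description of the flat locus over points over which `C` is flat over `A`. -/
theorem mem_locus_flat_Spec_iff_subset {A D C : CommRingCat.{u}} (φ : A ⟶ D) (ψ : D ⟶ C)
    [IsNoetherianRing A] [IsNoetherianRing D] [IsNoetherianRing C] (p : Spec A)
    (hC : letI := (φ ≫ ψ).hom.toAlgebra; ∀ (P : Ideal C) [P.IsPrime],
      P.comap (φ ≫ ψ).hom = p.asIdeal → Module.Flat A (Localization.AtPrime P)) :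
    letI := ψ.hom.toAlgebra
    p ∈ locus @Flat (Spec.map ψ) (Spec.map φ) ↔
      (Spec.map ψ ≫ Spec.map φ) ⁻¹' {p} ⊆
        {q : PrimeSpectrum C | Module.Flat D (LocalizedModule q.asIdeal.primeCompl C)} := by
  have hprime : p.asIdeal.IsPrime := PrimeSpectrum.isPrime p
  rw [mem_locus_flat_Spec_iff]
  let : Algebra A D := φ.hom.toAlgebra
  let : Algebra D C := ψ.hom.toAlgebra
  let : Algebra A C := (φ ≫ ψ).hom.toAlgebra
  have htow : IsScalarTower A D C := .of_algebraMap_eq' rfl
  constructor
  · intro h q hq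
    have hq' : q.asIdeal.comap (φ ≫ ψ).hom = p.asIdeal := congrArg PrimeSpectrum.asIdeal hq
    have : q.asIdeal.LiesOver p.asIdeal := ⟨hq'.symm⟩
    have := hC q.asIdeal hq'
    exact FlatFibreCrit.flat_of_fibre A D C q.asIdeal p.asIdeal h
  · intro h
    refine FlatFibreCrit.flat_fibre D C (D ⊗[A] p.asIdeal.ResidueField) ?_
    rintro P hP ⟨𝔔, h𝔔, rfl⟩
    refine h (a := ⟨_, hP⟩) ?_
    refine PrimeSpectrum.ext ?_
    let r : p.asIdeal.ResidueField →+* (D ⊗[A] p.asIdeal.ResidueField) ⊗[D] C :=
      Algebra.TensorProduct.includeLeftRingHom.comp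
        (Algebra.TensorProduct.includeRight (R := A) (A := D)).toRingHom
    have h1 : 𝔔.comap r = ⊥ :=
      ((Ideal.eq_bot_or_top (𝔔.comap r)).resolve_right (Ideal.IsPrime.comap r).ne_top)
    have h2 : (𝔔.comap r).comap (algebraMap A p.asIdeal.ResidueField) = p.asIdeal := by
      rw [h1]
      exact Ideal.ker_algebraMap_residueField _
    have h3 : (Algebra.TensorProduct.includeRight
      (R := D) (A := D ⊗[A] p.asIdeal.ResidueField) (B := C)).toRingHom.comp (algebraMap A C) =
        r.comp (algebraMap A p.asIdeal.ResidueField) := by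
      ext a
      change (1 : D ⊗[A] p.asIdeal.ResidueField) ⊗ₜ[D] (algebraMap D C (algebraMap A D a)) =
        ((1 : D) ⊗ₜ[A] (algebraMap A p.asIdeal.ResidueField a)) ⊗ₜ[D] (1 : C)
      rw [Algebra.algebraMap_eq_smul_one (A := C), ← TensorProduct.smul_tmul,
        Algebra.algebraMap_eq_smul_one (A := p.asIdeal.ResidueField), ← TensorProduct.smul_tmul]
      congr 1
    refine Eq.trans ?_ h2
    rw [Ideal.comap_comap, ← h3, ← Ideal.comap_comap]
    rfl

theorem isConstructible_locus_flat_Spec {A D C : CommRingCat.{u}} (φ : A ⟶ D)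
    (ψ : D ⟶ C) (hφ : φ.hom.FinitePresentation) (hψ : ψ.hom.FinitePresentation) :
    IsConstructible (locus @Flat (Spec.map ψ) (Spec.map φ)) := by
  refine isConstructible_locus_Spec fpqcInv_flat ?_ φ ψ hφ hψ
  intro A D C φ ψ _ _ hφ hψ
  have : LocallyOfFinitePresentation (Spec.map φ) := (fp_SpecMap_iff _).mpr hφ |>.lfp
  have : LocallyOfFinitePresentation (Spec.map ψ) := (fp_SpecMap_iff _).mpr hψ |>.lfp
  have hND : IsNoetherianRing D := by
    algebraize [φ.hom]
    exact Algebra.FiniteType.isNoetherianRing A D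
  have hNC : IsNoetherianRing C := by
    algebraize [ψ.hom]
    exact Algebra.FiniteType.isNoetherianRing D C
  obtain ⟨a, ha, h⟩ : ∃ a : A, a ≠ 0 ∧ (letI := (φ ≫ ψ).hom.toAlgebra;
      ∀ (P : Ideal C) [P.IsPrime], (φ ≫ ψ).hom a ∉ P →
        Module.Flat A (Localization.AtPrime P)) := by
    have h1 : (φ ≫ ψ).hom.FiniteType :=
      RingHom.FiniteType.of_finitePresentation (RingHom.FinitePresentation.comp hψ hφ)
    algebraize [(φ ≫ ψ).hom]
    exact FlatFibreCrit.exists_forall_flat A C
  refine ⟨a, ha, ?_⟩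
  let U : Set (PrimeSpectrum C) := letI := ψ.hom.toAlgebra;
    {q : PrimeSpectrum C | Module.Flat D (LocalizedModule q.asIdeal.primeCompl C)}
  have hU : IsOpen U := by
    algebraize [ψ.hom]
    exact FlatA.NagataOpen.isOpen_flat_locus_of_noetherian
  have key : (PrimeSpectrum.basicOpen a : Set (PrimeSpectrum A)) ∩
      (locus @Flat (Spec.map ψ) (Spec.map φ) : Set (Spec A)) =
      (PrimeSpectrum.basicOpen a : Set (PrimeSpectrum A)) ∩
        ((Spec.map ψ ≫ Spec.map φ) '' (Uᶜ : Set (PrimeSpectrum C)))ᶜ := by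
    ext p
    refine and_congr_right fun hp ↦ ?_
    refine (mem_locus_flat_Spec_iff_subset φ ψ p ?_).trans ?_
    · intro P _ hP
      refine h P fun h2 ↦ hp ?_
      rw [← hP]
      exact h2
    · constructor
      · rintro h1 ⟨x, hx, rfl⟩
        exact hx (h1 rfl)
      · rintro h1 x rfl
        by_contra hx
        exact h1 ⟨x, hx, rfl⟩
  rw [key]
  have hns : TopologicalSpace.NoetherianSpace (PrimeSpectrum C) := inferInstance
  refine IsConstructible.inter ?_ (IsConstructible.compl
    (Scheme.Hom.isConstructible_image (Spec.map ψ ≫ Spec.map φ) (IsConstructible.compl ?_)))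
  · exact (PrimeSpectrum.isCompact_basicOpen a).isConstructible (PrimeSpectrum.basicOpen a).isOpen
  · exact (hns.isCompact _).isConstructible hU

variable {X Y S : Scheme.{u}}

set_option backward.isDefEq.respectTransparency.types false in
theorem isLocallyConstructible_locus_flat (f : X ⟶ Y) (g : Y ⟶ S) (hg : FP g)
    (hfg : FP (f ≫ g)) : IsLocallyConstructible (locus @Flat f g) :=
  isLocallyConstructible_of_Spec_base fpqcInv_flat
    (fun f g hg hfg ↦ isConstructible_of_Spec_source
      (fun φ ψ hφ hψ ↦ isConstructible_locus_flat_Spec φ ψ hφ hψ) f g hg hfg) f g hg hfg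

/-- The open immersion locus. -/
theorem isLocallyConstructible_locus_isOpenImmersion (f : X ⟶ Y) (g : Y ⟶ S) (hg : FP g)
    (hfg : FP (f ≫ g)) : IsLocallyConstructible (locus @IsOpenImmersion f g) := by
  convert (isLocallyConstructible_locus_flat f g hg hfg).inter
    (isLocallyConstructible_locus_mono f g hg hfg) using 1
  ext s
  have h1 : FP (bcMap f g (S.fromSpecResidueField s)) :=
    (hfg.of_comp hg).of_isPullback (isPullback_bcMap f g _)
  have := h1.lfp
  constructor
  · intro (h : IsOpenImmersion _)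
    exact ⟨(inferInstance : Flat _), (inferInstance : Mono _)⟩
  · rintro ⟨(h2 : Flat _), (h3 : Mono _)⟩
    exact IsOpenImmersion.of_flat_of_mono _

/-- The isomorphism locus. -/
theorem isLocallyConstructible_locus_isIso (f : X ⟶ Y) (g : Y ⟶ S) (hg : FP g)
    (hfg : FP (f ≫ g)) :
    IsLocallyConstructible (locus (MorphismProperty.isomorphisms Scheme.{u}) f g) := by
  have := hg.lfp; have := hg.qc; have := hg.qs
  have := hfg.lfp; have := hfg.qc; have := hfg.qs
  convert (isLocallyConstructible_locus_isOpenImmersion f g hg hfg).inter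
    (isLocallyConstructible_locus_surjective f g) using 1
  ext s
  exact isIso_iff_isOpenImmersion_and_surjective _

end Groth.Agent.Ega43.LocusFlat
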