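import Groth.Agent.S2074
import Groth.Agent.Ega43.ResSysSch

/-!
# The positive half of EGA IV 9.6.1 for proper and separated morphisms
-/

set_option autoImplicit false
universe u
open CategoryTheory AlgebraicGeometry CategoryTheory.Limits Topology

namespace Groth.Agent.Ega43.LocusProperPos

open Groth.Agent.Ega43.Locus Groth.Agent.Ega43.ResSysSch
open Groth.Agent.Smoothlim.LimBase

theorem descRow_of_descendsAffine {P Q : MorphismProperty Scheme.{u}} [P.IsStableUnderBaseChange]
    [IsZariskiLocalAtTarget P] [Q.IsStableUnderBaseChange]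
    (hQ : ∀ {X Y : Scheme.{u}} (f : X ⟶ Y) [LocallyOfFiniteType f] [QuasiCompact f]
      [QuasiSeparated f], Q f)
    (hA : DescendsAffine Q P) : DescRow P := by
  intro I _ _ D c hc _ i₀ _ _ X₀ Y₀ f₀ g₀ _ _ _ _ _ _ X Y f g qY qX hY hX hP
  have : CompactSpace Y₀ := QuasiCompact.compactSpace_of_compactSpace g₀
  have h1 : LocallyOfFinitePresentation f₀ :=
    Groth.Agent.Ega43.LimDesc.locallyOfFinitePresentation_of_comp f₀ g₀
  have h2 : QuasiCompact f₀ := .of_comp f₀ g₀
  have h3 : QuasiSeparated f₀ := .of_comp f₀ g₀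
  obtain ⟨i, φ, h⟩ := exists_descend hA D c hc i₀ f₀ g₀ f g qY qX hY hX (hQ f₀) hP
  exact ⟨i, φ, _, _, pullback.snd f₀ (pullback.fst g₀ (D.map φ)), pullback.snd g₀ (D.map φ),
    pullback.fst g₀ (D.map φ), pullback.fst f₀ (pullback.fst g₀ (D.map φ)),
    .of_hasPullback _ _, .of_hasPullback _ _, h⟩

theorem descRow_isProper : DescRow @IsProper.{u} :=
  descRow_of_descendsAffine (Q := FTQS) (fun _ _ _ _ ↦ ⟨⟨inferInstance, inferInstance⟩, inferInstance⟩)
    descendsAffine_isProper

theorem descRow_isSeparated : DescRow @IsSeparated.{u} :=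
  descRow_of_descendsAffine (Q := QCQS) (fun _ _ _ _ ↦ ⟨inferInstance, inferInstance⟩)
    descendsAffine_isSeparated

theorem descRow_universallyClosed : DescRow @UniversallyClosed.{u} :=
  descRow_of_descendsAffine (Q := FTQS) (fun _ _ _ _ ↦ ⟨⟨inferInstance, inferInstance⟩, inferInstance⟩)
    descendsAffine_universallyClosed

variable {R : Type u} [CommRing R] {X Y : Scheme.{u}} (f : X ⟶ Y) (g : Y ⟶ Spec (.of R))

theorem exists_subset_locus_universallyClosed [LocallyOfFinitePresentation g] [QuasiCompact g]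
    [QuasiSeparated g]
    [LocallyOfFinitePresentation (f ≫ g)] [QuasiCompact (f ≫ g)] [QuasiSeparated (f ≫ g)]
    (p : PrimeSpectrum R) (hp : p ∈ locus @UniversallyClosed f g) :
    ∃ V : Set (PrimeSpectrum R), IsConstructible V ∧ p ∈ V ∧ V ⊆ locus @UniversallyClosed f g :=
  exists_subset_locus f g descRow_universallyClosed p hp

end Groth.Agent.Ega43.LocusProperPos
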