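import Groth.Agent.Ega43.LocusQF
import Groth.Agent.Ega43.ClosedRange
import Mathlib.AlgebraicGeometry.ValuativeCriterion

/-!
# The separated locus; descent of separated / proper / finite / closed immersion
-/

set_option autoImplicit false
universe u
open CategoryTheory hiding IsDiscrete
open AlgebraicGeometry CategoryTheory.Limits Topology TensorProduct

namespace Groth.Agent.Ega43.LocusSep

open Groth.Agent.Ega43.Locus Groth.Agent.Ega43.LocusAff Groth.Agent.Ega43.LocusRed
  Groth.Agent.Ega43.LocusElem Groth.Agent.Ega43.LocusUnram Groth.Agent.Ega43.LimUnivInj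
  Groth.Agent.Ega43.ClosedRange

theorem FpqcInv.diagonal {P : MorphismProperty Scheme.{u}} (hP : FpqcInv P) :
    FpqcInv P.diagonal where
  iff_of_isPullback {X Y X' Y' f f' qX qY} h h1 h2 h3 := by
    have h4 : IsPullback (diagMap h) (pullback.fst f' f' ≫ f') (pullback.fst f f ≫ f) qY :=
      diagMap_isPullback h
    have h5 : Surjective (diagMap h) := MorphismProperty.of_isPullback h4.flip h1
    have h6 : Flat (diagMap h) := MorphismProperty.of_isPullback h4.flip h2
    have h7 : QuasiCompact (diagMap h) := MorphismProperty.of_isPullback h4.flip h3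
    exact hP.iff_of_isPullback (diagonal_isPullback h) h5 h6 h7

theorem FpqcInv.congr {P Q : MorphismProperty Scheme.{u}} (hP : FpqcInv P)
    (h : ∀ {X Y : Scheme.{u}} (f : X ⟶ Y), Q f ↔ P f) : FpqcInv Q where
  iff_of_isPullback h' h1 h2 h3 := by
    rw [h, h]
    exact hP.iff_of_isPullback h' h1 h2 h3

theorem isSeparated_iff_closedRange_diagonal {X Y : Scheme.{u}} (f : X ⟶ Y) :
    IsSeparated f ↔ closedRange.diagonal f := by
  constructor
  · intro h
    exact (pullback.diagonal f).isClosedEmbedding.isClosed_range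
  · intro h
    exact ⟨.of_isPreimmersion _ h⟩

theorem fpqcInv_isSeparated : FpqcInv @IsSeparated.{u} :=
  FpqcInv.congr (FpqcInv.diagonal fpqcInv_closedRange) isSeparated_iff_closedRange_diagonal

theorem fpqcInv_isProper : FpqcInv @IsProper.{u} := by
  have h1 : FpqcInv @UniversallyClosed.{u} := FpqcInv.of_descendsAlong _
  have h2 : FpqcInv @LocallyOfFiniteType.{u} := FpqcInv.of_descendsAlong _
  refine FpqcInv.congr ((fpqcInv_isSeparated.inf h1).inf h2) fun f ↦ ?_
  rw [isProper_iff]
  exact ⟨fun ⟨a, b, c⟩ ↦ ⟨⟨a, b⟩, c⟩, fun ⟨⟨a, b⟩, c⟩ ↦ ⟨a, b, c⟩⟩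

theorem fpqcInv_isFinite : FpqcInv @IsFinite.{u} :=
  FpqcInv.congr (fpqcInv_isProper.inf LocusQF.fpqcInv_locallyQuasiFinite)
    fun f ↦ IsFinite.iff_isProper_and_locallyQuasiFinite f

theorem fpqcInv_monomorphisms : FpqcInv (MorphismProperty.monomorphisms Scheme.{u}) := by
  have h1 : FpqcInv (MorphismProperty.isomorphisms Scheme.{u}) := FpqcInv.of_descendsAlong _
  refine FpqcInv.congr (FpqcInv.diagonal h1) fun f ↦ ?_
  exact (pullback.isIso_diagonal_iff f).symm

theorem fpqcInv_isClosedImmersion : FpqcInv @IsClosedImmersion.{u} :=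
  FpqcInv.congr (fpqcInv_isProper.inf fpqcInv_monomorphisms)
    fun f ↦ IsClosedImmersion.iff_isProper_and_mono f

variable {X Y S : Scheme.{u}}

theorem isLocallyConstructible_locus_isSeparated (f : X ⟶ Y) (g : Y ⟶ S) (hg : FP g)
    (hfg : FP (f ≫ g)) : IsLocallyConstructible (locus @IsSeparated f g) := by
  have := hg.lfp; have := hg.qc; have := hg.qs
  have := hfg.lfp; have := hfg.qc; have := hfg.qs
  have h1 : (@IsSeparated : MorphismProperty Scheme.{u}) = closedRange.diagonal := by
    ext X Y f
    exact isSeparated_iff_closedRange_diagonal f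
  rw [h1]
  refine isLocallyConstructible_locus_diagonal f g closedRange ?_
  intro X Y f g _ _ _ _ _ _
  have h2 : FP f := (FP.mk' (f ≫ g)).of_comp (FP.mk' g)
  have := h2.lfp; have := h2.qc
  exact isLocallyConstructible_locus_closedRange f g

end Groth.Agent.Ega43.LocusSep
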