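import Groth.Agent.Ega43.UnivClosedLocus
import Groth.Agent.Ega43.LocusProperPos
import Groth.Agent.Ega43.LocusSep

/-!
# EGA IV 9.6.1 (iv): the locus of proper fibre maps
-/

set_option autoImplicit false
universe u
open CategoryTheory AlgebraicGeometry CategoryTheory.Limits Topology

namespace Groth.Agent.Ega43.LocusProper

open Groth.Agent.Ega43.Locus Groth.Agent.Ega43.LocusAff Groth.Agent.Ega43.LocusSep
open Groth.Agent.Ega43.ResSysSch Groth.Agent.Ega43.ConsCrit Groth.Agent.Ega43.LocusProperPos

theorem fpqcInv_universallyClosed : FpqcInv @UniversallyClosed.{u} := FpqcInv.of_descendsAlong _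

/-- The locus of universally closed fibre maps is locally constructible. -/
theorem isLocallyConstructible_locus_universallyClosed {X Y S : Scheme.{u}} (f : X ⟶ Y)
    (g : Y ⟶ S) (hg : FP g) (hfg : FP (f ≫ g)) :
    IsLocallyConstructible (locus @UniversallyClosed f g) := by
  refine isLocallyConstructible_of_Spec_base fpqcInv_universallyClosed ?_ f g hg hfg
  intro X Y A f g hg hfg
  have hf : FP f := hfg.of_comp hg
  have := hg.lfp; have := hg.qc; have := hg.qs
  have := hf.lfp; have := hf.qc; have := hf.qs
  refine isConstructible_of_forall_exists (X := PrimeSpectrum A) _ fun p ↦ ?_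
  by_cases hp : p ∈ locus @UniversallyClosed f g
  · obtain ⟨V, hV, hpV, hVE⟩ := exists_subset_locus (R := A) f g descRow_universallyClosed p hp
    exact ⟨V, hV, hpV, by rwa [Set.inter_eq_left.mpr hVE]⟩
  · obtain ⟨V, hV, hpV, hVE⟩ := UnivClosedLocus.exists_disjoint_locus f g p hp
    exact ⟨V, hV, hpV, Eq.subst (motive := fun s : Set (PrimeSpectrum A) ↦ IsConstructible s)
      hVE.symm .empty⟩

/-- The locus of proper fibre maps is locally constructible. -/
theorem isLocallyConstructible_locus_isProper {X Y S : Scheme.{u}} (f : X ⟶ Y)
    (g : Y ⟶ S) (hg : FP g) (hfg : FP (f ≫ g)) :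
    IsLocallyConstructible (locus @IsProper f g) := by
  have h1 : locus @IsProper f g = locus @IsSeparated f g ∩ locus @UniversallyClosed f g := by
    ext s
    have := (hfg.of_comp hg).lfp
    have h2 : LocallyOfFiniteType (bcMap f g (S.fromSpecResidueField s)) :=
      MorphismProperty.of_isPullback (isPullback_bcMap f g _) inferInstance
    constructor
    · intro h
      have h : IsProper (bcMap f g (S.fromSpecResidueField s)) := h
      exact ⟨h.toIsSeparated, h.toUniversallyClosed⟩
    · rintro ⟨h3, h4⟩
      have h3 : IsSeparated (bcMap f g (S.fromSpecResidueField s)) := h3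
      have h4 : UniversallyClosed (bcMap f g (S.fromSpecResidueField s)) := h4
      exact { }
  rw [h1]
  exact (isLocallyConstructible_locus_isSeparated f g hg hfg).inter
    (isLocallyConstructible_locus_universallyClosed f g hg hfg)

end Groth.Agent.Ega43.LocusProper
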