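import Groth.Agent.Ega43.LocusUnram
import Mathlib.RingTheory.Finiteness.Descent
import Mathlib.AlgebraicGeometry.ZariskisMainTheorem

/-!
# The quasi-finite locus is constructible
-/

set_option autoImplicit false
universe u
open CategoryTheory hiding IsDiscrete
open AlgebraicGeometry CategoryTheory.Limits Topology TensorProduct

namespace Groth.Agent.Ega43.LocusQF

open Groth.Agent.Ega43.Locus Groth.Agent.Ega43.LocusAff Groth.Agent.Ega43.LocusRed
  Groth.Agent.Ega43.LocusElem Groth.Agent.Ega43.LocusUnram

/-- Quasi-finiteness descends along faithfully flat ring maps. -/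
theorem quasiFinite_of_faithfullyFlat {R : Type u} (S : Type u) {T : Type u} [CommRing R] [CommRing S]
    [CommRing T]
    [Algebra R S] [Algebra R T] [Module.FaithfullyFlat R S] [Algebra.QuasiFinite S (S ⊗[R] T)] :
    Algebra.QuasiFinite R T := by
  refine ⟨fun P hP ↦ ?_⟩
  obtain ⟨P', hP'⟩ := PrimeSpectrum.comap_surjective_of_faithfullyFlat (A := R) (B := S) ⟨P, hP⟩
  have hP'' : P = P'.asIdeal.comap (algebraMap R S) := by
    rw [← PrimeSpectrum.comap_asIdeal, hP']
  let φ : P.ResidueField →+* P'.asIdeal.ResidueField :=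
    Ideal.ResidueField.map P P'.asIdeal (algebraMap R S) hP''
  algebraize [φ]
  have : IsScalarTower R P.ResidueField P'.asIdeal.ResidueField := by
    refine .of_algebraMap_eq fun x ↦ ?_
    have h1 : φ (algebraMap R P.ResidueField x) =
      algebraMap S P'.asIdeal.ResidueField (algebraMap R S x) :=
      Ideal.ResidueField.map_algebraMap P P'.asIdeal (algebraMap R S) hP'' x
    rw [RingHom.algebraMap_toAlgebra, h1, ← IsScalarTower.algebraMap_apply]
  let e1 : P'.asIdeal.ResidueField ⊗[S] (S ⊗[R] T) ≃ₗ[P'.asIdeal.ResidueField]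
      P'.asIdeal.ResidueField ⊗[R] T :=
    AlgebraTensorModule.cancelBaseChange R S P'.asIdeal.ResidueField P'.asIdeal.ResidueField T
  let e2 : P'.asIdeal.ResidueField ⊗[P.ResidueField] (P.ResidueField ⊗[R] T)
      ≃ₗ[P'.asIdeal.ResidueField] P'.asIdeal.ResidueField ⊗[R] T :=
    AlgebraTensorModule.cancelBaseChange R P.ResidueField P'.asIdeal.ResidueField
      P'.asIdeal.ResidueField T
  have h1 : Module.Finite P'.asIdeal.ResidueField (P'.asIdeal.ResidueField ⊗[S] (S ⊗[R] T)) :=
    Algebra.QuasiFinite.finite_fiber P'.asIdeal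
  have h2 : Module.Finite P'.asIdeal.ResidueField
      (P'.asIdeal.ResidueField ⊗[P.ResidueField] (P.ResidueField ⊗[R] T)) :=
    Module.Finite.equiv (e1.trans e2.symm)
  exact Module.Finite.of_finite_tensorProduct_of_faithfullyFlat P'.asIdeal.ResidueField

theorem quasiFinite_codescendsAlong :
    RingHom.CodescendsAlong RingHom.QuasiFinite.{u, u} RingHom.FaithfullyFlat := by
  refine .mk _ RingHom.QuasiFinite.respectsIso fun R S T _ _ _ _ _ h h' ↦ ?_
  rw [RingHom.quasiFinite_algebraMap] at h' ⊢
  rw [RingHom.faithfullyFlat_algebraMap_iff] at h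
  exact quasiFinite_of_faithfullyFlat S

theorem fpqcInv_locallyQuasiFinite : FpqcInv @LocallyQuasiFinite.{u} :=
  have : MorphismProperty.DescendsAlong @LocallyQuasiFinite.{u} (@Surjective ⊓ @Flat ⊓ @QuasiCompact) :=
    HasRingHomProperty.descendsAlong_flat quasiFinite_codescendsAlong
  FpqcInv.of_descendsAlong @LocallyQuasiFinite

variable {X Y S : Scheme.{u}}

/-- A fibre is discrete iff all its points are quasi-finite points. -/
theorem isDiscrete_preimage_iff (f : X ⟶ Y) [LocallyOfFiniteType f] (y : Y) :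
    IsDiscrete (f ⁻¹' {y}) ↔ f ⁻¹' {y} ⊆ {x | f.QuasiFiniteAt x} := by
  rw [isDiscrete_iff_discreteTopology, discreteTopology_iff_isOpen_singleton]
  constructor
  · rintro H x rfl
    rw [Set.mem_ofPred_eq, Scheme.Hom.quasiFiniteAt_iff_isOpen_singleton_asFiber,
      ← (f.fiberHomeo (f x)).isOpen_image, Set.image_singleton]
    exact H _
  · rintro H ⟨x, rfl⟩
    rw [← (f.fiberHomeo _).symm.isOpen_image, Set.image_singleton]
    exact Scheme.Hom.quasiFiniteAt_iff_isOpen_singleton_asFiber.mp (H rfl)

theorem mem_locus_locallyQuasiFinite_iff (f : X ⟶ Y) (g : Y ⟶ S) [LocallyOfFiniteType f] (s : S) :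
    s ∈ locus @LocallyQuasiFinite f g ↔ (f ≫ g) ⁻¹' {s} ⊆ {x | f.QuasiFiniteAt x} := by
  let k := S.fromSpecResidueField s
  have hX := isPullback_bcMap f g k
  have hf' : LocallyOfFiniteType (bcMap f g k) :=
    MorphismProperty.of_isPullback hX inferInstance
  change LocallyQuasiFinite (bcMap f g k) ↔ _
  rw [locallyQuasiFinite_iff_isDiscrete_preimage_singleton]
  have h1 : IsPreimmersion (pullback.fst (f ≫ g) k) := inferInstance
  have h2 : IsPreimmersion (pullback.fst g k) := inferInstance
  have h3 : ∀ y', (bcMap f g k) ⁻¹' {y'} = (pullback.fst (f ≫ g) k) ⁻¹' (f ⁻¹' {pullback.fst g k y'}) := by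
    intro y'
    ext x'
    have h4 : f (pullback.fst (f ≫ g) k x') = pullback.fst g k (bcMap f g k x') := by
      rw [← Scheme.Hom.comp_apply, ← Scheme.Hom.comp_apply, hX.w]
    simp only [Set.mem_preimage, Set.mem_singleton_iff]
    rw [h4, (pullback.fst g k).isEmbedding.injective.eq_iff]
  have h5 : Set.range (pullback.fst g k) = g ⁻¹' {s} := by
    rw [Scheme.Pullback.range_fst, Scheme.range_fromSpecResidueField]
  have h6 : Set.range (pullback.fst (f ≫ g) k) = (f ≫ g) ⁻¹' {s} := by
    rw [Scheme.Pullback.range_fst, Scheme.range_fromSpecResidueField]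
  constructor
  · intro H x hx
    obtain ⟨y', hy'⟩ : f x ∈ Set.range (pullback.fst g k) := by
      rw [h5]; simpa using hx
    have h7 := (H y').image (pullback.fst (f ≫ g) k).isEmbedding.isInducing
    rw [h3, Set.image_preimage_eq_inter_range, Set.inter_eq_left.mpr, hy',
      isDiscrete_preimage_iff] at h7
    · exact h7 rfl
    · rw [h6]
      rintro z hz
      have : g (pullback.fst g k y') = s := by
        have : pullback.fst g k y' ∈ g ⁻¹' {s} := h5 ▸ ⟨y', rfl⟩
        exact this
      rw [Set.mem_preimage, Set.mem_singleton_iff] at hz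
      rw [Set.mem_preimage, Scheme.Hom.comp_apply, hz]
      exact this
  · intro H y'
    rw [h3]
    refine IsDiscrete.preimage ?_ (pullback.fst (f ≫ g) k).continuous.continuousOn
      (pullback.fst (f ≫ g) k).isEmbedding.injective
    rw [isDiscrete_preimage_iff]
    intro x hx
    apply H
    have : g (pullback.fst g k y') = s := by
      have : pullback.fst g k y' ∈ g ⁻¹' {s} := h5 ▸ ⟨y', rfl⟩
      exact this
    rw [Set.mem_preimage, Set.mem_singleton_iff] at hx
    rw [Set.mem_preimage, Scheme.Hom.comp_apply, hx]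
    exact this

theorem isConstructible_locus_locallyQuasiFinite_Spec {A D C : CommRingCat.{u}} (φ : A ⟶ D)
    (ψ : D ⟶ C) (hφ : φ.hom.FinitePresentation) (hψ : ψ.hom.FinitePresentation) :
    IsConstructible (locus @LocallyQuasiFinite (Spec.map ψ) (Spec.map φ)) := by
  refine isConstructible_locus_Spec fpqcInv_locallyQuasiFinite ?_ φ ψ hφ hψ
  intro A D C φ ψ _ _ hφ hψ
  refine ⟨1, one_ne_zero, ?_⟩
  rw [PrimeSpectrum.basicOpen_one]
  change IsConstructible (Set.univ ∩ locus @LocallyQuasiFinite (Spec.map ψ) (Spec.map φ))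
  rw [Set.univ_inter]
  algebraize [φ.hom, ψ.hom]
  have : Algebra.FiniteType A D := inferInstance
  have : IsNoetherianRing D := Algebra.FiniteType.isNoetherianRing A D
  have : Algebra.FiniteType D C := inferInstance
  have : IsNoetherianRing C := Algebra.FiniteType.isNoetherianRing D C
  have : LocallyOfFinitePresentation (Spec.map φ) := (fp_SpecMap_iff _).mpr hφ |>.lfp
  have : LocallyOfFinitePresentation (Spec.map ψ) := (fp_SpecMap_iff _).mpr hψ |>.lfp
  rw [locus_eq_compl_image (Spec.map ψ) (Spec.map φ) {x | (Spec.map ψ).QuasiFiniteAt x}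
    (mem_locus_locallyQuasiFinite_iff (Spec.map ψ) (Spec.map φ))]
  refine IsConstructible.compl (Scheme.Hom.isConstructible_image _ (IsConstructible.compl ?_))
  have hns : TopologicalSpace.NoetherianSpace (PrimeSpectrum C) := inferInstance
  exact (hns.isCompact _).isConstructible (Spec.map ψ).isOpen_quasiFiniteAt

set_option backward.isDefEq.respectTransparency.types false in
theorem isLocallyConstructible_locus_locallyQuasiFinite (f : X ⟶ Y) (g : Y ⟶ S) (hg : FP g)
    (hfg : FP (f ≫ g)) : IsLocallyConstructible (locus @LocallyQuasiFinite f g) :=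
  isLocallyConstructible_of_Spec_base fpqcInv_locallyQuasiFinite
    (fun f g hg hfg ↦ isConstructible_of_Spec_source
      (fun φ ψ hφ hψ ↦ isConstructible_locus_locallyQuasiFinite_Spec φ ψ hφ hψ) f g hg hfg)
    f g hg hfg

end Groth.Agent.Ega43.LocusQF
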