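import Mathlib.RingTheory.Extension.Presentation.Core
import Mathlib.Algebra.Category.Ring.Constructions
import Mathlib.RingTheory.FiniteType
import Mathlib.RingTheory.RingHom.FinitePresentation

/-!
# Reduction of finitely presented data to Noetherian rings
-/

set_option autoImplicit false
universe u
open CategoryTheory CategoryTheory.Limits

namespace Groth.Agent.Ega43.NoethRed

open Algebra TensorProduct

theorem exists_model {A D : Type u} [CommRing A] [CommRing D] [Algebra A D]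
    [Algebra.FinitePresentation A D] {s : Set D} (hs : s.Finite) :
    ∃ t : Set A, t.Finite ∧ ∀ (R₀ : Type u) [CommRing R₀] [Algebra R₀ A],
      t ⊆ Set.range (algebraMap R₀ A) →
        ∃ (D₀ : Type u) (_ : CommRing D₀) (_ : Algebra R₀ D₀) (_ : Algebra D₀ D),
          Algebra.FinitePresentation R₀ D₀ ∧ s ⊆ Set.range (algebraMap D₀ D) ∧
          IsPushout (CommRingCat.ofHom (algebraMap R₀ D₀)) (CommRingCat.ofHom (algebraMap R₀ A))
            (CommRingCat.ofHom (algebraMap D₀ D)) (CommRingCat.ofHom (algebraMap A D)) := by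
  classical
  let P := Algebra.Presentation.ofFinitePresentation A D
  refine ⟨P.coeffs ∪ ⋃ d ∈ s, ((P.σ d).coeffs : Set A),
    P.finite_coeffs.union (hs.biUnion fun d _ ↦ Finset.finite_toSet _), ?_⟩
  intro R₀ _ _ ht
  let _ : Algebra R₀ D := ((algebraMap A D).comp (algebraMap R₀ A)).toAlgebra
  have : IsScalarTower R₀ A D := .of_algebraMap_eq' rfl
  have : P.HasCoeffs R₀ := ⟨Set.subset_union_left.trans ht⟩
  let e := P.tensorModelOfHasCoeffsEquiv R₀
  let φ : P.ModelOfHasCoeffs R₀ →+* D := e.toRingEquiv.toRingHom.comp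
    (Algebra.TensorProduct.includeRight (R := R₀) (A := A) (B := P.ModelOfHasCoeffs R₀)).toRingHom
  refine ⟨P.ModelOfHasCoeffs R₀, inferInstance, inferInstance, φ.toAlgebra, inferInstance, ?_, ?_⟩
  · intro d hd
    have h1 : ((P.σ d).coeffs : Set A) ⊆ Set.range (algebraMap R₀ A) :=
      (Set.subset_biUnion_of_mem (u := fun d ↦ ((P.σ d).coeffs : Set A)) hd).trans
        (Set.subset_union_right.trans ht)
    rw [← MvPolynomial.mem_range_map_iff_coeffs_subset] at h1
    obtain ⟨p, hp⟩ := h1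
    refine ⟨Ideal.Quotient.mk _ p, ?_⟩
    change e (1 ⊗ₜ[R₀] (Ideal.Quotient.mk _ p)) = d
    rw [Algebra.Presentation.tensorModelOfHasCoeffsEquiv_tmul, map_one, one_mul,
      ← MvPolynomial.aeval_map_algebraMap A, hp]
    exact P.aeval_val_σ d
  · refine ((CommRingCat.isPushout_tensorProduct R₀ A (P.ModelOfHasCoeffs R₀)).of_iso
      (Iso.refl _) (Iso.refl _) (Iso.refl _) e.toRingEquiv.toCommRingCatIso
      (by simp) (by simp) ?_ ?_).flip
    · ext x
      change e (x ⊗ₜ[R₀] 1) = algebraMap A D x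
      exact (e.commutes x)
    · refine CommRingCat.hom_ext (RingHom.ext fun x ↦ ?_)
      rfl

/-- Any finite subset of a ring is contained in the image of a Noetherian ring. -/
theorem exists_noetherian {A : Type u} [CommRing A] {t : Set A} (ht : t.Finite) :
    ∃ (R₀ : Type u) (_ : CommRing R₀) (_ : Algebra R₀ A), IsNoetherianRing R₀ ∧
      t ⊆ Set.range (algebraMap R₀ A) := by
  let R₀ := Algebra.adjoin ℤ t
  have h1 : Algebra.FiniteType ℤ R₀ := .adjoin_of_finite ht
  refine ⟨R₀, inferInstance, inferInstance, Algebra.FiniteType.isNoetherianRing ℤ R₀, ?_⟩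
  intro x hx
  exact ⟨⟨x, Algebra.subset_adjoin hx⟩, rfl⟩

/-- Noetherian reduction for a chain `A ⟶ D ⟶ C` of finitely presented ring homs. -/
theorem exists_noetherian_model₂ {A D C : CommRingCat.{u}} (φ : A ⟶ D) (ψ : D ⟶ C)
    (hφ : φ.hom.FinitePresentation) (hψ : ψ.hom.FinitePresentation) :
    ∃ (A₀ D₀ C₀ : CommRingCat.{u}) (φ₀ : A₀ ⟶ D₀) (ψ₀ : D₀ ⟶ C₀) (a : A₀ ⟶ A) (d : D₀ ⟶ D)
      (c : C₀ ⟶ C), IsNoetherianRing A₀ ∧ φ₀.hom.FinitePresentation ∧ ψ₀.hom.FinitePresentation ∧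
      IsPushout φ₀ a d φ ∧ IsPushout ψ₀ d c ψ := by
  algebraize [φ.hom, ψ.hom]
  obtain ⟨s, hs, Hs⟩ := exists_model (A := D) (D := C) Set.finite_empty
  obtain ⟨t, ht, Ht⟩ := exists_model (A := A) (D := D) hs
  obtain ⟨A₀, _, _, h1, h2⟩ := exists_noetherian ht
  obtain ⟨D₀, _, _, _, h3, h4, h5⟩ := Ht A₀ h2
  obtain ⟨C₀, _, _, _, h6, -, h7⟩ := Hs D₀ h4
  exact ⟨.of A₀, .of D₀, .of C₀, _, _, _, _, _, h1, RingHom.finitePresentation_algebraMap.mpr h3,
    RingHom.finitePresentation_algebraMap.mpr h6, h5, h7⟩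

end Groth.Agent.Ega43.NoethRed
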