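import Groth.Agent.Ega43.Locus
import Groth.Agent.Ega43.NoethRed
import Groth.Agent.Ega43.ConsCrit

/-!
# Reduction of constructibility of fibrewise loci to Noetherian domains (affine case)
-/

set_option autoImplicit false
universe u
open CategoryTheory AlgebraicGeometry CategoryTheory.Limits Topology

namespace Groth.Agent.Ega43.LocusRed

open Groth.Agent.Ega43.Locus Groth.Agent.Ega43.ConsCrit Groth.Agent.Ega43.NoethRed

/-- Noetherian reduction for loci, affine case. -/
theorem isConstructible_locus_Spec {P : MorphismProperty Scheme.{u}} (hP : FpqcInv P)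
    (H : ∀ (A D C : CommRingCat.{u}) (φ : A ⟶ D) (ψ : D ⟶ C) [IsNoetherianRing A] [IsDomain A],
      φ.hom.FinitePresentation → ψ.hom.FinitePresentation →
        ∃ a : A, a ≠ 0 ∧ IsConstructible
          ((PrimeSpectrum.basicOpen a : Set (PrimeSpectrum A)) ∩
            (locus P (Spec.map ψ) (Spec.map φ) : Set (Spec A))))
    {A D C : CommRingCat.{u}} (φ : A ⟶ D) (ψ : D ⟶ C) (hφ : φ.hom.FinitePresentation)
    (hψ : ψ.hom.FinitePresentation) :
    IsConstructible (locus P (Spec.map ψ) (Spec.map φ)) := by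
  wlog hA : IsNoetherianRing A generalizing A D C
  · obtain ⟨A₀, D₀, C₀, φ₀, ψ₀, a, d, c, h1, h2, h3, h4, h5⟩ :=
      exists_noetherian_model₂ φ ψ hφ hψ
    have h6 := this φ₀ ψ₀ h2 h3 h1
    have h7 : IsPullback (Spec.map d) (Spec.map φ) (Spec.map φ₀) (Spec.map a) :=
      isPullback_SpecMap_of_isPushout _ _ _ _ h4
    have h8 : IsPullback (Spec.map c) (Spec.map ψ) (Spec.map ψ₀) (Spec.map d) :=
      isPullback_SpecMap_of_isPushout _ _ _ _ h5
    rw [locus_eq_preimage hP h7 h8]
    exact (Spec.map a).isConstructible_preimage h6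
  refine isConstructible_of_forall_exists (X := PrimeSpectrum A) _ fun p ↦ ?_
  let A' : CommRingCat.{u} := .of (A ⧸ p.asIdeal)
  let q : A ⟶ A' := CommRingCat.ofHom (Ideal.Quotient.mk p.asIdeal)
  have hN : IsNoetherianRing A' := inferInstanceAs (IsNoetherianRing (A ⧸ p.asIdeal))
  have hD : IsDomain A' := inferInstanceAs (IsDomain (A ⧸ p.asIdeal))
  have hq : Function.Surjective q := Ideal.Quotient.mk_surjective
  have hq' : q.hom.FinitePresentation := by
    refine RingHom.FinitePresentation.of_surjective _ hq ?_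
    exact (isNoetherianRing_iff_ideal_fg A).mp inferInstance _
  have h1 : IsPushout φ q (pushout.inl φ q) (pushout.inr φ q) := IsPushout.of_hasPushout φ q
  have h2 : IsPushout ψ (pushout.inl φ q) (pushout.inl ψ (pushout.inl φ q))
    (pushout.inr ψ (pushout.inl φ q)) := IsPushout.of_hasPushout _ _
  have h3 := isPullback_SpecMap_of_isPushout _ _ _ _ h1
  have h4 := isPullback_SpecMap_of_isPushout _ _ _ _ h2
  have h5 : (pushout.inr φ q).hom.FinitePresentation :=
    (LocallyOfFinitePresentation.SpecMap_iff _).mp (MorphismProperty.of_isPullback h3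
      ((LocallyOfFinitePresentation.SpecMap_iff _).mpr hφ))
  have h6 : (pushout.inr ψ (pushout.inl φ q)).hom.FinitePresentation :=
    (LocallyOfFinitePresentation.SpecMap_iff _).mp (MorphismProperty.of_isPullback h4
      ((LocallyOfFinitePresentation.SpecMap_iff _).mpr hψ))
  obtain ⟨a', ha', ha''⟩ := H A' _ _ (pushout.inr φ q) (pushout.inr ψ (pushout.inl φ q)) h5 h6
  obtain ⟨a, rfl⟩ := hq a'
  have hpa : a ∉ p.asIdeal := fun h ↦ ha' (Ideal.Quotient.eq_zero_iff_mem.mpr h)
  rw [locus_eq_preimage hP h3 h4] at ha''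
  refine ⟨PrimeSpectrum.zeroLocus (p.asIdeal : Set A) ∩ PrimeSpectrum.basicOpen a, ?_, ?_, ?_⟩
  · refine IsConstructible.inter (isConstructible_compl.mp ?_) ?_
    · have hns : TopologicalSpace.NoetherianSpace (PrimeSpectrum A) := inferInstance
      exact (hns.isCompact _).isConstructible (PrimeSpectrum.isClosed_zeroLocus _).isOpen_compl
    · exact (PrimeSpectrum.isCompact_basicOpen a).isConstructible (PrimeSpectrum.basicOpen a).isOpen
  · exact ⟨by simp [PrimeSpectrum.mem_zeroLocus], hpa⟩
  · have hrange : Set.range (PrimeSpectrum.comap q.hom) =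
        PrimeSpectrum.zeroLocus (p.asIdeal : Set A) := by
      rw [range_comap_of_surjective _ _ hq]
      congr 2
      exact Ideal.mk_ker
    convert PrimeSpectrum.isConstructible_comap_image hq' ha'' using 1
    ext x
    constructor
    · rintro ⟨⟨hx1, hx2⟩, hx3⟩
      rw [← hrange] at hx1
      obtain ⟨y, rfl⟩ := hx1
      exact ⟨y, ⟨hx2, hx3⟩, rfl⟩
    · rintro ⟨y, ⟨hy1, hy2⟩, rfl⟩
      refine ⟨⟨?_, hy1⟩, hy2⟩
      rw [← hrange]
      exact ⟨y, rfl⟩

end Groth.Agent.Ega43.LocusRed
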