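import Groth.Agent.Ega43.UnivOpenPoly
import Mathlib.RingTheory.IntegralClosure.GoingDown
import Mathlib.RingTheory.Spectrum.Prime.Chevalley
import Mathlib.FieldTheory.Minpoly.IsIntegrallyClosed
import Mathlib.RingTheory.Polynomial.IsIntegral
import Mathlib.RingTheory.AdjoinRoot
import Mathlib.RingTheory.ZariskisMainTheorem
import Mathlib.AlgebraicGeometry.Morphisms.UniversallyClosed

/-!
# Openness of integral and quasi-finite extensions of normal domains
-/

set_option autoImplicit false
open CategoryTheory AlgebraicGeometry TensorProduct
universe u v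

namespace Groth.Agent.Ega43.NormalOpen

section integral

variable {R : Type u} {S : Type v} [CommRing R] [CommRing S] [Algebra R S]

/-- An integral ring map with nilpotent kernel is surjective on spectra. -/
theorem comap_surjective_of_isIntegral [Algebra.IsIntegral R S]
    (h : RingHom.ker (algebraMap R S) ≤ nilradical R) :
    Function.Surjective (PrimeSpectrum.comap (algebraMap R S)) := by
  have h1 := PrimeSpectrum.isClosedMap_comap_of_isIntegral (algebraMap R S)
    (algebraMap_isIntegral_iff.mpr inferInstance)
  have h2 := (PrimeSpectrum.denseRange_comap_iff_ker_le_nilRadical (algebraMap R S)).mpr h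
  rw [← Set.range_eq_univ, ← h2.closure_eq, h1.isClosed_range.closure_eq]

/-- An injective integral extension `R ⊆ S` of domains with `R` normal is open on spectra. -/
theorem isOpenMap_comap_of_isIntegral [IsDomain R] [IsDomain S] [IsIntegrallyClosed R]
    [FaithfulSMul R S] [Algebra.IsIntegral R S] :
    IsOpenMap (PrimeSpectrum.comap (algebraMap R S)) := by
  rw [(PrimeSpectrum.isTopologicalBasis_basic_opens).isOpenMap_iff]
  rintro _ ⟨g, rfl⟩
  have hg : IsIntegral R g := Algebra.IsIntegral.isIntegral g
  let T := Algebra.adjoin R {g}
  let g' : T := ⟨g, Algebra.self_mem_adjoin_singleton R g⟩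
  have : Algebra.FinitePresentation R (AdjoinRoot (minpoly R g)) := inferInstance
  have : Algebra.FinitePresentation R T :=
    Algebra.FinitePresentation.equiv (minpoly.equivAdjoin hg)
  have : Algebra.IsIntegral R T := Algebra.IsIntegral.of_injective T.val Subtype.val_injective
  have : FaithfulSMul R T := inferInstance
  have h1 : IsOpenMap (PrimeSpectrum.comap (algebraMap R T)) :=
    PrimeSpectrum.isOpenMap_comap_of_hasGoingDown_of_finitePresentation
  have : Algebra.IsIntegral T S := Algebra.IsIntegral.tower_top R
  have h2 : Function.Surjective (PrimeSpectrum.comap (algebraMap T S)) :=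
    comap_surjective_of_isIntegral <| by
      rw [(RingHom.injective_iff_ker_eq_bot _).mp (FaithfulSMul.algebraMap_injective T S)]
      exact bot_le
  have h3 : PrimeSpectrum.comap (algebraMap R S) =
      PrimeSpectrum.comap (algebraMap R T) ∘ PrimeSpectrum.comap (algebraMap T S) := by
    rfl
  rw [h3, Set.image_comp]
  refine h1 _ ?_
  have h4 : PrimeSpectrum.comap (algebraMap T S) '' (PrimeSpectrum.basicOpen g : Set (PrimeSpectrum S)) =
      (PrimeSpectrum.basicOpen g' : Set (PrimeSpectrum T)) := by
    have : (PrimeSpectrum.basicOpen g : Set (PrimeSpectrum S)) =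
        PrimeSpectrum.comap (algebraMap T S) ⁻¹'
          (PrimeSpectrum.basicOpen g' : Set (PrimeSpectrum T)) := rfl
    rw [this, Set.image_preimage_eq _ h2]
  rw [h4]
  exact (PrimeSpectrum.basicOpen g').isOpen

end integral

theorem isIntegrallyClosed_mvPolynomial (R : Type u) [CommRing R] [IsDomain R]
    [IsIntegrallyClosed R] (n : ℕ) : IsIntegrallyClosed (MvPolynomial (Fin n) R) := by
  induction n with
  | zero =>
    exact IsIntegrallyClosed.of_equiv (MvPolynomial.isEmptyRingEquiv R (Fin 0)).symm
  | succ n ih =>
    exact IsIntegrallyClosed.of_equiv (MvPolynomial.finSuccEquiv R n).toRingEquiv.symm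

attribute [local instance] MvPolynomial.algebraMvPolynomial in
/-- An injective integral extension `R ⊆ S` of domains with `R` normal is universally open. -/
theorem universallyOpen_of_isIntegral {R S : Type u} [CommRing R] [CommRing S] [Algebra R S]
    [IsDomain R] [IsDomain S] [IsIntegrallyClosed R]
    [FaithfulSMul R S] [Algebra.IsIntegral R S] :
    UniversallyOpen (Spec.map (CommRingCat.ofHom (algebraMap R S))) := by
  refine UnivOpenPoly.universallyOpen_of_mvPolynomial fun n => ?_
  have := isIntegrallyClosed_mvPolynomial R n
  exact isOpenMap_comap_of_isIntegral (R := MvPolynomial (Fin n) R) (S := MvPolynomial (Fin n) S)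

/-- Universal openness is local on the source, affine version. -/
theorem universallyOpen_of_forall_exists_away {R S : Type u} [CommRing R] [CommRing S]
    (φ : R →+* S)
    (h : ∀ q : PrimeSpectrum S, ∃ s ∉ q.asIdeal, UniversallyOpen
      (Spec.map (CommRingCat.ofHom ((algebraMap S (Localization.Away s)).comp φ)))) :
    UniversallyOpen (Spec.map (CommRingCat.ofHom φ)) := by
  choose s hs hs' using h
  have hspan : Ideal.span (Set.range s) = ⊤ := by
    by_contra hne
    obtain ⟨m, hm, hle⟩ := Ideal.exists_le_maximal _ hne
    exact hs ⟨m, hm.isPrime⟩ (hle (Ideal.subset_span ⟨_, rfl⟩))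
  refine IsZariskiLocalAtSource.of_openCover
    (Scheme.affineOpenCoverOfSpanRangeEqTop (R := CommRingCat.of S) s hspan).openCover fun i => ?_
  have := hs' i
  rw [CommRingCat.ofHom_comp, Spec.map_comp] at this
  exact this

lemma universallyOpen_away_aux {R R' S : Type u} [CommRing R] [CommRing R'] [CommRing S]
    (g : R →+* R') (f : R' →+* S) (r : R')
    (hbij : Function.Bijective (Localization.awayMap f r))
    (h1 : UniversallyOpen (Spec.map (CommRingCat.ofHom g))) :
    UniversallyOpen
      (Spec.map (CommRingCat.ofHom ((algebraMap S (Localization.Away (f r))).comp (f.comp g)))) := by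
  have h2 : (algebraMap S (Localization.Away (f r))).comp (f.comp g) =
      (Localization.awayMap f r).comp ((algebraMap R' (Localization.Away r)).comp g) := by
    ext x
    simp [Localization.awayMap, IsLocalization.Away.map]
  rw [h2, CommRingCat.ofHom_comp, CommRingCat.ofHom_comp, Spec.map_comp, Spec.map_comp]
  have h3 : IsIso (CommRingCat.ofHom (Localization.awayMap f r)) :=
    (ConcreteCategory.isIso_iff_bijective _).mpr hbij
  infer_instance

/-- A quasi-finite injective extension `R ⊆ S` of finite type of domains with `R` normal is
universally open. -/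
theorem universallyOpen_of_quasiFinite {R S : Type u} [CommRing R] [CommRing S] [Algebra R S]
    [IsDomain R] [IsDomain S] [IsIntegrallyClosed R]
    [FaithfulSMul R S] [Algebra.FiniteType R S] [Algebra.QuasiFinite R S] :
    UniversallyOpen (Spec.map (CommRingCat.ofHom (algebraMap R S))) := by
  have e : algebraMap R S = (integralClosure R S).val.toRingHom.comp
      (algebraMap R (integralClosure R S)) := rfl
  rw [e]
  refine universallyOpen_of_forall_exists_away _ fun q => ?_
  obtain ⟨r, hr, hbij⟩ := Algebra.ZariskisMainProperty.of_finiteType (R := R) q.asIdeal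
  have h1 : UniversallyOpen (Spec.map (CommRingCat.ofHom (algebraMap R (integralClosure R S)))) :=
    universallyOpen_of_isIntegral
  have h2 := universallyOpen_away_aux (algebraMap R (integralClosure R S)) _ r hbij h1
  have h3 : (integralClosure R S).val.toRingHom r ∉ q.asIdeal := hr
  refine ⟨(integralClosure R S).val.toRingHom r, h3, ?_⟩
  exact h2

end Groth.Agent.Ega43.NormalOpen
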