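import Groth.Prelude.Def_EGA43
import Mathlib.AlgebraicGeometry.Morphisms.FinitePresentation
import Mathlib.RingTheory.Spectrum.Prime.ConstructibleSet
import Mathlib.AlgebraicGeometry.Noetherian
import Mathlib.AlgebraicGeometry.PullbackCarrier

/-!
# Openness at a point: generizations and closures of constructible sets
-/

set_option autoImplicit false

namespace Groth.Agent.Ega43.OpenAt

open CategoryTheory AlgebraicGeometry Topology

universe u v

/-- A point in the closure of the image of `Spec S → Spec R` is a specialization of a point of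
the image. -/
lemma exists_specializes_of_mem_closure_range {R : Type u} {S : Type v} [CommRing R] [CommRing S]
    (φ : R →+* S) {y : PrimeSpectrum R} (hy : y ∈ closure (Set.range (PrimeSpectrum.comap φ))) :
    ∃ z ∈ Set.range (PrimeSpectrum.comap φ), z ⤳ y := by
  rw [PrimeSpectrum.closure_range_comap, PrimeSpectrum.mem_zeroLocus, SetLike.coe_subset_coe] at hy
  obtain ⟨q, hq, hqy⟩ := Ideal.exists_minimalPrimes_le hy
  obtain ⟨P, hP, hPq⟩ := Ideal.exists_comap_eq_of_mem_minimalPrimes φ (I := ⊥) q (by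
    rwa [← RingHom.ker_eq_comap_bot])
  refine ⟨⟨q, hq.1.1⟩, ⟨⟨P, hP⟩, PrimeSpectrum.ext hPq.2⟩, ?_⟩
  rw [← PrimeSpectrum.le_iff_specializes]
  exact hqy

lemma exists_specializes_of_isConstructible {R : Type u} [CommRing R] {s : Set (PrimeSpectrum R)}
    (hs : IsConstructible s) {y : PrimeSpectrum R} (hy : y ∈ closure s) : ∃ z ∈ s, z ⤳ y := by
  obtain ⟨S, _, φ, rfl⟩ := PrimeSpectrum.exists_range_eq_of_isConstructible hs
  exact exists_specializes_of_mem_closure_range φ hy

/-- In a scheme, a point in the closure of a locally constructible set is a specialization of a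
point of the set. -/
theorem exists_specializes_of_isLocallyConstructible {X : Scheme.{u}} {s : Set X}
    (hs : IsLocallyConstructible s) {x : X} (hx : x ∈ closure s) : ∃ z ∈ s, z ⤳ x := by
  obtain ⟨R, f, hf, ⟨y, rfl⟩, -⟩ :=
    Scheme.exists_affine_mem_range_and_range_subset (U := (⊤ : X.Opens)) (x := x) trivial
  have h1 : IsConstructible (f ⁻¹' s) :=
    (hs.preimage_of_isOpenEmbedding f.isOpenEmbedding).isConstructible
  have h2 : y ∈ closure (f ⁻¹' s) := by
    rw [← f.isOpenEmbedding.isOpenMap.preimage_closure_eq_closure_preimage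
      f.isOpenEmbedding.continuous]
    exact hx
  obtain ⟨z, hz, hzy⟩ := exists_specializes_of_isConstructible h1 h2
  exact ⟨f z, hz, hzy.map f.continuous⟩

/-- Openness at a point can be checked on a commutative square whose horizontal maps are
continuous, resp. open. -/
lemma isOpenAt_of_comm {U X V Y : Type*} [TopologicalSpace U] [TopologicalSpace X]
    [TopologicalSpace V] [TopologicalSpace Y] {h' : U → V} {h : X → Y} {i : U → X} {j : V → Y}
    (u : U) (hi : ContinuousAt i u) (hj : IsOpenMap j) (comm : ∀ a, h (i a) = j (h' a))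
    (H : EGA43.IsOpenAt h' u) : EGA43.IsOpenAt h (i u) := by
  intro W hW
  have h1 := H _ (hi hW)
  have h2 := hj.image_mem_nhds h1
  rw [comm]
  refine Filter.mem_of_superset h2 ?_
  rintro _ ⟨_, ⟨a, ha, rfl⟩, rfl⟩
  exact ⟨i a, ha, comm a⟩

/-- A morphism locally of finite presentation is open at `x` as soon as every open neighbourhood
of `x` meets the fibre over every generization of the image of `x`. -/
theorem isOpenAt_of_forall_specializes {X Y : Scheme.{u}} (h : X ⟶ Y)
    [LocallyOfFinitePresentation h] (x : X)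
    (H : ∀ U : X.Opens, x ∈ U → ∀ y : Y, y ⤳ h x → ∃ z ∈ U, h z = y) :
    EGA43.IsOpenAt h x := by
  obtain ⟨_, ⟨V : Y.Opens, hV, rfl⟩, hxV, -⟩ :=
    Y.isBasis_affineOpens.exists_subset_of_mem_open (Set.mem_univ (h x)) isOpen_univ
  intro T hT
  obtain ⟨T', hT'T, hT'o, hxT'⟩ := mem_nhds_iff.mp hT
  obtain ⟨_, ⟨W : X.Opens, hW, rfl⟩, hxW, hWV⟩ :=
    X.isBasis_affineOpens.exists_subset_of_mem_open (u := (h ⁻¹ᵁ V : Set X) ∩ T') ⟨hxV, hxT'⟩
      ((h ⁻¹ᵁ V).2.inter hT'o)
  have hWV' : W ≤ h ⁻¹ᵁ V := fun a ha => (hWV ha).1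
  have hWT : (W : Set X) ⊆ T := fun a ha => hT'T (hWV ha).2
  let h' : (W : Scheme.{u}) ⟶ V := h.resLE V W hWV'
  have : IsAffine (W : Scheme.{u}) := hW
  have : IsAffine (V : Scheme.{u}) := hV
  have hcomm : h' ≫ V.ι = W.ι ≫ h := h.resLE_comp_ι hWV'
  have h1 : IsLocallyConstructible (Set.range h') := by
    rw [← Set.image_univ]
    exact h'.isLocallyConstructible_image IsLocallyConstructible.univ
  have h1' : IsLocallyConstructible (Set.range h')ᶜ := h1.isConstructible.compl.isLocallyConstructible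
  let yV : (V : Scheme.{u}) := ⟨h x, hxV⟩
  have h2 : yV ∉ closure (Set.range h')ᶜ := by
    intro hcl
    obtain ⟨z, hz, hzy⟩ := exists_specializes_of_isLocallyConstructible h1' hcl
    apply hz
    have h3 : z.1 ⤳ h x := hzy.map V.ι.continuous
    obtain ⟨w, hw, hwz⟩ := H W hxW z.1 h3
    refine ⟨⟨w, hw⟩, Subtype.ext ?_⟩
    have := congrArg (fun φ => φ ⟨w, hw⟩) (congrArg (fun φ => φ.base) hcomm)
    exact this.trans hwz
  rw [closure_compl] at h2
  have h3 : yV ∈ interior (Set.range h') := Set.notMem_compl_iff.mp h2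
  have h4 : (V.ι : V → Y) '' (Set.range h') ∈ nhds (V.ι yV) :=
    V.ι.isOpenEmbedding.isOpenMap.image_mem_nhds (mem_interior_iff_mem_nhds.mp h3)
  refine Filter.mem_of_superset h4 ?_
  rintro _ ⟨_, ⟨a, rfl⟩, rfl⟩
  refine ⟨a.1, hWT a.2, ?_⟩
  have := congrArg (fun φ => φ a) (congrArg (fun φ => φ.base) hcomm)
  exact this.symm

/-- `h` is generizing at `x` through every neighbourhood of `x`. -/
def GenAt {X Y : Scheme.{u}} (h : X ⟶ Y) (x : X) : Prop :=
  ∀ U : X.Opens, x ∈ U → ∀ y : Y, y ⤳ h x → ∃ z ∈ U, h z = y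

lemma genAt_of_isOpenAt {X Y : Scheme.{u}} (h : X ⟶ Y) (x : X) (H : EGA43.IsOpenAt h x) :
    GenAt h x := by
  intro U hU y hy
  have h1 : h '' (U : Set X) ∈ nhds (h x) := H _ (U.2.mem_nhds hU)
  obtain ⟨T, hT, hTo, hxT⟩ := mem_nhds_iff.mp h1
  obtain ⟨z, hz, hzy⟩ := hT (hy.mem_open hTo hxT)
  exact ⟨z, hz, hzy⟩

lemma isOpenAt_iff_genAt {X Y : Scheme.{u}} (h : X ⟶ Y) [LocallyOfFinitePresentation h] (x : X) :
    EGA43.IsOpenAt h x ↔ GenAt h x :=
  ⟨genAt_of_isOpenAt h x, isOpenAt_of_forall_specializes h x⟩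

/-- `GenAt` is local on the source and the target. -/
lemma genAt_iff_of_isOpenImmersion {X Y U V : Scheme.{u}} {h : X ⟶ Y} {h' : U ⟶ V} (i : U ⟶ X)
    (j : V ⟶ Y) [IsOpenImmersion i] [IsOpenImmersion j] (comm : i ≫ h = h' ≫ j) (a : U) :
    GenAt h (i a) ↔ GenAt h' a := by
  have comm' : ∀ b, h (i b) = j (h' b) := fun b => by
    rw [← Scheme.Hom.comp_apply, comm, Scheme.Hom.comp_apply]
  constructor
  · intro H T hT y hy
    obtain ⟨z, hz, hzy⟩ := H (i ''ᵁ T) ⟨a, hT, rfl⟩ (j y) (by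
      rw [comm']; exact hy.map j.continuous)
    obtain ⟨w, hw, rfl⟩ := hz
    exact ⟨w, hw, j.isOpenEmbedding.injective ((comm' w).symm.trans hzy)⟩
  · intro H T hT y hy
    rw [comm'] at hy
    obtain ⟨y', rfl⟩ : y ∈ Set.range j := hy.mem_open j.isOpenEmbedding.isOpen_range ⟨_, rfl⟩
    rw [j.isOpenEmbedding.isInducing.specializes_iff] at hy
    obtain ⟨w, hw, hwy⟩ := H (i ⁻¹ᵁ T) hT y' hy
    exact ⟨i w, hw, by rw [comm', hwy]⟩

/-- Transport of `GenAt` along a cartesian square `P = X ×_Z Y` for opens pulled back from `X`. -/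
lemma exists_of_isPullback {P X Y Z : Scheme.{u}} {p : P ⟶ X} {q : P ⟶ Y} {h : X ⟶ Z} {g : Y ⟶ Z}
    (sq : IsPullback p q h g) (a : P) (H : GenAt h (p a)) (D : X.Opens) (hD : p a ∈ D) (y : Y)
    (hy : y ⤳ q a) : ∃ w, p w ∈ D ∧ q w = y := by
  have h1 : g y ⤳ h (p a) := by
    have : h (p a) = g (q a) := by
      rw [← Scheme.Hom.comp_apply, sq.w, Scheme.Hom.comp_apply]
    rw [this]
    exact hy.map g.continuous
  obtain ⟨x, hx, hxy⟩ := H D hD _ h1
  obtain ⟨w, hw1, hw2⟩ := Scheme.exists_preimage_of_isPullback sq x y hxy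
  exact ⟨w, by rw [← hw1] at hx; exact hx, hw2⟩

end Groth.Agent.Ega43.OpenAt
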