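import Mathlib.AlgebraicGeometry.AffineSpace
import Mathlib.AlgebraicGeometry.Morphisms.UniversallyOpen
import Mathlib.AlgebraicGeometry.PullbackCarrier

set_option autoImplicit false
open CategoryTheory AlgebraicGeometry Limits TensorProduct
universe u
namespace Groth.Agent.Ega43.UnivOpenAffine

/-- In a cartesian square with `f` open, the image under `snd` of the preimage of an open set is open. -/
lemma isOpen_image_preimage {P X Y Z : Scheme.{u}} {fst : P ⟶ X} {snd : P ⟶ Y} {f : X ⟶ Z}
    {g : Y ⟶ Z} (h : IsPullback fst snd f g) (hf : IsOpenMap f) (U : Set X) (hU : IsOpen U) :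
    IsOpen (snd '' (fst ⁻¹' U)) := by
  have := Scheme.image_preimage_eq_of_isPullback h U
  have h2 : snd '' (fst ⁻¹' U) = g ⁻¹' (f '' U) := this
  rw [h2]
  exact (hf U hU).preimage g.continuous

lemma isPullback_homOfVector {n : Type u} {P X T Y : Scheme.{u}} {fst : P ⟶ X} {snd : P ⟶ T}
    {f : X ⟶ Y} {g : T ⟶ Y} (h : IsPullback fst snd f g) (b : n → Γ(T, ⊤)) :
    IsPullback (AffineSpace.homOfVector fst (fun i => snd.appTop (b i))) snd
      (AffineSpace.map n f) (AffineSpace.homOfVector g b) := by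
  refine IsPullback.of_right (h₁₂ := 𝔸(n; X) ↘ X) (h₂₂ := 𝔸(n; Y) ↘ Y) (v₁₃ := f) ?_ ?_ ?_
  · simpa using h
  · apply AffineSpace.hom_ext
    · simp [h.w]
    · intro i
      rw [Scheme.Hom.comp_appTop, Scheme.Hom.comp_appTop, CommRingCat.comp_apply,
        CommRingCat.comp_apply, AffineSpace.map_appTop_coord, AffineSpace.homOfVector_appTop_coord,
        AffineSpace.homOfVector_appTop_coord]
  · exact (AffineSpace.isPullback_map f).flip

/-- Affine case: base change of `Spec S ⟶ Spec R` to `Spec B`. -/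
lemma isOpenMap_tensorProduct_of_affineSpace {R S B : Type u} [CommRing R] [CommRing S] [CommRing B]
    [Algebra R S] [Algebra R B]
    (h : ∀ n : ℕ, IsOpenMap (AffineSpace.map (ULift.{u} (Fin n))
      (Spec.map (CommRingCat.ofHom (algebraMap R S))))) :
    IsOpenMap (Spec.map (CommRingCat.ofHom (algebraMap B (TensorProduct R B S)))) := by
  let fst : Spec (.of (TensorProduct R B S)) ⟶ Spec (.of S) :=
    Spec.map (CommRingCat.ofHom (Algebra.TensorProduct.includeRight (R := R) (A := B) (B := S)).toRingHom)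
  let snd : Spec (.of (TensorProduct R B S)) ⟶ Spec (.of B) :=
    Spec.map (CommRingCat.ofHom (algebraMap B (TensorProduct R B S)))
  let f : Spec (.of S) ⟶ Spec (.of R) := Spec.map (CommRingCat.ofHom (algebraMap R S))
  let g : Spec (.of B) ⟶ Spec (.of R) := Spec.map (CommRingCat.ofHom (algebraMap R B))
  have hpb : IsPullback fst snd f g :=
    (isPullback_SpecMap_of_isPushout _ _ _ _ (CommRingCat.isPushout_tensorProduct R B S)).flip
  change IsOpenMap snd
  rw [(isBasis_basicOpen (Spec (.of (TensorProduct R B S)))).isOpenMap_iff]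
  rintro _ ⟨_, ⟨t', rfl⟩, rfl⟩
  obtain ⟨t, rfl⟩ : ∃ t : TensorProduct R B S,
      t' = (Scheme.ΓSpecIso (.of (TensorProduct R B S))).inv t :=
    ⟨(Scheme.ΓSpecIso (.of (TensorProduct R B S))).hom t', by simp⟩
  obtain ⟨F, hF⟩ := TensorProduct.exists_finset t
  let e : Fin F.card ≃ F := F.equivFin.symm
  let n := ULift.{u} (Fin F.card)
  let b : n → Γ(Spec (.of B), ⊤) := fun i => (Scheme.ΓSpecIso (.of B)).inv (e i.down).1.1
  let s : n → Γ(Spec (.of S), ⊤) := fun i => (Scheme.ΓSpecIso (.of S)).inv (e i.down).1.2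
  have hpb2 := isPullback_homOfVector hpb b
  have ht : (Scheme.ΓSpecIso (.of (TensorProduct R B S))).inv t =
      (AffineSpace.homOfVector fst (fun i => snd.appTop (b i))).appTop
        (∑ i : n, AffineSpace.coord _ i * (𝔸(n; Spec (.of S)) ↘ (Spec (.of S))).appTop (s i)) := by
    rw [map_sum]
    simp_rw [map_mul, AffineSpace.homOfVector_appTop_coord]
    have h1 : ∀ i : n, (AffineSpace.homOfVector fst (fun i => snd.appTop (b i))).appTop
        ((𝔸(n; Spec (.of S)) ↘ (Spec (.of S))).appTop (s i)) = fst.appTop (s i) := by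
      intro i
      rw [← CommRingCat.comp_apply, ← Scheme.Hom.comp_appTop, AffineSpace.homOfVector_over]
    simp_rw [h1]
    have h2 : ∀ i : n, snd.appTop (b i) = (Scheme.ΓSpecIso (.of (TensorProduct R B S))).inv
        ((e i.down).1.1 ⊗ₜ[R] (1 : S)) := by
      intro i
      have := congr($(Scheme.ΓSpecIso_inv_naturality
        (CommRingCat.ofHom (algebraMap B (TensorProduct R B S)))).hom (e i.down).1.1)
      exact this.symm
    have h3 : ∀ i : n, fst.appTop (s i) = (Scheme.ΓSpecIso (.of (TensorProduct R B S))).inv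
        ((1 : B) ⊗ₜ[R] (e i.down).1.2) := by
      intro i
      have := congr($(Scheme.ΓSpecIso_inv_naturality
        (CommRingCat.ofHom (Algebra.TensorProduct.includeRight (R := R) (A := B) (B := S)).toRingHom)).hom
          (e i.down).1.2)
      exact this.symm
    simp_rw [h2, h3, ← map_mul, ← map_sum, Algebra.TensorProduct.tmul_mul_tmul, one_mul, mul_one]
    congr 1
    rw [hF, ← Finset.sum_coe_sort F (fun i => i.1 ⊗ₜ[R] i.2)]
    exact ((Equiv.ulift.trans e).sum_comp (fun i : F => i.1.1 ⊗ₜ[R] i.1.2)).symm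
  rw [ht, ← Scheme.preimage_basicOpen_top]
  exact isOpen_image_preimage hpb2 (h _) _ (Scheme.basicOpen _ _).isOpen

lemma isPullback_map_map {n : Type u} {P X T Y : Scheme.{u}} {fst : P ⟶ X} {snd : P ⟶ T}
    {f : X ⟶ Y} {g : T ⟶ Y} (h : IsPullback fst snd f g) :
    IsPullback (AffineSpace.map n fst) (AffineSpace.map n snd)
      (AffineSpace.map n f) (AffineSpace.map n g) := by
  refine IsPullback.of_right (h₁₂ := 𝔸(n; X) ↘ X) (h₂₂ := 𝔸(n; Y) ↘ Y) (v₁₃ := f) ?_ ?_ ?_
  · rw [AffineSpace.map_over, AffineSpace.map_over]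
    exact (AffineSpace.isPullback_map snd).flip.paste_horiz h
  · rw [← AffineSpace.map_comp, ← AffineSpace.map_comp, h.w]
  · exact (AffineSpace.isPullback_map f).flip

instance {n : Type u} {T Y : Scheme.{u}} (g : T ⟶ Y) [IsOpenImmersion g] :
    IsOpenImmersion (AffineSpace.map n g) :=
  MorphismProperty.of_isPullback (AffineSpace.isPullback_map g).flip inferInstance

/-- EGA IV 8.10.2: a morphism is universally open iff all the base changes to affine spaces over the target
are open. -/
theorem universallyOpen_of_isOpenMap_affineSpace {X Y : Scheme.{u}} (f : X ⟶ Y)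
    (h : ∀ n : ℕ, IsOpenMap (AffineSpace.map (ULift.{u} (Fin n)) f)) : UniversallyOpen f := by
  wlog hY : ∃ R, Y = Spec R
  · rw [IsZariskiLocalAtTarget.iff_of_openCover (P := @UniversallyOpen) Y.affineCover]
    intro i
    dsimp only [Scheme.Cover.pullbackHom]
    refine this _ (fun n => ?_) ⟨_, rfl⟩
    exact IsZariskiLocalAtTarget.of_isPullback (P := topologically @IsOpenMap)
      (isPullback_map_map (IsPullback.of_hasPullback f (Y.affineCover.f i))) (h n)
  obtain ⟨R, rfl⟩ := hY
  wlog hX : ∃ S, X = Spec S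
  · rw [IsZariskiLocalAtSource.iff_of_openCover (P := @UniversallyOpen) X.affineCover]
    intro i
    refine this R _ (fun n => ?_) ⟨_, rfl⟩
    rw [AffineSpace.map_comp]
    exact IsZariskiLocalAtSource.comp (P := topologically @IsOpenMap) (h n) _
  obtain ⟨S, rfl⟩ := hX
  obtain ⟨φ, rfl⟩ := Spec.map_surjective f
  refine ⟨MorphismProperty.universally_mk' _ _ fun {T} g _ ↦ ?_⟩
  wlog hT : ∃ R, T = Spec R generalizing T
  · refine (IsZariskiLocalAtTarget.iff_of_openCover T.affineCover).mpr fun i ↦ ?_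
    refine (MorphismProperty.cancel_left_of_respectsIso _
      ((pullbackRightPullbackFstIso ..).inv ≫ (pullbackSymmetry ..).hom) _).mp ?_
    simpa [Scheme.Cover.pullbackHom] using! this _ _ ⟨_, rfl⟩
  obtain ⟨B, rfl⟩ := hT
  obtain ⟨ψ, rfl⟩ := Spec.map_surjective g
  algebraize [φ.hom, ψ.hom]
  refine (MorphismProperty.cancel_left_of_respectsIso _ (pullbackSpecIso R B S).inv _).mp ?_
  convert_to! topologically _ (Spec.map <| CommRingCat.ofHom (algebraMap B (TensorProduct R B S)))
  · exact pullbackSpecIso_inv_fst' ..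
  exact isOpenMap_tensorProduct_of_affineSpace h

end Groth.Agent.Ega43.UnivOpenAffine
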