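import Groth.Agent.Ega43.OpenAt
import Groth.Agent.Ega43.UnivOpenAffine

/-!
# Universal openness at a point can be tested on affine spaces over the base
-/

set_option autoImplicit false
open CategoryTheory AlgebraicGeometry Limits TensorProduct
universe u

namespace Groth.Agent.Ega43.OpenAtFT

open Groth.Agent.Ega43.OpenAt Groth.Agent.Ega43.UnivOpenAffine

/-- Every principal open subset of `Spec (B ⊗ S)` is pulled back from an open subset of an affine
space over `Spec S`, by a map which is a base change of a map from `Spec B` to the affine space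
over `Spec R`. -/
lemma exists_basicOpen_eq_preimage {R S B : Type u} [CommRing R] [CommRing S] [CommRing B]
    [Algebra R S] [Algebra R B] (t : TensorProduct R B S) :
    ∃ (n : ℕ) (b : ULift.{u} (Fin n) → Γ(Spec (.of B), ⊤))
      (D : 𝔸(ULift.{u} (Fin n); Spec (.of S)).Opens),
      (Spec (.of (TensorProduct R B S))).basicOpen ((Scheme.ΓSpecIso (.of (TensorProduct R B S))).inv t) =
        (AffineSpace.homOfVector (Spec.map (CommRingCat.ofHom (Algebra.TensorProduct.includeRight
          (R := R) (A := B) (B := S)).toRingHom)) (fun i => (Spec.map (CommRingCat.ofHom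
            (algebraMap B (TensorProduct R B S)))).appTop (b i))) ⁻¹ᵁ D := by
  let fst : Spec (.of (TensorProduct R B S)) ⟶ Spec (.of S) :=
    Spec.map (CommRingCat.ofHom (Algebra.TensorProduct.includeRight (R := R) (A := B) (B := S)).toRingHom)
  let snd : Spec (.of (TensorProduct R B S)) ⟶ Spec (.of B) :=
    Spec.map (CommRingCat.ofHom (algebraMap B (TensorProduct R B S)))
  let f : Spec (.of S) ⟶ Spec (.of R) := Spec.map (CommRingCat.ofHom (algebraMap R S))
  let g : Spec (.of B) ⟶ Spec (.of R) := Spec.map (CommRingCat.ofHom (algebraMap R B))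
  obtain ⟨F, hF⟩ := TensorProduct.exists_finset t
  let e : Fin F.card ≃ F := F.equivFin.symm
  let n := ULift.{u} (Fin F.card)
  let b : n → Γ(Spec (.of B), ⊤) := fun i => (Scheme.ΓSpecIso (.of B)).inv (e i.down).1.1
  let s : n → Γ(Spec (.of S), ⊤) := fun i => (Scheme.ΓSpecIso (.of S)).inv (e i.down).1.2
  have ht : (Scheme.ΓSpecIso (.of (TensorProduct R B S))).inv t =
      (AffineSpace.homOfVector fst (fun i => snd.appTop (b i))).appTop
        (∑ i : n, AffineSpace.coord _ i * (𝔸(n; Spec (.of S)) ↘ (Spec (.of S))).appTop (s i)) := by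
    rw [map_sum]
    simp_rw [map_mul, AffineSpace.homOfVector_appTop_coord]
    have h1 : ∀ i : n, (AffineSpace.homOfVector fst (fun i => snd.appTop (b i))).appTop
        ((𝔸(n; Spec (.of S)) ↘ (Spec (.of S))).appTop (s i)) = fst.appTop (s i) := by
      intro i
      rw [← CommRingCat.comp_apply, ← Scheme.Hom.comp_appTop, AffineSpace.homOfVector_over]
    simp_rw [h1]
    have h2 : ∀ i : n, snd.appTop (b i) = (Scheme.ΓSpecIso (.of (TensorProduct R B S))).inv
        ((e i.down).1.1 ⊗ₜ[R] (1 : S)) := by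
      intro i
      have := congr($(Scheme.ΓSpecIso_inv_naturality
        (CommRingCat.ofHom (algebraMap B (TensorProduct R B S)))).hom (e i.down).1.1)
      exact this.symm
    have h3 : ∀ i : n, fst.appTop (s i) = (Scheme.ΓSpecIso (.of (TensorProduct R B S))).inv
        ((1 : B) ⊗ₜ[R] (e i.down).1.2) := by
      intro i
      have := congr($(Scheme.ΓSpecIso_inv_naturality
        (CommRingCat.ofHom (Algebra.TensorProduct.includeRight (R := R) (A := B) (B := S)).toRingHom)).hom
          (e i.down).1.2)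
      exact this.symm
    simp_rw [h2, h3, ← map_mul, ← map_sum, Algebra.TensorProduct.tmul_mul_tmul, one_mul, mul_one]
    congr 1
    rw [hF, ← Finset.sum_coe_sort F (fun i => i.1 ⊗ₜ[R] i.2)]
    exact ((Equiv.ulift.trans e).sum_comp (fun i : F => i.1.1 ⊗ₜ[R] i.1.2)).symm
  refine ⟨F.card, b, (𝔸(n; Spec (.of S))).basicOpen
    (∑ i : n, AffineSpace.coord _ i * (𝔸(n; Spec (.of S)) ↘ (Spec (.of S))).appTop (s i)), ?_⟩
  rw [ht, ← Scheme.preimage_basicOpen_top]

/-- Affine case of the affine space test. -/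
lemma genAt_tensorProduct {R S B : Type u} [CommRing R] [CommRing S] [CommRing B]
    [Algebra R S] [Algebra R B] (a : Spec (.of (TensorProduct R B S)))
    (H : ∀ (n : ℕ) (x₀ : 𝔸(ULift.{u} (Fin n); Spec (.of S))),
      (𝔸(ULift.{u} (Fin n); Spec (.of S)) ↘ Spec (.of S)) x₀ =
        Spec.map (CommRingCat.ofHom (Algebra.TensorProduct.includeRight
          (R := R) (A := B) (B := S)).toRingHom) a →
      GenAt (AffineSpace.map (ULift.{u} (Fin n)) (Spec.map (CommRingCat.ofHom (algebraMap R S)))) x₀) :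
    GenAt (Spec.map (CommRingCat.ofHom (algebraMap B (TensorProduct R B S)))) a := by
  let fst : Spec (.of (TensorProduct R B S)) ⟶ Spec (.of S) :=
    Spec.map (CommRingCat.ofHom (Algebra.TensorProduct.includeRight (R := R) (A := B) (B := S)).toRingHom)
  let snd : Spec (.of (TensorProduct R B S)) ⟶ Spec (.of B) :=
    Spec.map (CommRingCat.ofHom (algebraMap B (TensorProduct R B S)))
  let f : Spec (.of S) ⟶ Spec (.of R) := Spec.map (CommRingCat.ofHom (algebraMap R S))
  let g : Spec (.of B) ⟶ Spec (.of R) := Spec.map (CommRingCat.ofHom (algebraMap R B))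
  have hpb : IsPullback fst snd f g :=
    (isPullback_SpecMap_of_isPushout _ _ _ _ (CommRingCat.isPushout_tensorProduct R B S)).flip
  intro U hU y hy
  obtain ⟨_, ⟨_, ⟨t', rfl⟩, rfl⟩, hat', htU⟩ :=
    (isBasis_basicOpen (Spec (.of (TensorProduct R B S)))).exists_subset_of_mem_open hU U.2
  obtain ⟨t, rfl⟩ : ∃ t : TensorProduct R B S,
      t' = (Scheme.ΓSpecIso (.of (TensorProduct R B S))).inv t :=
    ⟨(Scheme.ΓSpecIso (.of (TensorProduct R B S))).hom t', by simp⟩
  obtain ⟨n, b, D, hD⟩ := exists_basicOpen_eq_preimage t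
  have hpb2 := isPullback_homOfVector hpb b
  have haD : (AffineSpace.homOfVector fst (fun i => snd.appTop (b i))) a ∈ D := by
    have : a ∈ (Spec (.of (TensorProduct R B S))).basicOpen
      ((Scheme.ΓSpecIso (.of (TensorProduct R B S))).inv t) := hat'
    rw [hD] at this
    exact this
  obtain ⟨w, hw1, hw2⟩ := exists_of_isPullback hpb2 a (H n _ (by
    rw [← Scheme.Hom.comp_apply, AffineSpace.homOfVector_over])) D haD y hy
  refine ⟨w, htU ?_, hw2⟩
  change w ∈ (Spec (.of (TensorProduct R B S))).basicOpen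
      ((Scheme.ΓSpecIso (.of (TensorProduct R B S))).inv t)
  rw [hD]
  exact hw1

/-- **Affine space test.** If all base changes of `f` to affine spaces over `Y` are generizing at
the points above `x`, then every base change of `f` is generizing at the points above `x`. -/
theorem genAt_pullback_of_affineSpace {X Y T : Scheme.{u}} (f : X ⟶ Y) (g : T ⟶ Y)
    (a : ↥(pullback f g))
    (H : ∀ (n : ℕ) (x₀ : 𝔸(ULift.{u} (Fin n); X)),
      (𝔸(ULift.{u} (Fin n); X) ↘ X) x₀ = pullback.fst f g a →
      GenAt (AffineSpace.map (ULift.{u} (Fin n)) f) x₀) :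
    GenAt (pullback.snd f g) a := by
  -- charts
  obtain ⟨R, jY, hjY, hyR, -⟩ :=
    Scheme.exists_affine_mem_range_and_range_subset (U := (⊤ : Y.Opens))
      (x := f (pullback.fst f g a)) trivial
  obtain ⟨S, jX, hjX, hxS, hSR⟩ :=
    Scheme.exists_affine_mem_range_and_range_subset (U := f ⁻¹ᵁ jY.opensRange)
      (x := pullback.fst f g a) hyR
  have hfg : g (pullback.snd f g a) = f (pullback.fst f g a) := by
    rw [← Scheme.Hom.comp_apply, ← Scheme.Hom.comp_apply, pullback.condition]
  obtain ⟨B, jT, hjT, htB, hBR⟩ :=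
    Scheme.exists_affine_mem_range_and_range_subset (U := g ⁻¹ᵁ jY.opensRange)
      (x := pullback.snd f g a) (by
        change g (pullback.snd f g a) ∈ Set.range jY
        rw [hfg]; exact hyR)
  have h1 : Set.range (jX ≫ f) ⊆ Set.range jY := by
    rintro _ ⟨s, rfl⟩
    rw [Scheme.Hom.comp_apply]
    exact hSR ⟨s, rfl⟩
  have h2 : Set.range (jT ≫ g) ⊆ Set.range jY := by
    rintro _ ⟨s, rfl⟩
    rw [Scheme.Hom.comp_apply]
    exact hBR ⟨s, rfl⟩
  obtain ⟨φ, hφ⟩ := Spec.map_surjective (IsOpenImmersion.lift jY (jX ≫ f) h1)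
  obtain ⟨γ, hγ⟩ := Spec.map_surjective (IsOpenImmersion.lift jY (jT ≫ g) h2)
  have e1 : Spec.map φ ≫ jY = jX ≫ f := by rw [hφ, IsOpenImmersion.lift_fac]
  have e2 : Spec.map γ ≫ jY = jT ≫ g := by rw [hγ, IsOpenImmersion.lift_fac]
  let _ : Algebra R S := φ.hom.toAlgebra
  let _ : Algebra R B := γ.hom.toAlgebra
  let fst' : Spec (.of (TensorProduct R B S)) ⟶ Spec S :=
    Spec.map (CommRingCat.ofHom (Algebra.TensorProduct.includeRight (R := R) (A := B) (B := S)).toRingHom)
  let snd' : Spec (.of (TensorProduct R B S)) ⟶ Spec B :=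
    Spec.map (CommRingCat.ofHom (algebraMap B (TensorProduct R B S)))
  have hpb : IsPullback fst' snd' (Spec.map φ) (Spec.map γ) :=
    (isPullback_SpecMap_of_isPushout _ _ _ _ (CommRingCat.isPushout_tensorProduct R B S)).flip
  let k : Spec (.of (TensorProduct R B S)) ⟶ pullback f g :=
    hpb.isoPullback.hom ≫ pullback.map (Spec.map φ) (Spec.map γ) f g jX jT jY e1 e2
  have hk1 : k ≫ pullback.fst f g = fst' ≫ jX :=
    (Category.assoc _ _ _).trans ((congrArg (hpb.isoPullback.hom ≫ ·)
      (pullback.lift_fst _ _ _)).trans ((Category.assoc _ _ _).symm.trans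
        (congrArg (· ≫ jX) hpb.isoPullback_hom_fst)))
  have hk2 : k ≫ pullback.snd f g = snd' ≫ jT :=
    (Category.assoc _ _ _).trans ((congrArg (hpb.isoPullback.hom ≫ ·)
      (pullback.lift_snd _ _ _)).trans ((Category.assoc _ _ _).symm.trans
        (congrArg (· ≫ jT) hpb.isoPullback_hom_snd)))
  obtain ⟨b, rfl⟩ : a ∈ Set.range k := by
    have : a ∈ Set.range (pullback.map (Spec.map φ) (Spec.map γ) f g jX jT jY e1 e2) := by
      rw [Scheme.Pullback.range_map]
      exact ⟨hxS, htB⟩
    obtain ⟨c, hc⟩ := this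
    refine ⟨hpb.isoPullback.inv c, ?_⟩
    rw [← Scheme.Hom.comp_apply, Iso.inv_hom_id_assoc, hc]
  rw [genAt_iff_of_isOpenImmersion k jT hk2]
  refine genAt_tensorProduct b (fun n x₀ hx₀ => ?_)
  have e3 : AffineSpace.map (ULift.{u} (Fin n)) jX ≫ AffineSpace.map (ULift.{u} (Fin n)) f =
      AffineSpace.map (ULift.{u} (Fin n)) (Spec.map φ) ≫ AffineSpace.map (ULift.{u} (Fin n)) jY := by
    rw [← AffineSpace.map_comp, ← AffineSpace.map_comp, e1]
  rw [← show Spec.map φ = Spec.map (CommRingCat.ofHom (algebraMap R S)) from rfl,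
    ← genAt_iff_of_isOpenImmersion (AffineSpace.map (ULift.{u} (Fin n)) jX)
      (AffineSpace.map (ULift.{u} (Fin n)) jY) e3]
  refine H n _ ?_
  have hx₀' : (𝔸(ULift.{u} (Fin n); Spec S) ↘ Spec S) x₀ = fst' b := hx₀
  rw [← Scheme.Hom.comp_apply, AffineSpace.map_over, Scheme.Hom.comp_apply, hx₀',
    ← Scheme.Hom.comp_apply, ← Scheme.Hom.comp_apply, hk1]

/-- A morphism locally of finite presentation is universally open at `x` iff all its base changes to
affine spaces over the target are generizing at all points above `x`. -/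
theorem isUnivOpenAt_iff_affineSpace {X Y : Scheme.{u}} (f : X ⟶ Y)
    [LocallyOfFinitePresentation f] (x : X) :
    EGA43.IsUnivOpenAt f x ↔ ∀ (n : ℕ) (x₀ : 𝔸(ULift.{u} (Fin n); X)),
      (𝔸(ULift.{u} (Fin n); X) ↘ X) x₀ = x →
      GenAt (AffineSpace.map (ULift.{u} (Fin n)) f) x₀ := by
  constructor
  · intro H n x₀ hx₀
    have sq : IsPullback (𝔸(ULift.{u} (Fin n); X) ↘ X) (AffineSpace.map (ULift.{u} (Fin n)) f) f
      (𝔸(ULift.{u} (Fin n); Y) ↘ Y) := (AffineSpace.isPullback_map f).flip
    have h1 := H _ (𝔸(ULift.{u} (Fin n); Y) ↘ Y) (sq.isoPullback.hom x₀) (by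
      rw [← hx₀]
      rw [← Scheme.Hom.comp_apply, IsPullback.isoPullback_hom_fst])
    have h2 := genAt_of_isOpenAt _ _ h1
    rwa [genAt_iff_of_isOpenImmersion sq.isoPullback.hom (𝟙 _) (h' := AffineSpace.map (ULift.{u} (Fin n)) f)
      (by simp)] at h2
  · intro H T g a ha
    rw [isOpenAt_iff_genAt]
    exact genAt_pullback_of_affineSpace f g a (fun n x₀ hx₀ => H n x₀ (hx₀.trans ha))

end Groth.Agent.Ega43.OpenAtFT
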