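import Groth.Agent.Ega43.UnibranchOpen
import Groth.Agent.Ega43.FibreDimAlg
import Mathlib.RingTheory.Ideal.KrullsHeightTheorem
import Mathlib.RingTheory.Ideal.GoingDown

/-!
# Going down over a Noetherian geometrically unibranch ring implies universal openness

The algebraic core of EGA IV 14.4.3.

* `exists_away_le`: shrink around a minimal prime of a fibre.
* `exists_quasiFinite_mvPolynomial_of_forall_le`: Noether normalization of an irreducible fibre,
  spread out.
* `exists_universallyOpen_of_hasGoingDown`.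
-/

set_option autoImplicit false
open TensorProduct CategoryTheory AlgebraicGeometry
universe u v

namespace Groth.Agent.Ega43.OpenCore

/-- Lift a finite injective map `κ(p)[x] → κ(p) ⊗ B` to a map `A[x] → B` up to scaling the
variables. -/
theorem exists_lift_finite_injective {A : Type u} {B : Type v} [CommRing A] [CommRing B]
    [Algebra A B] (p : Ideal A) [p.IsPrime] {d : ℕ}
    (g : MvPolynomial (Fin d) p.ResidueField →ₐ[p.ResidueField] p.Fiber B) (hg : g.Finite)
    (hi : Function.Injective g) :
    ∃ b : Fin d → B, (MvPolynomial.aeval (fun i => 1 ⊗ₜ[A] b i) :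
      MvPolynomial (Fin d) p.ResidueField →ₐ[p.ResidueField] p.Fiber B).Finite ∧
      Function.Injective (MvPolynomial.aeval (fun i => 1 ⊗ₜ[A] b i) :
      MvPolynomial (Fin d) p.ResidueField →ₐ[p.ResidueField] p.Fiber B) := by
  choose r hr b hb using fun i => Ideal.Fiber.exists_smul_eq_one_tmul p (g (MvPolynomial.X i))
  have hr' : ∀ i, algebraMap A p.ResidueField (r i) ≠ 0 := fun i h =>
    hr i (Ideal.algebraMap_residueField_eq_zero.mp h)
  let τ : MvPolynomial (Fin d) p.ResidueField →ₐ[p.ResidueField]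
      MvPolynomial (Fin d) p.ResidueField :=
    MvPolynomial.aeval fun i => algebraMap A p.ResidueField (r i) • MvPolynomial.X i
  let τ' : MvPolynomial (Fin d) p.ResidueField →ₐ[p.ResidueField]
      MvPolynomial (Fin d) p.ResidueField :=
    MvPolynomial.aeval fun i => (algebraMap A p.ResidueField (r i))⁻¹ • MvPolynomial.X i
  have h1 : τ.comp τ' = AlgHom.id _ _ := by
    ext i : 1
    simp [τ, τ', -algebraMap_smul, smul_smul, inv_mul_cancel₀ (hr' i)]
  have h1' : τ'.comp τ = AlgHom.id _ _ := by
    ext i : 1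
    simp [τ, τ', -algebraMap_smul, smul_smul, mul_inv_cancel₀ (hr' i)]
  have h2 : Function.Surjective τ := fun x => ⟨τ' x, DFunLike.congr_fun h1 x⟩
  have h2' : Function.Injective τ :=
    Function.LeftInverse.injective (g := τ') fun x => DFunLike.congr_fun h1' x
  refine ⟨b, ?_⟩
  have h3 : (MvPolynomial.aeval (fun i => 1 ⊗ₜ[A] b i) :
      MvPolynomial (Fin d) p.ResidueField →ₐ[p.ResidueField] p.Fiber B) = g.comp τ := by
    ext i : 1
    simp only [MvPolynomial.aeval_X, AlgHom.comp_apply, τ, map_smul]
    rw [← hb i, algebraMap_smul]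
  rw [h3]
  exact ⟨hg.comp (RingHom.Finite.of_surjective _ h2), hi.comp h2'⟩

lemma comap_includeRight_under {A B : Type u} [CommRing A] [CommRing B] [Algebra A B]
    (p : Ideal A) [hp : p.IsPrime] (J : Ideal (p.Fiber B)) [hJ : J.IsPrime] :
    (J.comap (Algebra.TensorProduct.includeRight : B →ₐ[A] p.Fiber B).toRingHom).under A = p :=
  congrArg PrimeSpectrum.asIdeal
    ((PrimeSpectrum.preimageEquivFiber A B ⟨p, hp⟩).symm ⟨J, hJ⟩).2

lemma exists_comap_includeRight {A B : Type u} [CommRing A] [CommRing B] [Algebra A B]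
    (p : Ideal A) [hp : p.IsPrime] (J : Ideal B) (hJ : J.IsPrime) (h : J.under A = p) :
    ∃ J' : Ideal (p.Fiber B), J'.IsPrime ∧
      J'.comap (Algebra.TensorProduct.includeRight : B →ₐ[A] p.Fiber B).toRingHom = J := by
  let e := PrimeSpectrum.preimageEquivFiber A B ⟨p, hp⟩
  let z : PrimeSpectrum.comap (algebraMap A B) ⁻¹' {⟨p, hp⟩} := ⟨⟨J, hJ⟩, PrimeSpectrum.ext h⟩
  exact ⟨(e z).asIdeal, (e z).isPrime, congrArg (fun z => z.1.asIdeal) (e.symm_apply_apply z)⟩

attribute [local instance] MvPolynomial.algebraMvPolynomial in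
/-- Let `A → B` be of finite type, `q` a prime of `B` over `p` contained in every prime over `p`.
Then there are `A[x₁,…,x_d] → B` and `g ∉ q` such that `A[x₁,…,x_d] → B_g` is quasi-finite
and the contraction of `q` is `p[x₁,…,x_d]`. -/
theorem exists_quasiFinite_mvPolynomial_of_forall_le {A B : Type u} [CommRing A] [CommRing B]
    [Algebra A B] [Algebra.FiniteType A B] (q : Ideal B) [q.IsPrime]
    (hq : ∀ q' : Ideal B, q'.IsPrime → q'.under A = q.under A → q ≤ q') :
    ∃ (d : ℕ) (φ : MvPolynomial (Fin d) A →ₐ[A] B) (g : B), g ∉ q ∧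
      ((algebraMap B (Localization.Away g)).comp φ.toRingHom).QuasiFinite ∧
      q.comap φ.toRingHom = (q.under A).map MvPolynomial.C := by
  let P : PrimeSpectrum A := ⟨q.under A, inferInstance⟩
  let q' : PrimeSpectrum B := ⟨q, inferInstance⟩
  let Q := PrimeSpectrum.preimageEquivFiber A B P ⟨q', rfl⟩
  have hnt : Nontrivial ((q.under A).Fiber B) :=
    (PrimeSpectrum.nonempty_iff_nontrivial (R := (q.under A).Fiber B)).mp ⟨Q⟩
  obtain ⟨d, g, hinj, hfin⟩ := exists_finite_inj_algHom_of_fg (q.under A).ResidueField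
    ((q.under A).Fiber B)
  obtain ⟨b, hb, hbi⟩ := exists_lift_finite_injective (q.under A) g hfin hinj
  let φ : MvPolynomial (Fin d) A →ₐ[A] B := MvPolynomial.aeval b
  letI : Algebra (MvPolynomial (Fin d) A) B := φ.toRingHom.toAlgebra
  haveI : IsScalarTower A (MvPolynomial (Fin d) A) B := .of_algebraMap_eq' φ.comp_algebraMap.symm
  haveI : Algebra.FiniteType (MvPolynomial (Fin d) A) B :=
    .of_restrictScalars_finiteType A _ _
  have h2 : (Algebra.TensorProduct.includeRight : B →ₐ[A] (q.under A).Fiber B).toRingHom.comp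
    (algebraMap (MvPolynomial (Fin d) A) B) = ((MvPolynomial.aeval (fun i => 1 ⊗ₜ[A] b i) :
    MvPolynomial (Fin d) (q.under A).ResidueField →ₐ[(q.under A).ResidueField]
      (q.under A).Fiber B).toRingHom).comp
      (algebraMap (MvPolynomial (Fin d) A) (MvPolynomial (Fin d) (q.under A).ResidueField)) := by
    refine MvPolynomial.ringHom_ext (fun r => ?_) (fun i => ?_)
    · have e1 : φ.toRingHom (MvPolynomial.C r) = algebraMap A B r := by
        simp [φ]
      have e2 : (algebraMap (MvPolynomial (Fin d) A)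
          (MvPolynomial (Fin d) (q.under A).ResidueField)) (MvPolynomial.C r) =
          MvPolynomial.C (algebraMap A _ r) :=
        MvPolynomial.map_C (algebraMap A (q.under A).ResidueField) r
      rw [RingHom.comp_apply, RingHom.comp_apply, e2]
      change Algebra.TensorProduct.includeRight (φ.toRingHom (MvPolynomial.C r)) = _
      rw [e1, AlgHom.commutes]
      simp only [AlgHom.toRingHom_eq_coe, RingHom.coe_coe, MvPolynomial.aeval_C]
      exact IsScalarTower.algebraMap_apply A (q.under A).ResidueField _ r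
    · have e2 : (algebraMap (MvPolynomial (Fin d) A)
          (MvPolynomial (Fin d) (q.under A).ResidueField)) (MvPolynomial.X i) =
          MvPolynomial.X i :=
        MvPolynomial.map_X (algebraMap A (q.under A).ResidueField) i
      rw [RingHom.comp_apply, RingHom.comp_apply, e2]
      change Algebra.TensorProduct.includeRight (φ (MvPolynomial.X i)) = _
      simp [φ]
  have h1 : ((Algebra.TensorProduct.includeRight : B →ₐ[A] (q.under A).Fiber B).toRingHom.comp
      (algebraMap (MvPolynomial (Fin d) A) B)).QuasiFinite := by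
    rw [h2]
    refine RingHom.QuasiFinite.comp ?_ ?_
    · exact RingHom.QuasiFinite.of_finite hb
    · exact RingHom.quasiFinite_algebraMap.mpr
        (FibreDimAlg.quasiFinite_mvPolynomial_residueField _ d)
  haveI : (q.under (MvPolynomial (Fin d) A)).LiesOver (q.under A) := inferInstance
  have h3 : Algebra.QuasiFiniteAt (MvPolynomial (Fin d) A) q :=
    FibreDimAlg.quasiFiniteAt_of_finite_fiber q
      (FibreDimAlg.finite_fiber_of_quasiFinite_fiber (q.under A) h1
        (q.under (MvPolynomial (Fin d) A)))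
  obtain ⟨g, hg, hg'⟩ := FibreDimAlg.exists_quasiFinite_away_of_quasiFiniteAt
    (R := MvPolynomial (Fin d) A) q
  refine ⟨d, φ, g, hg, ?_, le_antisymm ?_ ?_⟩
  · have h4 : (algebraMap B (Localization.Away g)).comp φ.toRingHom =
      algebraMap (MvPolynomial (Fin d) A) (Localization.Away g) :=
      (IsScalarTower.algebraMap_eq (MvPolynomial (Fin d) A) B (Localization.Away g)).symm
    rw [h4]
    exact RingHom.quasiFinite_algebraMap.mpr hg'
  · intro f hf
    rw [Ideal.mem_comap] at hf
    -- the image of `f` in the fibre ring is nilpotent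
    have h5 : IsNilpotent ((Algebra.TensorProduct.includeRight :
        B →ₐ[A] (q.under A).Fiber B) (φ.toRingHom f)) := by
      rw [← mem_nilradical, nilradical_eq_sInf, Ideal.mem_sInf]
      intro J (hJ : J.IsPrime)
      exact hq _ (Ideal.IsPrime.comap _) (comap_includeRight_under (q.under A) J) hf
    have h7 : (Algebra.TensorProduct.includeRight :
        B →ₐ[A] (q.under A).Fiber B) (φ.toRingHom f) = (MvPolynomial.aeval (fun i => 1 ⊗ₜ[A] b i) :
        MvPolynomial (Fin d) (q.under A).ResidueField →ₐ[(q.under A).ResidueField]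
          (q.under A).Fiber B) (MvPolynomial.map (algebraMap A (q.under A).ResidueField) f) :=
      RingHom.congr_fun h2 f
    rw [h7] at h5
    have h8 : MvPolynomial.map (algebraMap A (q.under A).ResidueField) f = 0 := by
      obtain ⟨n, hn⟩ := h5
      rw [← map_pow] at hn
      have h9 := hbi (hn.trans (map_zero _).symm)
      exact IsNilpotent.eq_zero ⟨n, h9⟩
    rw [MvPolynomial.mem_map_C_iff]
    intro m
    rw [← Ideal.algebraMap_residueField_eq_zero, ← MvPolynomial.coeff_map, h8,
      MvPolynomial.coeff_zero]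
  · rw [Ideal.map_le_iff_le_comap]
    intro a ha
    rw [Ideal.mem_comap, Ideal.mem_comap]
    have e1 : φ.toRingHom (MvPolynomial.C a) = algebraMap A B a := by
      simp [φ]
    rw [e1]
    exact ha

/-- In a Noetherian ring, a minimal prime can be separated from the others by one element. -/
lemma exists_notMem_of_minimal {F : Type*} [CommRing F] [IsNoetherianRing F] (q : Ideal F)
    [hq₁ : q.IsPrime] (hmin : ∀ J : Ideal F, J.IsPrime → J ≤ q → J = q) :
    ∃ h : F, h ∉ q ∧ ∀ J : Ideal F, J.IsPrime → h ∉ J → q ≤ J := by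
  classical
  have hfin : (minimalPrimes F).Finite := minimalPrimes.finite_of_isNoetherianRing F
  have h0 : ∀ J ∈ minimalPrimes F, J ≠ q → ∃ h : F, h ∈ J ∧ h ∉ q := by
    intro J hJ hne
    by_contra hcon
    push Not at hcon
    exact hne (hmin J hJ.1.1 hcon)
  choose! h hhJ hhq using h0
  refine ⟨∏ J ∈ hfin.toFinset.erase q, h J, ?_, ?_⟩
  · rw [hq₁.prod_mem_iff]
    rintro ⟨J, hJ, hJ'⟩
    rw [Finset.mem_erase, Set.Finite.mem_toFinset] at hJ
    exact hhq J hJ.2 hJ.1 hJ'
  · intro J hJ hJh
    obtain ⟨M, hM, hMJ⟩ := Ideal.exists_minimalPrimes_le (J := J) (I := ⊥) bot_le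
    have hMq : M = q := by
      by_contra hne
      exact hJh (hMJ (Ideal.mem_of_dvd _ (Finset.dvd_prod_of_mem h
        (Finset.mem_erase.mpr ⟨hne, hfin.mem_toFinset.mpr hM⟩)) (hhJ M hM hne)))
    exact hMq ▸ hMJ

/-- Shrink around a minimal prime of a fibre so that it becomes contained in all primes of the
fibre. -/
theorem exists_away_le {A B : Type u} [CommRing A] [CommRing B]
    [Algebra A B] [Algebra.FiniteType A B] (q : Ideal B) [q.IsPrime]
    (hq : ∀ q' : Ideal B, q'.IsPrime → q' ≤ q → q'.under A = q.under A → q' = q) :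
    ∃ g : B, g ∉ q ∧ ∀ q' : Ideal B, q'.IsPrime → q'.under A = q.under A → g ∉ q' → q ≤ q' := by
  haveI : IsNoetherianRing ((q.under A).Fiber B) :=
    Algebra.FiniteType.isNoetherianRing (q.under A).ResidueField _
  obtain ⟨q₁, hq₁, hqq₁⟩ := exists_comap_includeRight (q.under A) q inferInstance rfl
  have hmin : ∀ J' : Ideal ((q.under A).Fiber B), J'.IsPrime → J' ≤ q₁ → J' = q₁ := by
    intro J' hJ' hle
    have h1 := hq _ (Ideal.IsPrime.comap _) ((Ideal.comap_mono hle).trans hqq₁.le)
      (comap_includeRight_under (q.under A) J')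
    have h2 : (⟨J', hJ'⟩ : PrimeSpectrum ((q.under A).Fiber B)) = ⟨q₁, hq₁⟩ :=
      FibreDimAlg.comap_includeRight_injective (q.under A)
        (PrimeSpectrum.ext (h1.trans hqq₁.symm))
    exact congrArg PrimeSpectrum.asIdeal h2
  obtain ⟨h, hhq, hhJ⟩ := exists_notMem_of_minimal q₁ hmin
  obtain ⟨r, hr, b, hb⟩ := Ideal.Fiber.exists_smul_eq_one_tmul (q.under A) h
  have hru : IsUnit (algebraMap A ((q.under A).Fiber B) r) := by
    have : IsUnit (algebraMap A (q.under A).ResidueField r) :=
      (IsUnit.mk0 _ fun h => hr (Ideal.algebraMap_residueField_eq_zero.mp h))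
    rw [IsScalarTower.algebraMap_apply A (q.under A).ResidueField ((q.under A).Fiber B)]
    exact this.map _
  have hb' : algebraMap A ((q.under A).Fiber B) r * h =
      (Algebra.TensorProduct.includeRight : B →ₐ[A] (q.under A).Fiber B).toRingHom b := by
    rw [← Algebra.smul_def]; exact hb
  refine ⟨b, ?_, ?_⟩
  · intro hbq
    rw [← hqq₁, Ideal.mem_comap, ← hb'] at hbq
    exact hhq ((Ideal.unit_mul_mem_iff_mem _ hru).mp hbq)
  · intro J hJ hJA hbJ
    obtain ⟨J', hJ', rfl⟩ := exists_comap_includeRight (q.under A) J hJ hJA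
    have h3 : h ∉ J' := by
      intro hh
      apply hbJ
      rw [Ideal.mem_comap, ← hb']
      exact Ideal.mul_mem_left _ _ hh
    exact hqq₁.ge.trans (Ideal.comap_mono (hhJ J' hJ' h3))

/-- Extensions of primes to polynomial rings are prime. -/
lemma isPrime_map_C {A : Type u} [CommRing A] {σ : Type v} (p : Ideal A) [p.IsPrime] :
    (p.map (MvPolynomial.C (σ := σ))).IsPrime := by
  have h := MvPolynomial.ker_map (σ := σ) (Ideal.Quotient.mk p)
  rw [Ideal.mk_ker] at h
  rw [← h]
  exact RingHom.ker_isPrime _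

/-- The height of `p[x₁,…,x_d]` is at most the height of `p`. -/
lemma height_map_C_le {A : Type u} [CommRing A] [IsNoetherianRing A] (d : ℕ) (p : Ideal A)
    [p.IsPrime] : (p.map (MvPolynomial.C (σ := Fin d))).height ≤ p.height := by
  haveI := isPrime_map_C (σ := Fin d) p
  haveI : (p.map (MvPolynomial.C (σ := Fin d))).LiesOver p := by
    refine ⟨le_antisymm Ideal.le_comap_map ?_⟩
    intro a ha
    have h1 : MvPolynomial.C a ∈ p.map (MvPolynomial.C (σ := Fin d)) := ha
    rw [MvPolynomial.mem_map_C_iff] at h1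
    simpa using h1 0
  have h2 := Ideal.height_le_height_add_of_liesOver p (p.map (MvPolynomial.C (σ := Fin d)))
  rw [MvPolynomial.algebraMap_eq, Ideal.map_quotient_self] at h2
  haveI : IsDomain (MvPolynomial (Fin d) A ⧸ p.map (MvPolynomial.C (σ := Fin d))) :=
    Ideal.Quotient.isDomain _
  rwa [Ideal.height_bot, add_zero] at h2

/-- Lift a chain along an order embedding. -/
lemma exists_lift_ltSeries {α β : Type*} [Preorder α] [Preorder β] (f : α → β)
    (hf : ∀ x y, f x ≤ f y ↔ x ≤ y) (L : LTSeries β)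
    (hL : ∀ y, L.head ≤ y → y ≤ L.last → y ∈ Set.range f) :
    ∃ L' : LTSeries α, L'.length = L.length ∧ f L'.last = L.last := by
  choose e he using fun j : Fin (L.length + 1) =>
    hL (L j) (LTSeries.head_le L j) (L.monotone (Fin.le_last j))
  refine ⟨⟨L.length, e, fun i => ?_⟩, rfl, ?_⟩
  · have h1 : L i.castSucc < L i.succ := L.step i
    rw [← he i.castSucc, ← he i.succ, lt_iff_le_not_ge, hf, hf, ← lt_iff_le_not_ge] at h1
    exact h1
  · exact he _

lemma comap_le_comap_iff {R S : Type*} [CommRing R] [CommRing S] {f : R →+* S}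
    (hf : Topology.IsEmbedding (PrimeSpectrum.comap f)) (x y : PrimeSpectrum S) :
    PrimeSpectrum.comap f x ≤ PrimeSpectrum.comap f y ↔ x ≤ y := by
  rw [PrimeSpectrum.le_iff_specializes, PrimeSpectrum.le_iff_specializes,
    hf.toIsInducing.specializes_iff]

lemma isEmbedding_comap_comp {R S T : Type*} [CommRing R] [CommRing S] [CommRing T] {f : R →+* S}
    {g : S →+* T} (hf : Topology.IsEmbedding (PrimeSpectrum.comap f))
    (hg : Topology.IsEmbedding (PrimeSpectrum.comap g)) :
    Topology.IsEmbedding (PrimeSpectrum.comap (g.comp f)) := by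
  have : PrimeSpectrum.comap (g.comp f) = PrimeSpectrum.comap f ∘ PrimeSpectrum.comap g := by
    ext1 x
    exact PrimeSpectrum.comap_comp_apply f g x
  rw [this]
  exact hf.comp hg

/-- The height count: a quasi-finite `A[x₁,…,x_d] → E` such that there is a chain of primes of `E`
of length `ht p` ending in a prime with contraction `p[x₁,…,x_d]` has nilpotent kernel. -/
theorem ker_le_nilradical_of_ltSeries {A E : Type u} [CommRing A] [CommRing E] [IsNoetherianRing A]
    (hA : (nilradical A).IsPrime) (d : ℕ) [Algebra (MvPolynomial (Fin d) A) E]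
    [Algebra.QuasiFinite (MvPolynomial (Fin d) A) E] (p : Ideal A) [p.IsPrime]
    (L : LTSeries (PrimeSpectrum E)) (hlast : L.last.asIdeal.under (MvPolynomial (Fin d) A) =
      p.map MvPolynomial.C) (hlen : p.height ≤ L.length) :
    RingHom.ker (algebraMap (MvPolynomial (Fin d) A) E) ≤ nilradical _ := by
  by_contra hcon
  have hmono : StrictMono (PrimeSpectrum.comap (algebraMap (MvPolynomial (Fin d) A) E)) := by
    intro P Q hPQ
    refine lt_of_le_of_ne (Ideal.comap_mono hPQ.le) fun h => hPQ.ne ?_
    exact PrimeSpectrum.ext (Algebra.QuasiFinite.eq_of_le_of_under_eq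
      (R := MvPolynomial (Fin d) A) _ _ hPQ.le (congrArg PrimeSpectrum.asIdeal h))
  let L' := L.map _ hmono
  haveI hN := isPrime_map_C (σ := Fin d) (nilradical A)
  have hNle : (nilradical A).map (MvPolynomial.C (σ := Fin d)) ≤
      nilradical (MvPolynomial (Fin d) A) := by
    rw [Ideal.map_le_iff_le_comap]
    intro a ha
    rw [Ideal.mem_comap, mem_nilradical]
    exact (mem_nilradical.mp ha).map _
  have hlt : (⟨(nilradical A).map (MvPolynomial.C (σ := Fin d)), hN⟩ :
      PrimeSpectrum (MvPolynomial (Fin d) A)) < L'.head := by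
    have h1 : RingHom.ker (algebraMap (MvPolynomial (Fin d) A) E) ≤ L'.head.asIdeal := by
      intro f hf
      change algebraMap (MvPolynomial (Fin d) A) E f ∈ L.head.asIdeal
      rw [RingHom.mem_ker.mp hf]
      exact zero_mem _
    refine lt_of_le_of_ne ?_ ?_
    · change _ ≤ L'.head.asIdeal
      exact hNle.trans (nilradical_le_prime _)
    · intro h2
      apply hcon
      refine h1.trans ?_
      rw [← h2]
      exact hNle
  let L'' := L'.cons _ hlt
  have h3 : (L''.length : ℕ∞) ≤ Order.height L''.last := Order.length_le_height_last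
  have h4 : L''.last.asIdeal = p.map MvPolynomial.C := by
    rw [← hlast]
    change (RelSeries.last (RelSeries.cons L' _ hlt)).asIdeal = _
    rw [RelSeries.last_cons]
    rfl
  rw [← PrimeSpectrum.height_eq_orderHeight, h4] at h3
  have h5 : L''.length = L.length + 1 := by
    change 0 + L.length + 1 = _
    omega
  have h6 := (h3.trans (height_map_C_le d p)).trans hlen
  rw [h5] at h6
  have h7 : L.length + 1 ≤ L.length := by exact_mod_cast h6
  omega

/-- **The algebraic core of EGA IV 14.4.3.** -/
theorem exists_universallyOpen_of_hasGoingDown {A C : Type u} [CommRing A] [CommRing C]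
    [Algebra A C] [IsNoetherianRing A] [Algebra.FiniteType A C] [Algebra.HasGoingDown A C]
    (hA : (nilradical A).IsPrime) (hAu : Unibranch.AllGeomUnibranch A) (q : Ideal C) [hqp : q.IsPrime]
    (hq : ∀ q' : Ideal C, q'.IsPrime → q' ≤ q → q'.under A = q.under A → q' = q) :
    ∃ (S : Type u) (_ : CommRing S) (φ : C →+* S) (q' : Ideal S), q'.IsPrime ∧ q'.comap φ = q ∧
      UniversallyOpen (Spec.map (CommRingCat.ofHom (φ.comp (algebraMap A C)))) := by
  -- the chain in `C`
  obtain ⟨l, hl, hlen⟩ := Ideal.exists_ltSeries_length_eq_height (q.under A)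
  haveI : q.LiesOver l.last.asIdeal := by
    rw [hl]; exact ⟨rfl⟩
  obtain ⟨L, hLlen, hLlast, -⟩ := Ideal.exists_ltSeries_of_hasGoingDown l q
  let q₀ : Ideal C := L.head.asIdeal
  haveI hq₀ : q₀.IsPrime := L.head.isPrime
  have hq₀q : q₀ ≤ q := by
    have : L.head ≤ L.last := LTSeries.head_le_last L
    rw [hLlast] at this
    exact this
  -- the domain `D = C / q₀`
  let D := C ⧸ q₀
  haveI : IsDomain D := Ideal.Quotient.isDomain _
  haveI : Algebra.FiniteType A D := .of_surjective (Ideal.Quotient.mkₐ A q₀)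
    (Ideal.Quotient.mkₐ_surjective A q₀)
  let π : C →+* D := Ideal.Quotient.mk q₀
  have hπ : Topology.IsEmbedding (PrimeSpectrum.comap π) :=
    PrimeSpectrum.isEmbedding_comap_of_surjective _ _ Ideal.Quotient.mk_surjective
  have hπr : ∀ z : PrimeSpectrum C, q₀ ≤ z.asIdeal → z ∈ Set.range (PrimeSpectrum.comap π) := by
    intro z hz
    rw [range_comap_of_surjective _ _ Ideal.Quotient.mk_surjective, Ideal.mk_ker]
    exact hz
  obtain ⟨qD, hqD⟩ := hπr ⟨q, hqp⟩ hq₀q
  have hunderD : ∀ J : Ideal D, (J.comap π).under A = J.under A := fun J => rfl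
  have hqD' : qD.asIdeal.comap π = q := congrArg PrimeSpectrum.asIdeal hqD
  have hqDA : qD.asIdeal.under A = q.under A := by rw [← hunderD, hqD']
  have hDmin : ∀ J : Ideal D, J.IsPrime → J ≤ qD.asIdeal → J.under A = qD.asIdeal.under A →
      J = qD.asIdeal := by
    intro J hJ hle hJA
    have h1 : J.comap π = q := hq _ (Ideal.IsPrime.comap _) (hqD' ▸ Ideal.comap_mono hle)
      (by rw [hunderD, hJA, hqDA])
    have h2 : (⟨J, hJ⟩ : PrimeSpectrum D) = qD :=
      hπ.injective (PrimeSpectrum.ext (h1.trans hqD'.symm))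
    exact congrArg PrimeSpectrum.asIdeal h2
  obtain ⟨g₀, hg₀, hg₀'⟩ := exists_away_le qD.asIdeal hDmin
  -- the localization `B = D_{g₀}`
  let B := Localization.Away g₀
  have hB : Topology.IsEmbedding (PrimeSpectrum.comap (algebraMap D B)) :=
    PrimeSpectrum.localization_comap_isEmbedding B (Submonoid.powers g₀)
  have hBr : ∀ z : PrimeSpectrum D, g₀ ∉ z.asIdeal →
      z ∈ Set.range (PrimeSpectrum.comap (algebraMap D B)) := by
    intro z hz
    rw [PrimeSpectrum.localization_away_comap_range B g₀]
    exact hz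
  obtain ⟨qB, hqB⟩ := hBr qD hg₀
  haveI : Algebra.FiniteType D B := inferInstance
  haveI : Algebra.FiniteType A B := .trans (inferInstanceAs (Algebra.FiniteType A D)) this
  have hunderB : ∀ J : Ideal B, (J.comap (algebraMap D B)).under A = J.under A := fun J =>
    Ideal.under_under J
  have hqB' : qB.asIdeal.comap (algebraMap D B) = qD.asIdeal := congrArg PrimeSpectrum.asIdeal hqB
  have hqBA : qB.asIdeal.under A = q.under A := by rw [← hunderB, hqB', hqDA]
  have hBle : ∀ J : Ideal B, J.IsPrime → J.under A = qB.asIdeal.under A → qB.asIdeal ≤ J := by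
    intro J hJ hJA
    have h1 : qD.asIdeal ≤ J.comap (algebraMap D B) := by
      refine hg₀' _ (Ideal.IsPrime.comap _) (by rw [hunderB, hJA, hqBA, hqDA]) ?_
      intro h2
      rw [Ideal.mem_comap] at h2
      exact hJ.ne_top (Ideal.eq_top_of_isUnit_mem _ h2
        (IsLocalization.Away.algebraMap_isUnit g₀))
    rw [← hqB'] at h1
    exact (comap_le_comap_iff hB qB ⟨J, hJ⟩).mp h1
  obtain ⟨d, φ, g₁, hg₁, hqf, hcom⟩ := exists_quasiFinite_mvPolynomial_of_forall_le qB.asIdeal hBle
  -- the localization `E = B_{g₁}`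
  let E := Localization.Away g₁
  have hE : Topology.IsEmbedding (PrimeSpectrum.comap (algebraMap B E)) :=
    PrimeSpectrum.localization_comap_isEmbedding E (Submonoid.powers g₁)
  have hEr : ∀ z : PrimeSpectrum B, g₁ ∉ z.asIdeal →
      z ∈ Set.range (PrimeSpectrum.comap (algebraMap B E)) := by
    intro z hz
    rw [PrimeSpectrum.localization_away_comap_range E g₁]
    exact hz
  obtain ⟨qE, hqE⟩ := hEr qB hg₁
  haveI : Algebra.FiniteType B E := inferInstance
  haveI : Algebra.FiniteType A E := .trans (inferInstanceAs (Algebra.FiniteType A B)) this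
  letI : Algebra (MvPolynomial (Fin d) A) E :=
    ((algebraMap B E).comp φ.toRingHom).toAlgebra
  have hcomp : (algebraMap (MvPolynomial (Fin d) A) E).comp MvPolynomial.C =
      algebraMap A E := by
    change ((algebraMap B E).comp φ.toRingHom).comp MvPolynomial.C = _
    rw [RingHom.comp_assoc, IsScalarTower.algebraMap_eq A B E]
    congr 1
    exact φ.comp_algebraMap
  haveI : IsScalarTower A (MvPolynomial (Fin d) A) E :=
    .of_algebraMap_eq' hcomp.symm
  haveI : Algebra.QuasiFinite (MvPolynomial (Fin d) A) E := hqf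
  haveI : Algebra.FiniteType (MvPolynomial (Fin d) A) E :=
    .of_restrictScalars_finiteType A _ _
  -- domains
  haveI : IsDomain B := IsLocalization.isDomain_localization
    (powers_le_nonZeroDivisors_of_noZeroDivisors fun h => hg₀ (h ▸ zero_mem _))
  haveI : IsDomain E := IsLocalization.isDomain_localization
    (powers_le_nonZeroDivisors_of_noZeroDivisors fun h => hg₁ (h ▸ zero_mem _))
  haveI : IsDomain (CAlg2.red A) := Ideal.Quotient.isDomain _
  -- the map `C → E`
  let ψ : C →+* E := (algebraMap B E).comp ((algebraMap D B).comp π)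
  have hψ : Topology.IsEmbedding (PrimeSpectrum.comap ψ) :=
    isEmbedding_comap_comp (isEmbedding_comap_comp hπ hB) hE
  have hψr : ∀ z : PrimeSpectrum C, q₀ ≤ z.asIdeal → z.asIdeal ≤ q →
      z ∈ Set.range (PrimeSpectrum.comap ψ) := by
    intro z hz hzq
    obtain ⟨z₁, rfl⟩ := hπr z hz
    have h1 : z₁ ≤ qD := (comap_le_comap_iff hπ z₁ qD).mp (by rw [hqD]; exact hzq)
    obtain ⟨z₂, rfl⟩ := hBr z₁ fun h => hg₀ (h1 h)
    have h2 : z₂ ≤ qB := (comap_le_comap_iff hB z₂ qB).mp (by rw [hqB]; exact h1)
    obtain ⟨z₃, rfl⟩ := hEr z₂ fun h => hg₁ (h2 h)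
    exact ⟨z₃, rfl⟩
  have hψq : PrimeSpectrum.comap ψ qE = ⟨q, hqp⟩ := by
    change PrimeSpectrum.comap π (PrimeSpectrum.comap (algebraMap D B)
      (PrimeSpectrum.comap (algebraMap B E) qE)) = _
    rw [hqE, hqB, hqD]
  obtain ⟨L', hL'len, hL'last⟩ := exists_lift_ltSeries (PrimeSpectrum.comap ψ)
    (comap_le_comap_iff hψ) L (fun y hy1 hy2 => hψr y hy1 (by rw [hLlast] at hy2; exact hy2))
  have hL'last' : L'.last = qE := hψ.injective (by rw [hL'last, hLlast, hψq])
  have hlast : L'.last.asIdeal.under (MvPolynomial (Fin d) A) =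
      (q.under A).map MvPolynomial.C := by
    rw [hL'last', ← hqBA, ← hcom]
    have h1 : qE.asIdeal.comap (algebraMap B E) = qB.asIdeal := congrArg PrimeSpectrum.asIdeal hqE
    rw [← h1]
    rfl
  have hht : (q.under A).height ≤ L'.length := by
    rw [hL'len, hLlen, hlen]
  have hker := ker_le_nilradical_of_ltSeries hA d (q.under A) L' hlast hht
  haveI : IrreducibleSpace (PrimeSpectrum E) := inferInstance
  have hopen := UnibranchOpen.universallyOpen_comp_C hAu d hker
  refine ⟨E, inferInstance, ψ, qE.asIdeal, qE.isPrime, congrArg PrimeSpectrum.asIdeal hψq, ?_⟩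
  have hψA : ψ.comp (algebraMap A C) = algebraMap A E := by
    rw [IsScalarTower.algebraMap_eq A B E, IsScalarTower.algebraMap_eq A D B]
    rfl
  rw [hψA, ← hcomp]
  exact hopen

end Groth.Agent.Ega43.OpenCore
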