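import Groth.Agent.Ega43.UnivOpenAt
import Groth.Agent.Ega43.OpenAt
import Groth.Agent.Fdesc.QuasiCompactTop
import Groth.Agent.CycB.DimIneq
import Groth.Agent.VarietyA.LocDim
import Mathlib.RingTheory.Ideal.GoingDown
import Mathlib.AlgebraicGeometry.Morphisms.UniversallyOpen
import Mathlib.RingTheory.Ideal.KrullsHeightTheorem

/-!
# Generizing maps and dimension

* `generalizingMap_of_isOpenMap`: an open morphism of schemes lifts generizations;
* `isUnivOpenAt_of_specializes`: universal openness passes to specializations in the same fibre;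
* `exists_maximal_in_fibre`: every point is the specialization of a maximal point of its fibre;
* `exists_generic_lift`: for a generizing morphism, there is a maximal point `ξ ⤳ z` such that
  `dim O_{Y,f z} ≤ dim O_{X,z} / 𝔭_ξ`;
* `rtd_le_rtd`: then `trdeg κ(z)/κ(f z) ≤ trdeg κ(ξ)/κ(f ξ)` (over a locally Noetherian base).
-/

set_option autoImplicit false
open CategoryTheory AlgebraicGeometry Limits TopologicalSpace
universe u

namespace Groth.Agent.Ega43.OpenUniv

open EGA43 CycB.RelDim CycB

/-- An open morphism of schemes lifts generizations. -/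
theorem generalizingMap_of_isOpenMap {X Y : Scheme.{u}} (f : X ⟶ Y) (hf : IsOpenMap f) :
    GeneralizingMap f := by
  intro x y hy
  have hqc : QuasiCompact (f.fiberι y) :=
    inferInstanceAs (QuasiCompact (pullback.fst f (Y.fromSpecResidueField y)))
  have hx : x ∈ closure (Set.range (f.fiberι y)) := by
    rw [mem_closure_iff]
    intro W hW hxW
    obtain ⟨w, hw, hwy⟩ := hy.mem_open (hf W hW) ⟨x, hxW, rfl⟩
    refine ⟨w, hw, ?_⟩
    rw [Scheme.Hom.range_fiberι]
    exact hwy
  obtain ⟨z, hz⟩ := Fdesc.QuasiCompactTop.exists_specializes_of_mem_closure_range _ x hx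
  refine ⟨f.fiberι y z, hz, ?_⟩
  have : f.fiberι y z ∈ Set.range (f.fiberι y) := ⟨z, rfl⟩
  rw [Scheme.Hom.range_fiberι] at this
  exact this

/-- Universal openness passes to specializations in the same fibre. -/
theorem isUnivOpenAt_of_specializes {X Y : Scheme.{u}} (f : X ⟶ Y) {z x : X} (h : z ⤳ x)
    (hf : f z = f x) (hz : IsUnivOpenAt f z) : IsUnivOpenAt f x := by
  intro T t p hp
  have hb := isPullback_fiberToSpecResidueField_of_isPullback (IsPullback.of_hasPullback f t)
    (pullback.snd f t p)
  set s := pullback.snd f t p with hs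
  let b : (pullback.snd f t).fiber s ⟶ f.fiber (t s) :=
    pullback.map _ _ _ _ (pullback.fst f t) (Spec.map (t.residueFieldMap s)) t
      (IsPullback.of_hasPullback f t).w.symm (by simp)
  have hbι : b ≫ f.fiberι (t s) = (pullback.snd f t).fiberι s ≫ pullback.fst f t :=
    pullback.lift_fst _ _ _
  have hbo : Flat b := by
    have : Flat (Spec.map (t.residueFieldMap s)) := by
      rw [Flat.SpecMap_iff]
      let := (t.residueFieldMap s).hom.toAlgebra
      change Module.Flat (Y.residueField (t s)) (T.residueField s)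
      infer_instance
    exact MorphismProperty.of_isPullback (P := @Flat) hb.flip this
  have hp' : ((pullback.snd f t).fiberι s) ((pullback.snd f t).asFiber p) = p :=
    (pullback.snd f t).fiberι_asFiber p
  -- the point `z` in the fibre
  have hts : t s = f x := by
    rw [hs, ← Scheme.Hom.comp_apply, ← pullback.condition, Scheme.Hom.comp_apply]
    exact congrArg _ hp
  have hzr : z ∈ Set.range (f.fiberι (t s)) := by
    rw [Scheme.Hom.range_fiberι]
    change f z = t s
    rw [hf, hts]
  obtain ⟨z₀, hz₀⟩ := hzr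
  have hbp : f.fiberι (t s) (b ((pullback.snd f t).asFiber p)) = x := by
    rw [← Scheme.Hom.comp_apply, hbι, Scheme.Hom.comp_apply, hp']
    exact hp
  have hz₀' : z₀ ⤳ b ((pullback.snd f t).asFiber p) := by
    refine (f.fiberι (t s)).isEmbedding.isInducing.specializes_iff.mp ?_
    rw [hz₀, hbp]
    exact h
  obtain ⟨w, hw, hwz⟩ := Flat.generalizingMap b hz₀'
  have hwp : (pullback.snd f t).fiberι s w ⤳ p := by
    have := hw.map ((pullback.snd f t).fiberι s).continuous
    rwa [hp'] at this
  have hws : pullback.snd f t ((pullback.snd f t).fiberι s w) = s := by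
    have : (pullback.snd f t).fiberι s w ∈ Set.range ((pullback.snd f t).fiberι s) := ⟨w, rfl⟩
    rw [Scheme.Hom.range_fiberι] at this
    exact this
  have hwz' : pullback.fst f t ((pullback.snd f t).fiberι s w) = z := by
    rw [← Scheme.Hom.comp_apply, ← hbι, Scheme.Hom.comp_apply, hwz, hz₀]
  have hopen := UnivOpenAt.isOpenAt_of_isPullback hz (IsPullback.of_hasPullback f t) _ hwz'
  intro U hU
  obtain ⟨U', hU'U, hU'o, hpU'⟩ := mem_nhds_iff.mp hU
  have := hopen U' (hU'o.mem_nhds (hwp.mem_open hU'o hpU'))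
  rw [hws] at this
  exact Filter.mem_of_superset this (Set.image_mono hU'U)

/-- Every point is the specialization of a maximal point of its fibre. -/
theorem exists_maximal_in_fibre {X Y : Scheme.{u}} (f : X ⟶ Y) (x : X) :
    ∃ z : X, z ⤳ x ∧ f z = f x ∧ ∀ z' : X, z' ⤳ z → f z' = f z → z' = z := by
  have hx : f.fiberι (f x) (f.asFiber x) = x := f.fiberι_asFiber x
  let T : Set (f.fiber (f x)) := irreducibleComponent (f.asFiber x)
  have hT : T ∈ irreducibleComponents (f.fiber (f x)) :=
    irreducibleComponent_mem_irreducibleComponents _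
  have hTi : IsIrreducible T := isIrreducible_irreducibleComponent
  have hTc : IsClosed T := isClosed_irreducibleComponent
  let g := hTi.genericPoint
  have hg : closure {g} = T := by
    have := hTi.isGenericPoint_genericPoint_closure
    rw [hTc.closure_eq] at this
    exact this
  have hrange : ∀ v : f.fiber (f x), f (f.fiberι (f x) v) = f x := by
    intro v
    have : f.fiberι (f x) v ∈ Set.range (f.fiberι (f x)) := ⟨v, rfl⟩
    rw [Scheme.Hom.range_fiberι] at this
    exact this
  refine ⟨f.fiberι (f x) g, ?_, hrange g, ?_⟩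
  · have : g ⤳ f.asFiber x := by
      rw [specializes_iff_mem_closure, hg]
      exact mem_irreducibleComponent
    have h2 := this.map (f.fiberι (f x)).continuous
    rwa [hx] at h2
  · intro z' hz' hfz'
    rw [hrange] at hfz'
    obtain ⟨v, rfl⟩ : z' ∈ Set.range (f.fiberι (f x)) := by
      rw [Scheme.Hom.range_fiberι]
      exact hfz'
    have h1 : v ⤳ g := (f.fiberι (f x)).isEmbedding.isInducing.specializes_iff.mp hz'
    have h2 : T ⊆ closure {v} := by
      rw [← hg]
      exact closure_minimal (Set.singleton_subset_iff.mpr (specializes_iff_mem_closure.mp h1))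
        isClosed_closure
    have h3 : closure {v} ⊆ T :=
      hT.2 isIrreducible_singleton.closure h2
    have h4 : g ⤳ v := by
      rw [specializes_iff_mem_closure, hg]
      exact h3 (subset_closure rfl)
    rw [(h1.antisymm h4).eq]

/-- Along a generizing morphism a chain of generizations of maximal length lifts. -/
theorem exists_generic_lift {X Y : Scheme.{u}} (f : X ⟶ Y) (hf : GeneralizingMap f) (z : X)
    [IsNoetherianRing (Y.presheaf.stalk (f z))] :
    ∃ (ξ : X) (h : ξ ⤳ z), (∀ ξ' : X, ξ' ⤳ ξ → ξ' = ξ) ∧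
      ringKrullDim (Y.presheaf.stalk (f z)) ≤ ringKrullDim (Cyc.LocQuot z ξ h) := by
  let A := Y.presheaf.stalk (f z)
  let B := X.presheaf.stalk z
  let φ : A →+* B := (f.stalkMap z).hom
  let := φ.toAlgebra
  have hgd : Algebra.HasGoingDown A B := by
    rw [Algebra.HasGoingDown.iff_generalizingMap_primeSpectrumComap]
    intro a b hb
    change b ⤳ PrimeSpectrum.comap φ a at hb
    have hcomm : ∀ c : PrimeSpectrum B, f (LocQuot.ptOf c) =
        LocQuot.ptOf (X := Y) (x := f z) (PrimeSpectrum.comap φ c) := by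
      intro c
      have := Scheme.SpecMap_stalkMap_fromSpecStalk f (x := z)
      unfold LocQuot.ptOf
      exact (congrArg (fun g => g c) (congrArg (fun g : _ ⟶ _ => (g : _ → _)) this)).symm
    have h1 : LocQuot.ptOf b ⤳ f (LocQuot.ptOf a) := by
      rw [hcomm, LocQuot.ptOf_specializes_iff]
      rwa [← PrimeSpectrum.le_iff_specializes] at hb
    obtain ⟨x', hx', hx'b⟩ := hf h1
    have hx'z : x' ⤳ z := hx'.trans (LocQuot.ptOf_specializes a)
    refine ⟨LocQuot.primeOf hx'z, ?_, ?_⟩
    · change LocQuot.primeOf hx'z ⤳ a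
      rw [← PrimeSpectrum.le_iff_specializes, ← LocQuot.ptOf_specializes_iff,
        LocQuot.ptOf_primeOf]
      exact hx'
    · apply LocQuot.ptOf_injective (f z)
      have := hcomm (LocQuot.primeOf hx'z)
      rw [LocQuot.ptOf_primeOf, hx'b] at this
      exact this.symm
  -- a chain of maximal length in `O_{Y, f z}`
  obtain ⟨l, hl, hlen⟩ := (IsLocalRing.maximalIdeal A).exists_ltSeries_length_eq_height
  have hlo : (IsLocalRing.maximalIdeal B).LiesOver l.last.asIdeal := by
    rw [hl]
    have : IsLocalHom φ := inferInstanceAs (IsLocalHom (f.stalkMap z).hom)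
    exact ⟨(IsLocalRing.maximalIdeal_comap φ).symm⟩
  obtain ⟨L, hLlen, hLlast, hLmap⟩ :=
    Ideal.exists_ltSeries_of_hasGoingDown (S := B) l (IsLocalRing.maximalIdeal B)
  obtain ⟨q, hq, hqL⟩ := Ideal.exists_minimalPrimes_le (I := ⊥) (J := L.head.asIdeal) bot_le
  have hqp : q.IsPrime := hq.1.1
  let Q : PrimeSpectrum B := ⟨q, hqp⟩
  refine ⟨LocQuot.ptOf Q, LocQuot.ptOf_specializes Q, ?_, ?_⟩
  · intro ξ' hξ'
    have h1 : ξ' ⤳ z := hξ'.trans (LocQuot.ptOf_specializes Q)
    have h2 : LocQuot.primeOf h1 ≤ Q := by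
      rw [← LocQuot.ptOf_specializes_iff, LocQuot.ptOf_primeOf]
      exact hξ'
    have h3 : LocQuot.primeOf h1 = Q := by
      apply PrimeSpectrum.ext
      exact le_antisymm h2 (hq.2 ⟨(LocQuot.primeOf h1).2, bot_le⟩ h2)
    rw [← h3, LocQuot.ptOf_primeOf]
  · have hker : RingHom.ker (Cyc.specMap z (LocQuot.ptOf Q) (LocQuot.ptOf_specializes Q)) = q := by
      rw [← LocQuot.primeOf_asIdeal, LocQuot.primeOf_ptOf]
    change _ ≤ ringKrullDim (B ⧸ RingHom.ker (Cyc.specMap z (LocQuot.ptOf Q) _))
    rw [hker, ringKrullDim_quotient, ← IsLocalRing.maximalIdeal_height_eq_ringKrullDim, ← hlen,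
      ← hLlen]
    have hmem : ∀ i, L i ∈ PrimeSpectrum.zeroLocus (q : Set B) := by
      intro i
      exact hqL.trans (L.monotone (Fin.zero_le i))
    let L' : LTSeries (PrimeSpectrum.zeroLocus (q : Set B)) :=
      { length := L.length
        toFun := fun i => ⟨L i, hmem i⟩
        step := fun i => L.step i }
    exact Order.LTSeries.length_le_krullDim L'

/-- The inequality of residual transcendence degrees. -/
theorem rtd_le_rtd {X Y : Scheme.{u}} [IsLocallyNoetherian Y] (f : X ⟶ Y) [LocallyOfFiniteType f]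
    {z ξ : X} (h : ξ ⤳ z)
    (hd : ringKrullDim (Y.presheaf.stalk (f z)) ≤ ringKrullDim (Cyc.LocQuot z ξ h)) :
    rtd f z ≤ rtd f ξ := by
  obtain ⟨dX, dY, hX, hY, hle⟩ := DimIneq.dim_ineq f h
  have h1 : ringKrullDim (Cyc.LocQuot (f z) (f ξ) (h.map f.continuous)) ≤
      ringKrullDim (Y.presheaf.stalk (f z)) := ringKrullDim_quotient_le _
  have h2 : dY ≤ dX := by
    have : (dY : WithBot ℕ∞) ≤ dX := by rw [← hX, ← hY]; exact h1.trans hd
    exact_mod_cast this
  obtain ⟨a, ha⟩ := Cardinal.lt_aleph0.mp (rtd_lt_aleph0 f z)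
  obtain ⟨b, hb⟩ := Cardinal.lt_aleph0.mp (rtd_lt_aleph0 f ξ)
  change (dX : Cardinal.{u}) + rtd f z ≤ (dY : Cardinal.{u}) + rtd f ξ at hle
  rw [ha, hb] at hle ⊢
  have h3 : dX + a ≤ dY + b := by exact_mod_cast hle
  have h4 : a ≤ b := by omega
  exact_mod_cast h4

end Groth.Agent.Ega43.OpenUniv
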