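import Groth.Agent.Ega43.DvrScheme
import Groth.Agent.Ega43.OpenAt
import Groth.Agent.Ega3B.ProjProper
import Groth.Agent.S2588
import Mathlib.AlgebraicGeometry.ValuativeCriterion
import Mathlib.AlgebraicGeometry.Morphisms.Immersion

/-!
# Properness near a point from lifting for discrete valuation rings centred at the point
-/

set_option autoImplicit false
open CategoryTheory AlgebraicGeometry Limits
universe u

namespace Groth.Agent.Ega43.ProperNear

open IsLocalRing

/-- Existence of lifts for discrete valuation rings centred at `y`. -/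
def LiftAt {X Y : Scheme.{u}} (f : X ⟶ Y) (y : Y) : Prop :=
  ∀ (R : Type u) [CommRing R] [IsDomain R] [IsDiscreteValuationRing R] (K : Type u) [Field K]
    [Algebra R K] [IsFractionRing R K] (i₁ : Spec (CommRingCat.of K) ⟶ X)
    (i₂ : Spec (CommRingCat.of R) ⟶ Y), i₂ (closedPoint R) = y →
    i₁ ≫ f = Spec.map (CommRingCat.ofHom (algebraMap R K)) ≫ i₂ →
    ∃ l : Spec (CommRingCat.of R) ⟶ X,
      Spec.map (CommRingCat.ofHom (algebraMap R K)) ≫ l = i₁ ∧ l ≫ f = i₂

lemma LiftAt.pullback_snd {X Y W : Scheme.{u}} (f : X ⟶ Y) (i : W ⟶ Y) (w : W)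
    (h : LiftAt f (i w)) : LiftAt (pullback.snd f i) w := by
  intro R _ _ _ K _ _ _ i₁ i₂ h1 h2
  obtain ⟨l, hl1, hl2⟩ := h R K (i₁ ≫ pullback.fst f i) (i₂ ≫ i)
    ((Scheme.Hom.comp_apply _ _ _).trans (congrArg i h1)) (by
      rw [Category.assoc, pullback.condition, reassoc_of% h2])
  refine ⟨pullback.lift l i₂ hl2, ?_, pullback.lift_snd _ _ _⟩
  apply pullback.hom_ext
  · rw [Category.assoc, pullback.lift_fst, hl1]
  · rw [Category.assoc, pullback.lift_snd, h2]

/-- Valuation-theoretic key step: an immersion `j : X' ⟶ P` over `Y` with `P` separated over `Y`,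
and `π : X' ⟶ X` proper where `X` satisfies the lifting property at `y`: every point of the closure
of `range j` above `y` is in the range of `j`. -/
theorem mem_range_of_mem_closure {X X' P Y : Scheme.{u}} [IsLocallyNoetherian P] (f : X ⟶ Y)
    (π : X' ⟶ X) (j : X' ⟶ P) (p : P ⟶ Y) [IsProper π] [IsSeparated p] [LocallyOfFiniteType j]
    [QuasiCompact j]
    (hcomm : j ≫ p = π ≫ f) (y : Y) (h : LiftAt f y) (z : P) (hz : z ∈ closure (Set.range j))
    (hzy : p z = y) : z ∈ Set.range j := by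
  have hcons : Topology.IsLocallyConstructible (Set.range j) := by
    rw [← Set.image_univ]
    exact j.isLocallyConstructible_image Topology.IsLocallyConstructible.univ
  obtain ⟨_, ⟨x', rfl⟩, hxz⟩ := OpenAt.exists_specializes_of_isLocallyConstructible hcons hz
  by_cases hne : j x' = z
  · exact ⟨x', hne⟩
  obtain ⟨R, _, _, _, _, _, g, hg1, hg2⟩ :=
    DvrScheme.exists_dvr_of_specializes_of_locallyOfFiniteType j x' hxz hne
  obtain ⟨l, hl1, hl2⟩ := h R (X'.residueField x') (X'.fromSpecResidueField x' ≫ π) (g ≫ p)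
    ((Scheme.Hom.comp_apply _ _ _).trans ((congrArg p hg1).trans hzy)) (by
      rw [Category.assoc, ← hcomm, ← Category.assoc, ← Category.assoc, ← hg2])
  have hπ : (ValuativeCriterion.Existence ⊓ @QuasiCompact : MorphismProperty Scheme.{u}) π := by
    rw [← UniversallyClosed.eq_valuativeCriterion]; infer_instance
  let S1 : ValuativeCommSq π :=
    { R := R
      K := X'.residueField x'
      i₁ := X'.fromSpecResidueField x'
      i₂ := l
      commSq := ⟨hl1.symm⟩ }
  have hs := hπ.1 S1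
  obtain ⟨l', hl'1, hl'2⟩ := hs.exists_lift.some
  -- uniqueness
  let S2 : ValuativeCommSq p :=
    { R := R
      K := X'.residueField x'
      i₁ := X'.fromSpecResidueField x' ≫ j
      i₂ := g ≫ p
      commSq := ⟨by rw [← hg2, Category.assoc]⟩ }
  have hp := IsSeparated.valuativeCriterion p S2
  have hfac1 : Spec.map (CommRingCat.ofHom (algebraMap R (X'.residueField x'))) ≫ l' ≫ j =
      X'.fromSpecResidueField x' ≫ j := by
    rw [← Category.assoc]
    exact congrArg (· ≫ j) hl'1
  have hfac2 : (l' ≫ j) ≫ p = g ≫ p := by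
    rw [Category.assoc, hcomm, ← Category.assoc]
    have : l' ≫ π = l := hl'2
    rw [this, hl2]
  have key : l' ≫ j = g := by
    have := @Subsingleton.elim _ hp ⟨l' ≫ j, hfac1, hfac2⟩ ⟨g, hg2, rfl⟩
    exact congrArg CommSq.LiftStruct.l this
  refine ⟨l' (closedPoint R), ?_⟩
  rw [← hg1, ← key]
  exact (Scheme.Hom.comp_apply _ _ _).symm

/-- Geometric key step. -/
theorem exists_isProper_restrict {X X' P Y : Scheme.{u}} [IsLocallyNoetherian P] (f : X ⟶ Y)
    (π : X' ⟶ X) (j : X' ⟶ P) (p : P ⟶ Y) [IsProper π] [Surjective π] [IsProper p] [IsImmersion j]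
    [IsSeparated f] [LocallyOfFiniteType f] [QuasiCompact j]
    (hcomm : j ≫ p = π ≫ f) (y : Y) (h : LiftAt f y) :
    ∃ U : Y.Opens, y ∈ U ∧ IsProper (f ∣_ U) := by
  have hZ : IsClosed (coborder (Set.range j))ᶜ :=
    (isLocallyClosed_iff_isOpen_coborder.mp j.isLocallyClosed_range).isClosed_compl
  have hpZ : IsClosed (p '' (coborder (Set.range j))ᶜ) := p.isClosedMap _ hZ
  let U : Y.Opens := ⟨(p '' (coborder (Set.range j))ᶜ)ᶜ, hpZ.isOpen_compl⟩
  have hpU : ∀ z : P, p z ∈ U → z ∈ coborder (Set.range j) := by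
    intro z hz
    by_contra hzn
    exact hz ⟨z, hzn, rfl⟩
  refine ⟨U, ?_, ?_⟩
  · rintro ⟨z, hz, hzy⟩
    have h1 : z ∈ closure (Set.range j) := by
      rw [coborder, compl_compl] at hz
      exact hz.1
    have h2 := mem_range_of_mem_closure f π j p hcomm y h z h1 hzy
    exact hz (subset_coborder h2)
  · have hcl : IsClosedImmersion (j ∣_ (p ⁻¹ᵁ U)) := by
      refine IsClosedImmersion.of_isPreimmersion _ ?_
      have h1 : Set.range (j ∣_ (p ⁻¹ᵁ U)) = (p ⁻¹ᵁ U).ι ⁻¹' closure (Set.range j) := by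
        ext z
        rw [Set.mem_preimage]
        constructor
        · rintro ⟨w, rfl⟩
          apply subset_closure
          rw [← Scheme.Hom.comp_apply, morphismRestrict_ι, Scheme.Hom.comp_apply]
          exact ⟨_, rfl⟩
        · intro hz
          have h2 : (p ⁻¹ᵁ U).ι z ∈ Set.range j := by
            rw [← closure_inter_coborder (s := Set.range j)]
            exact ⟨hz, hpU _ z.2⟩
          obtain ⟨w, hw⟩ := h2
          have hw' : w ∈ j ⁻¹ᵁ (p ⁻¹ᵁ U) := by
            change j w ∈ p ⁻¹ᵁ U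
            rw [hw]
            exact z.2
          let w' : ((j ⁻¹ᵁ (p ⁻¹ᵁ U) : X'.Opens) : Scheme.{u}) := ⟨w, hw'⟩
          refine ⟨w', ?_⟩
          apply (p ⁻¹ᵁ U).ι.isOpenEmbedding.injective
          have h3 : (p ⁻¹ᵁ U).ι ((j ∣_ (p ⁻¹ᵁ U)) w') = j ((j ⁻¹ᵁ (p ⁻¹ᵁ U)).ι w') := by
            rw [← Scheme.Hom.comp_apply, morphismRestrict_ι, Scheme.Hom.comp_apply]
          exact h3.trans hw
      rw [h1]
      exact isClosed_closure.preimage (p ⁻¹ᵁ U).ι.continuous
    have h1 : IsProper ((j ≫ p) ∣_ U) := by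
      rw [morphismRestrict_comp]
      have h5 : IsProper (j ∣_ (p ⁻¹ᵁ U)) := by infer_instance
      have h6 : IsProper (p ∣_ U) := IsZariskiLocalAtTarget.restrict ‹_› _
      exact MorphismProperty.comp_mem @IsProper _ _ h5 h6
    have h2 : IsProper ((π ≫ f) ∣_ U) := by
      rw [← hcomm]; exact h1
    rw [morphismRestrict_comp] at h2
    have h3 : Surjective (π ∣_ (f ⁻¹ᵁ U)) := IsZariskiLocalAtTarget.restrict ‹_› _
    have h7 : UniversallyClosed (π ∣_ f ⁻¹ᵁ U ≫ f ∣_ U) := h2.toUniversallyClosed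
    have h4 : UniversallyClosed (f ∣_ U) :=
      UniversallyClosed.of_comp_surjective (π ∣_ (f ⁻¹ᵁ U)) (f ∣_ U)
    exact { }

end Groth.Agent.Ega43.ProperNear
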