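import Mathlib.Topology.Sober
import Mathlib.Topology.NoetherianSpace
import Mathlib.RingTheory.Ideal.GoingDown
import Mathlib.RingTheory.Spectrum.Prime.Noetherian

set_option autoImplicit false
universe u
namespace Groth.Agent.Ega43.QSGen

open TopologicalSpace

/-- Generalizations lift along open maps with Noetherian sober source (and T0 target). -/
theorem generalizingMap_of_isOpenMap {X Y : Type*} [TopologicalSpace X] [TopologicalSpace Y]
    [NoetherianSpace X] [QuasiSober X] [T0Space Y] {f : X → Y} (hc : Continuous f) (ho : IsOpenMap f) :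
    GeneralizingMap f := by
  intro x y h
  obtain ⟨S, hSf, hSc, hSi, hS⟩ := NoetherianSpace.exists_finite_set_isClosed_irreducible
    (s := f ⁻¹' closure {y}) (isClosed_closure.preimage hc)
  let S' : Set (Set X) := {t ∈ S | x ∉ t}
  have hS'f : S'.Finite := hSf.subset fun t ht => ht.1
  have hS'c : IsClosed (⋃₀ S') := by
    rw [Set.sUnion_eq_biUnion]
    exact hS'f.isClosed_biUnion fun t ht => hSc t ht.1
  have hU : f x ∈ f '' (⋃₀ S')ᶜ := ⟨x, by
    rintro ⟨t, ht, hxt⟩
    exact ht.2 hxt, rfl⟩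
  have hy : y ∈ f '' (⋃₀ S')ᶜ := h.mem_open (ho _ hS'c.isOpen_compl) hU
  obtain ⟨u, hu, rfl⟩ := hy
  have huW : u ∈ f ⁻¹' closure {f u} := subset_closure rfl
  rw [hS] at huW
  obtain ⟨t, ht, hut⟩ := huW
  have hxt : x ∈ t := by
    by_contra hxt
    exact hu ⟨t, ⟨ht, hxt⟩, hut⟩
  obtain ⟨ξ, hξ⟩ := QuasiSober.sober (hSi t ht) (hSc t ht)
  refine ⟨ξ, hξ.specializes hxt, ?_⟩
  have h1 : f ξ ⤳ f u := (hξ.specializes hut).map hc
  have h2 : f u ⤳ f ξ := by
    rw [specializes_iff_mem_closure]
    have : ξ ∈ f ⁻¹' closure {f u} := by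
      rw [hS]
      exact ⟨t, ht, hξ.mem⟩
    exact this
  exact (h1.antisymm h2).eq

/-- An open map `Spec B ⟶ Spec A` with `B` Noetherian has going down. -/
theorem hasGoingDown_of_isOpenMap {A B : Type*} [CommRing A] [CommRing B] [IsNoetherianRing B]
    [Algebra A B] (h : IsOpenMap (PrimeSpectrum.comap (algebraMap A B))) : Algebra.HasGoingDown A B := by
  rw [Algebra.HasGoingDown.iff_generalizingMap_primeSpectrumComap]
  exact generalizingMap_of_isOpenMap (PrimeSpectrum.continuous_comap _) h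

end Groth.Agent.Ega43.QSGen
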