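import Groth.Prelude.Def_EGA43
import Mathlib.AlgebraicGeometry.Noetherian
import Mathlib.AlgebraicGeometry.Morphisms.UniversallyOpen
import Mathlib.AlgebraicGeometry.Morphisms.UniversallyClosed
import Mathlib.AlgebraicGeometry.PullbackCarrier
import Mathlib.AlgebraicGeometry.Fiber

set_option autoImplicit false
open CategoryTheory AlgebraicGeometry Limits
universe u
namespace Groth.Agent.Ega43.UnivOpenAt

open EGA43

lemma isOpenMap_iff_forall_isOpenAt {α β : Type*} [TopologicalSpace α] [TopologicalSpace β] (f : α → β) :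
    IsOpenMap f ↔ ∀ x, IsOpenAt f x := by
  rw [isOpenMap_iff_nhds_le]
  constructor
  · intro h x U hU
    exact h x (Filter.image_mem_map hU)
  · intro h x V hV
    have := h x _ (Filter.mem_map.mp hV)
    exact Filter.mem_of_superset this (Set.image_preimage_subset _ _)

/-- To be open at `x` it is enough to treat open neighbourhoods. -/
lemma isOpenAt_of_forall_isOpen {α β : Type*} [TopologicalSpace α] [TopologicalSpace β] {f : α → β} {x : α}
    (h : ∀ U : Set α, IsOpen U → x ∈ U → f '' U ∈ nhds (f x)) : IsOpenAt f x := by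
  intro U hU
  obtain ⟨V, hVU, hV, hx⟩ := mem_nhds_iff.mp hU
  exact Filter.mem_of_superset (h V hV hx) (Set.image_mono hVU)

lemma isOpenAt_comp {α β γ : Type*} [TopologicalSpace α] [TopologicalSpace β] [TopologicalSpace γ]
    {f : α → β} {g : β → γ} {x : α} (hf : IsOpenAt f x) (hg : IsOpenAt g (f x)) : IsOpenAt (g ∘ f) x := by
  intro U hU
  rw [Set.image_comp]
  exact hg _ (hf _ hU)

/-- Universal openness at a point, tested on an arbitrary cartesian square. -/
lemma isOpenAt_of_isPullback {X Y X' Y' : Scheme.{u}} {f : X ⟶ Y} {x : X} (h : IsUnivOpenAt f x)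
    {f' : X' ⟶ Y'} {p : X' ⟶ X} {g : Y' ⟶ Y} (sq : IsPullback p f' f g) (x' : X') (hx' : p x' = x) :
    IsOpenAt f' x' := by
  have h1 : sq.isoPullback.hom ≫ pullback.snd f g = f' := sq.isoPullback_hom_snd
  have h2 : sq.isoPullback.hom ≫ pullback.fst f g = p := sq.isoPullback_hom_fst
  have h3 := h Y' g (sq.isoPullback.hom x') (by
    rw [← Scheme.Hom.comp_apply, h2, hx'])
  rw [← h1]
  intro U hU
  rw [Scheme.Hom.comp_base, TopCat.coe_comp]
  exact isOpenAt_comp ((isOpenMap_iff_forall_isOpenAt _).mp
    (sq.isoPullback.hom.isOpenEmbedding.isOpenMap) x') h3 U hU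

lemma isUnivOpenAt_of_isPullback {X Y X' Y' : Scheme.{u}} {f : X ⟶ Y} {x : X} (h : IsUnivOpenAt f x)
    {f' : X' ⟶ Y'} {p : X' ⟶ X} {g : Y' ⟶ Y} (sq : IsPullback p f' f g) (x' : X') (hx' : p x' = x) :
    IsUnivOpenAt f' x' := by
  intro Y'' g' x'' hx''
  have sq2 : IsPullback (pullback.fst f' g' ≫ p) (pullback.snd f' g') f (g' ≫ g) :=
    (IsPullback.of_hasPullback f' g').paste_horiz sq
  exact isOpenAt_of_isPullback h sq2 x'' (by
    rw [Scheme.Hom.comp_apply]
    rw [hx'', hx'])

theorem universallyOpen_iff_forall_isUnivOpenAt {X Y : Scheme.{u}} (f : X ⟶ Y) :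
    UniversallyOpen f ↔ ∀ x, IsUnivOpenAt f x := by
  constructor
  · intro h x Y' g x' _
    exact (isOpenMap_iff_forall_isOpenAt _).mp (pullback.snd f g).isOpenMap x'
  · intro h
    refine ⟨fun {X' Y'} i₁ i₂ f' sq => ?_⟩
    change IsOpenMap f'
    rw [isOpenMap_iff_forall_isOpenAt]
    intro x'
    exact isOpenAt_of_isPullback (h (i₁ x')) sq.flip x' rfl

/-- If `j ≫ f` is universally open at `g`, then `f` is universally open at `j g` (`j` arbitrary). -/
theorem isUnivOpenAt_of_comp {G X Y : Scheme.{u}} (j : G ⟶ X) (f : X ⟶ Y) (g : G)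
    (h : IsUnivOpenAt (j ≫ f) g) : IsUnivOpenAt f (j g) := by
  intro Y' t x' hx'
  have hsq : IsPullback (pullback.fst (pullback.fst f t) j) (pullback.snd (pullback.fst f t) j)
    (pullback.fst f t) j := IsPullback.of_hasPullback _ _
  obtain ⟨g', hg1, hg2⟩ := Scheme.exists_preimage_of_isPullback hsq x' g hx'
  have hsq2 : IsPullback (pullback.snd (pullback.fst f t) j)
      (pullback.fst (pullback.fst f t) j ≫ pullback.snd f t) (j ≫ f) t :=
    hsq.flip.paste_vert (IsPullback.of_hasPullback f t)
  have hopen := isOpenAt_of_isPullback h hsq2 g' hg2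
  intro U hU
  have hU' : (pullback.fst (pullback.fst f t) j) ⁻¹' U ∈ nhds g' := by
    apply (pullback.fst (pullback.fst f t) j).continuous.continuousAt.preimage_mem_nhds
    have : (pullback.fst (pullback.fst f t) j) g' = x' := hg1
    rwa [this]
  have := hopen _ hU'
  have e : (pullback.fst (pullback.fst f t) j ≫ pullback.snd f t) g' = pullback.snd f t x' := by
    rw [Scheme.Hom.comp_apply]
    exact congr_arg _ hg1
  rw [e] at this
  refine Filter.mem_of_superset this ?_
  rintro _ ⟨w, hw, rfl⟩
  exact ⟨(pullback.fst (pullback.fst f t) j) w, hw, by rw [Scheme.Hom.comp_apply]⟩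

/-- Universal openness at a point descends along finitely many jointly surjective universally closed
base changes. -/
theorem isUnivOpenAt_of_universallyClosed_cover {X Y : Scheme.{u}} (f : X ⟶ Y) (x : X) {ι : Type*}
    [Finite ι] (Y' : ι → Scheme.{u}) (g : ∀ i, Y' i ⟶ Y) [∀ i, UniversallyClosed (g i)]
    (hsurj : ∀ y : Y, ∃ i, ∃ y', g i y' = y)
    (h : ∀ i (x' : ↥(pullback f (g i))), pullback.fst f (g i) x' = x →
      IsUnivOpenAt (pullback.snd f (g i)) x') :
    IsUnivOpenAt f x := by
  intro T t p hp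
  apply isOpenAt_of_forall_isOpen
  intro U hU hpU
  set W := (pullback.snd f t) '' U with hW
  -- the base change of the cover
  let T' : ι → Scheme.{u} := fun i => pullback t (g i)
  let q : ∀ i, T' i ⟶ T := fun i => pullback.fst t (g i)
  let Z : ι → Set T := fun i => q i '' (closure (q i ⁻¹' Wᶜ))
  have hZ : ∀ i, IsClosed (Z i) := fun i =>
    (pullback.fst t (g i)).isClosedMap _ isClosed_closure
  have hcov : Wᶜ ⊆ ⋃ i, Z i := by
    intro s hs
    obtain ⟨i, y', hy'⟩ := hsurj (t s)
    obtain ⟨z, hz1, hz2⟩ := Scheme.Pullback.exists_preimage_pullback (f := t) (g := g i) s y' hy'.symm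
    rw [Set.mem_iUnion]
    refine ⟨i, z, subset_closure ?_, hz1⟩
    change pullback.fst t (g i) z ∈ Wᶜ
    rw [hz1]; exact hs
  have hnot : pullback.snd f t p ∉ ⋃ i, Z i := by
    rw [Set.mem_iUnion]
    rintro ⟨i, z, hz, hzp⟩
    have h1 := (IsPullback.of_hasPullback (pullback.snd f t) (q i)).paste_horiz
      (IsPullback.of_hasPullback f t)
    have hcond : q i ≫ t = pullback.snd t (g i) ≫ g i := pullback.condition
    rw [hcond] at h1
    let k : pullback (pullback.snd f t) (q i) ⟶ pullback f (g i) :=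
      pullback.lift (pullback.fst (pullback.snd f t) (q i) ≫ pullback.fst f t)
        (pullback.snd (pullback.snd f t) (q i) ≫ pullback.snd t (g i)) (by
          rw [Category.assoc]; exact h1.w)
    have hk1 : k ≫ pullback.fst f (g i) =
      pullback.fst (pullback.snd f t) (q i) ≫ pullback.fst f t := pullback.lift_fst _ _ _
    have hk2 : k ≫ pullback.snd f (g i) =
      pullback.snd (pullback.snd f t) (q i) ≫ pullback.snd t (g i) := pullback.lift_snd _ _ _
    rw [← hk1] at h1
    have h2 := IsPullback.of_right h1 hk2 (IsPullback.of_hasPullback f (g i))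
    obtain ⟨p', hp1, hp2⟩ := Scheme.Pullback.exists_preimage_pullback (f := pullback.snd f t)
      (g := q i) p z hzp.symm
    have h3 : pullback.fst f (g i) (k p') = x := by
      rw [← Scheme.Hom.comp_apply, hk1, Scheme.Hom.comp_apply, hp1]
      exact hp
    have h4 := isOpenAt_of_isPullback (h i (k p') h3) h2 p' rfl
    have hU' : (pullback.fst (pullback.snd f t) (q i)) ⁻¹' U ∈ nhds p' := by
      apply (pullback.fst (pullback.snd f t) (q i)).continuous.continuousAt.preimage_mem_nhds
      rw [hp1]
      exact hU.mem_nhds hpU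
    have h5 := h4 _ hU'
    rw [hp2, mem_nhds_iff] at h5
    obtain ⟨V, hVsub, hV, hzV⟩ := h5
    obtain ⟨v, hvV, hv⟩ := mem_closure_iff.mp hz V hV hzV
    obtain ⟨w, hw, rfl⟩ := hVsub hvV
    apply hv
    refine ⟨(pullback.fst (pullback.snd f t) (q i)) w, hw, ?_⟩
    rw [← Scheme.Hom.comp_apply, pullback.condition, Scheme.Hom.comp_apply]
  have hopen : IsOpen (⋃ i, Z i)ᶜ := (isClosed_iUnion_of_finite hZ).isOpen_compl
  refine Filter.mem_of_superset (hopen.mem_nhds hnot) ?_
  rw [Set.compl_subset_comm]
  exact hcov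

/-- A morphism locally of finite type which is universally open at all points closed in their fibre is
universally open. -/
theorem universallyOpen_of_forall_closed_in_fibre {X Y : Scheme.{u}} (f : X ⟶ Y) [LocallyOfFiniteType f]
    (h : ∀ x : X, (∀ x' : X, x ⤳ x' → f x' = f x → x' = x) → IsUnivOpenAt f x) :
    UniversallyOpen f := by
  rw [universallyOpen_iff_forall_isUnivOpenAt]
  intro x T t p hp
  apply isOpenAt_of_forall_isOpen
  intro U hU hpU
  have hb := isPullback_fiberToSpecResidueField_of_isPullback (IsPullback.of_hasPullback f t)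
    (pullback.snd f t p)
  set s := pullback.snd f t p with hs
  let b : (pullback.snd f t).fiber s ⟶ f.fiber (t s) :=
    pullback.map _ _ _ _ (pullback.fst f t) (Spec.map (t.residueFieldMap s)) t
      (IsPullback.of_hasPullback f t).w.symm (by simp)
  have hbι : b ≫ f.fiberι (t s) = (pullback.snd f t).fiberι s ≫ pullback.fst f t :=
    pullback.lift_fst _ _ _
  have hbo : UniversallyOpen b := MorphismProperty.of_isPullback (P := @UniversallyOpen) hb.flip
    (inferInstance : UniversallyOpen (Spec.map (t.residueFieldMap s)))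
  have hVo : IsOpen (b '' (((pullback.snd f t).fiberι s) ⁻¹' U)) :=
    b.isOpenMap _ (hU.preimage ((pullback.snd f t).fiberι s).continuous)
  have hp' : ((pullback.snd f t).fiberι s) ((pullback.snd f t).asFiber p) = p :=
    (pullback.snd f t).fiberι_asFiber p
  have hne : (b '' (((pullback.snd f t).fiberι s) ⁻¹' U)).Nonempty := by
    refine ⟨b ((pullback.snd f t).asFiber p), (pullback.snd f t).asFiber p, ?_, rfl⟩
    rw [Set.mem_preimage, hp']
    exact hpU
  obtain ⟨z, hzV, hz⟩ := nonempty_inter_closedPoints (X := f.fiber (t s)) hne hVo.isLocallyClosed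
  obtain ⟨w, hw, rfl⟩ := hzV
  rw [mem_closedPoints_iff] at hz
  have hrange : ∀ v : f.fiber (t s), f (f.fiberι (t s) v) = t s := by
    intro v
    have : f.fiberι (t s) v ∈ Set.range (f.fiberι (t s)) := ⟨v, rfl⟩
    rw [Scheme.Hom.range_fiberι] at this
    exact this
  have hx' : IsUnivOpenAt f (f.fiberι (t s) (b w)) := by
    apply h
    intro x'' hx'' hfx''
    rw [hrange] at hfx''
    have : x'' ∈ Set.range (f.fiberι (t s)) := by
      rw [Scheme.Hom.range_fiberι]; exact hfx''
    obtain ⟨z'', rfl⟩ := this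
    have h1 : b w ⤳ z'' := (f.fiberι (t s)).isEmbedding.specializes_iff.mp hx''
    have h2 : z'' ∈ ({b w} : Set (f.fiber (t s))) := h1.mem_closed hz rfl
    rw [Set.mem_singleton_iff.mp h2]
  have h3 := isOpenAt_of_isPullback hx' (IsPullback.of_hasPullback f t)
    ((pullback.snd f t).fiberι s w) (by
      rw [← Scheme.Hom.comp_apply, ← hbι, Scheme.Hom.comp_apply])
  have h4 := h3 U (hU.mem_nhds hw)
  have h5 : (pullback.snd f t) ((pullback.snd f t).fiberι s w) = s := by
    have : (pullback.snd f t).fiberι s w ∈ Set.range ((pullback.snd f t).fiberι s) := ⟨w, rfl⟩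
    rw [Scheme.Hom.range_fiberι] at this
    exact this
  rw [h5] at h4
  exact h4

end Groth.Agent.Ega43.UnivOpenAt
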