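import Groth.Agent.Ega43.QSAway
import Groth.Agent.Ega43.QSGen
import Groth.Agent.Ega43.UnivOpenAt
import Mathlib.AlgebraicGeometry.Morphisms.Proper

set_option autoImplicit false
universe u
namespace Groth.Agent.Ega43.QSAffine

open TensorProduct CategoryTheory AlgebraicGeometry EGA43 Groth.Agent.Ega43.UnivOpenAt
  Groth.Agent.Ega43.QSAway Groth.Agent.Ega43.QSGen

/-- Version of the cover lemma for arbitrary cartesian squares. -/
theorem isUnivOpenAt_of_cover {X Y : Scheme.{u}} (f : X ⟶ Y) (x : X) {ι : Type*} [Finite ι]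
    (X' Y' : ι → Scheme.{u}) (p : ∀ i, X' i ⟶ X) (f' : ∀ i, X' i ⟶ Y' i) (g : ∀ i, Y' i ⟶ Y)
    (sq : ∀ i, IsPullback (p i) (f' i) f (g i)) [∀ i, UniversallyClosed (g i)]
    (hsurj : ∀ y : Y, ∃ i, ∃ y', g i y' = y)
    (h : ∀ i (x' : X' i), p i x' = x → IsUnivOpenAt (f' i) x') : IsUnivOpenAt f x := by
  refine isUnivOpenAt_of_universallyClosed_cover f x Y' g hsurj fun i x'' hx'' => ?_
  have h1 : (sq i).isoPullback.hom ≫ Limits.pullback.snd f (g i) = f' i := (sq i).isoPullback_hom_snd
  have h2 : (sq i).isoPullback.hom ≫ Limits.pullback.fst f (g i) = p i := (sq i).isoPullback_hom_fst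
  have h3 : (sq i).isoPullback.hom ((sq i).isoPullback.inv x'') = x'' := by
    rw [← Scheme.Hom.comp_apply, Iso.inv_hom_id]; rfl
  rw [← h3]
  apply isUnivOpenAt_of_comp
  rw [h1]
  apply h
  have h4 := Scheme.Hom.comp_apply (sq i).isoPullback.hom (Limits.pullback.fst f (g i))
    ((sq i).isoPullback.inv x'')
  rw [h2, h3] at h4
  rw [h4]
  exact hx''

lemma isPullback_tensor (A A' B : Type u) [CommRing A] [CommRing A'] [CommRing B] [Algebra A A']
    [Algebra A B] :
    IsPullback (Spec.map (CommRingCat.ofHom (Algebra.TensorProduct.includeRight (R := A) (A := A')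
      (B := B)).toRingHom)) (Spec.map (CommRingCat.ofHom (algebraMap A' (A' ⊗[A] B))))
      (Spec.map (CommRingCat.ofHom (algebraMap A B))) (Spec.map (CommRingCat.ofHom (algebraMap A A'))) :=
  (isPullback_SpecMap_of_isPushout _ _ _ _ (CommRingCat.isPushout_tensorProduct A A' B)).flip

lemma isUnivOpenAt_of_algEquiv {A B B' : Type u} [CommRing A] [CommRing B] [CommRing B'] [Algebra A B]
    [Algebra A B'] (e : B ≃ₐ[A] B') (P : PrimeSpectrum B)
    (h : IsUnivOpenAt (Spec.map (CommRingCat.ofHom (algebraMap A B')))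
      (PrimeSpectrum.comap e.symm.toRingEquiv.toRingHom P)) :
    IsUnivOpenAt (Spec.map (CommRingCat.ofHom (algebraMap A B))) P := by
  have h1 : Spec.map (CommRingCat.ofHom (algebraMap A B')) =
      Spec.map (CommRingCat.ofHom e.toRingEquiv.toRingHom) ≫
        Spec.map (CommRingCat.ofHom (algebraMap A B)) := by
    rw [← Spec.map_comp, ← CommRingCat.ofHom_comp]
    congr 2
    exact e.toAlgHom.comp_algebraMap.symm
  rw [h1] at h
  have h2 := isUnivOpenAt_of_comp _ _ _ h
  convert h2
  apply PrimeSpectrum.ext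
  ext x
  change _ ↔ e.symm (e x) ∈ P.asIdeal
  rw [e.symm_apply_apply]

/-- The affine theorem over a Noetherian domain. -/
theorem isUnivOpenAt_of_isDomain {A B : Type u} [CommRing A] [IsDomain A] [IsNoetherianRing A]
    [CommRing B] [Algebra A B] [Algebra.FiniteType A B]
    (H : ∀ (A₁ : Type u) [CommRing A₁] [Algebra A A₁] [Module.Finite A A₁],
      IsOpenMap (PrimeSpectrum.comap (algebraMap A₁ (A₁ ⊗[A] B))))
    (P : PrimeSpectrum B)
    (hmax : ∀ P' : Ideal B, P'.IsPrime → P.asIdeal ≤ P' → P'.under A = P.asIdeal.under A →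
      P' = P.asIdeal) :
    IsUnivOpenAt (Spec.map (CommRingCat.ofHom (algebraMap A B))) P := by
  obtain ⟨A', _, _, hfin, hinj, hA'⟩ := exists_away A P.asIdeal hmax
  have hN : IsNoetherianRing A' := IsNoetherianRing.of_finite A A'
  have hN2 : IsNoetherianRing (A' ⊗[A] B) := Algebra.FiniteType.isNoetherianRing A' _
  have hgd : Algebra.HasGoingDown A' (A' ⊗[A] B) := hasGoingDown_of_isOpenMap (H A')
  have key := hA' hgd
  have hfinite : IsFinite (Spec.map (CommRingCat.ofHom (algebraMap A A'))) := by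
    rw [IsFinite.SpecMap_iff]
    exact RingHom.finite_algebraMap.mpr hfin
  refine isUnivOpenAt_of_cover (ι := Unit) _ P _ _ _ _ _ (fun _ => isPullback_tensor A A' B) ?_ ?_
  · intro y
    obtain ⟨Q, hQ, hQ2⟩ := Ideal.exists_ideal_over_prime_of_isIntegral (S := A') y.asIdeal ⊥ (by
      rw [← RingHom.ker_eq_comap_bot, (RingHom.injective_iff_ker_eq_bot _).mp hinj]; exact bot_le)
    refine ⟨(), ⟨Q, hQ2.1⟩, ?_⟩
    apply PrimeSpectrum.ext
    exact hQ2.2
  · intro _ P' hP'
    obtain ⟨L, _, _, ρ, hL, ψ, M, hM, hMP'⟩ := key P'.asIdeal P'.isPrime (by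
      rw [← hP']; rfl)
    have h1 : Spec.map (CommRingCat.ofHom ψ.toRingHom) ≫
        Spec.map (CommRingCat.ofHom (algebraMap A' (A' ⊗[A] B))) =
        Spec.map (CommRingCat.ofHom (algebraMap A' L)) := by
      rw [← Spec.map_comp, ← CommRingCat.ofHom_comp]
      congr 2
      exact ψ.comp_algebraMap
    have hopen : IsOpenImmersion (Spec.map (CommRingCat.ofHom (algebraMap A' L))) :=
      IsOpenImmersion.of_isLocalization ρ
    have h2 : UniversallyOpen (Spec.map (CommRingCat.ofHom (algebraMap A' L))) := inferInstance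
    have h3 := (universallyOpen_iff_forall_isUnivOpenAt _).mp h2 ⟨M, hM⟩
    rw [← h1] at h3
    have h4 := isUnivOpenAt_of_comp _ _ _ h3
    convert h4
    apply PrimeSpectrum.ext
    exact hMP'.symm

/-- The affine theorem over a Noetherian ring. -/
theorem isUnivOpenAt_of_isNoetherianRing {A B : Type u} [CommRing A] [IsNoetherianRing A]
    [CommRing B] [Algebra A B] [Algebra.FiniteType A B]
    (H : ∀ (A₁ : Type u) [CommRing A₁] [Algebra A A₁] [Module.Finite A A₁],
      IsOpenMap (PrimeSpectrum.comap (algebraMap A₁ (A₁ ⊗[A] B))))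
    (P : PrimeSpectrum B)
    (hmax : ∀ P' : Ideal B, P'.IsPrime → P.asIdeal ≤ P' → P'.under A = P.asIdeal.under A →
      P' = P.asIdeal) :
    IsUnivOpenAt (Spec.map (CommRingCat.ofHom (algebraMap A B))) P := by
  have hfin : Finite (minimalPrimes A) := (minimalPrimes.finite_of_isNoetherianRing A).to_subtype
  have hclosed : ∀ q : minimalPrimes A,
      UniversallyClosed (Spec.map (CommRingCat.ofHom (algebraMap A (A ⧸ q.1)))) := by
    intro q
    have : IsClosedImmersion (Spec.map (CommRingCat.ofHom (algebraMap A (A ⧸ q.1)))) :=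
      IsClosedImmersion.spec_of_surjective _ Ideal.Quotient.mk_surjective
    infer_instance
  refine isUnivOpenAt_of_cover (ι := minimalPrimes A) _ P _ _ _ _ _
    (fun q => isPullback_tensor A (A ⧸ q.1) B) ?_ ?_
  · intro y
    obtain ⟨q, hq, hqy⟩ := Ideal.exists_minimalPrimes_le (I := ⊥) (J := y.asIdeal) bot_le
    refine ⟨⟨q, hq⟩, ⟨y.asIdeal.map (Ideal.Quotient.mk q), Ideal.isPrime_map_quotientMk_of_isPrime hqy⟩, ?_⟩
    apply PrimeSpectrum.ext
    have : ∀ I : Ideal A, q ≤ I → (I.map (Ideal.Quotient.mk q)).comap (Ideal.Quotient.mk q) = I := by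
      intro I hI
      rw [Ideal.comap_map_of_surjective' _ Ideal.Quotient.mk_surjective, Ideal.mk_ker,
        sup_eq_left.mpr hI]
    exact this _ hqy
  · intro q P' hP'
    have hq : q.1.IsPrime := q.2.1.1
    have hsurj : Function.Surjective
        (Algebra.TensorProduct.includeRight (R := A) (A := A ⧸ q.1) (B := B)).toRingHom := by
      intro x
      induction x using TensorProduct.induction_on with
      | zero => exact ⟨0, map_zero _⟩
      | add x y hx hy =>
        obtain ⟨a, rfl⟩ := hx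
        obtain ⟨b, rfl⟩ := hy
        exact ⟨a + b, map_add _ _ _⟩
      | tmul a b =>
        obtain ⟨a, rfl⟩ := Ideal.Quotient.mk_surjective a
        refine ⟨a • b, ?_⟩
        change (1 : A ⧸ q.1) ⊗ₜ[A] (a • b) = _
        rw [← TensorProduct.smul_tmul]
        congr 1
        rw [Algebra.smul_def, mul_one]
        rfl
    refine isUnivOpenAt_of_isDomain ?_ P' ?_
    · intro A₁ _ _ _
      let _ : Algebra A A₁ := Algebra.compHom A₁ (algebraMap A (A ⧸ q.1))
      have _ : IsScalarTower A (A ⧸ q.1) A₁ := IsScalarTower.of_algebraMap_eq fun _ => rfl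
      have _ : Module.Finite A A₁ := Module.Finite.trans (A ⧸ q.1) A₁
      let e : A₁ ⊗[A ⧸ q.1] ((A ⧸ q.1) ⊗[A] B) ≃ₐ[A₁] A₁ ⊗[A] B :=
        Algebra.TensorProduct.cancelBaseChange A (A ⧸ q.1) A₁ A₁ B
      have h1 := H A₁
      have h3 := e.symm.toAlgHom.comp_algebraMap.symm
      rw [h3, PrimeSpectrum.comap_comp]
      exact h1.comp (PrimeSpectrum.isHomeomorph_comap_of_bijective e.symm.bijective).isOpenMap
    · intro P'' hP'' hle hun
      apply Ideal.comap_injective_of_surjective _ hsurj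
      have hP1 : P'.asIdeal.comap (Algebra.TensorProduct.includeRight (R := A) (A := A ⧸ q.1)
        (B := B)).toRingHom = P.asIdeal := by rw [← hP']; rfl
      rw [hP1]
      apply hmax _ (Ideal.comap_isPrime _ _)
      · rw [← hP1]; exact Ideal.comap_mono hle
      · have e1 : ∀ Θ : Ideal ((A ⧸ q.1) ⊗[A] B),
            (Θ.comap (Algebra.TensorProduct.includeRight (R := A) (A := A ⧸ q.1)
              (B := B)).toRingHom).under A = (Θ.under (A ⧸ q.1)).comap (algebraMap A (A ⧸ q.1)) := by
          intro Θ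
          ext a
          change (1 : A ⧸ q.1) ⊗ₜ[A] (algebraMap A B a) ∈ Θ ↔
            (algebraMap A (A ⧸ q.1) a) ⊗ₜ[A] (1 : B) ∈ Θ
          rw [Algebra.algebraMap_eq_smul_one (R := A) (A := B), ← TensorProduct.smul_tmul,
            ← Algebra.algebraMap_eq_smul_one]
        rw [← hP1, e1, e1, hun]

end Groth.Agent.Ega43.QSAffine
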