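import Groth.Agent.Ega43.QSCore

set_option autoImplicit false
universe u
namespace Groth.Agent.Ega43.QSAway

open TensorProduct Groth.Agent.Ega43.QSHeight Groth.Agent.Ega43.QSExists Groth.Agent.Ega43.QSCut
  Groth.Agent.Ega43.QSCore Groth.Agent.Ega43.QSSplit

lemma exists_pow_mul_mem {A C : Type*} [CommRing A] [CommRing C] [Algebra A C] (S' : Subalgebra A C)
    (r : S') (h : Function.Surjective (Localization.awayMap S'.val.toRingHom r)) (c : C) :
    ∃ n : ℕ, (r : C) ^ n * c ∈ S' := by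
  obtain ⟨x, hx⟩ := h (algebraMap C _ c)
  obtain ⟨⟨a, ⟨_, n, rfl⟩⟩, hn⟩ := IsLocalization.surj (Submonoid.powers r) x
  have h1 := congr_arg (Localization.awayMap S'.val.toRingHom r) hn
  rw [map_mul, hx] at h1
  have h2 : ∀ y : S', Localization.awayMap S'.val.toRingHom r (algebraMap _ _ y) =
      algebraMap C (Localization.Away (S'.val.toRingHom r)) (y : C) := fun y =>
    IsLocalization.map_eq _ _
  rw [h2, h2, ← map_mul] at h1
  obtain ⟨⟨_, k, rfl⟩, hk⟩ := (IsLocalization.eq_iff_exists (Submonoid.powers (S'.val.toRingHom r)) _).mp h1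
  refine ⟨k + n, ?_⟩
  change (r : C) ^ k * (c * ((r ^ n : S') : C)) = (r : C) ^ k * (a : C) at hk
  have : (r : C) ^ (k + n) * c = ((r ^ k * a : S') : C) := by
    push_cast
    rw [← hk]
    push_cast
    ring
  rw [this]
  exact (r ^ k * a).2

lemma isLocalizationAway {A' G : Type*} [CommRing A'] [CommRing G] [IsDomain G] [Algebra A' G]
    (hinj : Function.Injective (algebraMap A' G)) (ρ : A') (hρ : algebraMap A' G ρ ≠ 0)
    (h : ∀ g : G, ∃ n : ℕ, (algebraMap A' G ρ) ^ n * g ∈ (algebraMap A' G).range) :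
    IsLocalization.Away ρ (Localization.Away (algebraMap A' G ρ)) := by
  have hinjL : Function.Injective (algebraMap G (Localization.Away (algebraMap A' G ρ))) :=
    IsLocalization.injective _ (powers_le_nonZeroDivisors_of_noZeroDivisors hρ)
  refine ⟨?_, ?_, ?_⟩
  · rintro ⟨_, n, rfl⟩
    change IsUnit (algebraMap A' _ (ρ ^ n))
    rw [map_pow, IsScalarTower.algebraMap_apply A' G]
    exact (IsLocalization.Away.algebraMap_isUnit (S := Localization.Away (algebraMap A' G ρ))
      (algebraMap A' G ρ)).pow n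
  · intro x
    obtain ⟨⟨g, ⟨_, n, rfl⟩⟩, hg⟩ := IsLocalization.surj (Submonoid.powers (algebraMap A' G ρ)) x
    obtain ⟨k, a, ha⟩ := h g
    refine ⟨⟨a, ⟨ρ ^ (n + k), n + k, rfl⟩⟩, ?_⟩
    change x * algebraMap A' _ (ρ ^ (n + k)) = algebraMap A' _ a
    rw [IsScalarTower.algebraMap_apply A' G _ a, ha, map_mul, ← hg,
      IsScalarTower.algebraMap_apply A' G _ (ρ ^ (n + k))]
    change _ = _ * (x * algebraMap G _ ((algebraMap A' G ρ) ^ n))
    rw [mul_comm x, mul_comm x, ← mul_assoc, ← map_mul, ← pow_add, map_pow (algebraMap A' G), add_comm k]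
  · intro a b hab
    refine ⟨1, ?_⟩
    rw [IsScalarTower.algebraMap_apply A' G, IsScalarTower.algebraMap_apply A' G _ b] at hab
    rw [hinj (hinjL hab)]

/-- The key algebraic statement: after a suitable finite injective extension `A ⟶ A'` of domains, every prime
`P'` of `A' ⊗ B` over `P` is hit by `Spec L`, where `L` is an `A' ⊗ B`-algebra that is a localization `A'_ρ`. -/
theorem exists_away (A : Type u) {B : Type u} [CommRing A] [IsDomain A] [IsNoetherianRing A] [CommRing B]
    [Algebra A B] [Algebra.FiniteType A B] (P : Ideal B) [P.IsPrime]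
    (hmax : ∀ P' : Ideal B, P'.IsPrime → P ≤ P' → P'.under A = P.under A → P' = P) :
    ∃ (A' : Type u) (_ : CommRing A') (_ : Algebra A A'), Module.Finite A A' ∧
      Function.Injective (algebraMap A A') ∧
      (Algebra.HasGoingDown A' (A' ⊗[A] B) → ∀ P' : Ideal (A' ⊗[A] B), P'.IsPrime →
        P'.comap (Algebra.TensorProduct.includeRight (R := A) (A := A') (B := B)).toRingHom = P →
        ∃ (L : Type u) (_ : CommRing L) (_ : Algebra A' L) (ρ : A') (_ : IsLocalization.Away ρ L)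
          (ψ : A' ⊗[A] B →ₐ[A'] L) (M : Ideal L), M.IsPrime ∧ M.comap ψ.toRingHom = P') := by
  obtain ⟨s, hs, hcard, hcut⟩ := exists_cut A P
  obtain ⟨PC, hPC, hPCcomap, hqf⟩ := quasiFiniteAt_cut P s hs hcut hmax
  let C := B ⧸ Ideal.span (s : Set B)
  obtain ⟨S', hS', r, hr, hbij⟩ :=
    Algebra.QuasiFiniteAt.exists_fg_and_exists_notMem_and_awayMap_bijective (R := A) PC
  have hS'fin : Module.Finite A S' := ⟨(Submodule.fg_top _).mpr hS'⟩
  obtain ⟨A', _, _, _, hA'fin, hA'inj, hsplit⟩ := exists_splitting.{u, u, u} A S'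
  refine ⟨A', inferInstance, inferInstance, hA'fin, hA'inj, ?_⟩
  intro hgd P' hP' hP'P
  have hA'N : IsNoetherianRing A' := IsNoetherianRing.of_finite A A'
  obtain ⟨P'', hP'', hP''comap, hht⟩ := height_le_of_cut (A := A) (A' := A') P s hs hcard P' hP'P
  have hPC' : PC = P''.comap (Algebra.TensorProduct.includeRight (R := A) (A := A') (B := C)).toRingHom := by
    apply Ideal.comap_injective_of_surjective (Ideal.Quotient.mk (Ideal.span (s : Set B)))
      Ideal.Quotient.mk_surjective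
    rw [hPCcomap, ← hP'P, ← hP''comap]
    ext b
    simp only [Ideal.mem_comap]
    change _ ⊗ₜ[A] _ ∈ P'' ↔ _ ⊗ₜ[A] _ ∈ P''
    rfl
  have hqf' : Algebra.QuasiFiniteAt A' P'' := Algebra.QuasiFiniteAt.baseChange PC P'' hPC'
  have hNC : IsNoetherianRing (A' ⊗[A] C) := Algebra.FiniteType.isNoetherianRing A' _
  obtain ⟨Q, hQ, hQP'', hQA'⟩ := exists_prime_over_bot (A := A') P''
    (fun P₁ hP₁ hle hun => Algebra.QuasiFiniteAt.eq_of_le_of_under_eq (R := A') hle hun) hht
  let G := (A' ⊗[A] C) ⧸ Q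
  have hG : IsDomain G := inferInstance
  have hGinj : Function.Injective (algebraMap A' G) := by
    rw [injective_iff_map_eq_zero]
    intro a ha
    have : a ∈ Q.under A' := by
      rw [Ideal.under_def, Ideal.mem_comap, ← Ideal.Quotient.eq_zero_iff_mem]
      exact ha
    rwa [hQA'] at this
  let φC : C →ₐ[A] G := ((Ideal.Quotient.mkₐ A' Q).restrictScalars A).comp
    (Algebra.TensorProduct.includeRight (R := A) (A := A') (B := C))
  let φ : S' →ₐ[A] G := φC.comp S'.val
  obtain ⟨ρ, hρ⟩ := hsplit G φ r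
  have hrG : φ r ∉ P''.map (Ideal.Quotient.mk Q) := by
    intro hmem
    apply hr
    rw [hPC']
    change Ideal.Quotient.mk Q (1 ⊗ₜ[A] r.1) ∈ _ at hmem
    rw [Ideal.mem_quotient_iff_mem hQP''] at hmem
    exact hmem
  have hρ0 : algebraMap A' G ρ ≠ 0 := by
    rw [hρ]
    intro h0
    rw [h0] at hrG
    exact hrG (Ideal.zero_mem _)
  have hpow : ∀ g : G, ∃ n : ℕ, (algebraMap A' G ρ) ^ n * g ∈ (algebraMap A' G).range := by
    intro g
    obtain ⟨x, rfl⟩ := Ideal.Quotient.mk_surjective g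
    induction x using TensorProduct.induction_on with
    | zero => exact ⟨0, by rw [map_zero, mul_zero]; exact zero_mem _⟩
    | add x y hx hy =>
      obtain ⟨n, hn⟩ := hx
      obtain ⟨m, hm⟩ := hy
      refine ⟨n + m, ?_⟩
      have : (algebraMap A' G ρ) ^ (n + m) * Ideal.Quotient.mk Q (x + y) =
          (algebraMap A' G ρ) ^ m * ((algebraMap A' G ρ) ^ n * Ideal.Quotient.mk Q x) +
          (algebraMap A' G ρ) ^ n * ((algebraMap A' G ρ) ^ m * Ideal.Quotient.mk Q y) := by
        rw [map_add]; ring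
      rw [this]
      have hρr : algebraMap A' G ρ ∈ (algebraMap A' G).range := ⟨ρ, rfl⟩
      exact add_mem (mul_mem (pow_mem hρr _) hn) (mul_mem (pow_mem hρr _) hm)
    | tmul a c =>
      obtain ⟨n, hn⟩ := exists_pow_mul_mem S' r hbij.2 c
      refine ⟨n, ?_⟩
      have h1 : (algebraMap A' G ρ) ^ n * Ideal.Quotient.mk Q (a ⊗ₜ[A] c) =
          algebraMap A' G a * φ ⟨(r : C) ^ n * c, hn⟩ := by
        rw [hρ]
        change (φC r) ^ n * _ = _ * φC ((r : C) ^ n * c)
        rw [map_mul, map_pow]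
        have : Ideal.Quotient.mk Q (a ⊗ₜ[A] c) = algebraMap A' G a * φC c := by
          change _ = Ideal.Quotient.mk Q (a ⊗ₜ 1) * Ideal.Quotient.mk Q (1 ⊗ₜ c)
          rw [← map_mul, Algebra.TensorProduct.tmul_mul_tmul, mul_one, one_mul]
        rw [this]; ring
      rw [h1]
      exact mul_mem ⟨a, rfl⟩ (hsplit G φ _)
  let L := Localization.Away (algebraMap A' G ρ)
  have hloc : IsLocalization.Away ρ L := isLocalizationAway hGinj ρ hρ0 hpow
  let θ : A' ⊗[A] B →ₐ[A'] A' ⊗[A] C :=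
    Algebra.TensorProduct.map (AlgHom.id A' A') (Ideal.Quotient.mkₐ A (Ideal.span (s : Set B)))
  let ψ : A' ⊗[A] B →ₐ[A'] L := (IsScalarTower.toAlgHom A' G L).comp ((Ideal.Quotient.mkₐ A' Q).comp θ)
  have hprime1 : (P''.map (Ideal.Quotient.mk Q)).IsPrime := Ideal.isPrime_map_quotientMk_of_isPrime hQP''
  have hdisj : Disjoint (Submonoid.powers (algebraMap A' G ρ) : Set G) (P''.map (Ideal.Quotient.mk Q)) := by
    rw [Set.disjoint_left]
    rintro _ ⟨n, rfl⟩ hmem
    apply hrG
    rw [← hρ]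
    exact hprime1.mem_of_pow_mem n hmem
  refine ⟨L, inferInstance, inferInstance, ρ, hloc, ψ,
    (P''.map (Ideal.Quotient.mk Q)).map (algebraMap G L),
    IsLocalization.isPrime_of_isPrime_disjoint _ _ _ hprime1 hdisj, ?_⟩
  have h1 := IsLocalization.under_map_of_isPrime_disjoint _ L hprime1 hdisj
  rw [← hP''comap]
  ext x
  rw [Ideal.mem_comap, Ideal.mem_comap]
  change algebraMap G L (Ideal.Quotient.mk Q (θ x)) ∈ _ ↔ θ x ∈ P''
  rw [← Ideal.mem_quotient_iff_mem hQP'']
  conv_rhs => rw [← h1]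
  rfl

end Groth.Agent.Ega43.QSAway
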