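import Mathlib.RingTheory.ZariskisMainTheorem
import Mathlib.RingTheory.Ideal.KrullsHeightTheorem
import Mathlib.RingTheory.Ideal.GoingDown
import Mathlib.RingTheory.LocalRing.ResidueField.Fiber
import Mathlib.RingTheory.QuasiFinite.Basic

set_option autoImplicit false
universe u
namespace Groth.Agent.Ega43.QSCut

open TensorProduct

lemma exists_ltSeries_quotient {C : Type*} [CommRing C] (Q : Ideal C) (l : LTSeries (PrimeSpectrum C))
    (h : Q ≤ l.head.asIdeal) :
    ∃ l' : LTSeries (PrimeSpectrum (C ⧸ Q)), l'.length = l.length ∧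
      l'.last.asIdeal = l.last.asIdeal.map (Ideal.Quotient.mk Q) := by
  have hle : ∀ i, Q ≤ (l i).asIdeal := fun i => h.trans (LTSeries.head_le l i)
  refine ⟨⟨l.length, fun i => ⟨(l i).asIdeal.map (Ideal.Quotient.mk Q),
    Ideal.isPrime_map_quotientMk_of_isPrime (hle i)⟩, fun i => ?_⟩, rfl, rfl⟩
  change (PrimeSpectrum.asIdeal _ < PrimeSpectrum.asIdeal _)
  have hlt : (l i.castSucc).asIdeal < (l i.succ).asIdeal := l.step i
  refine lt_of_le_of_ne (Ideal.map_mono hlt.le) fun heq => hlt.ne ?_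
  have := congr_arg (Ideal.comap (Ideal.Quotient.mk Q)) heq
  change Ideal.comap _ (Ideal.map _ _) = Ideal.comap _ (Ideal.map _ _) at this
  rwa [Ideal.comap_map_of_surjective' _ Ideal.Quotient.mk_surjective,
    Ideal.comap_map_of_surjective' _ Ideal.Quotient.mk_surjective, Ideal.mk_ker,
    sup_eq_left.mpr (hle _), sup_eq_left.mpr (hle _)] at this

lemma height_map_mk_add_one_le {A : Type*} [CommRing A] [IsDomain A] [IsNoetherianRing A]
    (q p : Ideal A) [q.IsPrime] [p.IsPrime] (hqp : q ≤ p) (hq : q ≠ ⊥) :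
    (p.map (Ideal.Quotient.mk q)).height + 1 ≤ p.height := by
  have hprime : (p.map (Ideal.Quotient.mk q)).IsPrime := Ideal.isPrime_map_quotientMk_of_isPrime hqp
  obtain ⟨l, hl, hlen⟩ := (p.map (Ideal.Quotient.mk q)).exists_ltSeries_length_eq_height
  let l' : LTSeries (PrimeSpectrum A) := l.map (PrimeSpectrum.comap (Ideal.Quotient.mk q))
    (RingHom.strictMono_comap_of_surjective Ideal.Quotient.mk_surjective)
  let b : PrimeSpectrum A := ⟨⊥, Ideal.isPrime_bot⟩
  have hb : b < l'.head := by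
    change (⊥ : Ideal A) < (PrimeSpectrum.comap (Ideal.Quotient.mk q) l.head).asIdeal
    refine lt_of_lt_of_le (bot_lt_iff_ne_bot.mpr hq) ?_
    intro a ha
    change Ideal.Quotient.mk q a ∈ l.head.asIdeal
    rw [Ideal.Quotient.eq_zero_iff_mem.mpr ha]
    exact l.head.asIdeal.zero_mem
  let l'' : LTSeries (PrimeSpectrum A) := l'.cons b hb
  have hlast : l''.last = ⟨p, inferInstance⟩ := by
    simp only [l'', RelSeries.last_cons, l', LTSeries.last_map, hl]
    ext1
    change Ideal.comap _ (Ideal.map _ _) = p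
    rw [Ideal.comap_map_of_surjective' _ Ideal.Quotient.mk_surjective, Ideal.mk_ker,
      sup_eq_left.mpr hqp]
  have := Order.length_le_height_last (p := l'')
  rw [hlast, ← PrimeSpectrum.height_eq_orderHeight] at this
  refine le_trans (le_of_eq ?_) this
  rw [← hlen]
  simp [l'', l']

/-- Let `A` be a Noetherian domain, `C` a Noetherian `A`-algebra, `P` a prime of `C` which is minimal among the
primes over `P ∩ A`, with `ht P ≥ ht (P ∩ A)`. Then `P` contains a prime over `0`. -/
theorem exists_prime_over_bot {A C : Type*} [CommRing A] [IsDomain A] [IsNoetherianRing A]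
    [CommRing C] [IsNoetherianRing C] [Algebra A C] (P : Ideal C) [P.IsPrime]
    (hmin : ∀ P' : Ideal C, P'.IsPrime → P' ≤ P → P'.under A = P.under A → P' = P)
    (h : (P.under A).height ≤ P.height) :
    ∃ Q : Ideal C, Q.IsPrime ∧ Q ≤ P ∧ Q.under A = ⊥ := by
  obtain ⟨l, hl, hlen⟩ := P.exists_ltSeries_length_eq_height
  obtain ⟨Q, hQ⟩ : ∃ Q : PrimeSpectrum C, Q = l.head := ⟨_, rfl⟩
  have hQP : Q.asIdeal ≤ P := by
    have h1 : l.head ≤ l.last := LTSeries.head_le_last l
    rw [hl, ← hQ] at h1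
    exact h1
  refine ⟨Q.asIdeal, Q.isPrime, hQP, ?_⟩
  by_contra hne
  obtain ⟨l', hl'len, hl'last⟩ := exists_ltSeries_quotient Q.asIdeal l (by rw [hQ])
  have hQ' := Q.isPrime
  set q := Q.asIdeal.under A with hq
  set p := P.under A with hp
  have hqp : q ≤ p := Ideal.comap_mono hQP
  have : (p.map (Ideal.Quotient.mk q)).IsPrime := Ideal.isPrime_map_quotientMk_of_isPrime hqp
  have hPQ : (P.map (Ideal.Quotient.mk Q.asIdeal)).IsPrime := Ideal.isPrime_map_quotientMk_of_isPrime hQP
  have : Q.asIdeal.LiesOver q := ⟨rfl⟩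
  have hlo : (P.map (Ideal.Quotient.mk Q.asIdeal)).LiesOver (p.map (Ideal.Quotient.mk q)) := by
    constructor
    ext x
    obtain ⟨a, rfl⟩ := Ideal.Quotient.mk_surjective x
    rw [Ideal.mem_quotient_iff_mem hqp, Ideal.under_def, Ideal.mem_comap]
    change _ ↔ Ideal.Quotient.mk Q.asIdeal (algebraMap A C a) ∈ P.map (Ideal.Quotient.mk Q.asIdeal)
    rw [Ideal.mem_quotient_iff_mem hQP]
  have h1 := Ideal.height_le_height_add_of_liesOver (p.map (Ideal.Quotient.mk q))
    (P.map (Ideal.Quotient.mk Q.asIdeal))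
  have h2 : ((P.map (Ideal.Quotient.mk Q.asIdeal)).map (Ideal.Quotient.mk
      ((p.map (Ideal.Quotient.mk q)).map (algebraMap (A ⧸ q) (C ⧸ Q.asIdeal))))).height = 0 := by
    set J := (p.map (Ideal.Quotient.mk q)).map (algebraMap (A ⧸ q) (C ⧸ Q.asIdeal)) with hJ
    have hJle : J ≤ P.map (Ideal.Quotient.mk Q.asIdeal) := by
      rw [hJ, Ideal.map_le_iff_le_comap]
      exact hlo.over.le
    have hpr : ((P.map (Ideal.Quotient.mk Q.asIdeal)).map (Ideal.Quotient.mk J)).IsPrime :=
      Ideal.isPrime_map_quotientMk_of_isPrime hJle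
    rw [Ideal.height_eq_zero_iff]
    refine ⟨⟨hpr, bot_le⟩, ?_⟩
    rintro T ⟨hT, -⟩ hTle
    let φ : C →+* (C ⧸ Q.asIdeal) ⧸ J := (Ideal.Quotient.mk J).comp (Ideal.Quotient.mk Q.asIdeal)
    have hφ : Function.Surjective φ :=
      Ideal.Quotient.mk_surjective.comp Ideal.Quotient.mk_surjective
    have hcomap : Ideal.comap φ ((P.map (Ideal.Quotient.mk Q.asIdeal)).map (Ideal.Quotient.mk J)) = P := by
      rw [← Ideal.comap_comap, Ideal.comap_map_of_surjective' _ Ideal.Quotient.mk_surjective,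
        Ideal.mk_ker, sup_eq_left.mpr hJle, Ideal.comap_map_of_surjective' _
        Ideal.Quotient.mk_surjective, Ideal.mk_ker, sup_eq_left.mpr hQP]
    have hTP : Ideal.comap φ T = P := by
      apply hmin _ (Ideal.comap_isPrime φ T)
      · rw [← hcomap]; exact Ideal.comap_mono hTle
      · apply le_antisymm
        · rw [hp]
          refine (Ideal.comap_mono (f := algebraMap A C) (?_ : Ideal.comap φ T ≤ P))
          rw [← hcomap]; exact Ideal.comap_mono hTle
        · intro a ha
          change φ (algebraMap A C a) ∈ T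
          have : φ (algebraMap A C a) = 0 := by
            change Ideal.Quotient.mk J (algebraMap (A ⧸ q) (C ⧸ Q.asIdeal) (Ideal.Quotient.mk q a)) = 0
            rw [Ideal.Quotient.eq_zero_iff_mem]
            exact Ideal.mem_map_of_mem _ (Ideal.mem_map_of_mem _ ha)
          rw [this]; exact T.zero_mem
    rw [Ideal.map_map, Ideal.map_le_iff_le_comap]
    exact hTP.ge
  have h3 : P.height ≤ (P.map (Ideal.Quotient.mk Q.asIdeal)).height := by
    rw [← hlen, ← hl'len]
    have := Order.length_le_height_last (p := l')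
    rw [← PrimeSpectrum.height_eq_orderHeight, hl'last, hl] at this
    exact this
  have h4 := height_map_mk_add_one_le q p hqp hne
  rw [h2, add_zero] at h1
  have h5 : p.height + 1 ≤ p.height := by
    calc p.height + 1 ≤ P.height + 1 := by gcongr
      _ ≤ (P.map (Ideal.Quotient.mk Q.asIdeal)).height + 1 := by gcongr
      _ ≤ (p.map (Ideal.Quotient.mk q)).height + 1 := by gcongr
      _ ≤ p.height := h4
  have h6 : p.height ≠ ⊤ := Ideal.height_ne_top_of_isPrime
  exact absurd h5 (by
    rw [not_le]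
    exact (ENat.lt_add_one_iff h6).mpr le_rfl)

end Groth.Agent.Ega43.QSCut
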