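import Groth.Agent.Ega43.QSHeight
import Groth.Agent.Ega43.QSCut
import Mathlib.RingTheory.ZariskisMainTheorem
import Mathlib.RingTheory.Spectrum.Prime.Jacobson

set_option autoImplicit false
universe u
namespace Groth.Agent.Ega43.QSExists

open TensorProduct Groth.Agent.Ega43.QSHeight

section

variable (A : Type*) {B : Type*} [CommRing A] [CommRing B] [Algebra A B]

lemma fh_ne_top [Algebra.FiniteType A B] (P : Ideal B) [P.IsPrime] : fh A P ≠ ⊤ := by
  have : IsNoetherianRing ((P.under A).Fiber B) :=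
    Algebra.FiniteType.isNoetherianRing (P.under A).ResidueField _
  have := (fibrePt A P).isPrime
  exact Ideal.height_ne_top_of_isPrime

/-- Cut `B` by `fh A P` elements of `P` to make `P` minimal in its fibre. -/
theorem exists_cut [Algebra.FiniteType A B] (P : Ideal B) [hP : P.IsPrime] :
    ∃ s : Finset B, (s : Set B) ⊆ P ∧ (s.card : ℕ∞) ≤ fh A P ∧
      ∀ P' : Ideal B, P'.IsPrime → P' ≤ P → P'.under A = P.under A → (s : Set B) ⊆ P' → P' = P := by
  classical
  have : IsNoetherianRing ((P.under A).Fiber B) :=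
    Algebra.FiniteType.isNoetherianRing (P.under A).ResidueField _
  have := (fibrePt A P).isPrime
  obtain ⟨t, ht, hcard⟩ := Ideal.exists_finset_card_eq_height_of_isNoetherianRing (fibrePt A P).asIdeal
  choose r hr b hb using fun y : (P.under A).Fiber B => Ideal.Fiber.exists_smul_eq_one_tmul (P.under A) y
  refine ⟨t.image b, ?_, ?_, ?_⟩
  · intro x hx
    rw [Finset.coe_image] at hx
    obtain ⟨y, hy, rfl⟩ := hx
    have h1 : y ∈ (fibrePt A P).asIdeal := ht.1.2 (Ideal.subset_span hy)
    rw [← comap_fibrePt A P]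
    change (1 : (P.under A).ResidueField) ⊗ₜ[A] b y ∈ (fibrePt A P).asIdeal
    rw [← hb, Algebra.smul_def]
    exact Ideal.mul_mem_left _ _ h1
  · unfold fh
    rw [← hcard]
    exact_mod_cast Finset.card_image_le
  · intro P' hP' hle hunder hs
    let e := PrimeSpectrum.primesOverOrderIsoFiber A B (P.under A)
    let Φ' := e ⟨P', ⟨hP', ⟨hunder.symm⟩⟩⟩
    have hΦ'le : Φ' ≤ fibrePt A P := by
      unfold fibrePt
      exact e.monotone hle
    have hcomap : Φ'.asIdeal.comap (Algebra.TensorProduct.includeRight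
      (R := A) (A := (P.under A).ResidueField) (B := B)).toRingHom = P' := by
      have := PrimeSpectrum.coe_primesOverOrderIsoFiber_symm_apply (R := A) (p := P.under A) Φ'
      rw [show Φ' = e ⟨P', ⟨hP', ⟨hunder.symm⟩⟩⟩ from rfl, OrderIso.symm_apply_apply] at this
      exact this.symm
    have ht' : Ideal.span (t : Set ((P.under A).Fiber B)) ≤ Φ'.asIdeal := by
      rw [Ideal.span_le]
      intro y hy
      have h1 : b y ∈ P' := hs (by rw [Finset.coe_image]; exact ⟨y, hy, rfl⟩)
      rw [← hcomap] at h1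
      have h2 : (1 : (P.under A).ResidueField) ⊗ₜ[A] b y ∈ Φ'.asIdeal := h1
      rw [← hb, Algebra.smul_def] at h2
      refine (Φ'.isPrime.mem_or_mem h2).resolve_left fun h3 => hr y ?_
      rw [← hunder, ← hcomap]
      change (1 : (P.under A).ResidueField) ⊗ₜ[A] (algebraMap A B (r y)) ∈ Φ'.asIdeal
      rw [← Algebra.TensorProduct.algebraMap_apply'] 
      exact h3
    have h4 : (fibrePt A P).asIdeal ≤ Φ'.asIdeal := ht.2 ⟨Φ'.isPrime, ht'⟩ hΦ'le
    have h5 : Φ' = fibrePt A P := le_antisymm hΦ'le h4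
    rw [← hcomap, h5, comap_fibrePt]

/-- A prime which is isolated in its fibre is a quasi-finite prime. -/
theorem quasiFiniteAt_of_isolated [Algebra.FiniteType A B] (P : Ideal B) [hP : P.IsPrime]
    (hmax : ∀ P' : Ideal B, P'.IsPrime → P ≤ P' → P'.under A = P.under A → P' = P)
    (hmin : ∀ P' : Ideal B, P'.IsPrime → P' ≤ P → P'.under A = P.under A → P' = P) :
    Algebra.QuasiFiniteAt A P := by
  have hN : IsNoetherianRing ((P.under A).Fiber B) :=
    Algebra.FiniteType.isNoetherianRing (P.under A).ResidueField _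
  have hJ : IsJacobsonRing ((P.under A).Fiber B) :=
    isJacobsonRing_of_finiteType (A := (P.under A).ResidueField)
  let e := PrimeSpectrum.primesOverOrderIsoFiber A B (P.under A)
  have hopen : IsOpen {fibrePt A P} := by
    rw [(PrimeSpectrum.isOpen_singleton_tfae_of_isNoetherian_of_isJacobsonRing (fibrePt A P)).out
      0 2 rfl rfl]
    refine ⟨?_, ?_⟩
    · rw [PrimeSpectrum.isClosed_singleton_iff_isMaximal, ← PrimeSpectrum.isMax_iff]
      intro Φ hΦ
      have h1 : (⟨P, ⟨inferInstance, ⟨rfl⟩⟩⟩ : (P.under A).primesOver B) ≤ e.symm Φ := by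
        rw [OrderIso.le_symm_apply]; exact hΦ
      have h2 := hmax (e.symm Φ).1 (e.symm Φ).2.1 h1 (e.symm Φ).2.2.over.symm
      have h3 : e.symm Φ = ⟨P, ⟨inferInstance, ⟨rfl⟩⟩⟩ := Subtype.ext h2
      rw [OrderIso.symm_apply_eq] at h3
      rw [h3]; rfl
    · rw [PrimeSpectrum.stableUnderGeneralization_singleton, ← PrimeSpectrum.isMin_iff]
      intro Φ hΦ
      have h1 : e.symm Φ ≤ (⟨P, ⟨inferInstance, ⟨rfl⟩⟩⟩ : (P.under A).primesOver B) := by
        rw [OrderIso.symm_apply_le]; exact hΦ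
      have h2 := hmin (e.symm Φ).1 (e.symm Φ).2.1 h1 (e.symm Φ).2.2.over.symm
      have h3 : e.symm Φ = ⟨P, ⟨inferInstance, ⟨rfl⟩⟩⟩ := Subtype.ext h2
      rw [OrderIso.symm_apply_eq] at h3
      rw [h3]; rfl
  have := (fibrePt A P).isPrime
  have hlo : P.LiesOver (P.under A) := ⟨rfl⟩
  have : Algebra.QuasiFiniteAt (P.under A).ResidueField (fibrePt A P).asIdeal :=
    Algebra.QuasiFiniteAt.of_isOpen_singleton _ hopen
  exact Algebra.QuasiFiniteAt.of_quasiFiniteAt_residueField (P.under A) P (fibrePt A P).asIdeal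
    (comap_fibrePt A P)

end

end Groth.Agent.Ega43.QSExists
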