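import Mathlib.FieldTheory.IsAlgClosed.AlgebraicClosure
import Mathlib.RingTheory.Localization.FractionRing
import Mathlib.RingTheory.IntegralClosure.IsIntegral.Basic
import Mathlib.RingTheory.FiniteType

set_option autoImplicit false
universe u v w
namespace Groth.Agent.Ega43.QSSplit

/-- A finite algebra `S` over a domain `A` is split by a finite extension `A'` of domains: every map from `S`
to a domain over `A'` has image in the image of `A'`. -/
theorem exists_splitting (A : Type u) [CommRing A] [IsDomain A] (S : Type v) [CommRing S] [Algebra A S]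
    [Module.Finite A S] :
    ∃ (A' : Type u) (_ : CommRing A') (_ : IsDomain A') (_ : Algebra A A'), Module.Finite A A' ∧
      Function.Injective (algebraMap A A') ∧
      ∀ (R : Type w) [CommRing R] [IsDomain R] [Algebra A R] [Algebra A' R] [IsScalarTower A A' R]
        (φ : S →ₐ[A] R) (s : S), φ s ∈ (algebraMap A' R).range := by
  classical
  obtain ⟨t, ht⟩ := Algebra.FiniteType.out (R := A) (A := S)
  have hint : ∀ c : S, ∃ p : Polynomial A, p.Monic ∧ Polynomial.aeval c p = 0 := fun c => by
    obtain ⟨p, hp, h⟩ := Algebra.IsIntegral.isIntegral (R := A) c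
    exact ⟨p, hp, h⟩
  choose p hp hpc using hint
  let Ω := AlgebraicClosure (FractionRing A)
  let rts : Finset Ω := t.biUnion fun c => ((p c).map (algebraMap A Ω)).roots.toFinset
  have hrts : ∀ x ∈ rts, IsIntegral A x := by
    intro x hx
    obtain ⟨c, hc, hx⟩ := Finset.mem_biUnion.mp hx
    rw [Multiset.mem_toFinset, Polynomial.mem_roots', Polynomial.IsRoot.def, Polynomial.eval_map] at hx
    exact ⟨p c, hp c, hx.2⟩
  have hinj : Function.Injective (algebraMap A Ω) := by
    rw [IsScalarTower.algebraMap_eq A (FractionRing A) Ω]
    exact (algebraMap (FractionRing A) Ω).injective.comp (IsFractionRing.injective A (FractionRing A))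
  let A' : Subalgebra A Ω := Algebra.adjoin A (rts : Set Ω)
  have hfin : Module.Finite A A' := ⟨(Submodule.fg_top _).mpr
    (fg_adjoin_of_finite rts.finite_toSet hrts)⟩
  refine ⟨A', inferInstance, inferInstance, inferInstance, hfin, ?_, ?_⟩
  · intro a b hab
    apply hinj
    exact congr_arg Subtype.val hab
  · intro R _ _ _ _ _ φ s
    have hmain : ∀ c ∈ t, φ c ∈ (IsScalarTower.toAlgHom A A' R).range := by
      intro c hc
      let rs := ((p c).map (algebraMap A Ω)).roots
      have hrs : ∀ x ∈ rs, x ∈ A' := fun x hx => Algebra.subset_adjoin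
        (Finset.mem_biUnion.mpr ⟨c, hc, Multiset.mem_toFinset.mpr hx⟩)
      let m : Multiset A' := rs.pmap (fun x h => ⟨x, h⟩) hrs
      have hm : m.map (algebraMap A' Ω) = rs := by
        change Multiset.map _ (Multiset.pmap _ _ _) = _
        rw [Multiset.map_pmap]
        exact (Multiset.pmap_eq_map _ (fun x : Ω => x) rs hrs).trans (Multiset.map_id' _)
      have hP : (p c).map (algebraMap A A') = (m.map fun a => Polynomial.X - Polynomial.C a).prod := by
        apply Polynomial.map_injective (algebraMap A' Ω) Subtype.val_injective
        rw [Polynomial.map_map, ← IsScalarTower.algebraMap_eq, Polynomial.map_multiset_prod,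
          Multiset.map_map]
        have hs : ((p c).map (algebraMap A Ω)).Splits := IsAlgClosed.splits _
        rw [hs.eq_prod_roots_of_monic ((hp c).map _)]
        change (Multiset.map _ rs).prod = _
        rw [← hm, Multiset.map_map]
        congr 2
        ext a : 1
        simp
      have h0 : Polynomial.aeval (φ c) (p c) = 0 := by
        rw [Polynomial.aeval_algHom_apply, hpc, map_zero]
      have h1 : (m.map fun a => φ c - algebraMap A' R a).prod = 0 := by
        rw [← h0, Polynomial.aeval_def, IsScalarTower.algebraMap_eq A A' R, ← Polynomial.eval₂_map, hP,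
          Polynomial.eval₂_multiset_prod]
        rw [Multiset.map_map]
        congr 2
        ext a : 1
        simp
      rw [Multiset.prod_eq_zero_iff, Multiset.mem_map] at h1
      obtain ⟨a, -, ha⟩ := h1
      exact ⟨a, (sub_eq_zero.mp ha).symm⟩
    have hle : φ.range ≤ (IsScalarTower.toAlgHom A A' R).range := by
      rw [← Algebra.map_top, ← ht, Subalgebra.map_le, Algebra.adjoin_le_iff]
      exact hmain
    exact hle ⟨s, rfl⟩

end Groth.Agent.Ega43.QSSplit
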