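import Groth.Agent.Ega43.QSHeight
import Groth.Agent.Ega43.QSCut
import Groth.Agent.Ega43.QSExists
import Groth.Agent.Ega43.QSSplit
import Mathlib.RingTheory.ZariskisMainTheorem
import Mathlib.LinearAlgebra.TensorProduct.RightExactness

set_option autoImplicit false
universe u
namespace Groth.Agent.Ega43.QSCore

open TensorProduct Groth.Agent.Ega43.QSHeight Groth.Agent.Ega43.QSExists Groth.Agent.Ega43.QSCut

lemma height_drop {R D : Type*} [CommRing R] [IsNoetherianRing R] [CommRing D] (θ : R →+* D)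
    (hθ : Function.Surjective θ) (s : Set R) (hs : RingHom.ker θ = Ideal.span s) (P : Ideal R) [P.IsPrime]
    (h : s ⊆ P) : P.height ≤ (P.map θ).height + s.encard := by
  have h1 := Ideal.height_le_height_add_encard_of_subset s h
  let e : R ⧸ Ideal.span s ≃+* D :=
    (Ideal.quotEquivOfEq hs.symm).trans (RingHom.quotientKerEquivOfSurjective hθ)
  have h2 : (e : R ⧸ Ideal.span s →+* D).comp (Ideal.Quotient.mk (Ideal.span s)) = θ := by
    ext x; rfl
  have h3 : ((P.map (Ideal.Quotient.mk (Ideal.span s))).map e).height = _ := RingEquiv.height_map e _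
  rw [← h3] at h1
  convert h1 using 3
  rw [← h2, ← Ideal.map_map]
  rfl

/-- Let `C = B ⧸ (s)`, `s` a cut of `P`. For a prime `P'` of `A' ⊗ B` over `P` the prime `P''` of `A' ⊗ C`
satisfies `ht (P'' ∩ A') ≤ ht P''`. -/
theorem height_le_of_cut {A A' B : Type*} [CommRing A] [CommRing A'] [CommRing B]
    [Algebra A A'] [Algebra A B] [Algebra.FiniteType A B] [IsNoetherianRing A']
    [Algebra.HasGoingDown A' (A' ⊗[A] B)] (P : Ideal B) [P.IsPrime] (s : Finset B) (hs : (s : Set B) ⊆ P)
    (hcard : (s.card : ℕ∞) ≤ fh A P)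
    (P' : Ideal (A' ⊗[A] B)) [P'.IsPrime]
    (h : P'.comap (Algebra.TensorProduct.includeRight (R := A) (A := A') (B := B)).toRingHom = P) :
    ∃ P'' : Ideal (A' ⊗[A] (B ⧸ Ideal.span (s : Set B))), P''.IsPrime ∧
      P''.comap (Algebra.TensorProduct.map (AlgHom.id A' A')
        (Ideal.Quotient.mkₐ A (Ideal.span (s : Set B)))).toRingHom = P' ∧
      (P''.under A').height ≤ P''.height := by
  classical
  set θ : A' ⊗[A] B →ₐ[A'] A' ⊗[A] (B ⧸ Ideal.span (s : Set B)) :=
    Algebra.TensorProduct.map (AlgHom.id A' A') (Ideal.Quotient.mkₐ A (Ideal.span (s : Set B))) with hθdef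
  have hN : IsNoetherianRing (A' ⊗[A] B) := Algebra.FiniteType.isNoetherianRing A' _
  have hθs : Function.Surjective θ := Algebra.TensorProduct.map_surjective _ _ Function.surjective_id
    (Ideal.Quotient.mkₐ_surjective A _)
  let ι : B →ₐ[A] A' ⊗[A] B := Algebra.TensorProduct.includeRight
  let s' : Set (A' ⊗[A] B) := ι '' s
  have hker : RingHom.ker θ.toRingHom = Ideal.span s' := by
    have h1 := Algebra.TensorProduct.lTensor_ker (A := A') (Ideal.Quotient.mkₐ A (Ideal.span (s : Set B)))
      (Ideal.Quotient.mkₐ_surjective A _)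
    have h2 : RingHom.ker (Ideal.Quotient.mkₐ A (Ideal.span (s : Set B))) = Ideal.span (s : Set B) :=
      Ideal.Quotient.mkₐ_ker A _
    rw [h2] at h1
    change RingHom.ker (Algebra.TensorProduct.map (AlgHom.id A A')
      (Ideal.Quotient.mkₐ A (Ideal.span (s : Set B)))) = _
    rw [h1]
    exact Ideal.map_span _ _
  have hs'P' : s' ⊆ P' := by
    rintro _ ⟨b, hb, rfl⟩
    have : b ∈ P := hs hb
    rw [← h] at this
    exact this
  have hkerP' : RingHom.ker θ.toRingHom ≤ P' := by rw [hker, Ideal.span_le]; exact hs'P'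
  have hcomap : (P'.map θ.toRingHom).comap θ.toRingHom = P' := by
    rw [Ideal.comap_map_of_surjective' θ.toRingHom hθs, sup_eq_left.mpr hkerP']
  have hprime : (P'.map θ.toRingHom).IsPrime := Ideal.map_isPrime_of_surjective hθs hkerP'
  refine ⟨P'.map θ.toRingHom, hprime, hcomap, ?_⟩
  have h1 := height_add_fh_le (A := A) P P' h (fh_ne_top A P)
  have h2 := height_drop θ.toRingHom hθs s' hker P' hs'P'
  have h3 : s'.encard ≤ fh A P := by
    refine le_trans (Set.encard_image_le _ _) ?_
    rw [Set.encard_coe_eq_coe_finsetCard]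
    exact hcard
  have h4 : (P'.map θ.toRingHom).under A' = P'.under A' := by
    conv_rhs => rw [← hcomap]
    ext a
    rw [Ideal.under_def, Ideal.under_def, Ideal.mem_comap, Ideal.mem_comap, Ideal.mem_comap,
      ← θ.commutes a]
    rfl
  rw [h4]
  have h5 : (P'.under A').height + fh A P ≤ (P'.map θ.toRingHom).height + fh A P :=
    h1.trans (h2.trans (by gcongr))
  exact (ENat.add_le_add_iff_right (fh_ne_top A P)).mp h5

/-- `C = B ⧸ (s)` is quasi-finite at `P`. -/
theorem quasiFiniteAt_cut {A B : Type*} [CommRing A] [CommRing B] [Algebra A B] [Algebra.FiniteType A B]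
    (P : Ideal B) [P.IsPrime] (s : Finset B) (hs : (s : Set B) ⊆ P)
    (hcut : ∀ P' : Ideal B, P'.IsPrime → P' ≤ P → P'.under A = P.under A → (s : Set B) ⊆ P' → P' = P)
    (hmax : ∀ P' : Ideal B, P'.IsPrime → P ≤ P' → P'.under A = P.under A → P' = P) :
    ∃ PC : Ideal (B ⧸ Ideal.span (s : Set B)), ∃ _ : PC.IsPrime,
      PC.comap (Ideal.Quotient.mk (Ideal.span (s : Set B))) = P ∧ Algebra.QuasiFiniteAt A PC := by
  have hle : Ideal.span (s : Set B) ≤ P := by rw [Ideal.span_le]; exact hs
  have hprime : (P.map (Ideal.Quotient.mk (Ideal.span (s : Set B)))).IsPrime :=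
    Ideal.isPrime_map_quotientMk_of_isPrime hle
  have hcomap : (P.map (Ideal.Quotient.mk (Ideal.span (s : Set B)))).comap
      (Ideal.Quotient.mk (Ideal.span (s : Set B))) = P := by
    rw [Ideal.comap_map_of_surjective' _ Ideal.Quotient.mk_surjective, Ideal.mk_ker, sup_eq_left.mpr hle]
  refine ⟨_, hprime, hcomap, ?_⟩
  have hinj := Ideal.comap_injective_of_surjective (Ideal.Quotient.mk (Ideal.span (s : Set B)))
    Ideal.Quotient.mk_surjective
  have hunder : (P.map (Ideal.Quotient.mk (Ideal.span (s : Set B)))).under A = P.under A := by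
    conv_rhs => rw [← hcomap]
    rfl
  refine quasiFiniteAt_of_isolated A _ (fun P' hP' hle' hun => hinj ?_) (fun P' hP' hle' hun => hinj ?_)
  · rw [hcomap]
    apply hmax _ (Ideal.comap_isPrime _ _)
    · rw [← hcomap]; exact Ideal.comap_mono hle'
    · rw [← hunder, ← hun]; rfl
  · rw [hcomap]
    apply hcut _ (Ideal.comap_isPrime _ _)
    · conv_rhs => rw [← hcomap]
      exact Ideal.comap_mono hle'
    · rw [← hunder, ← hun]; rfl
    · intro x hx
      change Ideal.Quotient.mk _ x ∈ P'
      rw [Ideal.Quotient.eq_zero_iff_mem.mpr (Ideal.subset_span hx)]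
      exact P'.zero_mem

end Groth.Agent.Ega43.QSCore
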