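import Mathlib.RingTheory.ZariskisMainTheorem
import Mathlib.RingTheory.Ideal.KrullsHeightTheorem
import Mathlib.RingTheory.Ideal.GoingDown
import Mathlib.RingTheory.LocalRing.ResidueField.Fiber
import Mathlib.RingTheory.QuasiFinite.Basic
import Mathlib.RingTheory.Flat.Stability

set_option autoImplicit false
universe u
namespace Groth.Agent.Ega43.QSHeight

open TensorProduct

/-- Chain lifting through `F ⟶ F ⊗[K] k`. -/
lemma height_add_le_aux {A A' B K k : Type*} [CommRing A] [CommRing A'] [CommRing B] [Field K] [Field k]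
    [Algebra A A'] [Algebra A B] [Algebra A K] [Algebra A k] [Algebra A' k] [IsScalarTower A A' k]
    [Algebra K k] [IsScalarTower A K k]
    [IsNoetherianRing A'] [IsNoetherianRing (A' ⊗[A] B)] [Algebra.HasGoingDown A' (A' ⊗[A] B)]
    (hinj : ∀ Φ₁ Φ₂ : Ideal (K ⊗[A] B), Φ₁.IsPrime → Φ₂.IsPrime →
      Φ₁.comap (Algebra.TensorProduct.includeRight (R := A) (A := K) (B := B)).toRingHom =
      Φ₂.comap (Algebra.TensorProduct.includeRight (R := A) (A := K) (B := B)).toRingHom → Φ₁ = Φ₂)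
    (β : A' ⊗[A] B →+* (K ⊗[A] B) ⊗[K] k)
    (hβ1 : ∀ a', β (algebraMap A' _ a') = 1 ⊗ₜ (algebraMap A' k a'))
    (hβ2 : ∀ b, β (1 ⊗ₜ b) = (1 ⊗ₜ b) ⊗ₜ 1) (n : ℕ) :
    ∀ (Φ : Ideal (K ⊗[A] B)) (Ψ : Ideal ((K ⊗[A] B) ⊗[K] k)) [Φ.IsPrime] [Ψ.IsPrime] [Ψ.LiesOver Φ],
      (n : ℕ∞) ≤ Φ.height → (RingHom.ker (algebraMap A' k)).height + n ≤ (Ψ.comap β).height := by
  have hunder : ∀ (Ψ : Ideal ((K ⊗[A] B) ⊗[K] k)) [Ψ.IsPrime],
      (Ψ.comap β).under A' = RingHom.ker (algebraMap A' k) := by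
    intro Ψ hΨ
    ext a'
    rw [Ideal.under_def, Ideal.mem_comap, Ideal.mem_comap, hβ1, RingHom.mem_ker]
    constructor
    · intro h
      by_contra hne
      apply hΨ.ne_top
      rw [Ideal.eq_top_iff_one]
      have := Ψ.mul_mem_left ((1 : K ⊗[A] B) ⊗ₜ[K] (algebraMap A' k a')⁻¹) h
      rw [Algebra.TensorProduct.tmul_mul_tmul, inv_mul_cancel₀ hne, one_mul] at this
      exact this
    · intro h
      rw [h, TensorProduct.tmul_zero]
      exact Ψ.zero_mem
  induction n with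
  | zero =>
    intro Φ Ψ _ _ _ _
    have h1 := hunder Ψ
    have : (Ψ.comap β).LiesOver (RingHom.ker (algebraMap A' k)) := ⟨h1.symm⟩
    have hp : (RingHom.ker (algebraMap A' k)).IsPrime := RingHom.ker_isPrime _
    rw [Ideal.height_eq_height_add_of_liesOver_of_hasGoingDown (RingHom.ker (algebraMap A' k))
      (Ψ.comap β)]
    simp
  | succ n ih =>
    intro Φ Ψ _ _ _ hn
    obtain ⟨Φ₁, hΦ₁, hlt, hn1⟩ : ∃ Φ₁ : Ideal (K ⊗[A] B), Φ₁.IsPrime ∧ Φ₁ < Φ ∧ (n : ℕ∞) ≤ Φ₁.height := by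
      by_contra hcon
      push Not at hcon
      have : Φ.height ≤ n := Ideal.height_le_iff.mpr (fun q hq hlt => hcon q hq hlt)
      have h2 := hn.trans this
      norm_cast at h2
      omega
    have : Module.Flat (K ⊗[A] B) ((K ⊗[A] B) ⊗[K] k) := inferInstance
    obtain ⟨Ψ₁, hltΨ, hΨ₁, hlo⟩ := Ideal.exists_ideal_lt_liesOver_of_lt Ψ hlt
    have h1 := ih Φ₁ Ψ₁ hn1
    have hlt2 : Ψ₁.comap β < Ψ.comap β := by
      refine lt_of_le_of_ne (Ideal.comap_mono hltΨ.le) fun heq => hlt.ne ?_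
      apply hinj _ _ hΦ₁ inferInstance
      rw [Ideal.LiesOver.over (P := Ψ) (p := Φ), hlo.over]
      have e : ∀ Θ : Ideal ((K ⊗[A] B) ⊗[K] k),
          Ideal.comap (Algebra.TensorProduct.includeRight (R := A) (A := K) (B := B)).toRingHom
            (Ideal.under (K ⊗[A] B) Θ) =
          Ideal.comap (Algebra.TensorProduct.includeRight (R := A) (A := A') (B := B)).toRingHom
            (Θ.comap β) := by
        intro Θ
        ext b
        change (algebraMap (K ⊗[A] B) ((K ⊗[A] B) ⊗[K] k)) (1 ⊗ₜ b) ∈ Θ ↔ β (1 ⊗ₜ b) ∈ Θ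
        rw [hβ2]
        rfl
      rw [e, e, heq]
    have h3 := Ideal.height_add_one_le_of_lt_of_isPrime hlt2
    calc _ = (RingHom.ker (algebraMap A' k)).height + n + 1 := by push_cast; ring
      _ ≤ (Ψ₁.comap β).height + 1 := by gcongr
      _ ≤ _ := h3

section

variable (A : Type*) {B : Type*} [CommRing A] [CommRing B] [Algebra A B]

/-- The point of the fibre ring `κ(P ∩ A) ⊗ B` defined by the prime `P` of `B`. -/
noncomputable def fibrePt (P : Ideal B) [P.IsPrime] : PrimeSpectrum ((P.under A).Fiber B) :=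
  PrimeSpectrum.primesOverOrderIsoFiber A B (P.under A) ⟨P, ⟨inferInstance, ⟨rfl⟩⟩⟩

/-- The height of `P` in its fibre. -/
noncomputable def fh (P : Ideal B) [P.IsPrime] : ℕ∞ := (fibrePt A P).asIdeal.height

lemma comap_fibrePt (P : Ideal B) [P.IsPrime] :
    (fibrePt A P).asIdeal.comap (Algebra.TensorProduct.includeRight
      (R := A) (A := (P.under A).ResidueField) (B := B)).toRingHom = P := by
  have := PrimeSpectrum.coe_primesOverOrderIsoFiber_symm_apply (R := A) (p := P.under A) (fibrePt A P)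
  rw [fibrePt, OrderIso.symm_apply_apply] at this
  exact this.symm

lemma fibre_injective (p : Ideal A) [p.IsPrime] (Φ₁ Φ₂ : Ideal (p.Fiber B)) (h1 : Φ₁.IsPrime)
    (h2 : Φ₂.IsPrime)
    (h : Φ₁.comap (Algebra.TensorProduct.includeRight (R := A) (A := p.ResidueField) (B := B)).toRingHom =
      Φ₂.comap (Algebra.TensorProduct.includeRight (R := A) (A := p.ResidueField) (B := B)).toRingHom) :
    Φ₁ = Φ₂ := by
  have := (PrimeSpectrum.primesOverOrderIsoFiber A B p).symm.injective (a₁ := ⟨Φ₁, h1⟩) (a₂ := ⟨Φ₂, h2⟩)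
    (Subtype.ext h)
  exact congr_arg PrimeSpectrum.asIdeal this

end

/-- Let `P'` be a prime of `A' ⊗ B` over `P`. If `A' ⟶ A' ⊗ B` has going down, then
`ht (P' ∩ A') + (height of P in its fibre) ≤ ht P'`. -/
theorem height_add_fh_le {A A' B : Type*} [CommRing A] [CommRing A'] [CommRing B]
    [Algebra A A'] [Algebra A B] [IsNoetherianRing A'] [IsNoetherianRing (A' ⊗[A] B)]
    [Algebra.HasGoingDown A' (A' ⊗[A] B)] (P : Ideal B) [P.IsPrime] (P' : Ideal (A' ⊗[A] B)) [P'.IsPrime]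
    (h : P'.comap (Algebra.TensorProduct.includeRight (R := A) (A := A') (B := B)).toRingHom = P)
    (hfin : fh A P ≠ ⊤) :
    (P'.under A').height + fh A P ≤ P'.height := by
  let k := P'.ResidueField
  let K := (P.under A).ResidueField
  have hp : P.under A = P'.comap (algebraMap A (A' ⊗[A] B)) := by
    rw [← h]
    ext a
    change (1 : A') ⊗ₜ[A] (algebraMap A B a) ∈ P' ↔ (algebraMap A A' a) ⊗ₜ[A] (1 : B) ∈ P'
    rw [Algebra.algebraMap_eq_smul_one (R := A) (A := B), ← TensorProduct.smul_tmul,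
      ← Algebra.algebraMap_eq_smul_one]
  let f : K →+* k := Ideal.ResidueField.map (P.under A) P' (algebraMap A (A' ⊗[A] B)) hp
  let _ : Algebra K k := f.toAlgebra
  have : IsScalarTower A K k := IsScalarTower.of_algebraMap_eq fun a => by
    change _ = f (algebraMap A K a)
    rw [Ideal.ResidueField.map_algebraMap]
    rfl
  let iB : B →ₐ[A] k := (IsScalarTower.toAlgHom A (A' ⊗[A] B) k).comp
    (Algebra.TensorProduct.includeRight (R := A) (A := A') (B := B))
  let γ : K ⊗[A] B →ₐ[K] k := Algebra.TensorProduct.lift (Algebra.ofId K k) iB (fun _ _ => .all _ _)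
  let δ : (K ⊗[A] B) ⊗[K] k →ₐ[K] k := Algebra.TensorProduct.lift γ (AlgHom.id K k) (fun _ _ => .all _ _)
  let j1 : A' →ₐ[A] (K ⊗[A] B) ⊗[K] k :=
    ((Algebra.TensorProduct.includeRight (R := K) (A := K ⊗[A] B) (B := k)).restrictScalars A).comp
      (IsScalarTower.toAlgHom A A' k)
  let j2 : B →ₐ[A] (K ⊗[A] B) ⊗[K] k :=
    (IsScalarTower.toAlgHom A (K ⊗[A] B) ((K ⊗[A] B) ⊗[K] k)).comp
      (Algebra.TensorProduct.includeRight (R := A) (A := K) (B := B))
  let β : A' ⊗[A] B →ₐ[A] (K ⊗[A] B) ⊗[K] k := Algebra.TensorProduct.lift j1 j2 (fun _ _ => .all _ _)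
  have hδβ : ∀ x, δ (β x) = algebraMap (A' ⊗[A] B) k x := by
    intro x
    induction x using TensorProduct.induction_on with
    | zero => simp
    | add x y hx hy => rw [map_add, map_add, hx, hy, map_add]
    | tmul a' b =>
      rw [Algebra.TensorProduct.lift_tmul]
      change δ ((1 : K ⊗[A] B) ⊗ₜ[K] (algebraMap A' k a') * ((1 : K) ⊗ₜ[A] b) ⊗ₜ[K] (1 : k)) = _
      rw [map_mul, Algebra.TensorProduct.lift_tmul, Algebra.TensorProduct.lift_tmul, map_one, one_mul,
        map_one, mul_one, Algebra.TensorProduct.lift_tmul, map_one, one_mul]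
      change algebraMap (A' ⊗[A] B) k (a' ⊗ₜ 1) * algebraMap (A' ⊗[A] B) k (1 ⊗ₜ b) = _
      rw [← map_mul, Algebra.TensorProduct.tmul_mul_tmul, mul_one, one_mul]
  have hΨ : (RingHom.ker δ).comap β.toRingHom = P' := by
    ext x
    change δ (β x) = 0 ↔ _
    rw [hδβ, Ideal.algebraMap_residueField_eq_zero]
  have hprime : (RingHom.ker δ).IsPrime := RingHom.ker_isPrime _
  have hγprime : (RingHom.ker γ).IsPrime := RingHom.ker_isPrime _
  have hγ : RingHom.ker γ = (fibrePt A P).asIdeal := by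
    apply fibre_injective A (P.under A) _ _ hγprime (fibrePt A P).isPrime
    rw [comap_fibrePt]
    ext b
    change γ (1 ⊗ₜ b) = 0 ↔ b ∈ P
    rw [Algebra.TensorProduct.lift_tmul, map_one, one_mul]
    change algebraMap (A' ⊗[A] B) k (1 ⊗ₜ b) = 0 ↔ b ∈ P
    rw [Ideal.algebraMap_residueField_eq_zero, ← h]
    rfl
  have hlo : (RingHom.ker δ).LiesOver (fibrePt A P).asIdeal := by
    constructor
    rw [← hγ]
    ext y
    change γ y = 0 ↔ δ (y ⊗ₜ 1) = 0
    rw [Algebra.TensorProduct.lift_tmul, map_one, mul_one]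
  have hker : RingHom.ker (algebraMap A' k) = P'.under A' := by
    ext a'
    rw [RingHom.mem_ker, IsScalarTower.algebraMap_apply A' (A' ⊗[A] B) k,
      Ideal.algebraMap_residueField_eq_zero]
    rfl
  obtain ⟨n, hn⟩ := ENat.ne_top_iff_exists.mp hfin
  have := (fibrePt A P).isPrime
  have key := height_add_le_aux (A := A) (A' := A') (B := B) (K := K) (k := k)
    (fun Φ₁ Φ₂ h1 h2 h12 => fibre_injective A (P.under A) Φ₁ Φ₂ h1 h2 h12) β.toRingHom
    (fun a' => ?_) (fun b => ?_) n (fibrePt A P).asIdeal (RingHom.ker δ) hn.le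
  · rw [hker, hΨ, hn] at key
    exact key
  · change β (a' ⊗ₜ 1) = _
    rw [Algebra.TensorProduct.lift_tmul, map_one, mul_one]
    rfl
  · change β (1 ⊗ₜ b) = _
    rw [Algebra.TensorProduct.lift_tmul, map_one, one_mul]
    rfl

end Groth.Agent.Ega43.QSHeight
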