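import Groth.Agent.Ega43.QSAffine
import Groth.Agent.FlatA.ZMTFactor
import Mathlib.AlgebraicGeometry.Noetherian

set_option autoImplicit false
universe u
namespace Groth.Agent.Ega43.QSUnivOpen

open TensorProduct CategoryTheory AlgebraicGeometry EGA43 Groth.Agent.Ega43.UnivOpenAt
  Groth.Agent.Ega43.QSAffine

lemma isPullback_comp_mono {C : Type*} [Category* C] {P X Y Z W : C} {a : P ⟶ X} {b : P ⟶ Y} {f : X ⟶ Z}
    {g : Y ⟶ Z} (sq : IsPullback a b f g) (v : Z ⟶ W) [Mono v] : IsPullback a b (f ≫ v) (g ≫ v) := by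
  refine ⟨⟨by rw [← Category.assoc, sq.w, Category.assoc]⟩, ⟨Limits.PullbackCone.IsLimit.mk _
    (fun s => sq.lift s.fst s.snd ?_) (fun s => sq.lift_fst _ _ _) (fun s => sq.lift_snd _ _ _) ?_⟩⟩
  · have := s.condition
    rw [← Category.assoc, ← Category.assoc, cancel_mono] at this
    exact this
  · intro s m h1 h2
    apply sq.hom_ext
    · rw [h1, sq.lift_fst]
    · rw [h2, sq.lift_snd]

/-- Universal openness at a point is preserved by composing with a universally open morphism. -/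
lemma isUnivOpenAt_comp {X Y Z : Scheme.{u}} (f : X ⟶ Y) (v : Y ⟶ Z) [UniversallyOpen v] (x : X)
    (h : IsUnivOpenAt f x) : IsUnivOpenAt (f ≫ v) x := by
  intro Y' t x' hx'
  have hW := IsPullback.of_hasPullback v t
  have h1 := IsPullback.of_right' (IsPullback.of_hasPullback (f ≫ v) t).flip hW.flip
  have h2 := isOpenAt_of_isPullback h h1.flip x' hx'
  have h3 : hW.flip.lift (Limits.pullback.snd (f ≫ v) t) (Limits.pullback.fst (f ≫ v) t ≫ f)
      (by rw [(IsPullback.of_hasPullback (f ≫ v) t).flip.w, Category.assoc]) ≫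
      Limits.pullback.snd v t = Limits.pullback.snd (f ≫ v) t := hW.flip.lift_fst _ _ _
  rw [← h3, Scheme.Hom.comp_base, TopCat.coe_comp]
  exact isOpenAt_comp h2 ((isOpenMap_iff_forall_isOpenAt _).mp (Limits.pullback.snd v t).isOpenMap _)

/-- The base change of `f` to any `T` quasi-finite and separated over `Y` is open. -/
theorem isOpenMap_of_quasiFinite {X Y : Scheme.{u}} [CompactSpace Y] [QuasiSeparatedSpace Y] (f : X ⟶ Y)
    (H : ∀ (Y₁ : Scheme.{u}) (g : Y₁ ⟶ Y) [IsFinite g], IsOpenMap (Limits.pullback.snd f g))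
    {T : Scheme.{u}} (t : T ⟶ Y) [LocallyQuasiFinite t] [LocallyOfFiniteType t] [QuasiCompact t]
    [IsSeparated t] : IsOpenMap (Limits.pullback.snd f t) := by
  obtain ⟨T', j, π, hj, -, -, hπ, rfl⟩ := Groth.Agent.FlatA.ZMTFactor.exists_factor t
  have h1 := IsPullback.of_right' (IsPullback.of_hasPullback f (j ≫ π))
    (IsPullback.of_hasPullback f π)
  set k := (IsPullback.of_hasPullback f π).lift (Limits.pullback.fst f (j ≫ π))
    (Limits.pullback.snd f (j ≫ π) ≫ j) (by
      rw [(IsPullback.of_hasPullback f (j ≫ π)).w, Category.assoc]) with hk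
  have hko : IsOpenImmersion k := MorphismProperty.of_isPullback (P := @IsOpenImmersion) h1.flip hj
  intro W hW
  have h2 := H T' π _ (k.isOpenEmbedding.isOpenMap _ hW)
  have h3 : (Limits.pullback.snd f (j ≫ π)) '' W = j ⁻¹' ((Limits.pullback.snd f π) '' (k '' W)) := by
    ext y
    constructor
    · rintro ⟨w, hw, rfl⟩
      refine ⟨k w, ⟨w, hw, rfl⟩, ?_⟩
      rw [← Scheme.Hom.comp_apply, h1.w, Scheme.Hom.comp_apply]
    · rintro ⟨_, ⟨w, hw, rfl⟩, hy⟩
      refine ⟨w, hw, ?_⟩
      apply j.isOpenEmbedding.injective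
      rw [← hy, ← Scheme.Hom.comp_apply, ← h1.w, Scheme.Hom.comp_apply]
  rw [h3]
  exact h2.preimage j.continuous

theorem isOpenMap_affine {X Y : Scheme.{u}} [CompactSpace Y] [QuasiSeparatedSpace Y] (f : X ⟶ Y)
    (H : ∀ (Y₁ : Scheme.{u}) (g : Y₁ ⟶ Y) [IsFinite g], IsOpenMap (Limits.pullback.snd f g))
    {A B : Type u} [CommRing A] [CommRing B] [Algebra A B] (v : Spec (.of A) ⟶ Y) [IsOpenImmersion v]
    [QuasiCompact v] (u : Spec (.of B) ⟶ X) [IsOpenImmersion u]
    (huv : u ≫ f = Spec.map (CommRingCat.ofHom (algebraMap A B)) ≫ v)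
    (A₁ : Type u) [CommRing A₁] [Algebra A A₁] [Module.Finite A A₁] :
    IsOpenMap (PrimeSpectrum.comap (algebraMap A₁ (A₁ ⊗[A] B))) := by
  have hfinite : IsFinite (Spec.map (CommRingCat.ofHom (algebraMap A A₁))) := by
    rw [IsFinite.SpecMap_iff]
    exact RingHom.finite_algebraMap.mpr inferInstance
  let t : Spec (.of A₁) ⟶ Y := Spec.map (CommRingCat.ofHom (algebraMap A A₁)) ≫ v
  have h1 := isOpenMap_of_quasiFinite f H t
  have h2 := isPullback_comp_mono (isPullback_tensor A A₁ B) v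
  rw [← huv] at h2
  have h3 := IsPullback.of_right' h2.flip (IsPullback.of_hasPullback f t).flip
  set k := (IsPullback.of_hasPullback f t).flip.lift
    (Spec.map (CommRingCat.ofHom (algebraMap A₁ (A₁ ⊗[A] B))))
    (Spec.map (CommRingCat.ofHom (Algebra.TensorProduct.includeRight (R := A) (A := A₁)
      (B := B)).toRingHom) ≫ u) (by rw [Category.assoc]; exact h2.flip.w) with hk
  have hko : IsOpenImmersion k := MorphismProperty.of_isPullback (P := @IsOpenImmersion) h3.flip
    inferInstance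
  have h4 : k ≫ Limits.pullback.snd f t = Spec.map (CommRingCat.ofHom (algebraMap A₁ (A₁ ⊗[A] B))) :=
    (IsPullback.of_hasPullback f t).flip.lift_fst _ _ _
  change IsOpenMap (Spec.map (CommRingCat.ofHom (algebraMap A₁ (A₁ ⊗[A] B))))
  rw [← h4, Scheme.Hom.comp_base, TopCat.coe_comp]
  exact h1.comp k.isOpenEmbedding.isOpenMap

/-- Universal openness can be tested on finite base changes, over a Noetherian base. -/
theorem universallyOpen_of_finite {X Y : Scheme.{u}} [IsNoetherian Y] (f : X ⟶ Y)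
    [LocallyOfFiniteType f]
    (H : ∀ (Y₁ : Scheme.{u}) (g : Y₁ ⟶ Y) [IsFinite g], IsOpenMap (Limits.pullback.snd f g)) :
    UniversallyOpen f := by
  apply universallyOpen_of_forall_closed_in_fibre
  intro x hx
  obtain ⟨_, ⟨V : Y.Opens, hV, rfl⟩, hxV, -⟩ :=
    Y.isBasis_affineOpens.exists_subset_of_mem_open (Set.mem_univ (f x)) isOpen_univ
  obtain ⟨_, ⟨U : X.Opens, hU, rfl⟩, hxU, hUV⟩ :=
    X.isBasis_affineOpens.exists_subset_of_mem_open (u := (f ⁻¹ᵁ V : Set X)) hxV (f ⁻¹ᵁ V).2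
  have e : U ≤ f ⁻¹ᵁ V := hUV
  let A := Γ(Y, V)
  let B := Γ(X, U)
  let φ : A →+* B := (f.appLE V U e).hom
  let _ : Algebra A B := φ.toAlgebra
  have hft : Algebra.FiniteType A B := f.finiteType_appLE hV hU e
  have hN : IsNoetherianRing A := IsLocallyNoetherian.component_noetherian ⟨V, hV⟩
  have huv : hU.fromSpec ≫ f = Spec.map (CommRingCat.ofHom (algebraMap A B)) ≫ hV.fromSpec :=
    (hV.SpecMap_appLE_fromSpec f hU e).symm
  obtain ⟨P, hP⟩ : x ∈ Set.range hU.fromSpec := by
    rw [hU.range_fromSpec]; exact hxU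
  have h1 := isUnivOpenAt_of_isNoetherianRing (A := A) (B := B)
    (fun A₁ _ _ _ => isOpenMap_affine (A := A) (B := B) f H hV.fromSpec hU.fromSpec huv A₁) P ?_
  · have h2 := isUnivOpenAt_comp _ hV.fromSpec P h1
    rw [← huv] at h2
    have h3 := isUnivOpenAt_of_comp _ _ _ h2
    rw [hP] at h3
    exact h3
  · intro P' hP' hle hun
    have h2 : P ⤳ (⟨P', hP'⟩ : PrimeSpectrum B) :=
      (PrimeSpectrum.le_iff_specializes (R := B) P ⟨P', hP'⟩).mp hle
    have h3 := hx (hU.fromSpec ⟨P', hP'⟩) (by rw [← hP]; exact h2.map hU.fromSpec.continuous) (by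
      rw [← hP, ← Scheme.Hom.comp_apply, ← Scheme.Hom.comp_apply, huv, Scheme.Hom.comp_apply,
        Scheme.Hom.comp_apply]
      congr 1
      apply PrimeSpectrum.ext
      exact hun)
    rw [← hP] at h3
    exact congr_arg PrimeSpectrum.asIdeal (hU.fromSpec.isOpenEmbedding.injective h3)

end Groth.Agent.Ega43.QSUnivOpen
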