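import Groth.Agent.Ega43.QSectLocal
import Mathlib.RingTheory.Localization.AsSubring
import Mathlib.FieldTheory.IsAlgClosed.AlgebraicClosure
import Mathlib.RingTheory.Spectrum.Prime.RingHom
import Mathlib.RingTheory.Spectrum.Prime.Noetherian
import Mathlib.RingTheory.Ideal.MinimalPrime.Noetherian

/-!
# Finite quasi-sections of universally open algebras over a Noetherian ring

EGA IV 14.5.10, ring version.
-/

set_option autoImplicit false
universe u v

open TensorProduct

namespace Groth.Agent.Ega43.QSectGlobal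

open QSectVal QSectLocal

lemma UnivOpen.baseChange {R B A : Type u} [CommRing R] [CommRing B] [CommRing A] [Algebra R B]
    [Algebra R A] (h : UnivOpen R B) : UnivOpen A (A ⊗[R] B) := by
  intro V _ _
  let _ : Algebra R V := ((algebraMap A V).comp (algebraMap R A)).toAlgebra
  have : IsScalarTower R A V := IsScalarTower.of_algebraMap_eq' rfl
  let e : V ⊗[A] (A ⊗[R] B) ≃ₐ[V] V ⊗[R] B := Algebra.TensorProduct.cancelBaseChange R A V V B
  have he : algebraMap V (V ⊗[R] B) = e.toRingEquiv.toRingHom.comp (algebraMap V (V ⊗[A] (A ⊗[R] B))) := by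
    ext v
    exact (e.commutes v).symm
  have h2 : algebraMap V (V ⊗[A] (A ⊗[R] B)) = e.symm.toRingEquiv.toRingHom.comp
      (algebraMap V (V ⊗[R] B)) := by
    ext v
    exact (e.symm.commutes v).symm
  rw [h2, PrimeSpectrum.comap_comp]
  refine (h V).comp ?_
  exact (PrimeSpectrum.homeomorphOfRingEquiv e.toRingEquiv).isOpenMap

lemma absIC_of_isAlgClosed {A F : Type*} [CommRing A] [IsDomain A] [Field F] [IsAlgClosed F] [Algebra A F]
    [IsFractionRing A F] [IsIntegrallyClosed A] : AbsIC A := by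
  intro f hf hdeg
  have h1 : (f.map (algebraMap A F)).degree ≠ 0 := by
    rw [hf.degree_map, Polynomial.degree_eq_natDegree hf.ne_zero]
    exact_mod_cast hdeg
  obtain ⟨x, hx⟩ := IsAlgClosed.exists_root _ h1
  have hxint : IsIntegral A x := ⟨f, hf, by
    rw [Polynomial.IsRoot, Polynomial.eval_map] at hx
    exact hx⟩
  obtain ⟨a, rfl⟩ := (IsIntegrallyClosed.isIntegral_iff (K := F)).mp hxint
  refine ⟨a, ?_⟩
  rw [Polynomial.IsRoot, Polynomial.eval_map_algebraMap, Polynomial.aeval_algebraMap_apply] at hx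
  have := (map_eq_zero_iff _ (IsFractionRing.injective A F)).mp hx
  exact this

/-- The local step: `Ω` algebraic closure of `Frac R`, `p` a prime of the integral closure of `R` in `Ω`. -/
lemma exists_algHom_ofField {R : Type u} [CommRing R] [IsDomain R] {Ω : Type u} [Field Ω]
    [IsAlgClosed Ω] [Algebra R Ω] [IsFractionRing (integralClosure R Ω) Ω]
    {B : Type u} [CommRing B] [Algebra R B] [Algebra.FiniteType R B]
    (hB : UnivOpen R B) (p : Ideal (integralClosure R Ω)) [hp : p.IsPrime]
    (hpB : ∃ q : PrimeSpectrum B, q.asIdeal.comap (algebraMap R B) = p.comap (algebraMap R _)) :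
    ∃ φ : B →ₐ[R] Ω, ∀ b, ∃ s : integralClosure R Ω, s ∉ p ∧ ∃ a : integralClosure R Ω,
      (s : Ω) * φ b = a := by
  classical
  let Rb := integralClosure R Ω
  have hpne : p.primeCompl ≤ nonZeroDivisors Rb := Ideal.primeCompl_le_nonZeroDivisors p
  let A := Localization.subalgebra.ofField Ω p.primeCompl hpne
  have : IsLocalization p.primeCompl A := Localization.subalgebra.isLocalization_ofField ..
  have : IsLocalization.AtPrime A p := this
  have : IsLocalRing A := IsLocalization.AtPrime.isLocalRing A p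
  have : IsIntegrallyClosed Rb := by
    rw [isIntegrallyClosed_iff Ω]
    intro x hx
    exact ⟨⟨x, isIntegral_trans (R := R) (A := Rb) _ hx⟩, rfl⟩
  have : IsIntegrallyClosed A := isIntegrallyClosed_of_isLocalization A p.primeCompl hpne
  have hA : AbsIC A := absIC_of_isAlgClosed (F := Ω)
  have : IsScalarTower R Rb A := IsScalarTower.of_algebraMap_eq fun x ↦ rfl
  have hmA : ∀ x : Rb, algebraMap Rb A x ∈ IsLocalRing.maximalIdeal A ↔ x ∈ p := fun x ↦
    IsLocalization.AtPrime.to_map_mem_maximal_iff A p x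
  obtain ⟨q, hq⟩ := hpB
  -- the closed fibre is nonempty
  have hne : (IsLocalRing.maximalIdeal A).map (algebraMap A (A ⊗[R] B)) ≠ ⊤ := by
    let p0 : Ideal R := p.comap (algebraMap R Rb)
    have : p0.IsPrime := Ideal.IsPrime.comap _
    have hm : p0 = (IsLocalRing.maximalIdeal A).comap (algebraMap R A) := by
      ext r
      rw [Ideal.mem_comap, Ideal.mem_comap, IsScalarTower.algebraMap_apply R Rb A, hmA]
    obtain ⟨L, _, g1, g2, hg⟩ := exists_field_amalgam
      (Ideal.ResidueField.map p0 (IsLocalRing.maximalIdeal A) (algebraMap R A) hm)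
      (Ideal.ResidueField.map p0 q.asIdeal (algebraMap R B) hq.symm)
    let α : A →+* L := g1.comp (algebraMap A _)
    let β : B →+* L := g2.comp (algebraMap B _)
    have hαβ : α.comp (algebraMap R A) = β.comp (algebraMap R B) := by
      ext r
      have := DFunLike.congr_fun hg (algebraMap R p0.ResidueField r)
      simpa [α, β] using this
    let _ : Algebra R L := (α.comp (algebraMap R A)).toAlgebra
    let αR : A →ₐ[R] L := { α with commutes' := fun r ↦ rfl }
    let βR : B →ₐ[R] L := { β with commutes' := fun r ↦ (DFunLike.congr_fun hαβ r).symm }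
    let γ : A ⊗[R] B →ₐ[R] L := Algebra.TensorProduct.productMap αR βR
    intro htop
    have hle : (IsLocalRing.maximalIdeal A).map (algebraMap A (A ⊗[R] B)) ≤ RingHom.ker γ := by
      rw [Ideal.map_le_iff_le_comap]
      intro a ha
      rw [Ideal.mem_comap, RingHom.mem_ker, Algebra.TensorProduct.algebraMap_apply]
      simp only [γ, Algebra.TensorProduct.productMap_apply_tmul, map_one, mul_one]
      change g1 (algebraMap A _ a) = 0
      rw [Ideal.algebraMap_residueField_eq_zero.mpr ha, map_zero]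
    rw [htop, top_le_iff] at hle
    exact RingHom.ker_ne_top _ hle
  obtain ⟨φ⟩ := exists_algHom hA (UnivOpen.baseChange (A := A) hB) hne
  let φ' : B →ₐ[R] A := (φ.restrictScalars R).comp Algebra.TensorProduct.includeRight
  refine ⟨(A.val.restrictScalars R).comp φ', fun b ↦ ?_⟩
  obtain ⟨a, s, hs, has⟩ : ∃ (a s : Rb) (_ : s ∈ p.primeCompl),
    ((φ' b : A) : Ω) = algebraMap Rb Ω a * (algebraMap Rb Ω s)⁻¹ := (φ' b).2
  refine ⟨s, hs, a, ?_⟩
  change (s : Ω) * ((φ' b : A) : Ω) = a
  rw [has]
  have hs0 : (s : Ω) ≠ 0 := by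
    intro h
    apply hs
    have : s = 0 := Subtype.ext h
    rw [this]
    exact p.zero_mem
  change (s : Ω) * ((a : Ω) * (s : Ω)⁻¹) = a
  field_simp

/-- The conclusion: a finite `R`-algebra, surjective on spectra, over which the family `B` acquires
local sections. -/
def HasFinQS (R : Type u) [CommRing R] {ι : Type v} (B : ι → Type u) [∀ i, CommRing (B i)]
    [∀ i, Algebra R (B i)] : Prop :=
  ∃ (R' : Type u) (_ : CommRing R') (_ : Algebra R R'), Module.Finite R R' ∧
    Function.Surjective (PrimeSpectrum.comap (algebraMap R R')) ∧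
    ∀ P : PrimeSpectrum R', ∃ h : R', h ∉ P.asIdeal ∧ ∃ i,
      Nonempty (B i →ₐ[R] Localization.Away h)

theorem hasFinQS_of_isDomain {R : Type u} [CommRing R] [IsDomain R] {ι : Type v}
    (B : ι → Type u) [∀ i, CommRing (B i)] [∀ i, Algebra R (B i)] [∀ i, Algebra.FiniteType R (B i)]
    (hB : ∀ i, UnivOpen R (B i))
    (hs : ∀ p : PrimeSpectrum R, ∃ i, ∃ q : PrimeSpectrum (B i), q.comap (algebraMap R (B i)) = p) :
    HasFinQS R B := by
  classical
  let K := FractionRing R
  let Ω := AlgebraicClosure K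
  have : Algebra.IsAlgebraic R Ω := by
    have h1 : Algebra.IsAlgebraic R K := IsLocalization.isAlgebraic K (nonZeroDivisors R)
    exact Algebra.IsAlgebraic.trans R K Ω
  have hinjR : Function.Injective (algebraMap R Ω) := by
    rw [IsScalarTower.algebraMap_eq R K Ω]
    exact (algebraMap K Ω).injective.comp (IsFractionRing.injective R K)
  have : IsFractionRing (integralClosure R Ω) Ω :=
    integralClosure.isFractionRing_of_algebraic (fun x hx ↦ hinjR (by rw [hx, map_zero]))
  let Rb := integralClosure R Ω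
  have step : ∀ p : PrimeSpectrum Rb, ∃ (i : ι) (φ : B i →ₐ[R] Ω) (S : Finset (B i)) (h : Rb),
      Algebra.adjoin R (S : Set (B i)) = ⊤ ∧ h ∉ p.asIdeal ∧ ∀ b ∈ S, ∃ a : Rb, (h : Ω) * φ b = a := by
    intro p
    obtain ⟨i, q, hq⟩ := hs (p.comap (algebraMap R Rb))
    obtain ⟨φ, hφ⟩ := exists_algHom_ofField (hB i) p.asIdeal ⟨q, congrArg PrimeSpectrum.asIdeal hq⟩
    obtain ⟨S, hS⟩ := (inferInstance : Algebra.FiniteType R (B i)).out
    choose s hs a ha using hφ
    refine ⟨i, φ, S, ∏ b ∈ S, s b, hS, ?_, fun b hb ↦ ?_⟩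
    · intro h
      obtain ⟨b, -, hb⟩ := (p.isPrime.prod_mem_iff).mp h
      exact hs b hb
    · refine ⟨(∏ c ∈ S.erase b, s c) * a b, ?_⟩
      rw [← Finset.prod_erase_mul _ _ hb]
      push_cast
      rw [mul_assoc, ha b]
  choose i φ S h hS hhp hSa using step
  choose! a ha using hSa
  -- compactness
  have hspan : Ideal.span (Set.range h) = ⊤ := by
    by_contra hne
    obtain ⟨M, hM, hle⟩ := Ideal.exists_le_maximal _ hne
    exact hhp ⟨M, hM.isPrime⟩ (hle (Ideal.subset_span ⟨_, rfl⟩))
  have h1 : (1 : Rb) ∈ Ideal.span (Set.range h) := by rw [hspan]; trivial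
  obtain ⟨c, hc⟩ := Finsupp.mem_ideal_span_range_iff_exists_finsupp.mp h1
  let T : Set Ω := ⋃ p ∈ (c.support : Set (PrimeSpectrum Rb)),
    ({((h p : Rb) : Ω), ((c p : Rb) : Ω)} ∪ (fun b ↦ ((a p b : Rb) : Ω)) '' (S p : Set (B (i p))))
  have hTfin : T.Finite := by
    refine Set.Finite.biUnion c.support.finite_toSet fun p _ ↦ Set.Finite.union ?_ ?_
    · exact Set.toFinite _
    · exact (S p).finite_toSet.image _
  have hTint : ∀ x ∈ T, IsIntegral R x := by
    intro x hx
    simp only [T, Set.mem_iUnion] at hx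
    obtain ⟨p, -, hx⟩ := hx
    rcases hx with (rfl | rfl) | ⟨b, -, rfl⟩
    · exact (h p).2
    · exact (c p).2
    · exact (a p b).2
  let R' := Algebra.adjoin R T
  have hfin : Module.Finite R R' := ⟨(Submodule.fg_top _).mpr (fg_adjoin_of_finite hTfin hTint)⟩
  have hfaith : FaithfulSMul R R' := by
    rw [faithfulSMul_iff_algebraMap_injective]
    intro x y hxy
    exact hinjR (congrArg Subtype.val hxy)
  refine ⟨R', inferInstance, inferInstance, hfin, Algebra.IsIntegral.comap_surjective R R', fun P ↦ ?_⟩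
  have hmemT : ∀ p ∈ c.support, ((h p : Rb) : Ω) ∈ T ∧ ((c p : Rb) : Ω) ∈ T ∧
      ∀ b ∈ S p, ((a p b : Rb) : Ω) ∈ T := by
    intro p hp
    have hsub : ({((h p : Rb) : Ω), ((c p : Rb) : Ω)} ∪
        (fun b ↦ ((a p b : Rb) : Ω)) '' (S p : Set (B (i p)))) ⊆ T :=
      Set.subset_biUnion_of_mem (u := fun p ↦ ({((h p : Rb) : Ω), ((c p : Rb) : Ω)} ∪
        (fun b ↦ ((a p b : Rb) : Ω)) '' (S p : Set (B (i p))))) hp
    exact ⟨hsub (Or.inl (Or.inl rfl)), hsub (Or.inl (Or.inr rfl)),
      fun b hb ↦ hsub (Or.inr ⟨b, hb, rfl⟩)⟩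
  obtain ⟨p, hp, hpP⟩ : ∃ p, ∃ hp : p ∈ c.support,
      (⟨((h p : Rb) : Ω), Algebra.subset_adjoin (hmemT p hp).1⟩ : R') ∉ P.asIdeal := by
    by_contra! hcon
    apply P.isPrime.ne_top
    rw [Ideal.eq_top_iff_one]
    have h2 : (1 : R') = ∑ p ∈ c.support.attach,
        (⟨((c p.1 : Rb) : Ω), Algebra.subset_adjoin (hmemT p.1 p.2).2.1⟩ : R') *
          ⟨((h p.1 : Rb) : Ω), Algebra.subset_adjoin (hmemT p.1 p.2).1⟩ := by
      apply Subtype.ext
      push_cast
      rw [Finset.sum_attach c.support (fun p ↦ ((c p : Rb) : Ω) * ((h p : Rb) : Ω))]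
      have h3 := congrArg (Subtype.val : Rb → Ω) hc
      rw [Finsupp.sum] at h3
      push_cast at h3
      exact h3.symm
    rw [h2]
    exact P.asIdeal.sum_mem fun p _ ↦ P.asIdeal.mul_mem_left _ (hcon p.1 p.2)
  let h' : R' := ⟨((h p : Rb) : Ω), Algebra.subset_adjoin (hmemT p hp).1⟩
  have hh0 : ((h p : Rb) : Ω) ≠ 0 := by
    intro h0
    apply hpP
    have : h' = 0 := Subtype.ext h0
    change h' ∈ P.asIdeal
    rw [this]
    exact P.asIdeal.zero_mem
  refine ⟨h', hpP, i p, ?_⟩
  have hpow : Submonoid.powers h' ≤ nonZeroDivisors R' := powers_le_nonZeroDivisors_of_noZeroDivisors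
    (fun h0 ↦ hh0 (congrArg Subtype.val h0))
  let j : Localization.Away h' →ₐ[R'] Ω := IsLocalization.liftAlgHom (M := Submonoid.powers h')
    (f := Algebra.ofId R' Ω) (by
      rintro ⟨_, n, rfl⟩
      refine IsUnit.mk0 _ ?_
      change algebraMap R' Ω (h' ^ n) ≠ 0
      rw [map_pow]
      exact pow_ne_zero _ hh0)
  have hj : Function.Injective j := by
    refine (injective_iff_map_eq_zero _).mpr fun x hx ↦ ?_
    obtain ⟨r, s, rfl⟩ := IsLocalization.exists_mk'_eq (Submonoid.powers h') x
    have h3 : j (algebraMap R' _ r) = 0 := by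
      rw [← IsLocalization.mk'_spec (Localization.Away h') r s, map_mul, hx, zero_mul]
    rw [AlgHom.commutes] at h3
    have h4 : r = 0 := Subtype.ext h3
    rw [h4, IsLocalization.mk'_zero]
  have hrange : ∀ b, φ p b ∈ (j.restrictScalars R).range := by
    have hle : (φ p).range ≤ (j.restrictScalars R).range := by
      rw [← Algebra.map_top, ← hS p, AlgHom.map_adjoin, Algebra.adjoin_le_iff]
      rintro _ ⟨b, hb, rfl⟩
      let a' : R' := ⟨((a p b : Rb) : Ω), Algebra.subset_adjoin ((hmemT p hp).2.2 b hb)⟩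
      refine ⟨algebraMap R' _ a' * IsLocalization.Away.invSelf h', ?_⟩
      apply mul_left_cancel₀ hh0
      rw [ha p b hb]
      have h5 : ((h p : Rb) : Ω) = j (algebraMap R' _ h') := (j.commutes h').symm
      have h6 : ((a p b : Rb) : Ω) = j (algebraMap R' _ a') := (j.commutes a').symm
      rw [h5, h6]
      change j _ * j _ = _
      rw [← map_mul, mul_left_comm, IsLocalization.Away.mul_invSelf, mul_one]
    intro b
    exact hle ⟨b, rfl⟩
  exact ⟨((AlgEquiv.ofInjective (j.restrictScalars R) hj).symm : _ →ₐ[R] _).comp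
    ((φ p).codRestrict (j.restrictScalars R).range hrange)⟩

lemma exists_prime_tensor {R A B : Type u} [CommRing R] [CommRing A] [CommRing B] [Algebra R A]
    [Algebra R B] (P : Ideal A) [P.IsPrime] (q : Ideal B) [q.IsPrime]
    (h : P.comap (algebraMap R A) = q.comap (algebraMap R B)) :
    ∃ Q : Ideal (A ⊗[R] B), Q.IsPrime ∧ Q.comap (algebraMap A (A ⊗[R] B)) = P ∧
      Q.comap (Algebra.TensorProduct.includeRight : B →ₐ[R] A ⊗[R] B).toRingHom = q := by
  let p0 : Ideal R := P.comap (algebraMap R A)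
  have : p0.IsPrime := Ideal.IsPrime.comap _
  obtain ⟨L, _, g1, g2, hg⟩ := exists_field_amalgam
    (Ideal.ResidueField.map p0 P (algebraMap R A) rfl)
    (Ideal.ResidueField.map p0 q (algebraMap R B) h)
  let α : A →+* L := g1.comp (algebraMap A _)
  let β : B →+* L := g2.comp (algebraMap B _)
  have hαβ : α.comp (algebraMap R A) = β.comp (algebraMap R B) := by
    ext r
    have := DFunLike.congr_fun hg (algebraMap R p0.ResidueField r)
    simpa [α, β] using this
  let _ : Algebra R L := (α.comp (algebraMap R A)).toAlgebra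
  let αR : A →ₐ[R] L := { α with commutes' := fun r ↦ rfl }
  let βR : B →ₐ[R] L := { β with commutes' := fun r ↦ (DFunLike.congr_fun hαβ r).symm }
  let γ : A ⊗[R] B →ₐ[R] L := Algebra.TensorProduct.productMap αR βR
  refine ⟨RingHom.ker γ, RingHom.ker_isPrime _, ?_, ?_⟩
  · ext x
    rw [Ideal.mem_comap, RingHom.mem_ker, Algebra.TensorProduct.algebraMap_apply]
    simp only [γ, Algebra.TensorProduct.productMap_apply_tmul, map_one, mul_one]
    change g1 (algebraMap A _ x) = 0 ↔ _
    rw [map_eq_zero]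
    exact Ideal.algebraMap_residueField_eq_zero
  · ext x
    rw [Ideal.mem_comap, RingHom.mem_ker]
    change γ (1 ⊗ₜ x) = 0 ↔ _
    simp only [γ, Algebra.TensorProduct.productMap_apply_tmul, map_one, one_mul]
    change g2 (algebraMap B _ x) = 0 ↔ _
    rw [map_eq_zero]
    exact Ideal.algebraMap_residueField_eq_zero

theorem hasFinQS_of_isNoetherianRing {R : Type u} [CommRing R] [IsNoetherianRing R] {ι : Type v}
    (B : ι → Type u) [∀ i, CommRing (B i)] [∀ i, Algebra R (B i)] [∀ i, Algebra.FiniteType R (B i)]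
    (hB : ∀ i, UnivOpen R (B i))
    (hs : ∀ p : PrimeSpectrum R, ∃ i, ∃ q : PrimeSpectrum (B i), q.comap (algebraMap R (B i)) = p) :
    HasFinQS R B := by
  classical
  have hfin : Finite (minimalPrimes R) := (minimalPrimes.finite_of_isNoetherianRing R).to_subtype
  have hprime : ∀ p : minimalPrimes R, p.1.IsPrime := fun p ↦ p.2.1.1
  have hdom : ∀ p : minimalPrimes R, IsDomain (R ⧸ p.1) := fun p ↦
    (Ideal.Quotient.isDomain_iff_prime p.1).mpr (hprime p)
  have step : ∀ p : minimalPrimes R, HasFinQS (R ⧸ p.1) (fun i ↦ (R ⧸ p.1) ⊗[R] B i) := by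
    intro p
    refine hasFinQS_of_isDomain _ (fun i ↦ UnivOpen.baseChange (hB i)) fun P ↦ ?_
    obtain ⟨i, q, hq⟩ := hs (P.comap (algebraMap R (R ⧸ p.1)))
    obtain ⟨Q, hQp, hQ, -⟩ := exists_prime_tensor (R := R) (A := R ⧸ p.1) (B := B i) P.asIdeal q.asIdeal
      (congrArg PrimeSpectrum.asIdeal hq).symm
    exact ⟨i, ⟨Q, hQp⟩, PrimeSpectrum.ext hQ⟩
  choose R' hR1 hR2 hR3 hR4 hR5 using step
  let _ : ∀ p, Algebra R (R' p) := fun p ↦
    ((algebraMap (R ⧸ p.1) (R' p)).comp (algebraMap R (R ⧸ p.1))).toAlgebra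
  have hst : ∀ p, IsScalarTower R (R ⧸ p.1) (R' p) := fun p ↦ IsScalarTower.of_algebraMap_eq' rfl
  have hfinp : ∀ p, Module.Finite R (R' p) := fun p ↦ Module.Finite.trans (R ⧸ p.1) (R' p)
  refine ⟨Π p, R' p, inferInstance, inferInstance, inferInstance, fun P ↦ ?_, fun P ↦ ?_⟩
  · obtain ⟨p, hp, hpP⟩ := Ideal.exists_minimalPrimes_le (I := ⊥) (J := P.asIdeal) bot_le
    let p' : minimalPrimes R := ⟨p, hp⟩
    obtain ⟨Q, hQ⟩ := hR4 p' ⟨P.asIdeal.map (Ideal.Quotient.mk p),
      Ideal.map_isPrime_of_surjective Ideal.Quotient.mk_surjective (by rwa [Ideal.mk_ker])⟩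
    refine ⟨Q.comap (Pi.evalRingHom R' p'), ?_⟩
    have h1 : (Pi.evalRingHom R' p').comp (algebraMap R (Π p, R' p)) =
        (algebraMap (R ⧸ p'.1) (R' p')).comp (Ideal.Quotient.mk p) := rfl
    rw [← PrimeSpectrum.comap_comp_apply, h1, PrimeSpectrum.comap_comp_apply, hQ]
    apply PrimeSpectrum.ext
    change Ideal.comap _ (Ideal.map _ _) = _
    rw [Ideal.comap_map_of_surjective _ Ideal.Quotient.mk_surjective, ← RingHom.ker_eq_comap_bot,
      Ideal.mk_ker, sup_eq_left]
    exact hpP
  · obtain ⟨p, Q, rfl⟩ := PrimeSpectrum.exists_comap_evalRingHom_eq P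
    obtain ⟨h, hQ, i, ⟨φ⟩⟩ := hR5 p Q
    refine ⟨Pi.single p h, ?_, i, ?_⟩
    · change ¬ (Pi.evalRingHom R' p (Pi.single p h) ∈ Q.asIdeal)
      simpa using hQ
    · let h' : Π p, R' p := Pi.single p h
      have hone : algebraMap (Π p, R' p) (Localization.Away h') (Pi.single p 1) = 1 := by
        have hu : IsUnit (algebraMap (Π p, R' p) (Localization.Away h') h') :=
          IsLocalization.Away.algebraMap_isUnit h'
        apply hu.mul_left_cancel
        rw [← map_mul, mul_one]
        congr 1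
        ext q
        by_cases hq : q = p
        · subst hq; simp [h']
        · simp [h', Pi.single_eq_of_ne hq]
      let σ : R' p →+* Localization.Away h' :=
        { toFun := fun x ↦ algebraMap (Π p, R' p) (Localization.Away h') (Pi.single p x)
          map_one' := hone
          map_mul' := fun x y ↦ by rw [← map_mul, Pi.single_mul]
          map_zero' := by rw [Pi.single_zero, map_zero]
          map_add' := fun x y ↦ by rw [← map_add, Pi.single_add] }
      let τ : Localization.Away h →+* Localization.Away h' :=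
        IsLocalization.Away.lift (g := σ) h (IsLocalization.Away.algebraMap_isUnit h')
      have hτ : ∀ x, τ (algebraMap (R' p) _ x) = σ x := fun x ↦ IsLocalization.Away.lift_eq h _ x
      have hσ : ∀ r : R, σ (algebraMap R (R' p) r) = algebraMap R (Localization.Away h') r := by
        intro r
        have h2 : (Pi.single p (algebraMap R (R' p) r) : Π p, R' p) =
            Pi.single p 1 * algebraMap R (Π p, R' p) r := by
          ext q
          by_cases hq : q = p
          · subst hq; simp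
          · simp [Pi.single_eq_of_ne hq]
        change algebraMap (Π p, R' p) (Localization.Away h') (Pi.single p (algebraMap R (R' p) r)) = _
        rw [h2, map_mul, hone, one_mul, ← IsScalarTower.algebraMap_apply]
      let ψ : B i →+* Localization.Away h' := τ.comp (φ.toRingHom.comp
        (Algebra.TensorProduct.includeRight : B i →ₐ[R] (R ⧸ p.1) ⊗[R] B i).toRingHom)
      refine ⟨{ ψ with commutes' := fun r ↦ ?_ }⟩
      change τ (φ (1 ⊗ₜ (algebraMap R (B i) r))) = _
      have h3 : (1 : R ⧸ p.1) ⊗ₜ[R] (algebraMap R (B i) r) =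
          algebraMap (R ⧸ p.1) ((R ⧸ p.1) ⊗[R] B i) (algebraMap R (R ⧸ p.1) r) := by
        rw [Algebra.TensorProduct.algebraMap_apply, Algebra.algebraMap_eq_smul_one,
          Algebra.algebraMap_self, RingHom.id_apply, Algebra.algebraMap_eq_smul_one,
          TensorProduct.smul_tmul]
      rw [h3, AlgHom.commutes, IsScalarTower.algebraMap_apply (R ⧸ p.1) (R' p) (Localization.Away h),
        hτ, ← hσ]
      rfl

end Groth.Agent.Ega43.QSectGlobal
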