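import Groth.Agent.Ega43.QSectVal
import Mathlib.RingTheory.ZariskisMainTheorem
import Mathlib.RingTheory.NoetherNormalization
import Mathlib.RingTheory.IntegralClosure.GoingDown
import Mathlib.RingTheory.Polynomial.IsIntegral

/-!
# Sections of universally open algebras over absolutely integrally closed local domains

EGA IV 14.5: if `A` is a local domain in which every monic polynomial of positive degree has a root,
`B` is a finite type universally open `A`-algebra with nonempty closed fibre, then `B` has an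
`A`-algebra homomorphism to `A`.
-/

set_option autoImplicit false
universe u v

open TensorProduct

namespace Groth.Agent.Ega43.QSectLocal

open QSectVal

/-- Every monic polynomial of positive degree has a root. -/
def AbsIC (A : Type*) [CommRing A] : Prop :=
  ∀ f : Polynomial A, f.Monic → f.natDegree ≠ 0 → ∃ a, f.IsRoot a

lemma AbsIC.surjective {A D : Type*} [CommRing A] [CommRing D] [IsDomain D] [Algebra A D]
    [Algebra.IsIntegral A D] (hA : AbsIC A) : Function.Surjective (algebraMap A D) := by
  have key : ∀ (n : ℕ) (f : Polynomial A), f.Monic → f.natDegree = n → ∀ d : D,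
      Polynomial.aeval d f = 0 → ∃ a, algebraMap A D a = d := by
    intro n
    induction n with
    | zero =>
      intro f hf hn d hd
      rw [Polynomial.eq_one_of_monic_natDegree_zero hf hn, map_one] at hd
      exact absurd hd one_ne_zero
    | succ n ih =>
      intro f hf hn d hd
      obtain ⟨a, ha⟩ := hA f hf (by rw [hn]; exact Nat.succ_ne_zero n)
      obtain ⟨g, rfl⟩ := Polynomial.dvd_iff_isRoot.mpr ha
      rcases subsingleton_or_nontrivial A with h | h
      · have : Subsingleton D := by
          have h1 : (1 : D) = 0 := by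
            rw [← map_one (algebraMap A D), Subsingleton.elim (1 : A) 0, map_zero]
          exact subsingleton_of_zero_eq_one h1.symm
        exact ⟨0, Subsingleton.elim _ _⟩
      have hg : g.Monic := (Polynomial.monic_X_sub_C a).of_mul_monic_left hf
      have hdeg : g.natDegree = n := by
        rw [(Polynomial.monic_X_sub_C a).natDegree_mul hg, Polynomial.natDegree_X_sub_C] at hn
        omega
      rw [map_mul] at hd
      rcases mul_eq_zero.mp hd with h1 | h1
      · refine ⟨a, ?_⟩
        rw [map_sub, Polynomial.aeval_X, Polynomial.aeval_C, sub_eq_zero] at h1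
        exact h1.symm
      · exact ih g hg hdeg d h1
  intro d
  obtain ⟨f, hf, hd⟩ := Algebra.IsIntegral.isIntegral (R := A) d
  exact key _ f hf rfl d hd

lemma isIntegrallyClosed_mvPolynomial (A : Type*) [CommRing A] [IsDomain A] [IsIntegrallyClosed A]
    (n : ℕ) : IsIntegrallyClosed (MvPolynomial (Fin n) A) := by
  induction n with
  | zero => exact IsIntegrallyClosed.of_equiv (MvPolynomial.isEmptyRingEquiv A (Fin 0)).symm
  | succ n ih => exact IsIntegrallyClosed.of_equiv (MvPolynomial.finSuccEquiv A n).symm.toRingEquiv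

/-- **Key lemma.** -/
theorem exists_algHom {A B : Type u} [CommRing A] [IsDomain A] [IsLocalRing A]
    [IsIntegrallyClosed A] (hA : AbsIC A) [CommRing B] [Algebra A B] [Algebra.FiniteType A B]
    (hB : UnivOpen A B)
    (hne : (IsLocalRing.maximalIdeal A).map (algebraMap A B) ≠ ⊤) : Nonempty (B →ₐ[A] A) := by
  classical
  let k := A ⧸ IsLocalRing.maximalIdeal A
  let _ : Field k := Ideal.Quotient.field _
  let Bb := B ⧸ (IsLocalRing.maximalIdeal A).map (algebraMap A B)
  have : Nontrivial Bb := Ideal.Quotient.nontrivial_iff.mpr hne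
  have : Algebra.FiniteType k Bb := Algebra.FiniteType.of_restrictScalars_finiteType A k Bb
  obtain ⟨n, g, hginj, hgfin⟩ := exists_finite_inj_algHom_of_fg k Bb
  choose t ht using fun i ↦ Ideal.Quotient.mk_surjective (g (MvPolynomial.X i))
  let ψ : MvPolynomial (Fin n) A →ₐ[A] B := MvPolynomial.aeval t
  let ρ : MvPolynomial (Fin n) A →+* MvPolynomial (Fin n) k :=
    MvPolynomial.map (Ideal.Quotient.mk (IsLocalRing.maximalIdeal A))
  have hρ : Function.Surjective ρ := MvPolynomial.map_surjective _ Ideal.Quotient.mk_surjective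
  have hcomm : (Ideal.Quotient.mk ((IsLocalRing.maximalIdeal A).map (algebraMap A B))).comp
      ψ.toRingHom = g.toRingHom.comp ρ := by
    refine MvPolynomial.ringHom_ext' ?_ fun i ↦ ?_
    · ext a
      simp only [ψ, ρ, AlgHom.toRingHom_eq_coe, RingHom.coe_comp, RingHom.coe_coe,
        Function.comp_apply, MvPolynomial.aeval_C, MvPolynomial.map_C]
      rw [← MvPolynomial.algebraMap_eq, AlgHom.commutes]
      rfl
    · simp [ψ, ρ, ht]
  have hcomm' : ∀ F, Ideal.Quotient.mk ((IsLocalRing.maximalIdeal A).map (algebraMap A B)) (ψ F) =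
      g (ρ F) := fun F ↦ DFunLike.congr_fun hcomm F
  -- the primes of `Bb`
  let _ : Algebra (MvPolynomial (Fin n) k) Bb := g.toRingHom.toAlgebra
  have : Algebra.IsIntegral (MvPolynomial (Fin n) k) Bb := ⟨hgfin.to_isIntegral⟩
  obtain ⟨Q', -, hQ'p, hQ'⟩ := Ideal.exists_ideal_over_prime_of_isIntegral
    (⊥ : Ideal (MvPolynomial (Fin n) k)) (⊥ : Ideal Bb) (by
      rw [← RingHom.ker_eq_comap_bot]
      exact ((RingHom.injective_iff_ker_eq_bot _).mp hginj).le)
  let T : Ideal (MvPolynomial (Fin n) k) :=
    RingHom.ker (MvPolynomial.aeval (R := k) (fun _ : Fin n ↦ (0 : k)))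
  have : T.IsPrime := RingHom.ker_isPrime _
  obtain ⟨Q, hQ'Q, hQp, hQ⟩ := Ideal.exists_ideal_over_prime_of_isIntegral T Q' (by
    rw [hQ']; exact bot_le)
  let mkm := Ideal.Quotient.mk ((IsLocalRing.maximalIdeal A).map (algebraMap A B))
  let q' : Ideal B := Q'.comap mkm
  let q : Ideal B := Q.comap mkm
  have : q'.IsPrime := Ideal.IsPrime.comap _
  have : q.IsPrime := Ideal.IsPrime.comap _
  have hq'q : q' ≤ q := Ideal.comap_mono hQ'Q
  have hq'ψ : q'.comap ψ.toRingHom =
      RingHom.ker (MvPolynomial.map (σ := Fin n) (IsLocalRing.residue A)) := by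
    have h1 : q'.comap ψ.toRingHom = RingHom.ker ρ := by
      ext F
      have : F ∈ q'.comap ψ.toRingHom ↔ g (ρ F) ∈ Q' := by
        rw [← hcomm']; rfl
      rw [this]
      change ρ F ∈ Q'.comap (algebraMap (MvPolynomial (Fin n) k) Bb) ↔ _
      rw [hQ']; rfl
    exact h1
  have hqψ : ∀ F, ψ F ∈ q ↔ ρ F ∈ T := by
    intro F
    rw [← hQ]
    change mkm (ψ F) ∈ Q ↔ g (ρ F) ∈ Q
    rw [hcomm']
  obtain ⟨w, hwp, hwq', hw⟩ := exists_prime_le_comap_aeval_eq_bot hB t q' hq'ψ
  -- the domain `B' = B / w`
  let B' := B ⧸ w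
  let mkw : B →+* B' := Ideal.Quotient.mk w
  let Ψ : MvPolynomial (Fin n) A →+* B' := mkw.comp ψ.toRingHom
  let _ : Algebra (MvPolynomial (Fin n) A) B' := Ψ.toAlgebra
  have hΨ : ∀ F, algebraMap (MvPolynomial (Fin n) A) B' F = mkw (ψ F) := fun _ ↦ rfl
  have hΨinj : Function.Injective (algebraMap (MvPolynomial (Fin n) A) B') := by
    rw [RingHom.injective_iff_ker_eq_bot, eq_bot_iff]
    intro F hF
    rw [RingHom.mem_ker, hΨ] at hF
    have h1 : ψ F ∈ w := Ideal.Quotient.eq_zero_iff_mem.mp hF
    have : F ∈ w.comap ψ.toRingHom := h1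
    rw [hw] at this
    exact this
  have : IsScalarTower A (MvPolynomial (Fin n) A) B' := IsScalarTower.of_algebraMap_eq' (by
    ext a
    rw [RingHom.comp_apply, hΨ, MvPolynomial.algebraMap_eq, ← MvPolynomial.algebraMap_eq,
      AlgHom.commutes]
    rfl)
  have : Algebra.FiniteType (MvPolynomial (Fin n) A) B' :=
    Algebra.FiniteType.of_restrictScalars_finiteType A (MvPolynomial (Fin n) A) B'
  let qb : Ideal B' := q.map mkw
  have hqb : qb.comap mkw = q := by
    rw [Ideal.comap_map_of_surjective _ Ideal.Quotient.mk_surjective, ← RingHom.ker_eq_comap_bot,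
      Ideal.mk_ker, sup_eq_left]
    exact hwq'.trans hq'q
  have : qb.IsPrime := Ideal.map_isPrime_of_surjective Ideal.Quotient.mk_surjective (by
    rw [Ideal.mk_ker]; exact hwq'.trans hq'q)
  have hqbmem : ∀ b, mkw b ∈ qb ↔ b ∈ q := fun b ↦ by
    conv_rhs => rw [← hqb]
    rfl
  -- quasi-finiteness
  have hmem : ∀ a ∈ IsLocalRing.maximalIdeal A, (MvPolynomial.C a : MvPolynomial (Fin n) A) ∈
      qb.under (MvPolynomial (Fin n) A) := by
    intro a ha
    rw [Ideal.mem_comap, hΨ, hqbmem, hqψ]
    simp only [ρ, MvPolynomial.map_C, Ideal.Quotient.eq_zero_iff_mem.mpr ha, map_zero]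
    exact T.zero_mem
  let J : Ideal B' := (qb.under (MvPolynomial (Fin n) A)).map (algebraMap (MvPolynomial (Fin n) A) B')
  have hJfin : Module.Finite (MvPolynomial (Fin n) A) (B' ⧸ J) := by
    have hle : (IsLocalRing.maximalIdeal A).map (algebraMap A B) ≤
        RingHom.ker ((Ideal.Quotient.mk J).comp mkw) := by
      rw [Ideal.map_le_iff_le_comap]
      intro a ha
      rw [Ideal.mem_comap, RingHom.mem_ker, RingHom.comp_apply, Ideal.Quotient.eq_zero_iff_mem]
      have := Ideal.mem_map_of_mem (algebraMap (MvPolynomial (Fin n) A) B') (hmem a ha)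
      rw [hΨ, ← MvPolynomial.algebraMap_eq, AlgHom.commutes] at this
      exact this
    let π : Bb →+* B' ⧸ J := Ideal.Quotient.lift _ ((Ideal.Quotient.mk J).comp mkw)
      (fun a ha ↦ hle ha)
    have hπ : Function.Surjective π := by
      intro x
      obtain ⟨x, rfl⟩ := Ideal.Quotient.mk_surjective x
      obtain ⟨x, rfl⟩ := Ideal.Quotient.mk_surjective x
      exact ⟨Ideal.Quotient.mk _ x, rfl⟩
    have hfin : (π.comp (g.toRingHom.comp ρ)).Finite :=
      (RingHom.Finite.of_surjective π hπ).comp
        (RingHom.Finite.comp (g := g.toRingHom) hgfin (RingHom.Finite.of_surjective ρ hρ))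
    have heq : algebraMap (MvPolynomial (Fin n) A) (B' ⧸ J) = π.comp (g.toRingHom.comp ρ) := by
      rw [← hcomm]
      rfl
    rw [← RingHom.finite_algebraMap, heq]
    exact hfin
  have hqf : Algebra.QuasiFinite (MvPolynomial (Fin n) A) (B' ⧸ J) := inferInstance
  have hwqf : Algebra.WeaklyQuasiFiniteAt (MvPolynomial (Fin n) A) qb := by
    delta Algebra.WeaklyQuasiFiniteAt
    infer_instance
  obtain ⟨r, hr, hbij⟩ := Algebra.ZariskisMainProperty.of_finiteType_of_weaklyQuasiFiniteAt
    (R := MvPolynomial (Fin n) A) qb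
  -- going down
  let C := integralClosure (MvPolynomial (Fin n) A) B'
  have : IsIntegrallyClosed (MvPolynomial (Fin n) A) := isIntegrallyClosed_mvPolynomial A n
  have : FaithfulSMul (MvPolynomial (Fin n) A) C := by
    rw [faithfulSMul_iff_algebraMap_injective]
    intro x y hxy
    exact hΨinj (congrArg Subtype.val hxy)
  let P0 : Ideal (MvPolynomial (Fin n) A) :=
    RingHom.ker (MvPolynomial.aeval (R := A) (fun _ : Fin n ↦ (0 : A)))
  have : P0.IsPrime := RingHom.ker_isPrime _
  let qC : Ideal C := qb.comap (algebraMap C B')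
  have : qC.IsPrime := Ideal.IsPrime.comap _
  let P : Ideal (MvPolynomial (Fin n) A) := qb.under (MvPolynomial (Fin n) A)
  have : P.IsPrime := Ideal.IsPrime.comap _
  have : qC.LiesOver P := ⟨rfl⟩
  have hP0P : P0 ≤ P := by
    intro F hF
    rw [Ideal.mem_comap, hΨ, hqbmem, hqψ]
    rw [RingHom.mem_ker] at hF ⊢
    have h2 : (MvPolynomial.aeval (R := k) (fun _ : Fin n ↦ (0 : k))).toRingHom.comp ρ =
        (Ideal.Quotient.mk (IsLocalRing.maximalIdeal A)).comp
          (MvPolynomial.aeval (R := A) (fun _ : Fin n ↦ (0 : A))).toRingHom := by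
      refine MvPolynomial.ringHom_ext' ?_ fun i ↦ ?_
      · ext a
        simp [ρ]
      · simp [ρ]
    have h3 := DFunLike.congr_fun h2 F
    simp only [AlgHom.toRingHom_eq_coe, RingHom.coe_comp, RingHom.coe_coe,
      Function.comp_apply] at h3
    rw [h3, hF, map_zero]
  obtain ⟨q0, hq0, hq0p, hq0l⟩ := Ideal.exists_ideal_le_liesOver_of_le (p := P0) (q := P) qC hP0P
  have hq0P0 : ∀ F, algebraMap (MvPolynomial (Fin n) A) C F ∈ q0 ↔ F ∈ P0 := by
    intro F
    rw [hq0l.over]; rfl
  -- `D = C / q0` is `A`
  let D := C ⧸ q0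
  let θ0 : MvPolynomial (Fin n) A →+* D :=
    (Ideal.Quotient.mk q0).comp (algebraMap (MvPolynomial (Fin n) A) C)
  let _ : Algebra A D := (θ0.comp MvPolynomial.C).toAlgebra
  have hAD : ∀ a, algebraMap A D a = θ0 (MvPolynomial.C a) := fun _ ↦ rfl
  have hθ0 : (algebraMap A D).comp
      (MvPolynomial.aeval (R := A) (fun _ : Fin n ↦ (0 : A))).toRingHom = θ0 := by
    refine MvPolynomial.ringHom_ext' ?_ fun i ↦ ?_
    · ext a
      simp [hAD]
    · simp only [AlgHom.toRingHom_eq_coe, RingHom.coe_comp, RingHom.coe_coe,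
        Function.comp_apply, MvPolynomial.aeval_X, map_zero]
      symm
      change Ideal.Quotient.mk q0 _ = 0
      rw [Ideal.Quotient.eq_zero_iff_mem, hq0P0, RingHom.mem_ker, MvPolynomial.aeval_X]
  have hDint : Algebra.IsIntegral A D := by
    constructor
    have h1 : θ0.IsIntegral := RingHom.IsIntegral.trans _ _
      (algebraMap_isIntegral_iff.mpr inferInstance)
      (RingHom.isIntegral_of_surjective _ Ideal.Quotient.mk_surjective)
    rw [← hθ0] at h1
    exact RingHom.IsIntegral.tower_top _ _ h1
  have hADs : Function.Surjective (algebraMap A D) := hA.surjective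
  have hADi : Function.Injective (algebraMap A D) := by
    rw [injective_iff_map_eq_zero]
    intro a ha
    rw [hAD] at ha
    change Ideal.Quotient.mk q0 _ = 0 at ha
    rw [Ideal.Quotient.eq_zero_iff_mem, hq0P0, RingHom.mem_ker, MvPolynomial.aeval_C] at ha
    exact ha
  let e : A ≃+* D := RingEquiv.ofBijective (algebraMap A D) ⟨hADi, hADs⟩
  let θ : C →+* A := e.symm.toRingHom.comp (Ideal.Quotient.mk q0)
  have hθA : ∀ a, θ (algebraMap (MvPolynomial (Fin n) A) C (MvPolynomial.C a)) = a := by
    intro a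
    change e.symm (algebraMap A D a) = a
    exact e.symm_apply_apply a
  have hθq : ∀ c, θ c ∈ IsLocalRing.maximalIdeal A → c ∈ qC := by
    intro c hc
    have h1 : c - algebraMap (MvPolynomial (Fin n) A) C (MvPolynomial.C (θ c)) ∈ q0 := by
      rw [← Ideal.Quotient.eq_zero_iff_mem, map_sub, sub_eq_zero]
      change _ = algebraMap A D (θ c)
      exact (e.apply_symm_apply _).symm
    have h2 : algebraMap (MvPolynomial (Fin n) A) C (MvPolynomial.C (θ c)) ∈ qC := hmem _ hc
    simpa using qC.add_mem (hq0 h1) h2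
  have hunit : IsUnit (θ r) := by
    by_contra h
    exact hr (hθq r ((IsLocalRing.mem_maximalIdeal _).mpr h))
  let e2 := RingEquiv.ofBijective
    (Localization.awayMap (integralClosure (MvPolynomial (Fin n) A) B').val.toRingHom r) hbij
  let φ' : B' →+* A := (IsLocalization.Away.lift (S := Localization.Away r) r hunit).comp
    (e2.symm.toRingHom.comp (algebraMap B'
      (Localization.Away ((integralClosure (MvPolynomial (Fin n) A) B').val.toRingHom r))))
  have hφ' : ∀ c : C, φ' (c : B') = θ c := by
    intro c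
    have h1 : e2 (algebraMap C (Localization.Away r) c) = algebraMap B'
      (Localization.Away ((integralClosure (MvPolynomial (Fin n) A) B').val.toRingHom r)) (c : B') := by
      simp only [e2, RingEquiv.ofBijective_apply, Localization.awayMap, IsLocalization.Away.map]
      exact IsLocalization.map_eq _ c
    simp only [φ', RingEquiv.toRingHom_eq_coe, RingHom.coe_comp, RingHom.coe_coe,
      Function.comp_apply, ← h1, RingEquiv.symm_apply_apply]
    exact IsLocalization.Away.lift_eq r hunit c
  refine ⟨{ φ'.comp mkw with commutes' := fun a ↦ ?_ }⟩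
  have h1 := hφ' (algebraMap (MvPolynomial (Fin n) A) C (MvPolynomial.C a))
  rw [hθA] at h1
  have h2 : ((algebraMap (MvPolynomial (Fin n) A) C (MvPolynomial.C a) : C) : B') =
      mkw (algebraMap A B a) := by
    change algebraMap (MvPolynomial (Fin n) A) B' (MvPolynomial.C a) = _
    rw [hΨ, ← MvPolynomial.algebraMap_eq, AlgHom.commutes]
  rw [h2] at h1
  exact h1

end Groth.Agent.Ega43.QSectLocal
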