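import Groth.Agent.Ega43.QSectScheme
import Groth.Agent.S0385
import Mathlib.AlgebraicGeometry.Morphisms.Proper
import Mathlib.AlgebraicGeometry.Morphisms.QuasiFinite

/-!
# Quasi-sections of universally open morphisms over a Noetherian scheme (EGA IV 14.5.10)
-/

set_option autoImplicit false
universe u

open CategoryTheory AlgebraicGeometry CategoryTheory.Limits TopologicalSpace

namespace Groth.Agent.Ega43.QSectNoeth

open QSectScheme

variable {X Y : Scheme.{u}}

/-- Some finite surjective `g : Y' ⟶ Y` has local sections near all points over `S`. -/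
def PS (f : X ⟶ Y) (S : Set Y) : Prop :=
  ∃ (Y' : Scheme.{u}) (g : Y' ⟶ Y), IsFinite g ∧ Surjective g ∧ ∀ y' : Y', g y' ∈ S → LocSec f g y'

lemma PS.empty (f : X ⟶ Y) : PS f ∅ :=
  ⟨Y, 𝟙 Y, inferInstance, inferInstance, fun _ h ↦ h.elim⟩

lemma PS.mono {f : X ⟶ Y} {S T : Set Y} (h : PS f T) (hST : S ⊆ T) : PS f S := by
  obtain ⟨Y', g, h1, h2, h3⟩ := h
  exact ⟨Y', g, h1, h2, fun y' hy' ↦ h3 y' (hST hy')⟩

lemma PS.union {f : X ⟶ Y} {S T : Set Y} (hS : PS f S) (hT : PS f T) : PS f (S ∪ T) := by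
  obtain ⟨Y₁, g₁, h1, h2, h3⟩ := hS
  obtain ⟨Y₂, g₂, k1, k2, k3⟩ := hT
  refine ⟨pullback g₁ g₂, pullback.fst g₁ g₂ ≫ g₁, inferInstance, inferInstance, fun y' hy' ↦ ?_⟩
  rcases hy' with hy' | hy'
  · exact (h3 _ (by rwa [Scheme.Hom.comp_apply] at hy')).comp_left _ _
  · rw [pullback.condition] at hy' ⊢
    exact (k3 _ (by rwa [Scheme.Hom.comp_apply] at hy')).comp_left _ _

theorem exists_nhd [IsNoetherian Y] (f : X ⟶ Y) [UniversallyOpen f] [Surjective f]
    [LocallyOfFiniteType f] (y : Y) : ∃ V : Set Y, IsOpen V ∧ y ∈ V ∧ PS f V := by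
  obtain ⟨_, ⟨W, hW, rfl⟩, hyW, -⟩ := Y.isBasis_affineOpens.exists_subset_of_mem_open
    (Set.mem_univ y) isOpen_univ
  have : IsNoetherianRing Γ(Y, W) := IsLocallyNoetherian.component_noetherian ⟨W, hW⟩
  let a : Spec Γ(Y, W) ⟶ Y := hW.fromSpec
  obtain ⟨R', g, hg1, hg2, hsec⟩ := exists_affine (pullback.snd f a)
  have hsec' : ∀ r, LocSec f (g ≫ a) r := fun r ↦ (hsec r).of_baseChange a r
  have : LocallyQuasiFinite g := inferInstance
  have : LocallyQuasiFinite a := inferInstance
  have : QuasiCompact a := inferInstance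
  have : IsSeparated (g ≫ a) := inferInstance
  obtain ⟨T, j, π, hj, hjqc, hπ, hjπ⟩ := Groth.Agent.S0385.result (g ≫ a)
  let Z := (Scheme.IdealSheafData.vanishingIdeal (X := T) ⟨closure (Set.range j), isClosed_closure⟩)
  let C := (Scheme.IdealSheafData.vanishingIdeal (X := Y) ⟨(W : Set Y)ᶜ, W.isOpen.isClosed_compl⟩)
  have hZ : Set.range Z.subschemeι = closure (Set.range j) := by
    rw [Scheme.IdealSheafData.range_subschemeι, Scheme.IdealSheafData.coe_support_vanishingIdeal]
    rfl
  have hC : Set.range C.subschemeι = (W : Set Y)ᶜ := by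
    rw [Scheme.IdealSheafData.range_subschemeι, Scheme.IdealSheafData.coe_support_vanishingIdeal]
    rfl
  have ha : Set.range a = W := hW.range_fromSpec
  let G : Z.subscheme ⨿ C.subscheme ⟶ Y := coprod.desc (Z.subschemeι ≫ π) C.subschemeι
  have hGl : coprod.inl ≫ G = Z.subschemeι ≫ π := coprod.inl_desc _ _
  have hGr : coprod.inr ≫ G = C.subschemeι := coprod.inr_desc _ _
  refine ⟨W, W.isOpen, hyW, _, G, inferInstance, ⟨fun x ↦ ?_⟩, fun y' hy' ↦ ?_⟩
  · by_cases hx : x ∈ (W : Set Y)
    · rw [← ha] at hx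
      obtain ⟨p, rfl⟩ := hx
      obtain ⟨r, rfl⟩ := g.surjective p
      have h1 : j r ∈ Set.range Z.subschemeι := by rw [hZ]; exact subset_closure ⟨r, rfl⟩
      obtain ⟨z, hz⟩ := h1
      refine ⟨(coprod.inl : Z.subscheme ⟶ Z.subscheme ⨿ C.subscheme) z, ?_⟩
      rw [← Scheme.Hom.comp_apply, hGl, Scheme.Hom.comp_apply, hz, ← Scheme.Hom.comp_apply, hjπ,
        Scheme.Hom.comp_apply]
    · have h1 : x ∈ Set.range C.subschemeι := by rw [hC]; exact hx
      obtain ⟨z, hz⟩ := h1
      refine ⟨(coprod.inr : C.subscheme ⟶ Z.subscheme ⨿ C.subscheme) z, ?_⟩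
      rw [← Scheme.Hom.comp_apply, hGr, hz]
  · have hy'' : y' ∈ Set.range (coprod.inl : Z.subscheme ⟶ Z.subscheme ⨿ C.subscheme) ∪
        Set.range (coprod.inr : C.subscheme ⟶ Z.subscheme ⨿ C.subscheme) := by
      have := (isCompl_range_inl_inr Z.subscheme C.subscheme).codisjoint.top_le
      exact this trivial
    rcases hy'' with ⟨z, rfl⟩ | ⟨z, rfl⟩
    · rw [← Scheme.Hom.comp_apply, hGl, Scheme.Hom.comp_apply] at hy'
      -- `ι z` lies in the range of `j`
      let b : pullback π a ⟶ T := pullback.fst π a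
      let k : Spec R' ⟶ pullback π a := pullback.lift j g hjπ
      have hkb : k ≫ b = j := pullback.lift_fst _ _ _
      have hkg : k ≫ pullback.snd π a = g := pullback.lift_snd _ _ _
      have hk : UniversallyClosed k := by
        have : UniversallyClosed (k ≫ pullback.snd π a) := by rw [hkg]; infer_instance
        exact UniversallyClosed.of_comp_of_isSeparated k (pullback.snd π a)
      have hkcl : IsClosed (Set.range k) := k.isClosedMap.isClosed_range
      have hzcl : Z.subschemeι z ∈ closure (Set.range j) := by rw [← hZ]; exact ⟨z, rfl⟩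
      have hzb : Z.subschemeι z ∈ Set.range b := by
        have : Set.range b = π ⁻¹' Set.range a := IsOpenImmersion.range_pullbackFst _ _
        rw [this, Set.mem_preimage, ha]
        exact hy'
      obtain ⟨t, ht⟩ := hzb
      have htk : t ∈ Set.range k := by
        have h1 : t ∈ b ⁻¹' closure (Set.range j) := by rw [Set.mem_preimage, ht]; exact hzcl
        rw [b.isOpenEmbedding.isOpenMap.preimage_closure_eq_closure_preimage b.continuous] at h1
        have h2 : b ⁻¹' Set.range j = Set.range k := by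
          rw [← hkb, Scheme.Hom.comp_base, TopCat.coe_comp, Set.range_comp,
            Set.preimage_image_eq _ b.isOpenEmbedding.injective]
        rw [h2, hkcl.closure_eq] at h1
        exact h1
      obtain ⟨r, rfl⟩ := htk
      have hjr : Z.subschemeι z = j r := by
        rw [← ht, ← Scheme.Hom.comp_apply, hkb]
      have h3 : LocSec f π (j r) := LocSec.of_openImmersion j r (by rw [hjπ]; exact hsec' r)
      rw [← hjr] at h3
      have h4 := h3.comp_left Z.subschemeι z
      rw [← hGl] at h4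
      exact h4.of_openImmersion _ _
    · rw [← Scheme.Hom.comp_apply, hGr] at hy'
      have h1 : C.subschemeι z ∈ (W : Set Y)ᶜ := by rw [← hC]; exact ⟨z, rfl⟩
      exact absurd hy' h1

theorem exists_finite_surjective [IsNoetherian Y] (f : X ⟶ Y) [UniversallyOpen f] [Surjective f]
    [LocallyOfFiniteType f] :
    ∃ (Y' : Scheme.{u}) (g : Y' ⟶ Y), IsFinite g ∧ Surjective g ∧ ∀ y' : Y', LocSec f g y' := by
  have h : PS f Set.univ := by
    refine isCompact_univ.induction_on (p := PS f) (PS.empty f) (fun s t hst ht ↦ ht.mono hst)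
      (fun s t hs ht ↦ hs.union ht) fun x _ ↦ ?_
    obtain ⟨V, hV, hxV, hP⟩ := exists_nhd f x
    exact ⟨V, mem_nhdsWithin_of_mem_nhds (hV.mem_nhds hxV), hP⟩
  obtain ⟨Y', g, h1, h2, h3⟩ := h
  exact ⟨Y', g, h1, h2, fun y' ↦ h3 y' trivial⟩

end Groth.Agent.Ega43.QSectNoeth
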