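import Groth.Prelude.Def_Mor2
import Mathlib.AlgebraicGeometry.QuasiAffine
import Mathlib.AlgebraicGeometry.Morphisms.Affine

/-!
# Quasi-affine morphisms are local on the target
-/

set_option autoImplicit false
set_option backward.isDefEq.respectTransparency false
universe u
open CategoryTheory AlgebraicGeometry Limits

namespace Groth.Agent.Ega43.QuasiAffineLocal

lemma exists_basicOpen_eq {X : Scheme.{u}} [CompactSpace X] [QuasiSeparatedSpace X]
    (a : Γ(X, ⊤)) (s : Γ(X, X.basicOpen a)) :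
    ∃ t : Γ(X, ⊤), X.basicOpen t = X.basicOpen s := by
  obtain ⟨n, y, hy⟩ := exists_eq_pow_mul_of_isCompact_of_isQuasiSeparated X ⊤ isCompact_univ
    isQuasiSeparated_univ a s
  refine ⟨y * a, ?_⟩
  have h1 : X.basicOpen (y |_ X.basicOpen a) = X.basicOpen s := by
    rw [hy, Scheme.basicOpen_mul]
    have : IsUnit ((a |_ X.basicOpen a) ^ n) := (RingedSpace.isUnit_res_basicOpen _ a).pow n
    rw [Scheme.basicOpen_of_isUnit _ this]
    exact inf_eq_right.mpr (Scheme.basicOpen_le _ _)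
  rw [Scheme.basicOpen_mul, ← h1]
  dsimp only [TopCat.Presheaf.restrictOpenCommRingCat_apply]
  rw [Scheme.basicOpen_res, inf_comm]

theorem isQuasiAffine_of_forall_exists {X Y : Scheme.{u}} (f : X ⟶ Y) [QuasiCompact f] [IsAffine Y]
    (H : ∀ y : Y, ∃ U : Y.Opens, IsAffineOpen U ∧ y ∈ U ∧ (f ⁻¹ᵁ U : Scheme.{u}).IsQuasiAffine) :
    X.IsQuasiAffine := by
  have hX : CompactSpace X := QuasiCompact.compactSpace_of_compactSpace f
  choose U hU hyU hUq using H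
  have hqs : QuasiSeparated f := by
    rw [HasAffineProperty.iff_of_iSup_eq_top (P := @QuasiSeparated) (fun y ↦ (⟨U y, hU y⟩ : Y.affineOpens))]
    · intro y
      have := hUq y
      exact (inferInstance : QuasiSeparatedSpace (f ⁻¹ᵁ U y : Scheme.{u}))
    · exact top_le_iff.mp (fun x _ ↦ by simpa using ⟨x, hyU x⟩)
  have hX' : QuasiSeparatedSpace X := quasiSeparatedSpace_of_quasiSeparated f
  refine Scheme.IsQuasiAffine.of_forall_exists_mem_basicOpen _ fun x ↦ ?_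
  obtain ⟨_, ⟨_, ⟨r, rfl⟩, rfl⟩, hxr, hrU⟩ :=
    (isBasis_basicOpen Y).exists_subset_of_mem_open (hyU (f x)) (U (f x)).2
  have hrU : Y.basicOpen r ≤ U (f x) := hrU
  let a : Γ(X, ⊤) := f.appTop r
  have ha : f ⁻¹ᵁ Y.basicOpen r = X.basicOpen a := Scheme.preimage_basicOpen_top f r
  have haU : X.basicOpen a ≤ f ⁻¹ᵁ U (f x) := ha ▸ Scheme.Hom.preimage_mono _ hrU
  have hxa : x ∈ X.basicOpen a := ha ▸ hxr
  have := hUq (f x)
  have hca : CompactSpace (X.basicOpen a : Scheme.{u}) := isCompact_iff_compactSpace.mp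
    (isCompact_basicOpen X isCompact_univ a)
  have hqa : (X.basicOpen a : Scheme.{u}).IsQuasiAffine :=
    Scheme.IsQuasiAffine.of_isImmersion (X.homOfLE haU)
  obtain ⟨_, ⟨_, ⟨s, hs, rfl⟩, rfl⟩, hxs, -⟩ := (Scheme.IsQuasiAffine.isBasis_basicOpen
    (X.basicOpen a : Scheme.{u})).exists_subset_of_mem_open (Set.mem_univ ⟨x, hxa⟩) isOpen_univ
  obtain ⟨t, ht⟩ := exists_basicOpen_eq a (X.presheaf.map (eqToHom
    (X.basicOpen a).ι_image_top.symm).op s)
  have ht' : X.basicOpen t = (X.basicOpen a).ι ''ᵁ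
      (X.basicOpen a : Scheme.{u}).basicOpen s := by
    rw [ht, Scheme.Opens.ι_image_basicOpen']
  refine ⟨t, ?_, ?_⟩
  · rw [ht']
    exact hs.image_of_isOpenImmersion _
  · rw [ht']
    exact ⟨_, hxs, rfl⟩

/-- Being quasi-affine is local on the target (Stacks 01SL). -/
theorem isQuasiAffineHom_of_forall_exists {X Y : Scheme.{u}} (f : X ⟶ Y)
    (H : ∀ y : Y, ∃ U : Y.Opens, IsAffineOpen U ∧ y ∈ U ∧ (f ⁻¹ᵁ U : Scheme.{u}).IsQuasiAffine) :
    Mor2.IsQuasiAffine f := by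
  have hf : QuasiCompact f := by
    choose U hU hyU hUq using H
    rw [HasAffineProperty.iff_of_iSup_eq_top (P := @QuasiCompact)
      (fun y ↦ (⟨U y, hU y⟩ : Y.affineOpens))]
    · intro y
      have := hUq y
      exact (inferInstance : CompactSpace (f ⁻¹ᵁ U y : Scheme.{u}))
    · exact top_le_iff.mp (fun x _ ↦ by simpa using ⟨x, hyU x⟩)
  refine ⟨hf, fun V hV ↦ ?_⟩
  have : IsAffine V := hV
  have : QuasiCompact (f ∣_ V) := IsZariskiLocalAtTarget.restrict (P := @QuasiCompact) hf V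
  refine isQuasiAffine_of_forall_exists (f ∣_ V) fun y ↦ ?_
  obtain ⟨U, hU, hyU, hUq⟩ := H y.1
  obtain ⟨W, ⟨W, hW, rfl⟩, hyW, hWU⟩ := (V : Scheme.{u}).isBasis_affineOpens.exists_subset_of_mem_open
    (show y ∈ V.ι ⁻¹ᵁ U from hyU) (V.ι ⁻¹ᵁ U).2
  refine ⟨W, hW, hyW, ?_⟩
  have hWU : W ≤ V.ι ⁻¹ᵁ U := hWU
  have : CompactSpace ((f ∣_ V) ⁻¹ᵁ W : Scheme.{u}) := isCompact_iff_compactSpace.mp
    (QuasiCompact.isCompact_preimage (f := f ∣_ V) _ W.2 hW.isCompact)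
  have h2 : Set.range (((f ∣_ V) ⁻¹ᵁ W).ι ≫ (f ⁻¹ᵁ V).ι) ⊆ Set.range (f ⁻¹ᵁ U).ι := by
    rintro _ ⟨z, rfl⟩
    have hz : (f ∣_ V) ((((f ∣_ V) ⁻¹ᵁ W).ι) z) ∈ W := z.2
    have h3 := hWU hz
    simp only [Scheme.Opens.range_ι]
    change (((f ∣_ V) ⁻¹ᵁ W).ι ≫ (f ∣_ V) ≫ V.ι) z ∈ U at h3
    rw [morphismRestrict_ι] at h3
    exact h3
  have := hUq
  exact Scheme.IsQuasiAffine.of_isImmersion
    (IsOpenImmersion.lift (f ⁻¹ᵁ U).ι (((f ∣_ V) ⁻¹ᵁ W).ι ≫ (f ⁻¹ᵁ V).ι) h2)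

lemma isQuasiAffine_of_iso {X Y : Scheme.{u}} (e : X ≅ Y) (h : Y.IsQuasiAffine) :
    X.IsQuasiAffine :=
  Scheme.IsQuasiAffine.of_isAffineHom e.hom

/-- Being quasi-affine is invariant under isomorphisms of arrows. -/
lemma respectsIso : MorphismProperty.RespectsIso
    ((fun _ _ f ↦ Mor2.IsQuasiAffine f) : MorphismProperty Scheme.{u}) := by
  refine MorphismProperty.RespectsIso.mk _ ?_ ?_
  · intro X Y Z e f hf
    refine isQuasiAffineHom_of_forall_exists _ fun y ↦ ?_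
    obtain ⟨_, ⟨U, hU, rfl⟩, hyU, -⟩ := Z.isBasis_affineOpens.exists_subset_of_mem_open
      (Set.mem_univ y) isOpen_univ
    refine ⟨U, hU, hyU, ?_⟩
    have := hf.2 U hU
    exact isQuasiAffine_of_iso (asIso (e.hom ∣_ (f ⁻¹ᵁ U))) this
  · intro X Y Z e f hf
    refine isQuasiAffineHom_of_forall_exists _ fun y ↦ ?_
    obtain ⟨_, ⟨U, hU, rfl⟩, hyU, -⟩ := Z.isBasis_affineOpens.exists_subset_of_mem_open
      (Set.mem_univ y) isOpen_univ
    exact ⟨U, hU, hyU, hf.2 _ (hU.preimage e.hom)⟩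

end Groth.Agent.Ega43.QuasiAffineLocal
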