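import Mathlib.FieldTheory.SeparablyGenerated
import Mathlib.FieldTheory.IsAlgClosed.AlgebraicClosure
import Mathlib.RingTheory.TensorProduct.Basic
import Mathlib.RingTheory.Localization.BaseChange
import Mathlib.RingTheory.LocalProperties.Reduced
import Mathlib.RingTheory.LocalRing.ResidueField.Basic
import Mathlib.Algebra.CharP.Algebra
import Mathlib.LinearAlgebra.TensorProduct.Basis
import Mathlib.FieldTheory.Perfect
import Mathlib.RingTheory.Flat.Basic
import Mathlib.LinearAlgebra.FreeModule.Basic
import Mathlib.RingTheory.Flat.FaithfullyFlat.Basic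

set_option autoImplicit false

open IsLocalRing TensorProduct

namespace Groth.Agent.Ega43.SepGen

universe u

/-- A finitely generated field extension which is geometrically reduced is separably generated. -/
theorem exists_separating_transcendenceBasis (k K : Type u) [Field k] [Field K] [Algebra k K]
    [Algebra.EssFiniteType k K] (h : IsReduced (AlgebraicClosure k ⊗[k] K)) :
    ∃ s : Finset K, IsTranscendenceBasis k ((↑) : s → K) ∧
      Algebra.IsSeparable (IntermediateField.adjoin k (s : Set K)) K := by
  obtain _ | ⟨p, hp, hpk⟩ := CharP.exists' k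
  · exact exists_isTranscendenceBasis_and_isSeparable_of_perfectField k K
  have : ExpChar k p := .prime hp.out
  refine exists_isTranscendenceBasis_and_isSeparable_of_linearIndepOn_pow_of_essFiniteType
    p hp.out fun s hs => ?_
  have hcharK : CharP K p := charP_of_injective_algebraMap (algebraMap k K).injective p
  have hcharT : CharP (AlgebraicClosure k ⊗[k] K) p :=
    charP_of_injective_algebraMap (algebraMap k (AlgebraicClosure k ⊗[k] K)).injective p
  have hexpT : ExpChar (AlgebraicClosure k ⊗[k] K) p := .prime hp.out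
  rw [linearIndepOn_finset_iff]
  intro c hc x hx
  -- p-th roots of the coefficients
  have hroot : ∀ y : K, ∃ d : AlgebraicClosure k, d ^ p = algebraMap k _ (c y) := fun y =>
    IsAlgClosed.exists_pow_nat_eq _ hp.out.pos
  choose d hd using hroot
  have h1 : (∑ y ∈ s, d y ⊗ₜ[k] y) ^ p = (0 : AlgebraicClosure k ⊗[k] K) := by
    rw [sum_pow_char]
    have h2 : ∀ y ∈ s, (d y ⊗ₜ[k] y) ^ p = (1 : AlgebraicClosure k) ⊗ₜ[k] (c y • y ^ p) := by
      intro y _
      rw [Algebra.TensorProduct.tmul_pow, hd, Algebra.algebraMap_eq_smul_one,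
        TensorProduct.smul_tmul]
    rw [Finset.sum_congr rfl h2, ← TensorProduct.tmul_sum, hc, tmul_zero]
  have h3 : ∑ y ∈ s, d y ⊗ₜ[k] y = (0 : AlgebraicClosure k ⊗[k] K) :=
    (IsNilpotent.eq_zero ⟨p, h1⟩)
  -- linear independence
  have hs' : LinearIndependent k (fun y : s => (y : K)) := hs
  let f : (s →₀ k) →ₗ[k] K := Finsupp.linearCombination k (fun y : s => (y : K))
  have hf : Function.Injective f := hs'
  have hf' : Function.Injective (f.lTensor (AlgebraicClosure k)) :=
    Module.Flat.lTensor_preserves_injective_linearMap f hf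
  have h4 : (f.lTensor (AlgebraicClosure k)) (∑ y : s, d y ⊗ₜ[k] Finsupp.single y 1) = 0 := by
    rw [map_sum]
    have : ∀ y : s, (f.lTensor (AlgebraicClosure k)) (d y ⊗ₜ[k] Finsupp.single y 1) =
        d y ⊗ₜ[k] (y : K) := by
      intro y
      rw [LinearMap.lTensor_tmul]
      simp [f]
    rw [Finset.sum_congr rfl (fun y _ => this y)]
    rw [← h3]
    exact (Finset.sum_coe_sort s (fun y => d y ⊗ₜ[k] y))
  have h5 : ∑ y : s, d y ⊗ₜ[k] (Finsupp.single y 1 : s →₀ k) = 0 := by
    apply hf'
    rw [h4, map_zero]
  have h6 := congrArg ((Finsupp.lapply (⟨x, hx⟩ : s) : (s →₀ k) →ₗ[k] k).lTensor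
    (AlgebraicClosure k)) h5
  rw [map_sum, map_zero] at h6
  rw [Finset.sum_eq_single (⟨x, hx⟩ : s)] at h6
  · rw [LinearMap.lTensor_tmul, Finsupp.lapply_apply, Finsupp.single_eq_same] at h6
    have h7 : d x = 0 := by
      have := congrArg (TensorProduct.rid k (AlgebraicClosure k)) h6
      simpa using this
    have h8 := hd x
    rw [h7, zero_pow hp.out.ne_zero] at h8
    exact ((map_eq_zero_iff _ (algebraMap k (AlgebraicClosure k)).injective).mp h8.symm)
  · intro y _ hy
    rw [LinearMap.lTensor_tmul, Finsupp.lapply_apply, Finsupp.single_eq_of_ne hy.symm, tmul_zero]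
  · intro h
    exact absurd (Finset.mem_univ _) h

end Groth.Agent.Ega43.SepGen
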