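import Mathlib.AlgebraicGeometry.Stalk
import Mathlib.AlgebraicGeometry.Pullbacks
import Mathlib.AlgebraicGeometry.Morphisms.Flat
import Mathlib.AlgebraicGeometry.Morphisms.Preimmersion

set_option autoImplicit false

open CategoryTheory CategoryTheory.Limits AlgebraicGeometry TensorProduct

namespace Groth.Agent.Ega43.StalkPull

universe u

/-- Composing the two legs with a monomorphism preserves pullback squares. -/
theorem isPullback_comp_mono {C : Type*} [Category C] {P X Y W Z : C} {fst : P ⟶ X} {snd : P ⟶ Y}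
    {f : X ⟶ W} {g : Y ⟶ W} (h : IsPullback fst snd f g) (i : W ⟶ Z) [Mono i] :
    IsPullback fst snd (f ≫ i) (g ≫ i) :=
  ⟨⟨by rw [← Category.assoc, h.w, Category.assoc]⟩,
    ⟨PullbackCone.isLimitOfCompMono f g i _ h.isLimit⟩⟩

/-- `Spec 𝒪_{X,x} ⟶ X` is flat. -/
theorem flat_fromSpecStalk (X : Scheme.{u}) (x : X) : Flat (X.fromSpecStalk x) := by
  obtain ⟨U, hU, hxU⟩ : ∃ U : X.Opens, IsAffineOpen U ∧ x ∈ U :=
    ⟨_, isAffineOpen_opensRange (X.affineCover.f (X.affineCover.idx x)), X.affineCover.covers x⟩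
  rw [← IsAffineOpen.fromSpecStalk_eq_fromSpecStalk hU hxU]
  unfold IsAffineOpen.fromSpecStalk
  have h1 : Flat (Spec.map (X.presheaf.germ U x hxU)) := by
    rw [Flat.SpecMap_iff]
    letI : Algebra Γ(X, U) (X.presheaf.stalk x) := (X.presheaf.germ U x hxU).hom.toAlgebra
    haveI := hU.isLocalization_stalk ⟨x, hxU⟩
    exact IsLocalization.flat (R := Γ(X, U)) (X.presheaf.stalk x)
      (hU.primeIdealOf ⟨x, hxU⟩).asIdeal.primeCompl
  exact inferInstance

section

variable {X Y : Scheme.{u}} (f : X ⟶ Y) {A B : Type u} [CommRing A] [CommRing B] [Algebra A B]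
  (a : Spec (CommRingCat.of A) ⟶ Y) [Mono a] (b : Spec (CommRingCat.of B) ⟶ X)
  (h : b ≫ f = Spec.map (CommRingCat.ofHom (algebraMap A B)) ≫ a)
  (R : Type u) [CommRing R] [Algebra A R]

include h in
theorem isPullback_tensor :
    IsPullback
      (Spec.map (CommRingCat.ofHom
        (Algebra.TensorProduct.includeRight : B →ₐ[A] R ⊗[A] B).toRingHom))
      (Spec.map (CommRingCat.ofHom (algebraMap R (R ⊗[A] B))))
      (b ≫ f)
      (Spec.map (CommRingCat.ofHom (algebraMap A R)) ≫ a) := by
  rw [h]
  apply isPullback_comp_mono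
  have h1 := isPullback_SpecMap_of_isPushout _ _ _ _ (CommRingCat.isPushout_tensorProduct A R B)
  exact h1.flip

/-- The canonical morphism `Spec (R ⊗_A B) ⟶ X ×_Y Spec R`. -/
noncomputable def lift : Spec (CommRingCat.of (R ⊗[A] B)) ⟶
    pullback f (Spec.map (CommRingCat.ofHom (algebraMap A R)) ≫ a) :=
  pullback.lift
    (Spec.map (CommRingCat.ofHom
        (Algebra.TensorProduct.includeRight : B →ₐ[A] R ⊗[A] B).toRingHom) ≫ b)
    (Spec.map (CommRingCat.ofHom (algebraMap R (R ⊗[A] B))))
    (by rw [Category.assoc]; exact (isPullback_tensor f a b h R).w)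

@[reassoc (attr := simp)]
theorem lift_fst : lift f a b h R ≫ pullback.fst _ _ =
    Spec.map (CommRingCat.ofHom
        (Algebra.TensorProduct.includeRight : B →ₐ[A] R ⊗[A] B).toRingHom) ≫ b :=
  pullback.lift_fst _ _ _

@[reassoc (attr := simp)]
theorem lift_snd : lift f a b h R ≫ pullback.snd _ _ =
    Spec.map (CommRingCat.ofHom (algebraMap R (R ⊗[A] B))) :=
  pullback.lift_snd _ _ _

theorem isPullback_lift : IsPullback (lift f a b h R)
    (Spec.map (CommRingCat.ofHom
        (Algebra.TensorProduct.includeRight : B →ₐ[A] R ⊗[A] B).toRingHom))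
    (pullback.fst f (Spec.map (CommRingCat.ofHom (algebraMap A R)) ≫ a)) b := by
  have h1 : IsPullback (lift f a b h R ≫ pullback.snd _ _) (Spec.map (CommRingCat.ofHom
        (Algebra.TensorProduct.includeRight : B →ₐ[A] R ⊗[A] B).toRingHom))
      (Spec.map (CommRingCat.ofHom (algebraMap A R)) ≫ a) (b ≫ f) := by
    rw [lift_snd]
    exact (isPullback_tensor f a b h R).flip
  exact IsPullback.of_right h1 (lift_fst f a b h R)
    (IsPullback.of_hasPullback f (Spec.map (CommRingCat.ofHom (algebraMap A R)) ≫ a)).flip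

theorem flat_lift [Flat b] : Flat (lift f a b h R) :=
  MorphismProperty.of_isPullback (P := @Flat) (isPullback_lift f a b h R).flip inferInstance

theorem isPreimmersion_lift [IsPreimmersion b] : IsPreimmersion (lift f a b h R) :=
  MorphismProperty.of_isPullback (P := @IsPreimmersion) (isPullback_lift f a b h R).flip
    inferInstance

end

end Groth.Agent.Ega43.StalkPull
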