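import Groth.Prelude.Def_CAlg2
import Mathlib.AlgebraicGeometry.Morphisms.UniversallyInjective
import Mathlib.AlgebraicGeometry.Morphisms.Integral
import Mathlib.RingTheory.Localization.Integral
import Mathlib.RingTheory.Ideal.GoingUp
import Mathlib.RingTheory.Spectrum.Prime.RingHom

/-!
# Geometrically unibranch rings: the normalization is universally injective

Let `A` be a ring with irreducible spectrum (`IsDomain (CAlg2.red A)`) all of whose local rings are
geometrically unibranch. Then `Spec A' ⟶ Spec A` is universally injective, where `A'` is the integral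
closure of `A` in the fraction field of `A_red`.
-/

set_option autoImplicit false
open CategoryTheory AlgebraicGeometry CAlg2
universe u

namespace Groth.Agent.Ega43.Unibranch

/-- In a field of exponential characteristic `p` (of the source quotient ring) `p^n`-th powers are
injective. -/
lemma eq_of_pow_ringExpChar_eq {E Ω : Type*} [Field E] [Field Ω] (φ : E →+* Ω) {n : ℕ} {a b : Ω}
    (h : a ^ (ringExpChar E) ^ n = b ^ (ringExpChar E) ^ n) : a = b := by
  haveI : ExpChar E (ringExpChar E) := inferInstance
  haveI : ExpChar Ω (ringExpChar E) := expChar_of_injective_ringHom φ.injective _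
  exact iterateFrobenius_inj Ω (ringExpChar E) n (by simpa [iterateFrobenius_def] using h)

/-- Two maps from the normalization of a geometrically unibranch local ring to a field which agree
on the local ring, and are local there, are equal. -/
theorem ringHom_eq_of_isGeomUnibranch {O : Type u} [CommRing O] [IsLocalRing O]
    (h : IsGeomUnibranch O) {Ω : Type*} [Field Ω] (φ₁ φ₂ : normRed O →+* Ω)
    (h12 : ∀ x : O, φ₁ (algebraMap (red O) (normRed O) (Ideal.Quotient.mk _ x)) =
      φ₂ (algebraMap (red O) (normRed O) (Ideal.Quotient.mk _ x)))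
    (hker : ∀ x ∈ IsLocalRing.maximalIdeal O,
      φ₁ (algebraMap (red O) (normRed O) (Ideal.Quotient.mk _ x)) = 0) : φ₁ = φ₂ := by
  obtain ⟨⟨hdom, hloc⟩, hpi⟩ := h
  have hmax : ∀ φ : normRed O →+* Ω, (∀ x ∈ IsLocalRing.maximalIdeal O,
      φ (algebraMap (red O) (normRed O) (Ideal.Quotient.mk _ x)) = 0) →
      RingHom.ker φ = IsLocalRing.maximalIdeal (normRed O) := by
    intro φ hφ
    have hp : (RingHom.ker φ).IsPrime := RingHom.ker_isPrime φ
    have hint : ((algebraMap (red O) (normRed O)).comp
        (Ideal.Quotient.mk (nilradical O))).IsIntegral :=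
      (RingHom.isIntegral_of_surjective _ Ideal.Quotient.mk_surjective).trans _ _
        (algebraMap_isIntegral_iff.mpr inferInstance)
    have h1 : (RingHom.ker φ).comap ((algebraMap (red O) (normRed O)).comp
        (Ideal.Quotient.mk (nilradical O))) = IsLocalRing.maximalIdeal O := by
      refine le_antisymm (IsLocalRing.le_maximalIdeal ?_) fun x hx => hφ x hx
      exact (Ideal.IsPrime.comap _).ne_top
    have : (RingHom.ker φ).IsMaximal :=
      Ideal.isMaximal_of_isIntegral_of_isMaximal_comap' _ hint _ (h1 ▸ inferInstance)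
    exact IsLocalRing.eq_maximalIdeal this
  have hk1 := hmax φ₁ hker
  have hk2 := hmax φ₂ fun x hx => (h12 x) ▸ hker x hx
  ext b
  let m := IsLocalRing.maximalIdeal (normRed O)
  obtain ⟨n, x, hx⟩ := hpi m (Ideal.Quotient.mk m b)
  let E := normRed O ⧸ m
  letI : Field E := Ideal.Quotient.field m
  let ψ₁ : E →+* Ω := Ideal.Quotient.lift m φ₁ fun a ha => by
    rw [← RingHom.mem_ker, hk1]; exact ha
  let ψ₂ : E →+* Ω := Ideal.Quotient.lift m φ₂ fun a ha => by
    rw [← RingHom.mem_ker, hk2]; exact ha
  have e1 : φ₁ (algebraMap (red O) (normRed O) (Ideal.Quotient.mk _ x)) =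
      φ₁ b ^ (ringExpChar E) ^ n := by
    rw [← map_pow]; exact congrArg ψ₁ hx
  have e2 : φ₂ (algebraMap (red O) (normRed O) (Ideal.Quotient.mk _ x)) =
      φ₂ b ^ (ringExpChar E) ^ n := by
    rw [← map_pow]; exact congrArg ψ₂ hx
  exact eq_of_pow_ringExpChar_eq ψ₁ (n := n) (by rw [← e1, ← e2, h12])

section frac

variable {A : Type u} [CommRing A] (p : Ideal A) [p.IsPrime]
  (O : Type u) [CommRing O] [IsLocalRing O] [Algebra A O] [IsLocalization.AtPrime O p]

lemma nilradical_isPrime_of_isDomain_red (A : Type u) [CommRing A] [hA : IsDomain (red A)] :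
    (nilradical A).IsPrime :=
  (Ideal.Quotient.isDomain_iff_prime _).mp hA

lemma isDomain_red_of_isGeomUnibranch {O : Type u} [CommRing O] [IsLocalRing O]
    (h : IsGeomUnibranch O) : IsDomain (red O) := h.1.1

include p in
/-- elements of `A` mapping to zero in `Frac (A_p)_red` are nilpotent -/
lemma mem_nilradical_of_algebraMap_eq_zero [IsDomain (red A)]
    [IsDomain (red O)] {a : A}
    (h : algebraMap A (FractionRing (red O)) a = 0) :
    a ∈ nilradical A := by
  rw [IsScalarTower.algebraMap_apply A (red O),
    FaithfulSMul.algebraMap_eq_zero_iff,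
    IsScalarTower.algebraMap_apply A O,
    Ideal.Quotient.algebraMap_eq, Ideal.Quotient.eq_zero_iff_mem, mem_nilradical] at h
  obtain ⟨n, hn⟩ := h
  rw [← map_pow, IsLocalization.map_eq_zero_iff p.primeCompl] at hn
  obtain ⟨⟨s, hs⟩, hsa⟩ := hn
  have hN := nilradical_isPrime_of_isDomain_red A
  have h1 : s * a ^ n ∈ nilradical A := by
    rw [show s * a ^ n = 0 from hsa]; exact zero_mem _
  rcases hN.mem_or_mem h1 with h2 | h2
  · exact absurd (nilradical_le_prime p h2) hs
  · exact hN.mem_of_pow_mem n h2

include p in
lemma exists_div_eq [IsDomain (red O)]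
    (z : FractionRing (red O)) :
    ∃ a b : A, z = algebraMap A _ a / algebraMap A _ b := by
  have key : ∀ x : red O, ∃ a s : A,
      algebraMap _ (FractionRing (red O)) x =
        algebraMap A _ a / algebraMap A _ s := by
    intro x
    obtain ⟨x, rfl⟩ := Ideal.Quotient.mk_surjective x
    obtain ⟨a, s, rfl⟩ := IsLocalization.exists_mk'_eq p.primeCompl x
    refine ⟨a, s, ?_⟩
    rw [eq_div_iff]
    · rw [← Ideal.Quotient.algebraMap_eq, ← IsScalarTower.algebraMap_apply,
        IsScalarTower.algebraMap_apply A O, ← map_mul,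
        IsLocalization.mk'_spec, ← IsScalarTower.algebraMap_apply]
    · rw [IsScalarTower.algebraMap_apply A O]
      exact ((IsLocalization.map_units O s).map
        (algebraMap _ (FractionRing (red O)))).ne_zero
  obtain ⟨x, y, -, rfl⟩ := IsFractionRing.div_surjective (A := red O) z
  obtain ⟨a, s, h1⟩ := key x
  obtain ⟨b, t, h2⟩ := key y
  refine ⟨a * t, s * b, ?_⟩
  rw [h1, h2, map_mul, map_mul, div_div_div_eq]

include p in
/-- The fraction field of `A_red` is the fraction field of `(A_p)_red`. -/
lemma nonempty_fracEquiv [IsDomain (red A)] [IsDomain (red O)] :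
    Nonempty (FractionRing (red A) ≃ₐ[A] FractionRing (red O)) := by
  let r : red A →ₐ[A] FractionRing (red O) :=
    Ideal.Quotient.liftₐ (nilradical A) (Algebra.ofId A _) fun a ha => by
      rw [mem_nilradical] at ha
      exact (ha.map (Algebra.ofId A _)).eq_zero
  letI : Algebra (red A) (FractionRing (red O)) := r.toRingHom.toAlgebra
  haveI : IsScalarTower A (red A) (FractionRing (red O)) :=
    .of_algebraMap_eq fun x => (r.commutes x).symm
  haveI : FaithfulSMul (red A) (FractionRing (red O)) := by
    rw [faithfulSMul_iff_algebraMap_injective, injective_iff_map_eq_zero]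
    intro a ha
    obtain ⟨a, rfl⟩ := Ideal.Quotient.mk_surjective a
    rw [← Ideal.Quotient.algebraMap_eq, ← IsScalarTower.algebraMap_apply] at ha
    rw [Ideal.Quotient.eq_zero_iff_mem]
    exact mem_nilradical_of_algebraMap_eq_zero p O ha
  haveI : IsFractionRing (red A) (FractionRing (red O)) := by
    refine IsFractionRing.of_field _ _ fun z => ?_
    obtain ⟨a, b, h⟩ := exists_div_eq p O z
    refine ⟨Ideal.Quotient.mk _ a, Ideal.Quotient.mk _ b, ?_⟩
    rw [h, ← Ideal.Quotient.algebraMap_eq, ← IsScalarTower.algebraMap_apply,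
      ← IsScalarTower.algebraMap_apply]
  exact ⟨(FractionRing.algEquiv (red A) _).restrictScalars A⟩

/-- The inclusion of the integral closure of `A` in the fraction field of `(A_p)_red` into the
normalization of `(A_p)_red`. -/
noncomputable def incl :
    integralClosure A (FractionRing (red O)) →ₐ[A]
      normRed O where
  toFun x := ⟨x.1, IsIntegral.tower_top x.2⟩
  map_one' := rfl
  map_mul' _ _ := rfl
  map_zero' := rfl
  map_add' _ _ := rfl
  commutes' _ := rfl

lemma isLocalization_incl :
    letI : Algebra (integralClosure A (FractionRing (red O)))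
      (normRed O) := (incl O).toRingHom.toAlgebra
    IsLocalization (Algebra.algebraMapSubmonoid
      (integralClosure A (FractionRing (red O))) p.primeCompl)
      (normRed O) := by
  letI : Algebra (integralClosure A (FractionRing (red O)))
      (normRed O) := (incl O).toRingHom.toAlgebra
  refine ⟨?_, ?_, ?_⟩
  · rintro ⟨_, s, hs, rfl⟩
    have h1 : algebraMap (integralClosure A (FractionRing (red O)))
        (normRed O) (algebraMap A _ s) =
        algebraMap O (normRed O)
          (algebraMap A O s) :=
      (incl O).commutes s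
    change IsUnit (algebraMap (integralClosure A (FractionRing (red O)))
        (normRed O) (algebraMap A _ s))
    rw [h1]
    exact (IsLocalization.map_units O (⟨s, hs⟩ : p.primeCompl)).map _
  · intro z
    have hz : IsIntegral O
        (z.1 : FractionRing (red O)) :=
      isIntegral_trans (A := red O) _ z.2
    obtain ⟨m, hm⟩ := IsIntegral.exists_multiple_integral_of_isLocalization p.primeCompl _ hz
    refine ⟨⟨⟨_, hm⟩, ⟨algebraMap A _ m, m, m.2, rfl⟩⟩, ?_⟩
    apply Subtype.ext
    change z.1 * algebraMap A _ (m : A) = (m : A) • z.1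
    rw [Algebra.smul_def, mul_comm]
  · intro x y hxy
    refine ⟨1, ?_⟩
    have hxy' : incl O x = incl O y := hxy
    have : x = y := Subtype.ext (congrArg
      (fun z : normRed O => (z : FractionRing (red O)))
      hxy')
    rw [this]

/-- Two maps from the normalization of `A` to a field agreeing on `A` are equal when `A` is
geometrically unibranch at the relevant prime. -/
theorem ringHom_eq_aux
    (h : IsGeomUnibranch O) {Ω : Type*} [Field Ω]
    (φ₁ φ₂ : integralClosure A (FractionRing (red O)) →+* Ω)
    (h12 : ∀ a : A, φ₁ (algebraMap A _ a) = φ₂ (algebraMap A _ a))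
    (hp : ∀ a : A, φ₁ (algebraMap A _ a) = 0 ↔ a ∈ p) : φ₁ = φ₂ := by
  letI : Algebra (integralClosure A (FractionRing (red O)))
      (normRed O) := (incl O).toRingHom.toAlgebra
  haveI : IsLocalization (Algebra.algebraMapSubmonoid
      (integralClosure A (FractionRing (red O))) p.primeCompl)
      (normRed O) := isLocalization_incl p O
  have hu1 : ∀ y : Algebra.algebraMapSubmonoid
      (integralClosure A (FractionRing (red O))) p.primeCompl,
      IsUnit (φ₁ y) := by
    rintro ⟨_, s, hs, rfl⟩
    exact isUnit_iff_ne_zero.mpr fun h0 => hs ((hp s).mp h0)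
  have hu2 : ∀ y : Algebra.algebraMapSubmonoid
      (integralClosure A (FractionRing (red O))) p.primeCompl,
      IsUnit (φ₂ y) := by
    rintro ⟨_, s, hs, rfl⟩
    exact isUnit_iff_ne_zero.mpr fun h0 => hs ((hp s).mp ((h12 s).trans h0))
  let ψ₁ : normRed O →+* Ω := IsLocalization.lift hu1
  let ψ₂ : normRed O →+* Ω := IsLocalization.lift hu2
  have e1 : ∀ x, ψ₁ (algebraMap _ _ x) = φ₁ x := fun x => IsLocalization.lift_eq hu1 x
  have e2 : ∀ x, ψ₂ (algebraMap _ _ x) = φ₂ x := fun x => IsLocalization.lift_eq hu2 x
  have hA : ∀ a : A, algebraMap O (normRed O)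
      (algebraMap A _ a) = algebraMap
        (integralClosure A (FractionRing (red O))) _ (algebraMap A _ a) :=
    fun a => ((incl O).commutes a).symm
  have key : ψ₁.comp (algebraMap O (normRed O)) =
      ψ₂.comp (algebraMap O (normRed O)) := by
    refine IsLocalization.ringHom_ext p.primeCompl (RingHom.ext fun a => ?_)
    simp only [RingHom.comp_apply]
    rw [hA, e1, e2, h12]
  have hψ : ψ₁ = ψ₂ := by
    refine ringHom_eq_of_isGeomUnibranch h ψ₁ ψ₂ (fun x => RingHom.congr_fun key x) ?_
    intro x hx
    have : IsLocalRing.maximalIdeal O ≤ RingHom.ker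
        (ψ₁.comp (algebraMap O (normRed O))) := by
      rw [← IsLocalization.AtPrime.map_eq_maximalIdeal p O, Ideal.map_le_iff_le_comap]
      intro a ha
      rw [Ideal.mem_comap, RingHom.mem_ker, RingHom.comp_apply, hA, e1]
      exact (hp a).mpr ha
    exact this hx
  ext x
  rw [← e1, ← e2, hψ]

end frac

/-- All localizations of `A` at primes are geometrically unibranch (in any model). -/
def AllGeomUnibranch (A : Type u) [CommRing A] : Prop :=
  ∀ p : PrimeSpectrum A, ∃ (O : Type u) (_ : CommRing O) (_ : IsLocalRing O) (_ : Algebra A O),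
    IsLocalization.AtPrime O p.asIdeal ∧ IsGeomUnibranch O

/-- Two maps from the normalization of a ring all of whose local rings are geometrically unibranch
to a field which agree on the ring are equal. -/
theorem ringHom_eq {A : Type u} [CommRing A] [IsDomain (red A)] (h : AllGeomUnibranch A)
    {Ω : Type*} [Field Ω] (φ₁ φ₂ : integralClosure A (FractionRing (red A)) →+* Ω)
    (h12 : ∀ a : A, φ₁ (algebraMap A _ a) = φ₂ (algebraMap A _ a)) : φ₁ = φ₂ := by
  obtain ⟨p, hp⟩ : ∃ p : PrimeSpectrum A, p.asIdeal = RingHom.ker (φ₁.comp (algebraMap A _)) :=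
    ⟨⟨RingHom.ker (φ₁.comp (algebraMap A _)), RingHom.ker_isPrime _⟩, rfl⟩
  obtain ⟨O, _, _, _, hO, hOg⟩ := h p
  have : IsDomain (red O) := hOg.1.1
  obtain ⟨e⟩ := nonempty_fracEquiv p.asIdeal O
  let e' := AlgEquiv.mapIntegralClosure e
  have key : φ₁.comp e'.symm.toAlgHom.toRingHom = φ₂.comp e'.symm.toAlgHom.toRingHom := by
    refine ringHom_eq_aux p.asIdeal O hOg _ _ (fun a => ?_) (fun a => ?_)
    · simpa using h12 a
    · simp [hp]
  ext x
  have := RingHom.congr_fun key (e' x)
  simpa using this

/-- The normalization of a ring with irreducible spectrum all of whose local rings are geometrically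
unibranch is universally injective. -/
theorem universallyInjective_integralClosure {A : Type u} [CommRing A] [IsDomain (red A)]
    (h : AllGeomUnibranch A) :
    UniversallyInjective (Spec.map (CommRingCat.ofHom
      (algebraMap A (integralClosure A (FractionRing (red A)))))) := by
  refine ((tfae_universallyInjective _).out 0 1).mpr ?_
  intro K _ g₁ g₂ hg
  obtain ⟨φ₁, rfl⟩ := Spec.map_surjective g₁
  obtain ⟨φ₂, rfl⟩ := Spec.map_surjective g₂
  have h1 : φ₁.hom = φ₂.hom := by
    refine ringHom_eq h _ _ fun a => ?_
    have hg' : Spec.map φ₁ ≫ Spec.map (CommRingCat.ofHom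
        (algebraMap A (integralClosure A (FractionRing (red A))))) =
      Spec.map φ₂ ≫ Spec.map (CommRingCat.ofHom
        (algebraMap A (integralClosure A (FractionRing (red A))))) := hg
    rw [← Spec.map_comp, ← Spec.map_comp, Spec.map_inj] at hg'
    exact RingHom.congr_fun (congrArg CommRingCat.Hom.hom hg') a
  rw [show φ₁ = φ₂ from CommRingCat.hom_ext h1]

end Groth.Agent.Ega43.Unibranch
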