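import Mathlib.AlgebraicGeometry.Morphisms.UniversallyOpen
import Mathlib.AlgebraicGeometry.Morphisms.UniversallyClosed
import Mathlib.AlgebraicGeometry.PullbackCarrier
import Mathlib.AlgebraicGeometry.Morphisms.FlatDescent

/-!
# Universal openness descends along surjective universally closed morphisms
-/

set_option autoImplicit false
open CategoryTheory AlgebraicGeometry Limits MorphismProperty
universe u

namespace Groth.Agent.Ega43.UnivOpenDescent

/-- Universal openness descends along surjective universally closed morphisms. -/
theorem universallyOpen_of_pullback_fst {X Y Z : Scheme.{u}} (f : X ⟶ Z) (g : Y ⟶ Z)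
    [Surjective f] [UniversallyClosed f] [UniversallyOpen (pullback.fst f g)] :
    UniversallyOpen g := by
  refine ⟨universally_mk' _ _ fun {T} k _ s hs ↦ ?_⟩
  let p := pullback.fst (pullback.fst f k) (pullback.fst f g)
  let r : pullback (pullback.fst f k) (pullback.fst f g) ⟶ pullback k g :=
    pullback.map _ _ _ _ (pullback.snd _ _) (pullback.snd _ _) f (pullback.condition ..)
      (pullback.condition ..)
  have : IsOpen ((pullback.snd f k).base ⁻¹' ((pullback.fst k g).base '' s)) := by
    rw [← Scheme.image_preimage_eq_of_isPullback (isPullback_map_snd_snd ..)]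
    exact p.isOpenMap _ (hs.preimage r.continuous)
  have hq : Topology.IsQuotientMap (pullback.snd f k) :=
    (pullback.snd f k).isClosedMap.isQuotientMap (pullback.snd f k).continuous
      (pullback.snd f k).surjective
  rwa [hq.isOpen_preimage] at this

/-- Universal openness descends along surjective universally closed morphisms, for pullback
squares. -/
theorem universallyOpen_of_isPullback {A X Y Z : Scheme.{u}} {fst : A ⟶ X} {snd : A ⟶ Y}
    {f : X ⟶ Z} {g : Y ⟶ Z} (h : IsPullback fst snd f g) [Surjective f] [UniversallyClosed f]
    [UniversallyOpen fst] : UniversallyOpen g := by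
  have : UniversallyOpen (pullback.fst f g) := by
    rw [← MorphismProperty.cancel_left_of_respectsIso @UniversallyOpen h.isoPullback.hom,
      h.isoPullback_hom_fst]
    infer_instance
  exact universallyOpen_of_pullback_fst f g

/-- If `f ≫ g` is universally open and `f` is surjective, then `g` is universally open. -/
theorem universallyOpen_of_comp_surjective {X Y Z : Scheme.{u}} (f : X ⟶ Y) (g : Y ⟶ Z)
    [Surjective f] [UniversallyOpen (f ≫ g)] : UniversallyOpen g := by
  refine ⟨universally_mk' _ _ fun {T} k _ s hs ↦ ?_⟩
  have h1 := IsPullback.of_hasPullback (pullback.snd k g) f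
  have h2 := IsPullback.of_hasPullback k g
  have h3 := h1.flip.paste_vert h2.flip
  have h4 : UniversallyOpen (pullback.fst (pullback.snd k g) f ≫ pullback.fst k g) :=
    MorphismProperty.of_isPullback (P := @UniversallyOpen) h3 ‹UniversallyOpen (f ≫ g)›
  have h5 : Function.Surjective (pullback.fst (pullback.snd k g) f) :=
    (pullback.fst (pullback.snd k g) f).surjective
  have h6 := (pullback.fst (pullback.snd k g) f ≫ pullback.fst k g).isOpenMap _
    (hs.preimage (pullback.fst (pullback.snd k g) f).continuous)
  rw [Scheme.Hom.comp_base, TopCat.coe_comp, Set.image_comp, Set.image_preimage_eq _ h5] at h6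
  exact h6

end Groth.Agent.Ega43.UnivOpenDescent
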