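import Groth.Agent.Ega43.Unibranch
import Groth.Agent.Ega43.NormalOpen
import Groth.Agent.Ega43.UnivOpenDescent
import Mathlib.RingTheory.Spectrum.Prime.TensorProduct
import Mathlib.Algebra.MvPolynomial.Nilpotent

/-!
# Quasi-finite dominant morphisms to geometrically unibranch affine spaces are universally open

Main result: `universallyOpen_of_quasiFinite_mvPolynomial`: let `A` be a ring with irreducible
spectrum whose local rings are geometrically unibranch, `A[x₁,…,xₘ] → S` a quasi-finite ring map of
finite type with nilpotent kernel, and assume that `Spec S` is irreducible. Then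
`Spec S ⟶ Spec A[x₁,…,xₘ]` and `Spec S ⟶ Spec A` are universally open.
-/

set_option autoImplicit false
open CategoryTheory AlgebraicGeometry CAlg2 TensorProduct
universe u

namespace Groth.Agent.Ega43.UnibranchOpen

/-- `Spec S → Spec R` is surjective if `R → S` is integral with nilpotent kernel. -/
lemma surjective_specMap {R S : Type u} [CommRing R] [CommRing S] [Algebra R S]
    [Algebra.IsIntegral R S] (hker : RingHom.ker (algebraMap R S) ≤ nilradical R) :
    Surjective (Spec.map (CommRingCat.ofHom (algebraMap R S))) :=
  ⟨NormalOpen.comap_surjective_of_isIntegral hker⟩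

lemma isIntegralHom_specMap {R S : Type u} [CommRing R] [CommRing S] [Algebra R S]
    [Algebra.IsIntegral R S] :
    IsIntegralHom (Spec.map (CommRingCat.ofHom (algebraMap R S))) :=
  IsIntegralHom.SpecMap_iff.mpr (algebraMap_isIntegral_iff.mpr inferInstance)

/-- Quasi-finite maps of finite type over a base whose normalization is a universal
homeomorphism. -/
theorem universallyOpen_of_quasiFinite_of_normalization {R R' S : Type u} [CommRing R]
    [CommRing R'] [CommRing S] [Algebra R R'] [Algebra R S] [IsDomain R'] [IsIntegrallyClosed R']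
    [Algebra.IsIntegral R R']
    [hinj : UniversallyInjective (Spec.map (CommRingCat.ofHom (algebraMap R R')))]
    (hker : RingHom.ker (algebraMap R R') ≤ nilradical R)
    [Algebra.FiniteType R S] [Algebra.QuasiFinite R S] [hS : IrreducibleSpace (PrimeSpectrum S)]
    (hker' : RingHom.ker (algebraMap R S) ≤ nilradical R) :
    UniversallyOpen (Spec.map (CommRingCat.ofHom (algebraMap R S))) := by
  have hsurj := surjective_specMap hker
  have hint := isIntegralHom_specMap (R := R) (S := R')
  let S' := R' ⊗[R] S
  have hpb : IsPullback
      (Spec.map (CommRingCat.ofHom (algebraMap R' S')))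
      (Spec.map (CommRingCat.ofHom (Algebra.TensorProduct.includeRight (R := R) (A := R') (B := S)).toRingHom))
      (Spec.map (CommRingCat.ofHom (algebraMap R R')))
      (Spec.map (CommRingCat.ofHom (algebraMap R S))) :=
    (isPullback_SpecMap_of_isPushout _ _ _ _ (CommRingCat.isPushout_tensorProduct R R' S))
  let g := Spec.map (CommRingCat.ofHom
    (Algebra.TensorProduct.includeRight (R := R) (A := R') (B := S)).toRingHom)
  have hg1 : Surjective g := MorphismProperty.of_isPullback hpb hsurj
  have hg2 : IsIntegralHom g := MorphismProperty.of_isPullback hpb hint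
  have hg3 : UniversallyInjective g := MorphismProperty.of_isPullback hpb hinj
  have hgh : IsHomeomorph g.base :=
    (isHomeomorph_iff_continuous_isClosedMap_bijective).mpr
      ⟨g.continuous, g.isClosedMap, g.injective, g.surjective⟩
  have hirr : IrreducibleSpace (PrimeSpectrum S') :=
    (hgh.homeomorph.irreducibleSpace_iff (X := PrimeSpectrum S') (Y := PrimeSpectrum S)).mpr hS
  have hprime : (nilradical S').IsPrime :=
    PrimeSpectrum.irreducibleSpace_iff_isPrime_nilradical.mp hirr
  let T := S' ⧸ nilradical S'
  have hT : IsDomain T := Ideal.Quotient.isDomain _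
  -- `R' → T` is injective
  have hinj' : Function.Injective (PrimeSpectrum.comap (algebraMap R R')) :=
    (Spec.map (CommRingCat.ofHom (algebraMap R R'))).injective
  have hker3 : RingHom.ker (algebraMap R' T) = ⊥ := by
    have hp : (RingHom.ker (algebraMap R' T)).IsPrime := RingHom.ker_isPrime _
    have := @hinj' ⟨_, hp⟩ ⟨⊥, Ideal.isPrime_bot⟩ (by
      ext r
      change algebraMap R R' r ∈ RingHom.ker (algebraMap R' T) ↔ algebraMap R R' r ∈ (⊥ : Ideal R')
      rw [Ideal.mem_bot]
      refine ⟨fun hr => ?_, fun hr => by rw [hr]; exact zero_mem _⟩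
      rw [RingHom.mem_ker, ← IsScalarTower.algebraMap_apply, IsScalarTower.algebraMap_apply R S' T,
        Ideal.Quotient.algebraMap_eq, Ideal.Quotient.eq_zero_iff_mem] at hr
      have hr2 : algebraMap R S r ∈ nilradical S := by
        rw [nilradical_eq_sInf, Ideal.mem_sInf]
        intro q hq
        obtain ⟨Q, hQ⟩ := g.surjective (⟨q, hq⟩ : PrimeSpectrum S)
        have h1 : algebraMap R S' r ∈ (Q : PrimeSpectrum S').asIdeal :=
          nilradical_le_prime _ hr
        have h2 : q = Q.asIdeal.comap
          (Algebra.TensorProduct.includeRight (R := R) (A := R') (B := S)).toRingHom :=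
          congrArg PrimeSpectrum.asIdeal hQ.symm
        rw [h2, Ideal.mem_comap]
        have h3 : (Algebra.TensorProduct.includeRight (R := R) (A := R') (B := S)).toRingHom
            (algebraMap R S r) = algebraMap R S' r :=
          (Algebra.TensorProduct.includeRight (R := R) (A := R') (B := S)).commutes r
        rw [h3]
        exact h1
      obtain ⟨n, hn⟩ := mem_nilradical.mp hr2
      rw [← map_pow] at hn
      obtain ⟨m, hm⟩ := mem_nilradical.mp (hker' hn)
      rw [← pow_mul] at hm
      have : algebraMap R R' r ^ (n * m) = 0 := by rw [← map_pow, hm, map_zero]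
      exact IsNilpotent.eq_zero ⟨_, this⟩)
    exact congrArg PrimeSpectrum.asIdeal this
  have : FaithfulSMul R' T := by
    rw [faithfulSMul_iff_algebraMap_injective, RingHom.injective_iff_ker_eq_bot]
    exact hker3
  have h1 : UniversallyOpen (Spec.map (CommRingCat.ofHom (algebraMap R' T))) :=
    NormalOpen.universallyOpen_of_quasiFinite
  have h2 : UniversallyOpen (Spec.map (CommRingCat.ofHom (algebraMap R' S'))) := by
    have h3 : Spec.map (CommRingCat.ofHom (algebraMap R' T)) =
        Spec.map (CommRingCat.ofHom (algebraMap S' T)) ≫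
          Spec.map (CommRingCat.ofHom (algebraMap R' S')) := by
      rw [← Spec.map_comp, ← CommRingCat.ofHom_comp]
    rw [h3] at h1
    have h4 : Surjective (Spec.map (CommRingCat.ofHom (algebraMap S' T))) :=
      ⟨(PrimeSpectrum.comap_quotientMk_bijective_of_le_nilradical le_rfl).2⟩
    exact UnivOpenDescent.universallyOpen_of_comp_surjective
      (Spec.map (CommRingCat.ofHom (algebraMap S' T))) _
  exact UnivOpenDescent.universallyOpen_of_isPullback hpb

attribute [local instance] MvPolynomial.algebraMvPolynomial

section normalization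

variable (A : Type u) [CommRing A] [IsDomain (red A)]

/-- The normalization. -/
abbrev norm : Type u := integralClosure A (FractionRing (red A))

instance isFractionRing_norm : IsFractionRing (norm A) (FractionRing (red A)) := by
  refine IsFractionRing.of_field _ _ fun z => ?_
  obtain ⟨a, b, -, rfl⟩ := IsFractionRing.div_surjective (A := red A) z
  obtain ⟨a, rfl⟩ := Ideal.Quotient.mk_surjective a
  obtain ⟨b, rfl⟩ := Ideal.Quotient.mk_surjective b
  refine ⟨algebraMap A _ a, algebraMap A _ b, ?_⟩
  rw [← Ideal.Quotient.algebraMap_eq, ← IsScalarTower.algebraMap_apply,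
    ← IsScalarTower.algebraMap_apply, ← IsScalarTower.algebraMap_apply,
    ← IsScalarTower.algebraMap_apply]

instance isIntegrallyClosed_norm : IsIntegrallyClosed (norm A) := by
  rw [isIntegrallyClosed_iff_isIntegrallyClosedIn (FractionRing (red A))]
  infer_instance

lemma ker_algebraMap_norm : RingHom.ker (algebraMap A (norm A)) ≤ nilradical A := by
  intro a ha
  have h1 : algebraMap A (FractionRing (red A)) a = 0 := by
    rw [IsScalarTower.algebraMap_apply A (norm A), (RingHom.mem_ker).mp ha, map_zero]
  rw [IsScalarTower.algebraMap_apply A (red A), FaithfulSMul.algebraMap_eq_zero_iff,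
    Ideal.Quotient.algebraMap_eq, Ideal.Quotient.eq_zero_iff_mem] at h1
  exact h1

end normalization

lemma ker_mvPolynomial_map_le {A B : Type u} [CommRing A] [CommRing B] [Algebra A B] {m : ℕ}
    (h : RingHom.ker (algebraMap A B) ≤ nilradical A) :
    RingHom.ker (algebraMap (MvPolynomial (Fin m) A) (MvPolynomial (Fin m) B)) ≤
      nilradical (MvPolynomial (Fin m) A) := by
  intro f hf
  rw [mem_nilradical, MvPolynomial.isNilpotent_iff]
  intro i
  have h1 : MvPolynomial.map (algebraMap A B) f = 0 := hf
  exact h (by rw [RingHom.mem_ker, ← MvPolynomial.coeff_map, h1, MvPolynomial.coeff_zero])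

lemma isPullback_mvPolynomial {A B : Type u} [CommRing A] [CommRing B] [Algebra A B] (m : ℕ) :
    IsPullback
      (Spec.map (CommRingCat.ofHom
        (algebraMap (MvPolynomial (Fin m) A) (MvPolynomial (Fin m) B))))
      (Spec.map (CommRingCat.ofHom (algebraMap B (MvPolynomial (Fin m) B))))
      (Spec.map (CommRingCat.ofHom (algebraMap A (MvPolynomial (Fin m) A))))
      (Spec.map (CommRingCat.ofHom (algebraMap A B))) :=
  isPullback_SpecMap_of_isPushout _ _ _ _
    (CommRingCat.isPushout_of_isPushout A (MvPolynomial (Fin m) A) B (MvPolynomial (Fin m) B))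

theorem universallyOpen_of_quasiFinite_mvPolynomial_aux {A A' S : Type u} [CommRing A]
    [CommRing A'] [Algebra A A'] [IsDomain A'] [IsIntegrallyClosed A'] [Algebra.IsIntegral A A']
    (h1 : UniversallyInjective (Spec.map (CommRingCat.ofHom (algebraMap A A'))))
    (hkerA : RingHom.ker (algebraMap A A') ≤ nilradical A)
    [CommRing S] (m : ℕ) [Algebra (MvPolynomial (Fin m) A) S]
    [Algebra.FiniteType (MvPolynomial (Fin m) A) S] [Algebra.QuasiFinite (MvPolynomial (Fin m) A) S]
    [IrreducibleSpace (PrimeSpectrum S)]
    (hker : RingHom.ker (algebraMap (MvPolynomial (Fin m) A) S) ≤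
      nilradical (MvPolynomial (Fin m) A)) :
    UniversallyOpen (Spec.map (CommRingCat.ofHom (algebraMap (MvPolynomial (Fin m) A) S))) := by
  have h2 : UniversallyInjective (Spec.map (CommRingCat.ofHom
      (algebraMap (MvPolynomial (Fin m) A) (MvPolynomial (Fin m) A')))) :=
    MorphismProperty.of_isPullback (isPullback_mvPolynomial (A := A) (B := A') m).flip h1
  have h3 : IsIntegrallyClosed (MvPolynomial (Fin m) A') :=
    NormalOpen.isIntegrallyClosed_mvPolynomial _ m
  exact universallyOpen_of_quasiFinite_of_normalization
    (R' := MvPolynomial (Fin m) A') (ker_mvPolynomial_map_le hkerA) hker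

/-- **Key openness statement** over geometrically unibranch bases. -/
theorem universallyOpen_of_quasiFinite_mvPolynomial {A S : Type u} [CommRing A] [IsDomain (red A)]
    (h : Unibranch.AllGeomUnibranch A)
    [CommRing S] (m : ℕ) [Algebra (MvPolynomial (Fin m) A) S]
    [Algebra.FiniteType (MvPolynomial (Fin m) A) S] [Algebra.QuasiFinite (MvPolynomial (Fin m) A) S]
    [IrreducibleSpace (PrimeSpectrum S)]
    (hker : RingHom.ker (algebraMap (MvPolynomial (Fin m) A) S) ≤
      nilradical (MvPolynomial (Fin m) A)) :
    UniversallyOpen (Spec.map (CommRingCat.ofHom (algebraMap (MvPolynomial (Fin m) A) S))) :=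
  universallyOpen_of_quasiFinite_mvPolynomial_aux (A' := norm A)
    (Unibranch.universallyInjective_integralClosure h) (ker_algebraMap_norm A) m hker

/-- **Key openness statement** over geometrically unibranch bases. -/
theorem universallyOpen_comp_C {A S : Type u} [CommRing A] [IsDomain (red A)]
    (h : Unibranch.AllGeomUnibranch A)
    [CommRing S] (m : ℕ) [Algebra (MvPolynomial (Fin m) A) S]
    [Algebra.FiniteType (MvPolynomial (Fin m) A) S] [Algebra.QuasiFinite (MvPolynomial (Fin m) A) S]
    [IrreducibleSpace (PrimeSpectrum S)]
    (hker : RingHom.ker (algebraMap (MvPolynomial (Fin m) A) S) ≤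
      nilradical (MvPolynomial (Fin m) A)) :
    UniversallyOpen (Spec.map (CommRingCat.ofHom
      ((algebraMap (MvPolynomial (Fin m) A) S).comp MvPolynomial.C))) := by
  have h1 := universallyOpen_of_quasiFinite_mvPolynomial h m hker
  rw [CommRingCat.ofHom_comp, Spec.map_comp]
  have h2 : UniversallyOpen (Spec.map (CommRingCat.ofHom (MvPolynomial.C (R := A) (σ := Fin m)))) := by
    have hf : (algebraMap A (MvPolynomial (Fin m) A)).Flat := RingHom.flat_algebraMap_iff.mpr inferInstance
    have hfp : (algebraMap A (MvPolynomial (Fin m) A)).FinitePresentation :=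
      RingHom.finitePresentation_algebraMap.mpr inferInstance
    have : Flat (Spec.map (CommRingCat.ofHom (MvPolynomial.C (R := A) (σ := Fin m)))) :=
      (HasRingHomProperty.Spec_iff (P := @Flat)).mpr hf
    have : LocallyOfFinitePresentation
        (Spec.map (CommRingCat.ofHom (MvPolynomial.C (R := A) (σ := Fin m)))) :=
      (HasRingHomProperty.Spec_iff (P := @LocallyOfFinitePresentation)).mpr hfp
    infer_instance
  infer_instance

end Groth.Agent.Ega43.UnibranchOpen
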