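import Groth.Agent.Ega43.UnivOpenAffine
import Groth.Agent.Ega43.ClosedLocus
import Mathlib.AlgebraicGeometry.Morphisms.UniversallyClosed

/-!
# Universal closedness can be tested on affine spaces (Stacks 0205)
-/

set_option autoImplicit false
open CategoryTheory AlgebraicGeometry Limits TensorProduct
universe u
namespace Groth.Agent.Ega43.UnivClosedAffine

open Groth.Agent.Ega43.UnivOpenAffine Groth.Agent.Ega43.ClosedLocus

section Algebra

open PrimeSpectrum

/-- A closed subset missing the fibre over `y` misses `D(t)` for some `t` which is invertible on the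
whole fibre. -/
theorem exists_mem_ideal {B C : Type u} [CommRing B] [CommRing C] [Algebra B C] (I : Ideal C)
    (y : PrimeSpectrum B)
    (h : ∀ q : PrimeSpectrum C, comap (algebraMap B C) q = y → q ∉ zeroLocus (I : Set C)) :
    ∃ t ∈ I, ∀ q : PrimeSpectrum C, comap (algebraMap B C) q = y → t ∉ q.asIdeal := by
  let ι := (Algebra.TensorProduct.includeRight (R := B) (A := y.asIdeal.ResidueField)
    (B := C)).toRingHom
  let J : Ideal (y.asIdeal.Fiber C) := I.map ι
  have hJ : J = ⊤ := by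
    by_contra hne
    obtain ⟨M, hM, hJM⟩ := Ideal.exists_le_maximal J hne
    let M' : PrimeSpectrum (y.asIdeal.Fiber C) := ⟨M, hM.isPrime⟩
    refine h (comap ι M') (comap_comap_includeRight y M') ?_
    intro a ha
    exact hJM (Ideal.mem_map_of_mem ι ha)
  have hu : ∀ r ∉ y.asIdeal, IsUnit (algebraMap B (y.asIdeal.Fiber C) r) := by
    intro r hr
    rw [IsScalarTower.algebraMap_apply B y.asIdeal.ResidueField]
    refine IsUnit.map _ ?_
    rw [isUnit_iff_ne_zero, Ne, Ideal.algebraMap_residueField_eq_zero]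
    exact hr
  have key : ∀ x ∈ J, ∃ r ∉ y.asIdeal, ∃ t ∈ I, r • x = (1 : y.asIdeal.ResidueField) ⊗ₜ[B] t := by
    intro x hx
    refine Submodule.span_induction ?_ ?_ ?_ ?_ hx
    · rintro _ ⟨a, ha, rfl⟩
      exact ⟨1, y.asIdeal.one_notMem, a, ha, by simp [ι]⟩
    · exact ⟨1, y.asIdeal.one_notMem, 0, I.zero_mem, by simp⟩
    · rintro a b - - ⟨r, hr, t, ht, h1⟩ ⟨r', hr', t', ht', h2⟩
      refine ⟨r * r', fun h ↦ (y.2.mem_or_mem h).elim hr hr', r' • t + r • t',
        I.add_mem (I.smul_of_tower_mem _ ht) (I.smul_of_tower_mem _ ht'), ?_⟩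
      rw [smul_add, mul_smul r r' b, h2, mul_comm r r', mul_smul, h1, tmul_add, tmul_smul, tmul_smul]
    · rintro a b - ⟨r, hr, t, ht, h1⟩
      obtain ⟨r', hr', s, hs⟩ := Ideal.Fiber.exists_smul_eq_one_tmul (R := B) y.asIdeal (S := C) a
      refine ⟨r' * r, fun h ↦ (y.2.mem_or_mem h).elim hr' hr, s * t, I.mul_mem_left _ ht, ?_⟩
      rw [smul_eq_mul, ← smul_mul_smul_comm, hs, h1, Algebra.TensorProduct.tmul_mul_tmul, one_mul]
  obtain ⟨r, hr, t, ht, h1⟩ := key 1 (hJ ▸ Submodule.mem_top)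
  refine ⟨t, ht, fun q hq htq ↦ ?_⟩
  have h2 : (1 : y.asIdeal.ResidueField) ⊗ₜ[B] t ∈ (toFib y q hq).asIdeal := mem_toFib.mpr htq
  rw [← h1, Algebra.smul_def, mul_one] at h2
  exact (toFib y q hq).2.ne_top (Ideal.eq_top_of_isUnit_mem _ h2 (hu r hr))

end Algebra

section Piece

variable {R S B : Type u} [CommRing R] [CommRing S] [CommRing B] [Algebra R S] [Algebra R B]

theorem basicOpen_ΓSpecIso_inv {C : CommRingCat.{u}} (t : C) (q : PrimeSpectrum C) :
    (q : Spec C) ∈ (Spec C).basicOpen ((Scheme.ΓSpecIso C).inv t) ↔ t ∉ q.asIdeal := by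
  rw [basicOpen_eq_of_affine']
  simp only [Iso.inv_hom_id_apply]
  rfl

/-- Local piece of the proof of Stacks 0205. -/
theorem exists_piece {X P : Scheme.{u}} (f : X ⟶ Spec (.of R)) {fst : P ⟶ X} {snd : P ⟶ Spec (.of B)}
    (hpb : IsPullback fst snd f (Spec.map (CommRingCat.ofHom (algebraMap R B))))
    (u : Spec (.of S) ⟶ X) [IsOpenImmersion u]
    (hu : u ≫ f = Spec.map (CommRingCat.ofHom (algebraMap R S)))
    (Z : Set P) (hZ : IsClosed Z) (y : PrimeSpectrum B) (hy : ∀ z ∈ Z, snd z ≠ y) :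
    ∃ (F : Type u) (_ : Finite F) (b : F → Γ(Spec (.of B), ⊤)),
      ∀ (N : Type u) (e : F → N) (bN : N → Γ(Spec (.of B), ⊤)), (∀ k, bN (e k) = b k) →
        ∃ W : (𝔸(N; X)).Opens,
          (∀ z ∈ Z, AffineSpace.homOfVector fst (fun i => snd.appTop (bN i)) z ∉ W) ∧
          (∀ x : P, snd x = y → fst x ∈ Set.range u →
            AffineSpace.homOfVector fst (fun i => snd.appTop (bN i)) x ∈ W) := by
  let C := B ⊗[R] S
  let cS : Spec (.of C) ⟶ Spec (.of S) :=
    Spec.map (CommRingCat.ofHom (Algebra.TensorProduct.includeRight (R := R) (A := B) (B := S)).toRingHom)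
  let cB : Spec (.of C) ⟶ Spec (.of B) := Spec.map (CommRingCat.ofHom (algebraMap B C))
  have hC : IsPullback cS cB (Spec.map (CommRingCat.ofHom (algebraMap R S)))
      (Spec.map (CommRingCat.ofHom (algebraMap R B))) :=
    (isPullback_SpecMap_of_isPushout _ _ _ _ (CommRingCat.isPushout_tensorProduct R B S)).flip
  let v : Spec (.of C) ⟶ P := hpb.lift (cS ≫ u) cB (by rw [Category.assoc, hu, hC.w])
  have hv1 : v ≫ fst = cS ≫ u := hpb.lift_fst _ _ _
  have hv2 : v ≫ snd = cB := hpb.lift_snd _ _ _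
  have hsq : IsPullback v cS fst u := by
    refine IsPullback.of_right (h₁₂ := snd) (h₂₂ := f)
      (v₁₃ := Spec.map (CommRingCat.ofHom (algebraMap R B))) ?_ hv1 hpb.flip
    rw [hv2, hu]
    exact hC.flip
  obtain ⟨I, hI⟩ := (PrimeSpectrum.isClosed_iff_zeroLocus_ideal
    (v ⁻¹' Z : Set (PrimeSpectrum C))).mp (hZ.preimage v.continuous)
  have hsv : ∀ q : Spec (.of C), snd (v q) = cB q := fun q ↦ by
    rw [← Scheme.Hom.comp_apply, hv2]
  obtain ⟨t, htI, ht⟩ := exists_mem_ideal I y (fun q hq hqI ↦ by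
    rw [← hI] at hqI
    exact hy _ hqI ((hsv q).trans hq))
  obtain ⟨F, hF⟩ := TensorProduct.exists_finset t
  refine ⟨F, inferInstance, fun i ↦ (Scheme.ΓSpecIso (.of B)).inv i.1.1, fun N e bN hb ↦ ?_⟩
  let s : F → Γ(Spec (.of S), ⊤) := fun i => (Scheme.ΓSpecIso (.of S)).inv i.1.2
  let τ : Γ(𝔸(N; Spec (.of S)), ⊤) := ∑ k : F, AffineSpace.coord _ (e k) *
    (𝔸(N; Spec (.of S)) ↘ (Spec (.of S))).appTop (s k)
  let βV : Spec (.of C) ⟶ 𝔸(N; Spec (.of S)) :=
    AffineSpace.homOfVector cS (fun i => cB.appTop (bN i))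
  have hτ : (Scheme.ΓSpecIso (.of C)).inv t = βV.appTop τ := by
    rw [map_sum]
    simp_rw [map_mul, βV, AffineSpace.homOfVector_appTop_coord]
    have h1 : ∀ i : F, (AffineSpace.homOfVector cS (fun i => cB.appTop (bN i))).appTop
        ((𝔸(N; Spec (.of S)) ↘ (Spec (.of S))).appTop (s i)) = cS.appTop (s i) := by
      intro i
      rw [← CommRingCat.comp_apply, ← Scheme.Hom.comp_appTop, AffineSpace.homOfVector_over]
    simp_rw [h1]
    have h2 : ∀ i : F, cB.appTop (bN (e i)) = (Scheme.ΓSpecIso (.of C)).inv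
        (i.1.1 ⊗ₜ[R] (1 : S)) := by
      intro i
      rw [hb]
      have := congr($(Scheme.ΓSpecIso_inv_naturality
        (CommRingCat.ofHom (algebraMap B C))).hom i.1.1)
      exact this.symm
    have h3 : ∀ i : F, cS.appTop (s i) = (Scheme.ΓSpecIso (.of C)).inv
        ((1 : B) ⊗ₜ[R] i.1.2) := by
      intro i
      have := congr($(Scheme.ΓSpecIso_inv_naturality
        (CommRingCat.ofHom (Algebra.TensorProduct.includeRight (R := R) (A := B) (B := S)).toRingHom)).hom
          i.1.2)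
      exact this.symm
    have h4 : ∀ i : F, ((i.1.1 ⊗ₜ[R] (1 : S) : B ⊗[R] S) * ((1 : B) ⊗ₜ[R] i.1.2)) =
        i.1.1 ⊗ₜ[R] i.1.2 := fun i ↦ by
      rw [Algebra.TensorProduct.tmul_mul_tmul, one_mul, mul_one]
    simp_rw [h2, h3, ← map_mul, ← map_sum]
    congr 1
    rw [hF, ← Finset.sum_coe_sort F (fun i => i.1 ⊗ₜ[R] i.2)]
    exact Finset.sum_congr rfl fun i _ ↦ (h4 i).symm
  set βN : P ⟶ 𝔸(N; X) := AffineSpace.homOfVector fst (fun i => snd.appTop (bN i)) with hβN
  have hcomm : v ≫ βN = βV ≫ AffineSpace.map N u := by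
    apply AffineSpace.hom_ext
    · simp [βN, βV, hv1]
    · intro i
      rw [Scheme.Hom.comp_appTop, Scheme.Hom.comp_appTop, CommRingCat.comp_apply,
        CommRingCat.comp_apply, AffineSpace.map_appTop_coord, AffineSpace.homOfVector_appTop_coord,
        AffineSpace.homOfVector_appTop_coord, ← CommRingCat.comp_apply, ← Scheme.Hom.comp_appTop,
        hv2]
  have hβ : IsPullback v βV βN (AffineSpace.map N u) := by
    refine IsPullback.of_bot (v₂₁ := 𝔸(N; Spec (.of S)) ↘ Spec (.of S)) (v₂₂ := 𝔸(N; X) ↘ X)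
      (h₃₁ := u) ?_ hcomm (AffineSpace.isPullback_map u)
    rw [AffineSpace.homOfVector_over, AffineSpace.homOfVector_over]
    exact hsq
  have hmem : ∀ q : PrimeSpectrum C, βV q ∈ (𝔸(N; Spec (.of S))).basicOpen τ ↔ t ∉ q.asIdeal := by
    intro q
    rw [← basicOpen_ΓSpecIso_inv (C := .of C), hτ, ← Scheme.preimage_basicOpen_top]
    rfl
  refine ⟨AffineSpace.map N u ''ᵁ (𝔸(N; Spec (.of S))).basicOpen τ, ?_, ?_⟩
  · rintro z hz ⟨w, hw, hwz⟩
    obtain ⟨q, hq1, hq2⟩ := Scheme.exists_preimage_of_isPullback hβ z w hwz.symm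
    have h1 : (q : PrimeSpectrum C) ∈ PrimeSpectrum.zeroLocus (I : Set C) := by
      rw [← hI]
      change v q ∈ Z
      rwa [hq1]
    have h2 : βV q ∈ (𝔸(N; Spec (.of S))).basicOpen τ := by
      change βV q = w at hq2
      rw [hq2]
      exact hw
    exact (hmem q).mp h2 (h1 htI)
  · rintro x hx ⟨s₀, hs₀⟩
    obtain ⟨q, hq1, hq2⟩ := Scheme.exists_preimage_of_isPullback hsq x s₀ hs₀.symm
    change v q = x at hq1
    have h1 : t ∉ (q : PrimeSpectrum C).asIdeal := by
      refine ht q ((hsv q).symm.trans ?_)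
      rw [hq1, hx]
    refine ⟨βV q, (hmem q).mpr h1, ?_⟩
    rw [← hq1, ← Scheme.Hom.comp_apply, hcomm]
    rfl

theorem exists_piece' {X P : Scheme.{u}} (f : X ⟶ Spec (.of R)) {fst : P ⟶ X}
    {snd : P ⟶ Spec (.of B)}
    (hpb : IsPullback fst snd f (Spec.map (CommRingCat.ofHom (algebraMap R B))))
    {S' : CommRingCat.{u}} (u : Spec S' ⟶ X) [IsOpenImmersion u]
    (Z : Set P) (hZ : IsClosed Z) (y : PrimeSpectrum B) (hy : ∀ z ∈ Z, snd z ≠ y) :
    ∃ (F : Type u) (_ : Finite F) (b : F → Γ(Spec (.of B), ⊤)),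
      ∀ (N : Type u) (e : F → N) (bN : N → Γ(Spec (.of B), ⊤)), (∀ k, bN (e k) = b k) →
        ∃ W : (𝔸(N; X)).Opens,
          (∀ z ∈ Z, AffineSpace.homOfVector fst (fun i => snd.appTop (bN i)) z ∉ W) ∧
          (∀ x : P, snd x = y → fst x ∈ Set.range u →
            AffineSpace.homOfVector fst (fun i => snd.appTop (bN i)) x ∈ W) := by
  obtain ⟨ψ, hψ⟩ := Spec.map_surjective (u ≫ f)
  algebraize [ψ.hom]
  exact exists_piece (S := S') f hpb u hψ.symm Z hZ y hy

theorem isClosedMap_snd {X P : Scheme.{u}} [CompactSpace X] (f : X ⟶ Spec (.of R)) {fst : P ⟶ X}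
    {snd : P ⟶ Spec (.of B)}
    (hpb : IsPullback fst snd f (Spec.map (CommRingCat.ofHom (algebraMap R B))))
    (h : ∀ (n : Type u) [Finite n], IsClosedMap (AffineSpace.map n f)) : IsClosedMap snd := by
  intro Z hZ
  rw [← isOpen_compl_iff, isOpen_iff_mem_nhds]
  intro y hy
  have hy' : ∀ z ∈ Z, snd z ≠ y := fun z hz hzy ↦ hy ⟨z, hz, hzy⟩
  let 𝒰 := X.affineCover.finiteSubcover
  have hoi : ∀ j : 𝒰.I₀, IsOpenImmersion (𝒰.f j) := fun j ↦ inferInstance
  choose F hF b W' using fun j : 𝒰.I₀ ↦ @exists_piece' R B _ _ _ X P f fst snd hpb _ (𝒰.f j)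
    (hoi j) Z hZ y hy'
  let N := Σ j, F j
  have hN : Finite N := inferInstance
  let bN : N → Γ(Spec (.of B), ⊤) := fun k ↦ b k.1 k.2
  choose W hW1 hW2 using fun j ↦ W' j N (Sigma.mk j) bN (fun k ↦ rfl)
  let W₀ : (𝔸(N; X)).Opens := ⨆ j, W j
  let C₀ : Set 𝔸(N; X) := (W₀ : Set 𝔸(N; X))ᶜ
  have hC₀ : IsClosed C₀ := W₀.2.isClosed_compl
  have h1 := h N C₀ hC₀
  have hpb2 := isPullback_homOfVector hpb bN
  let γ := AffineSpace.homOfVector (n := N) (Spec.map (CommRingCat.ofHom (algebraMap R B))) bN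
  have h2 : IsClosed (γ ⁻¹' (AffineSpace.map N f '' C₀)) := h1.preimage γ.continuous
  have h3 : snd '' (AffineSpace.homOfVector fst (fun i => snd.appTop (bN i)) ⁻¹' C₀) =
      γ ⁻¹' (AffineSpace.map N f '' C₀) := Scheme.image_preimage_eq_of_isPullback hpb2 C₀
  refine Filter.mem_of_superset (h2.isOpen_compl.mem_nhds ?_) ?_
  · rw [← h3]
    rintro ⟨x, hx, hxy⟩
    apply hx
    obtain ⟨j, hj⟩ : ∃ j, fst x ∈ Set.range (𝒰.f j) := 𝒰.exists_eq (fst x) |>.imp fun _ ⟨a, ha⟩ ↦ ⟨a, ha⟩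
    have := hW2 j x hxy hj
    exact TopologicalSpace.Opens.mem_iSup.mpr ⟨j, this⟩
  · intro t ht hts
    apply ht
    obtain ⟨z, hz, rfl⟩ := hts
    rw [← h3]
    refine ⟨z, ?_, rfl⟩
    intro hzW
    obtain ⟨j, hj⟩ := TopologicalSpace.Opens.mem_iSup.mp hzW
    exact hW1 j z hz hj

end Piece

/-- Stacks 0205: a quasi-compact morphism is universally closed if its base changes to the affine spaces over
the target are closed. -/
theorem universallyClosed_of_isClosedMap_affineSpace {X Y : Scheme.{u}} (f : X ⟶ Y)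
    [hqc : QuasiCompact f]
    (h : ∀ (n : Type u) [Finite n], IsClosedMap (AffineSpace.map n f)) : UniversallyClosed f := by
  wlog hY : ∃ R, Y = Spec R
  · rw [IsZariskiLocalAtTarget.iff_of_openCover (P := @UniversallyClosed) Y.affineCover]
    intro i
    dsimp only [Scheme.Cover.pullbackHom]
    have hq : QuasiCompact (pullback.snd f (Y.affineCover.f i)) := inferInstance
    refine this _ (hqc := hq) (fun n _ => ?_) ⟨_, rfl⟩
    exact IsZariskiLocalAtTarget.of_isPullback (P := topologically @IsClosedMap)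
      (isPullback_map_map (IsPullback.of_hasPullback f (Y.affineCover.f i))) (h n)
  obtain ⟨R, rfl⟩ := hY
  have : CompactSpace X := QuasiCompact.compactSpace_of_compactSpace f
  refine ⟨MorphismProperty.universally_mk' _ _ fun {T} g _ ↦ ?_⟩
  wlog hT : ∃ R, T = Spec R generalizing T
  · refine (IsZariskiLocalAtTarget.iff_of_openCover T.affineCover).mpr fun i ↦ ?_
    refine (MorphismProperty.cancel_left_of_respectsIso _
      ((pullbackRightPullbackFstIso ..).inv ≫ (pullbackSymmetry ..).hom) _).mp ?_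
    simpa [Scheme.Cover.pullbackHom] using! this _ _ ⟨_, rfl⟩
  obtain ⟨B, rfl⟩ := hT
  obtain ⟨ψ, rfl⟩ := Spec.map_surjective g
  algebraize [ψ.hom]
  exact isClosedMap_snd (R := R) (B := B) f (IsPullback.of_hasPullback (Spec.map ψ) f).flip h

end Groth.Agent.Ega43.UnivClosedAffine
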