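import Groth.Agent.Ega43.ClosedRange
import Groth.Agent.Ega43.UnivClosedAffine
import Mathlib.AlgebraicGeometry.Noetherian

/-!
# The negative half of EGA IV 9.6.1 (iv): loci where fibre maps are not universally closed
-/

set_option autoImplicit false
universe u
open CategoryTheory AlgebraicGeometry CategoryTheory.Limits Topology TensorProduct

namespace Groth.Agent.Ega43.UnivClosedLocus

open Groth.Agent.Ega43.Locus Groth.Agent.Ega43.ClosedLocus Groth.Agent.Ega43.ResSysSch
open Groth.Agent.Ega43.UnivOpenAffine Groth.Agent.Ega43.UnivClosedAffine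

/-- The locus where the trace of `Z` on the fibre is closed, in terms of specializations. -/
def clLocus {Y S : Scheme.{u}} (g : Y ⟶ S) (Z : Set Y) : Set S :=
  {s | ∀ z x : Y, z ∈ Z → z ⤳ x → g z = s → g x = s → x ∈ Z}

theorem clLocus_eq_iInter {Y S : Scheme.{u}} (g : Y ⟶ S) (Z : Set Y) (𝒰 : Y.OpenCover) :
    clLocus g Z = ⋂ i, clLocus (𝒰.f i ≫ g) (𝒰.f i ⁻¹' Z) := by
  ext s
  rw [Set.mem_iInter]
  constructor
  · intro h i z x hz hzx hzs hxs
    exact h (𝒰.f i z) (𝒰.f i x) hz (hzx.map (𝒰.f i).continuous) (by simpa using hzs)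
      (by simpa using hxs)
  · intro h z x hz hzx hzs hxs
    obtain ⟨i, x', rfl⟩ := 𝒰.exists_eq x
    obtain ⟨z', rfl⟩ : z ∈ Set.range (𝒰.f i) :=
      hzx.mem_open (𝒰.f i).isOpenEmbedding.isOpen_range ⟨x', rfl⟩
    exact h i z' x' hz ((𝒰.f i).isOpenEmbedding.isInducing.specializes_iff.mp hzx)
      (by simpa using hzs) (by simpa using hxs)

theorem isConstructible_clLocus_Spec {A B : CommRingCat.{u}} (g : Spec B ⟶ Spec A)
    [LocallyOfFinitePresentation g] {Z : Set (Spec B)} (hZ : IsConstructible Z) :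
    IsConstructible (clLocus g Z) := by
  obtain ⟨φ, rfl⟩ := Spec.map_surjective g
  have h6 : LocallyOfFinitePresentation (Spec.map φ) := inferInstance
  rw [HasRingHomProperty.Spec_iff (P := @LocallyOfFinitePresentation)] at h6
  algebraize [φ.hom]
  exact isConstructible_closedLocus (R := A) hZ

theorem isConstructible_clLocus {A : CommRingCat.{u}} {Y : Scheme.{u}} (g : Y ⟶ Spec A)
    [LocallyOfFinitePresentation g] [QuasiCompact g] {Z : Set Y} (hZ : IsLocallyConstructible Z) :
    IsConstructible (clLocus g Z) := by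
  have : CompactSpace Y := QuasiCompact.compactSpace_of_compactSpace g
  let 𝒰 := Y.affineCover.finiteSubcover
  rw [clLocus_eq_iInter g Z 𝒰]
  refine IsConstructible.iInter fun i ↦ ?_
  have h6 : LocallyOfFinitePresentation (𝒰.f i ≫ g) := inferInstance
  refine @isConstructible_clLocus_Spec _ _ (𝒰.f i ≫ g) h6 _ ?_
  have h7 : IsLocallyConstructible (𝒰.f i ⁻¹' Z) :=
    hZ.preimage_of_isOpenEmbedding (𝒰.f i).isOpenEmbedding
  exact h7.isConstructible

/-- A locally constructible subset of a scheme stable under specialization is closed. -/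
theorem isClosed_of_stableUnderSpecialization {Y : Scheme.{u}} {Z : Set Y}
    (hs : StableUnderSpecialization Z) (hZ : IsLocallyConstructible Z) : IsClosed Z := by
  rw [← isOpen_compl_iff, isOpen_iff_forall_mem_open]
  intro x hx
  obtain ⟨i, x', rfl⟩ := Y.affineCover.exists_eq x
  have h1 : IsClosed (Y.affineCover.f i ⁻¹' Z) := by
    refine PrimeSpectrum.isClosed_of_stableUnderSpecialization_of_isConstructible ?_ ?_
    · intro x y hxy hx
      exact hs (hxy.map (Y.affineCover.f i).continuous) hx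
    · have h7 : IsLocallyConstructible (Y.affineCover.f i ⁻¹' Z) :=
        hZ.preimage_of_isOpenEmbedding (Y.affineCover.f i).isOpenEmbedding
      exact h7.isConstructible
  refine ⟨Y.affineCover.f i '' (Y.affineCover.f i ⁻¹' Z)ᶜ, ?_,
    (Y.affineCover.f i).isOpenEmbedding.isOpenMap _ h1.isOpen_compl, ⟨x', hx, rfl⟩⟩
  rintro _ ⟨y, hy, rfl⟩
  exact hy

theorem mem_clLocus_iff {S Y T : Scheme.{u}} (g : Y ⟶ S) {Z : Set Y} (hZ : IsConstructible Z)
    (p : S) {q : T ⟶ Y} {a : T ⟶ Spec (S.residueField p)}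
    (h : IsPullback q a g (S.fromSpecResidueField p)) :
    p ∈ clLocus g Z ↔ IsClosed (q ⁻¹' Z) := by
  have hq : IsPreimmersion q := MorphismProperty.of_isPullback h.flip inferInstance
  have hr : Set.range q = g ⁻¹' {p} := by
    rw [← S.range_fromSpecResidueField p, ← Scheme.Pullback.range_fst g, ← h.isoPullback_hom_fst,
      Scheme.Hom.comp_base, TopCat.coe_comp, Set.range_comp,
      Set.range_eq_univ.mpr h.isoPullback.hom.surjective, Set.image_univ]
  constructor
  · intro hp
    refine isClosed_of_stableUnderSpecialization ?_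
      (q.isConstructible_preimage hZ).isLocallyConstructible
    intro x y hxy hx
    refine hp (q x) (q y) hx (hxy.map q.continuous) ?_ ?_
    · exact hr.le ⟨x, rfl⟩
    · exact hr.le ⟨y, rfl⟩
  · rintro hc z x hz hzx hzp hxp
    obtain ⟨z', rfl⟩ := hr.ge hzp
    obtain ⟨x', rfl⟩ := hr.ge hxp
    exact (q.isEmbedding.isInducing.specializes_iff.mp hzx).mem_closed hc hz

/-- Closed sets of the fibre are restrictions of closed constructible sets. -/
theorem exists_isClosed_preimage {X T : Scheme.{u}} (q : T ⟶ X) [IsPreimmersion q]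
    [CompactSpace X] [QuasiSeparatedSpace X] [TopologicalSpace.NoetherianSpace T] {W : Set T}
    (hW : IsClosed W) : ∃ W' : Set X, IsClosed W' ∧ IsConstructible W' ∧ q ⁻¹' W' = W := by
  obtain ⟨O, hO, hOW⟩ := q.isEmbedding.isInducing.isOpen_iff.mp hW.isOpen_compl
  have hc : IsCompact Wᶜ := TopologicalSpace.NoetherianSpace.isCompact _
  have h1 : ∀ w : T, w ∈ Wᶜ → ∃ V : Set X, IsOpen V ∧ IsCompact V ∧ q w ∈ V ∧ V ⊆ O := by
    intro w hw
    have hwO : q w ∈ O := by
      change w ∈ q ⁻¹' O
      rw [hOW]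
      exact hw
    obtain ⟨V, ⟨hV1, hV2⟩, hwV, hVO⟩ :=
      (PrespectralSpace.isTopologicalBasis (X := X)).exists_subset_of_mem_open hwO hO
    exact ⟨V, hV1, hV2, hwV, hVO⟩
  choose! V hV1 hV2 hV3 hV4 using h1
  obtain ⟨t, htW, ht⟩ := hc.elim_nhds_subcover (fun w ↦ q ⁻¹' (V w))
    (fun w hw ↦ ((hV1 w hw).preimage q.continuous).mem_nhds (hV3 w hw))
  have h2 : IsOpen (⋃ w ∈ t, V w) := isOpen_biUnion fun w hw ↦ hV1 w (htW w hw)
  have h3 : IsCompact (⋃ w ∈ t, V w) := t.isCompact_biUnion fun w hw ↦ hV2 w (htW w hw)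
  refine ⟨(⋃ w ∈ t, V w)ᶜ, h2.isClosed_compl, (h3.isConstructible h2).compl, ?_⟩
  rw [Set.preimage_compl, compl_eq_comm]
  refine subset_antisymm ?_ ?_
  · intro w hw
    simpa using ht hw
  · intro w hw
    obtain ⟨w', hw', h⟩ := Set.mem_iUnion₂.mp hw
    have : w ∈ q ⁻¹' O := hV4 w' (htW w' hw') h
    rwa [hOW] at this

/-- EGA IV 9.6.1 (iv), negative half: near a point over which the fibre map is not universally closed the
fibre maps are not universally closed. -/
theorem exists_disjoint_locus {A : CommRingCat.{u}} {X Y : Scheme.{u}} (f : X ⟶ Y)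
    (g : Y ⟶ Spec A) [LocallyOfFinitePresentation f] [QuasiCompact f] [QuasiSeparated f]
    [LocallyOfFinitePresentation g] [QuasiCompact g] [QuasiSeparated g] (p : ↥(Spec A))
    (hp : p ∉ locus @UniversallyClosed f g) :
    ∃ V : Set ↥(Spec A), IsConstructible V ∧ p ∈ V ∧ V ∩ locus @UniversallyClosed f g = ∅ := by
  have hqc : QuasiCompact (bcMap f g ((Spec A).fromSpecResidueField p)) :=
    MorphismProperty.of_isPullback (isPullback_bcMap f g _) inferInstance
  have h1 : ¬ ∀ (n : Type u) [Finite n],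
      IsClosedMap (AffineSpace.map n (bcMap f g ((Spec A).fromSpecResidueField p))) :=
    fun h ↦ hp (universallyClosed_of_isClosedMap_affineSpace _ h)
  push Not at h1
  obtain ⟨n, hn, h1⟩ := h1
  have hY : ∀ t : ↥(Spec A), IsPullback
      (AffineSpace.map n (pullback.fst g ((Spec A).fromSpecResidueField t)))
      ((𝔸(n; pullback g ((Spec A).fromSpecResidueField t)) ↘ _) ≫ pullback.snd g _)
      ((𝔸(n; Y) ↘ Y) ≫ g) ((Spec A).fromSpecResidueField t) := fun t ↦
    (AffineSpace.isPullback_map _).paste_vert (IsPullback.of_hasPullback g _)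
  have hX : ∀ t : ↥(Spec A), IsPullback
      (AffineSpace.map n (pullback.fst (f ≫ g) ((Spec A).fromSpecResidueField t)))
      (AffineSpace.map n (bcMap f g ((Spec A).fromSpecResidueField t)))
      (AffineSpace.map n f)
      (AffineSpace.map n (pullback.fst g ((Spec A).fromSpecResidueField t))) := fun t ↦
    isPullback_map_map (isPullback_bcMap f g _)
  have hXX := (hX p).paste_vert (hY p)
  have hq : IsPreimmersion (AffineSpace.map n
      (pullback.fst (f ≫ g) ((Spec A).fromSpecResidueField p))) :=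
    MorphismProperty.of_isPullback hXX.flip inferInstance
  have hf : LocallyOfFinitePresentation (AffineSpace.map n f) :=
    MorphismProperty.of_isPullback (AffineSpace.isPullback_map f).flip inferInstance
  have hf' : QuasiCompact (AffineSpace.map n f) :=
    MorphismProperty.of_isPullback (AffineSpace.isPullback_map f).flip inferInstance
  have hf'' : QuasiSeparated (AffineSpace.map n f) :=
    MorphismProperty.of_isPullback (AffineSpace.isPullback_map f).flip inferInstance
  have : CompactSpace ↥𝔸(n; Y) := QuasiCompact.compactSpace_of_compactSpace ((𝔸(n; Y) ↘ Y) ≫ g)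
  have : QuasiSeparatedSpace ↥𝔸(n; Y) :=
    quasiSeparatedSpace_of_quasiSeparated ((𝔸(n; Y) ↘ Y) ≫ g)
  have : CompactSpace ↥𝔸(n; X) := QuasiCompact.compactSpace_of_compactSpace (AffineSpace.map n f)
  have : QuasiSeparatedSpace ↥𝔸(n; X) := quasiSeparatedSpace_of_quasiSeparated (AffineSpace.map n f)
  have : IsNoetherian 𝔸(n; pullback (f ≫ g) ((Spec A).fromSpecResidueField p)) := by
    let b := (𝔸(n; pullback (f ≫ g) ((Spec A).fromSpecResidueField p)) ↘ _) ≫
      pullback.snd (f ≫ g) ((Spec A).fromSpecResidueField p)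
    have h1 : LocallyOfFiniteType b := inferInstance
    have h2 : CompactSpace ↥𝔸(n; pullback (f ≫ g) ((Spec A).fromSpecResidueField p)) :=
      QuasiCompact.compactSpace_of_compactSpace b
    have h3 : IsLocallyNoetherian 𝔸(n; pullback (f ≫ g) ((Spec A).fromSpecResidueField p)) :=
      LocallyOfFiniteType.isLocallyNoetherian b
    exact {}
  simp only [IsClosedMap, not_forall] at h1
  obtain ⟨W, hW, hFW⟩ := h1
  obtain ⟨W', hW', hW'c, rfl⟩ := exists_isClosed_preimage (AffineSpace.map n
      (pullback.fst (f ≫ g) ((Spec A).fromSpecResidueField p))) hW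
  have hZ' : IsConstructible (AffineSpace.map n f '' W') :=
    (AffineSpace.map n f).isConstructible_image hW'c
  have e := Scheme.image_preimage_eq_of_isPullback (hX p) W'
  refine ⟨(clLocus ((𝔸(n; Y) ↘ Y) ≫ g) (AffineSpace.map n f '' W'))ᶜ,
    (isConstructible_clLocus _ hZ'.isLocallyConstructible).compl, ?_, ?_⟩
  · intro hcl
    rw [mem_clLocus_iff _ hZ' p (hY p)] at hcl
    exact hFW (e ▸ hcl)
  · rw [Set.eq_empty_iff_forall_notMem]
    rintro t ⟨ht, htU⟩
    apply ht
    rw [mem_clLocus_iff _ hZ' t (hY t)]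
    have e' := Scheme.image_preimage_eq_of_isPullback (hX t) W'
    have htU' : UniversallyClosed (bcMap f g ((Spec A).fromSpecResidueField t)) := htU
    have h3 : UniversallyClosed
        (AffineSpace.map n (bcMap f g ((Spec A).fromSpecResidueField t))) :=
      MorphismProperty.of_isPullback (AffineSpace.isPullback_map _).flip htU'
    have h4 := (AffineSpace.map n (bcMap f g ((Spec A).fromSpecResidueField t))).isClosedMap _
      (hW'.preimage (AffineSpace.map n
        (pullback.fst (f ≫ g) ((Spec A).fromSpecResidueField t))).continuous)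
    exact e' ▸ h4

/-- The same for a property `P` which implies being universally closed. -/
theorem exists_disjoint_locus_of_le {A : CommRingCat.{u}} {X Y : Scheme.{u}} (f : X ⟶ Y)
    (g : Y ⟶ Spec A) [LocallyOfFinitePresentation f] [QuasiCompact f] [QuasiSeparated f]
    [LocallyOfFinitePresentation g] [QuasiCompact g] [QuasiSeparated g]
    {P : MorphismProperty Scheme.{u}} (hP : P ≤ @UniversallyClosed) (p : ↥(Spec A))
    (hp : p ∉ locus @UniversallyClosed f g) :
    ∃ V : Set ↥(Spec A), IsConstructible V ∧ p ∈ V ∧ V ∩ locus P f g = ∅ := by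
  obtain ⟨V, hV, hpV, h⟩ := exists_disjoint_locus f g p hp
  refine ⟨V, hV, hpV, ?_⟩
  rw [Set.eq_empty_iff_forall_notMem] at h ⊢
  rintro t ⟨ht, htP⟩
  exact h t ⟨ht, hP _ htP⟩

end Groth.Agent.Ega43.UnivClosedLocus
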