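import Groth.Agent.Ega43.ArtinLocal
import Mathlib.RingTheory.TensorProduct.Basic
import Mathlib.LinearAlgebra.TensorProduct.RightExactness
import Mathlib.RingTheory.DiscreteValuationRing.Basic
import Mathlib.RingTheory.LocalRing.ResidueField.Basic
import Mathlib.RingTheory.Localization.LocalizationLocalization
import Mathlib.RingTheory.Localization.Ideal
import Mathlib.RingTheory.Flat.Localization
import Mathlib.RingTheory.Flat.TorsionFree
import Mathlib.RingTheory.FiniteType
import Mathlib.RingTheory.Flat.Stability

set_option autoImplicit false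

open IsLocalRing TensorProduct

namespace Groth.Agent.Ega43.UnivOpenCore

universe u

/-- `IsLocalization` preserves radical ideals. -/
theorem isRadical_map {R S : Type*} [CommRing R] [CommRing S] [Algebra R S] (M : Submonoid R)
    [IsLocalization M S] {I : Ideal R} (hI : I.IsRadical) :
    (I.map (algebraMap R S)).IsRadical := by
  rw [← Ideal.radical_eq_iff, ← IsLocalization.map_radical M S, hI.radical]

/-- The localization of a ring at a prime `q` minimal over a radical ideal `I` has maximal ideal
generated by `I`. -/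
theorem maximalIdeal_eq_map_of_mem_minimalPrimes {G : Type*} [CommRing G] {I : Ideal G}
    (hI : I.IsRadical) (q : Ideal G) [q.IsPrime] (hq : q ∈ I.minimalPrimes) :
    maximalIdeal (Localization.AtPrime q) = I.map (algebraMap G (Localization.AtPrime q)) := by
  apply le_antisymm
  · have h1 : q.map (algebraMap G (Localization.AtPrime q)) ≤
        (I.map (algebraMap G (Localization.AtPrime q))).radical := by
      rw [Ideal.radical_eq_sInf, le_sInf_iff]
      rintro Q ⟨hQ', hQ⟩
      obtain ⟨h₁, h₂⟩ := ((IsLocalization.AtPrime.orderIsoOfPrime _ q) ⟨Q, hQ⟩).2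
      rw [Ideal.map_le_iff_le_comap] at hQ' ⊢
      exact hq.2 ⟨h₁, hQ'⟩ h₂
    rw [Localization.AtPrime.map_eq_maximalIdeal, (isRadical_map q.primeCompl hI).radical] at h1
    exact h1
  · rw [← Localization.AtPrime.map_eq_maximalIdeal]
    exact Ideal.map_mono hq.1.2

variable {A E R : Type u} [CommRing A] [CommRing E] [Algebra A E] [CommRing R] [IsDomain R]
  [IsDiscreteValuationRing R] [Algebra A R]

/-- The core argument: `E` flat of finite type over `A` with (geometrically) reduced fibres, `q` a
prime of `E` with `E_q / 𝔭 E_q` a field, `ψ : E → R` a homomorphism to a discrete valuation ring with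
`q = ψ⁻¹(𝔪_R)`, and `I ≤ q` an ideal such that `Spec (E / I)` satisfies the openness condition (after
base change to `R`, no power of a uniformizer vanishes at the points over `q`).  Then `I ≤ ker ψ`. -/
theorem core [Module.Flat A E] [IsNoetherianRing (R ⊗[A] E)]
    (hred : IsReduced (ResidueField R ⊗[A] E))
    (q : Ideal E) [q.IsPrime] (I : Ideal E)
    (hq : maximalIdeal (Localization.AtPrime q) ≤
      (q.under A).map (algebraMap A (Localization.AtPrime q)))
    (ψ : E →ₐ[A] R) (hψ : q = (maximalIdeal R).comap ψ)
    (hUO : ∀ (Q : Ideal (R ⊗[A] E)) [Q.IsPrime],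
      Q.comap (Algebra.TensorProduct.includeRight : E →ₐ[A] R ⊗[A] E) = q →
      Q.comap (algebraMap R (R ⊗[A] E)) = maximalIdeal R →
      ∀ t : R, t ≠ 0 → ∀ s : R ⊗[A] E, s ∉ Q → ∀ n : ℕ,
        (algebraMap R (R ⊗[A] E) t) ^ n * s ∉
          I.map (Algebra.TensorProduct.includeRight : E →ₐ[A] R ⊗[A] E)) :
    ∀ x ∈ I, ψ x = 0 := by
  obtain ⟨t, ht⟩ := IsDiscreteValuationRing.exists_irreducible R
  have ht0 : t ≠ 0 := ht.ne_zero
  have hmR : maximalIdeal R = Ideal.span {t} := ht.maximalIdeal_eq
  let inr : E →ₐ[A] R ⊗[A] E := Algebra.TensorProduct.includeRight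
  let π : R ⊗[A] E →ₐ[R] R := Algebra.TensorProduct.lift (AlgHom.id R R) ψ (fun _ _ => mul_comm _ _)
  have hπr : ∀ r : R, π (algebraMap R (R ⊗[A] E) r) = r := fun r => π.commutes r
  have hπe : ∀ e : E, π (inr e) = ψ e := fun e => by
    have h1 : π (inr e) = (AlgHom.id R R) 1 * ψ e :=
      Algebra.TensorProduct.lift_tmul _ _ _ _ _
    rw [h1, map_one, one_mul]
  let P : Ideal (R ⊗[A] E) := (maximalIdeal R).comap π
  have hPprime : P.IsPrime := Ideal.comap_isPrime _ _
  let G := Localization.AtPrime P
  let τ : G := algebraMap R G t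
  have hτ : τ = algebraMap (R ⊗[A] E) G (algebraMap R (R ⊗[A] E) t) :=
    IsScalarTower.algebraMap_apply R (R ⊗[A] E) G t
  have htP : algebraMap R (R ⊗[A] E) t ∈ P := by
    change π _ ∈ maximalIdeal R
    rw [hπr]
    rw [hmR]
    exact Ideal.mem_span_singleton_self t
  -- `t` is in the maximal ideal of `G`
  have hτmem : τ ∈ maximalIdeal G := by
    rw [hτ, IsLocalization.AtPrime.to_map_mem_maximal_iff G P]
    exact htP
  -- `t` is regular
  have hflatG : Module.Flat R G := Module.Flat.trans R (R ⊗[A] E) G
  have hτreg : τ ∈ nonZeroDivisors G := by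
    have h1 := Module.Flat.isSMulRegular_of_nonZeroDivisors (M := G)
      (mem_nonZeroDivisors_of_ne_zero ht0)
    rw [mem_nonZeroDivisors_iff_right]
    intro x hx
    apply h1
    simp only [Algebra.smul_def, mul_zero]
    rw [mul_comm]
    exact hx
  -- `(t)` is radical
  have hrad0 : (Ideal.span {algebraMap R (R ⊗[A] E) t}).IsRadical := by
    have h1 : RingHom.ker (Algebra.TensorProduct.map
        (IsScalarTower.toAlgHom A R (ResidueField R)) (AlgHom.id A E)) =
        Ideal.span {algebraMap R (R ⊗[A] E) t} := by
      rw [Algebra.TensorProduct.rTensor_ker (IsScalarTower.toAlgHom A R (ResidueField R))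
        (IsLocalRing.residue_surjective)]
      have h2 : RingHom.ker (IsScalarTower.toAlgHom A R (ResidueField R)) = maximalIdeal R :=
        IsLocalRing.ker_residue
      rw [h2, hmR, Ideal.map_span, Set.image_singleton]
      rfl
    rw [← h1]
    have h3 : Function.Surjective (Algebra.TensorProduct.map
        (IsScalarTower.toAlgHom A R (ResidueField R)) (AlgHom.id A E)) :=
      Algebra.TensorProduct.map_surjective _ _ IsLocalRing.residue_surjective
        Function.surjective_id
    exact (RingHom.ker_isRadical_iff_reduced_of_surjective h3).mpr hred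
  have hradG : (Ideal.span {τ}).IsRadical := by
    have h1 := isRadical_map (S := G) P.primeCompl hrad0
    rwa [Ideal.map_span, Set.image_singleton, ← hτ] at h1
  -- the key point
  have key : ∀ x ∈ I, algebraMap (R ⊗[A] E) G (inr x) = 0 := by
    intro x hx
    refine ArtinLocal.eq_zero_of_forall_minimalPrimes τ hτmem hτreg hradG _ ?_
    intro q' hq'prime hq'
    let D := Localization.AtPrime q'
    let Q : Ideal (R ⊗[A] E) := q'.comap (algebraMap (R ⊗[A] E) G)
    have hDloc : IsLocalization.AtPrime D Q := by
      infer_instance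
    have hQP : Q ≤ P := by
      intro y hy
      have : algebraMap (R ⊗[A] E) G y ∈ maximalIdeal G := IsLocalRing.le_maximalIdeal
        hq'prime.ne_top hy
      rwa [IsLocalization.AtPrime.to_map_mem_maximal_iff G P] at this
    have htQ : algebraMap R (R ⊗[A] E) t ∈ Q := by
      change algebraMap (R ⊗[A] E) G _ ∈ q'
      rw [← hτ]
      exact hq'.1.2 (Ideal.mem_span_singleton_self τ)
    have hQR : Q.comap (algebraMap R (R ⊗[A] E)) = maximalIdeal R := by
      symm
      apply (maximalIdeal.isMaximal R).eq_of_le (Ideal.IsPrime.comap _).ne_top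
      rw [hmR, Ideal.span_singleton_le_iff_mem]
      exact htQ
    have hQE' : Q.comap inr ≤ q := by
      intro y hy
      have : inr y ∈ P := hQP hy
      rw [hψ]
      change π (inr y) ∈ maximalIdeal R at this
      rwa [hπe] at this
    have hQE : Q.comap inr = q := by
      apply le_antisymm hQE'
      intro y hy
      have h1 : algebraMap E (Localization.AtPrime q) y ∈
          ((q.under A).map (algebraMap A E)).map (algebraMap E (Localization.AtPrime q)) := by
        rw [Ideal.map_map, ← IsScalarTower.algebraMap_eq]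
        apply hq
        rw [IsLocalization.AtPrime.to_map_mem_maximal_iff _ q]
        exact hy
      rw [IsLocalization.mem_map_algebraMap_iff q.primeCompl] at h1
      obtain ⟨⟨a, s⟩, h2⟩ := h1
      rw [← map_mul, IsLocalization.eq_iff_exists q.primeCompl] at h2
      obtain ⟨c, hc⟩ := h2
      have hle : (q.under A).map (algebraMap A E) ≤ Q.comap inr := by
        rw [Ideal.map_le_iff_le_comap]
        intro a ha
        rw [Ideal.mem_comap, Ideal.mem_comap]
        have h3 : inr (algebraMap A E a) = algebraMap R (R ⊗[A] E) (algebraMap A R a) := by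
          rw [AlgHom.commutes, ← IsScalarTower.algebraMap_apply]
        rw [h3]
        have h4 : algebraMap A R a ∈ maximalIdeal R := by
          rw [← ψ.commutes]
          have : algebraMap A E a ∈ q := ha
          rw [hψ] at this
          exact this
        rw [← hQR] at h4
        exact h4
      have h5 : (c : E) * (y * s) ∈ Q.comap inr := by
        rw [hc]
        exact Ideal.mul_mem_left _ _ (hle a.2)
      have hprime : (Q.comap inr).IsPrime := Ideal.comap_isPrime _ _
      have hc' : (c : E) ∉ Q.comap inr := fun h => c.2 (hQE' h)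
      have hs' : (s : E) ∉ Q.comap inr := fun h => s.2 (hQE' h)
      exact ((hprime.mem_or_mem ((hprime.mem_or_mem h5).resolve_left hc')).resolve_right hs')
    -- the maximal ideal of D is generated by t
    have hmaxD : maximalIdeal D = Ideal.span {algebraMap G D τ} := by
      rw [maximalIdeal_eq_map_of_mem_minimalPrimes hradG q' hq', Ideal.map_span,
        Set.image_singleton]
    have hbot : (I.map inr).map (algebraMap (R ⊗[A] E) D) = ⊥ := by
      apply @ArtinLocal.eq_bot_of_forall_pow_notMem D _ _ _ _ hmaxD
      intro n hn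
      rw [IsLocalization.mem_map_algebraMap_iff Q.primeCompl] at hn
      obtain ⟨⟨a, s⟩, h2⟩ := hn
      have h3 : algebraMap G D τ = algebraMap (R ⊗[A] E) D (algebraMap R (R ⊗[A] E) t) := by
        rw [hτ, ← IsScalarTower.algebraMap_apply]
      rw [h3, ← map_pow, ← map_mul, IsLocalization.eq_iff_exists Q.primeCompl] at h2
      obtain ⟨c, hc⟩ := h2
      refine hUO Q hQE hQR t ht0 ((c : R ⊗[A] E) * s) (Q.primeCompl.mul_mem c.2 s.2) n ?_
      have h4 : (algebraMap R (R ⊗[A] E) t) ^ n * ((c : R ⊗[A] E) * s) =
          (c : R ⊗[A] E) * ((algebraMap R (R ⊗[A] E) t) ^ n * s) := by ring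
      rw [h4, hc]
      exact Ideal.mul_mem_left _ _ a.2
    have h6 : algebraMap (R ⊗[A] E) D (inr x) ∈ (I.map inr).map (algebraMap (R ⊗[A] E) D) :=
      Ideal.mem_map_of_mem _ (Ideal.mem_map_of_mem _ hx)
    rw [hbot] at h6
    rw [← IsScalarTower.algebraMap_apply (R ⊗[A] E) G D]
    exact h6
  intro x hx
  have h1 := key x hx
  rw [IsLocalization.map_eq_zero_iff P.primeCompl] at h1
  obtain ⟨s, hs⟩ := h1
  have h2 : π s * ψ x = 0 := by
    rw [← hπe, ← map_mul, hs, map_zero]
  have h3 : π (s : R ⊗[A] E) ≠ 0 := by
    intro h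
    apply s.2
    change π (s : R ⊗[A] E) ∈ maximalIdeal R
    rw [h]
    exact zero_mem _
  exact (mul_eq_zero.mp h2).resolve_left h3

end Groth.Agent.Ega43.UnivOpenCore
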