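import Groth.Agent.Ega43.StalkPull
import Groth.Prelude.Def_EGA43
import Mathlib.RingTheory.DiscreteValuationRing.Basic
import Mathlib.RingTheory.RingHom.FaithfullyFlat

set_option autoImplicit false

open CategoryTheory CategoryTheory.Limits AlgebraicGeometry TensorProduct

namespace Groth.Agent.Ega43.UnivOpenDvr

universe u

/-- The stalk maps of a flat morphism are injective. -/
theorem stalkMap_injective_of_flat {X Y : Scheme.{u}} (f : X ⟶ Y) [Flat f] (x : X) :
    Function.Injective (f.stalkMap x).hom := by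
  algebraize [(f.stalkMap x).hom]
  have h1 : Module.Flat (Y.presheaf.stalk (f x)) (X.presheaf.stalk x) := Flat.stalkMap f x
  have h2 : IsLocalHom (algebraMap (Y.presheaf.stalk (f x)) (X.presheaf.stalk x)) :=
    f.toLRSHom.prop x
  have h3 : Module.FaithfullyFlat (Y.presheaf.stalk (f x)) (X.presheaf.stalk x) :=
    Module.FaithfullyFlat.of_flat_of_isLocalHom
  exact FaithfulSMul.algebraMap_injective (Y.presheaf.stalk (f x)) (X.presheaf.stalk x)

section

variable {X Y : Scheme.{u}} (f : X ⟶ Y) {A B : Type u} [CommRing A] [CommRing B] [Algebra A B]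
  (a : Spec (CommRingCat.of A) ⟶ Y) [Mono a] (b : Spec (CommRingCat.of B) ⟶ X) [Flat b]
  (h : b ≫ f = Spec.map (CommRingCat.ofHom (algebraMap A B)) ≫ a)

include h in
/-- Openness of the base changes of `f` at the points over `b z`, tested on discrete valuation
rings. -/
theorem dvrOpen_of_isUnivOpenAt (z : PrimeSpectrum B)
    (hopen : EGA43.IsUnivOpenAt f (b z))
    (R : Type u) [CommRing R] [IsDomain R] [IsDiscreteValuationRing R] [Algebra A R]
    (Q : Ideal (R ⊗[A] B)) [Q.IsPrime]
    (hQB : Q.comap (Algebra.TensorProduct.includeRight : B →ₐ[A] R ⊗[A] B) = z.asIdeal)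
    (hQR : Q.comap (algebraMap R (R ⊗[A] B)) = IsLocalRing.maximalIdeal R)
    (t : R) (ht : t ≠ 0) (s : R ⊗[A] B) (hs : s ∉ Q) (n : ℕ) :
    (algebraMap R (R ⊗[A] B) t) ^ n * s ≠ 0 := by
  intro hts
  let j := StalkPull.lift f a b h R
  have hjflat : Flat j := StalkPull.flat_lift f a b h R
  let g := Spec.map (CommRingCat.ofHom (algebraMap A R)) ≫ a
  let ξ : Spec (CommRingCat.of (R ⊗[A] B)) := ⟨Q, inferInstance⟩
  let x' : ↥(pullback f g) := j ξ
  have hfst : (pullback.fst f g) x' = b z := by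
    have h1 : (pullback.fst f g) (j ξ) = (j ≫ pullback.fst f g) ξ := rfl
    rw [h1, StalkPull.lift_fst]
    change b (Spec.map _ ξ) = b z
    congr 1
    exact PrimeSpectrum.ext hQB
  have hop := hopen (Spec (CommRingCat.of R)) g x' hfst
  have hsnd : (pullback.snd f g) x' = IsLocalRing.closedPoint R := by
    have h1 : (pullback.snd f g) (j ξ) = (j ≫ pullback.snd f g) ξ := rfl
    rw [h1, StalkPull.lift_snd]
    exact PrimeSpectrum.ext hQR
  -- the function `τ`
  let t' : Γ(Spec (CommRingCat.of R), ⊤) := (Scheme.ΓSpecIso (CommRingCat.of R)).inv t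
  let τ : Γ(pullback f g, ⊤) := (pullback.snd f g).appTop t'
  have hτ0 : (pullback f g).presheaf.germ ⊤ x' trivial (τ ^ n) = 0 := by
    apply stalkMap_injective_of_flat j ξ
    rw [map_zero]
    have h1 := Scheme.Hom.germ_stalkMap_apply j ⊤ ξ trivial (τ ^ n)
    refine h1.trans ?_
    have h2 : j.app ⊤ (τ ^ n) = (Scheme.ΓSpecIso (CommRingCat.of (R ⊗[A] B))).inv
        ((algebraMap R (R ⊗[A] B) t) ^ n) := by
      rw [map_pow, map_pow]
      congr 1
      have h3 : (pullback.snd f g).appTop ≫ j.appTop =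
          (Spec.map (CommRingCat.ofHom (algebraMap R (R ⊗[A] B)))).appTop := by
        rw [← Scheme.Hom.comp_appTop, StalkPull.lift_snd]
      have h4 := congrArg (fun φ => φ.hom t') h3
      refine h4.trans ?_
      have h5 := Scheme.ΓSpecIso_inv_naturality (CommRingCat.ofHom (algebraMap R (R ⊗[A] B)))
      have h6 := congrArg (fun φ => φ.hom t) h5
      exact h6.symm
    have h7 : (Spec (CommRingCat.of (R ⊗[A] B))).presheaf.germ ⊤ ξ trivial
        ((Scheme.ΓSpecIso (CommRingCat.of (R ⊗[A] B))).inv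
        ((algebraMap R (R ⊗[A] B) t) ^ n)) = 0 := by
      refine germ_eq_zero_of_pow_mul_eq_zero (X := Spec (CommRingCat.of (R ⊗[A] B)))
        (U := ⊤) ⟨ξ, trivial⟩
        (s := (Scheme.ΓSpecIso (CommRingCat.of (R ⊗[A] B))).inv s) ?_ (n := 1) ?_
      · rw [basicOpen_eq_of_affine]
        exact hs
      · rw [pow_one, ← map_mul, mul_comm, hts, map_zero]
    rw [← h7]
    exact congrArg _ h2
  have hτ1 : (pullback f g).presheaf.germ ⊤ x' trivial (τ ^ n) =
      (pullback f g).presheaf.germ ⊤ x' trivial 0 := by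
    rw [hτ0, map_zero]
  obtain ⟨W, hxW, iU, iV, hW⟩ := TopCat.Presheaf.germ_eq _ x' _ _ _ _ hτ1
  have hWnhds : (W : Set ↥(pullback f g)) ∈ nhds x' := W.isOpen.mem_nhds hxW
  have himg := hop W hWnhds
  rw [hsnd] at himg
  have huniv : (pullback.snd f g) '' (W : Set ↥(pullback f g)) = Set.univ := by
    obtain ⟨V, hV, hVo, hVm⟩ := mem_nhds_iff.mp himg
    apply Set.eq_univ_of_univ_subset
    intro p _
    apply hV
    exact (IsLocalRing.specializes_closedPoint p).mem_open hVo hVm
  have hη : (⟨⊥, Ideal.isPrime_bot⟩ : PrimeSpectrum R) ∈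
      (pullback.snd f g) '' (W : Set ↥(pullback f g)) := by
    rw [huniv]; trivial
  obtain ⟨w, hwW, hw⟩ := hη
  have h8 : w ∈ (pullback f g).basicOpen τ := by
    have h9 : (pullback.snd f g) ⁻¹ᵁ (Spec (CommRingCat.of R)).basicOpen t' =
        (pullback f g).basicOpen τ := Scheme.preimage_basicOpen_top _ _
    rw [← h9]
    change (pullback.snd f g) w ∈ (Spec (CommRingCat.of R)).basicOpen t'
    rw [hw, basicOpen_eq_of_affine]
    intro h10
    exact ht h10
  have h11 : w ∈ (pullback f g).basicOpen (τ ^ n) := by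
    rcases Nat.eq_zero_or_pos n with rfl | hn
    · rw [pow_zero, Scheme.basicOpen_of_isUnit _ isUnit_one]
      trivial
    · rw [Scheme.basicOpen_pow _ _ hn]
      exact h8
  have h12 : w ∈ (pullback f g).basicOpen ((pullback f g).presheaf.map iU.op (τ ^ n)) := by
    rw [Scheme.basicOpen_res]
    exact ⟨hwW, h11⟩
  have h13 : (pullback f g).presheaf.map iU.op (τ ^ n) = 0 := by
    refine hW.trans ?_
    rw [map_zero]
  rw [h13, Scheme.basicOpen_zero] at h12
  exact h12

end

end Groth.Agent.Ega43.UnivOpenDvr
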