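import Groth.Agent.Ega43.UnivOpenCore
import Groth.Agent.Ega43.DvrDomination
import Mathlib.RingTheory.EssentialFiniteness
import Mathlib.RingTheory.FiniteStability

set_option autoImplicit false

open IsLocalRing TensorProduct

namespace Groth.Agent.Ega43.UnivOpenFlat

universe u

/-- The openness condition at the closed point of `Spec C` (for `C` a local `A`-algebra), tested on
discrete valuation rings: for every discrete valuation ring `R` over `A`, and every point `Q` of
`Spec (R ⊗ C)` above the closed points of `Spec R` and `Spec C`, a nonzero element of `R` is not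
nilpotent in the local ring at `Q`. -/
def DVROpen (A C : Type u) [CommRing A] [CommRing C] [IsLocalRing C] [Algebra A C] : Prop :=
  ∀ (R : Type u) [CommRing R] [IsDomain R] [IsDiscreteValuationRing R] [Algebra A R]
    (Q : Ideal (R ⊗[A] C)) [Q.IsPrime],
    Q.comap (Algebra.TensorProduct.includeRight : C →ₐ[A] R ⊗[A] C) = maximalIdeal C →
    Q.comap (algebraMap R (R ⊗[A] C)) = maximalIdeal R →
    ∀ t : R, t ≠ 0 → ∀ s : R ⊗[A] C, s ∉ Q → ∀ n : ℕ, (algebraMap R (R ⊗[A] C) t) ^ n * s ≠ 0

section

variable {A C E : Type u} [CommRing A] [CommRing C] [IsLocalRing C] [Algebra A C] [CommRing E]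
  [Algebra A E]

/-- The map `E_q → C` induced by `χ : E → C`, `q = χ⁻¹(𝔪_C)`. -/
noncomputable def toC (χ : E →ₐ[A] C) (q : Ideal E) [q.IsPrime]
    (hq : q = (maximalIdeal C).comap χ) : Localization.AtPrime q →ₐ[A] C :=
  IsLocalization.liftAlgHom (M := q.primeCompl) (f := χ) (fun y => by
    have h : (y : E) ∉ (maximalIdeal C).comap χ := hq ▸ y.2
    by_contra h'
    exact h ((mem_maximalIdeal _).mpr h'))

theorem toC_algebraMap (χ : E →ₐ[A] C) (q : Ideal E) [q.IsPrime]
    (hq : q = (maximalIdeal C).comap χ) (x : E) :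
    toC χ q hq (algebraMap E _ x) = χ x := by
  simp [toC]

theorem toC_surjective (χ : E →ₐ[A] C) (q : Ideal E) [q.IsPrime]
    (hq : q = (maximalIdeal C).comap χ)
    (hχ : ∀ c : C, ∃ e s : E, IsUnit (χ s) ∧ c * χ s = χ e) :
    Function.Surjective (toC χ q hq) := by
  intro c
  obtain ⟨e, s, hs, hc⟩ := hχ c
  have hsq : s ∈ q.primeCompl := by
    intro h
    have h' : s ∈ q := h
    rw [hq] at h'
    exact (mem_maximalIdeal _).mp h' hs
  refine ⟨IsLocalization.mk' _ e ⟨s, hsq⟩, ?_⟩
  have h1 : toC χ q hq (IsLocalization.mk' _ e ⟨s, hsq⟩) * χ s = χ e := by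
    rw [← toC_algebraMap χ q hq s, ← map_mul, ← toC_algebraMap χ q hq e]
    congr 1
    exact IsLocalization.mk'_spec _ _ _
  rw [← hc] at h1
  exact hs.mul_right_cancel h1

theorem mem_ker_toC (χ : E →ₐ[A] C) (q : Ideal E) [q.IsPrime]
    (hq : q = (maximalIdeal C).comap χ) (x : Localization.AtPrime q)
    (hx : toC χ q hq x = 0) :
    x ∈ (RingHom.ker χ).map (algebraMap E (Localization.AtPrime q)) := by
  obtain ⟨⟨e, s⟩, hes⟩ := IsLocalization.surj q.primeCompl x
  have h1 : χ e = 0 := by
    rw [← toC_algebraMap χ q hq e, ← hes, map_mul, hx, zero_mul]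
  have h2 : x * algebraMap E (Localization.AtPrime q) s ∈
      (RingHom.ker χ).map (algebraMap E (Localization.AtPrime q)) := by
    rw [hes]
    exact Ideal.mem_map_of_mem _ h1
  have h3 : IsUnit (algebraMap E (Localization.AtPrime q) s) := IsLocalization.map_units _ s
  obtain ⟨u, hu⟩ := h3
  have : x = (x * algebraMap E (Localization.AtPrime q) s) * (↑u⁻¹ : Localization.AtPrime q) := by
    rw [← hu, Units.mul_inv_cancel_right]
  rw [this]
  exact Ideal.mul_mem_right _ _ h2

/-- The openness condition for `C` gives the one needed for `E`. -/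
theorem dvrOpen_transfer (χ : E →ₐ[A] C) (q : Ideal E) [q.IsPrime]
    (hq : q = (maximalIdeal C).comap χ)
    (hχ : ∀ c : C, ∃ e s : E, IsUnit (χ s) ∧ c * χ s = χ e)
    (hUO : DVROpen A C)
    (R : Type u) [CommRing R] [IsDomain R] [IsDiscreteValuationRing R] [Algebra A R]
    (Q : Ideal (R ⊗[A] E)) [Q.IsPrime]
    (hQE : Q.comap (Algebra.TensorProduct.includeRight : E →ₐ[A] R ⊗[A] E) = q)
    (hQR : Q.comap (algebraMap R (R ⊗[A] E)) = maximalIdeal R)
    (t : R) (ht : t ≠ 0) (s : R ⊗[A] E) (hs : s ∉ Q) (n : ℕ) :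
    (algebraMap R (R ⊗[A] E) t) ^ n * s ∉
      (RingHom.ker χ).map (Algebra.TensorProduct.includeRight : E →ₐ[A] R ⊗[A] E) := by
  intro hmem
  let K := FractionRing ((R ⊗[A] E) ⧸ Q)
  let θ : R ⊗[A] E →ₐ[A] K := (Algebra.ofId ((R ⊗[A] E) ⧸ Q) K).restrictScalars A |>.comp
    (Ideal.Quotient.mkₐ A Q)
  have hθ : ∀ x, θ x = 0 ↔ x ∈ Q := by
    intro x
    change algebraMap ((R ⊗[A] E) ⧸ Q) K (Ideal.Quotient.mk Q x) = 0 ↔ x ∈ Q
    rw [map_eq_zero_iff _ (IsFractionRing.injective ((R ⊗[A] E) ⧸ Q) K),
      Ideal.Quotient.eq_zero_iff_mem]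
  let inr : E →ₐ[A] R ⊗[A] E := Algebra.TensorProduct.includeRight
  -- E_q → K
  have hθq : ∀ y : q.primeCompl, IsUnit ((θ.comp inr) y) := by
    intro y
    rw [isUnit_iff_ne_zero, AlgHom.comp_apply, Ne, hθ]
    intro h
    apply y.2
    have : (y : E) ∈ Q.comap inr := h
    rwa [hQE] at this
  let θq : Localization.AtPrime q →ₐ[A] K :=
    IsLocalization.liftAlgHom (M := q.primeCompl) (f := θ.comp inr) hθq
  have hθq' : ∀ x : E, θq (algebraMap E _ x) = θ (inr x) := by
    intro x
    simp [θq]
  -- C → K
  have hker : RingHom.ker (toC χ q hq : Localization.AtPrime q →+* C) ≤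
      RingHom.ker (θq : Localization.AtPrime q →+* K) := by
    intro x hx
    have h1 := mem_ker_toC χ q hq x hx
    have h2 : (RingHom.ker χ).map (algebraMap E (Localization.AtPrime q)) ≤
        RingHom.ker (θq : Localization.AtPrime q →+* K) := by
      rw [Ideal.map_le_iff_le_comap]
      intro y hy
      rw [Ideal.mem_comap, RingHom.mem_ker]
      change θq (algebraMap E _ y) = 0
      rw [hθq', hθ]
      have : y ∈ q := by
        rw [hq, Ideal.mem_comap]
        have hy' : χ y = 0 := hy
        rw [hy']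
        exact zero_mem _
      rw [← hQE] at this
      exact this
    exact h2 h1
  let ρ : C →+* K := RingHom.liftOfSurjective (toC χ q hq : Localization.AtPrime q →+* C)
    (toC_surjective χ q hq hχ) ⟨(θq : Localization.AtPrime q →+* K), hker⟩
  have hρ : ∀ x, ρ (toC χ q hq x) = θq x := fun x =>
    RingHom.liftOfRightInverse_comp_apply _ _ _ ⟨(θq : Localization.AtPrime q →+* K), hker⟩ x
  have hρχ : ∀ x, ρ (χ x) = θ (inr x) := by
    intro x
    rw [← toC_algebraMap χ q hq, hρ, hθq']
  let ρA : C →ₐ[A] K :=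
    { ρ with
      commutes' := fun a => by
        change ρ (algebraMap A C a) = _
        rw [← χ.commutes a, hρχ, AlgHom.commutes, AlgHom.commutes] }
  have hρA : ∀ x, ρA x = ρ x := fun _ => rfl
  let inl : R →ₐ[A] R ⊗[A] E := Algebra.TensorProduct.includeLeft
  let Θ : R ⊗[A] C →ₐ[A] K := Algebra.TensorProduct.lift (θ.comp inl) ρA
    (fun _ _ => mul_comm _ _)
  let μ : R ⊗[A] E →ₐ[A] R ⊗[A] C := Algebra.TensorProduct.map (AlgHom.id A R) χ
  have hΘμ : ∀ x, Θ (μ x) = θ x := by
    intro x
    have : Θ.comp μ = θ := by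
      apply Algebra.TensorProduct.ext'
      intro a b
      rw [AlgHom.comp_apply]
      change Θ (a ⊗ₜ χ b) = _
      have h1 : Θ (a ⊗ₜ χ b) = (θ.comp inl) a * ρA (χ b) :=
        Algebra.TensorProduct.lift_tmul _ _ _ _ _
      rw [h1, hρA, hρχ, AlgHom.comp_apply, ← map_mul]
      congr 1
      change (a ⊗ₜ[A] (1 : E)) * ((1 : R) ⊗ₜ[A] b) = _
      rw [Algebra.TensorProduct.tmul_mul_tmul, mul_one, one_mul]
    rw [← this]
    rfl
  let Q' : Ideal (R ⊗[A] C) := RingHom.ker (Θ : R ⊗[A] C →+* K)
  have hQ'prime : Q'.IsPrime := RingHom.ker_isPrime _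
  have hQ' : ∀ x, x ∈ Q' ↔ Θ x = 0 := fun x => Iff.rfl
  refine hUO R Q' ?_ ?_ t ht (μ s) ?_ n ?_
  · -- lies over the maximal ideal of C
    ext c
    rw [Ideal.mem_comap, hQ']
    obtain ⟨e, s', hs', hc⟩ := hχ c
    have h1 : Θ (Algebra.TensorProduct.includeRight c) = ρ c := by
      change Θ ((1 : R) ⊗ₜ c) = _
      have h1 : Θ ((1 : R) ⊗ₜ c) = (θ.comp inl) 1 * ρA c :=
        Algebra.TensorProduct.lift_tmul _ _ _ _ _
      rw [h1, map_one, one_mul]
      rfl
    rw [h1]
    have hρs : ρ (χ s') ≠ 0 := (hs'.map ρ).ne_zero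
    have h2 : ρ c = 0 ↔ ρ (χ e) = 0 := by
      rw [← hc, map_mul]
      constructor
      · intro h; rw [h, zero_mul]
      · intro h; exact (mul_eq_zero.mp h).resolve_right hρs
    rw [h2, hρχ, hθ]
    have h3 : inr e ∈ Q ↔ e ∈ q := by
      rw [← hQE]; rfl
    rw [h3, hq, Ideal.mem_comap, ← hc]
    constructor
    · intro h
      exact ((maximalIdeal.isMaximal C).isPrime.mem_or_mem h).resolve_right
        (fun h' => (mem_maximalIdeal _).mp h' hs')
    · intro h
      exact Ideal.mul_mem_right _ _ h
  · ext r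
    rw [Ideal.mem_comap, hQ', ← hQR, Ideal.mem_comap, ← hθ, ← hΘμ]
    have : μ (algebraMap R (R ⊗[A] E) r) = algebraMap R (R ⊗[A] C) r := by
      change μ (r ⊗ₜ 1) = r ⊗ₜ 1
      change (AlgHom.id A R) r ⊗ₜ χ 1 = r ⊗ₜ 1
      rw [map_one]; rfl
    rw [this]
  · rw [hQ', hΘμ, hθ]
    exact hs
  · have h1 : μ (algebraMap R (R ⊗[A] E) t) = algebraMap R (R ⊗[A] C) t := by
      change (AlgHom.id A R) t ⊗ₜ χ 1 = t ⊗ₜ 1
      rw [map_one]; rfl
    rw [← h1, ← map_pow, ← map_mul]
    have h2 : (RingHom.ker χ).map inr ≤ RingHom.ker μ := by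
      rw [Ideal.map_le_iff_le_comap]
      intro y hy
      have hy' : χ y = 0 := hy
      rw [Ideal.mem_comap, RingHom.mem_ker]
      change (AlgHom.id A R) 1 ⊗ₜ χ y = 0
      rw [hy', tmul_zero]
    exact h2 hmem

/-- `C` is flat over `A` if it satisfies the openness condition and is (up to localization) a quotient
of a flat `A`-algebra `E` of finite type, with geometrically reduced fibres, reduced at `q` and such
that the fibre of `E` at `q` is a field. -/
theorem flat_of_dvrOpen [IsNoetherianRing A] [Algebra.FiniteType A E] [Module.Flat A E]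
    (χ : E →ₐ[A] C) (q : Ideal E) [q.IsPrime]
    (hq : q = (maximalIdeal C).comap χ)
    (hχ : ∀ c : C, ∃ e s : E, IsUnit (χ s) ∧ c * χ s = χ e)
    (hredE : IsReduced (Localization.AtPrime q))
    (hmax : maximalIdeal (Localization.AtPrime q) ≤
      (q.under A).map (algebraMap A (Localization.AtPrime q)))
    (hredK : ∀ (K : Type u) [Field K] [Algebra A K], IsReduced (K ⊗[A] E))
    (hUO : DVROpen A C) : Module.Flat A C := by
  have hNE : IsNoetherianRing E := Algebra.FiniteType.isNoetherianRing A E
  have key : ∀ x ∈ RingHom.ker χ, algebraMap E (Localization.AtPrime q) x = 0 := by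
    intro x hx
    have hxq : algebraMap E (Localization.AtPrime q) x ∈
        maximalIdeal (Localization.AtPrime q) := by
      rw [IsLocalization.AtPrime.to_map_mem_maximal_iff _ q, hq, Ideal.mem_comap]
      have hx' : χ x = 0 := hx
      rw [hx']
      exact zero_mem _
    have hnil : algebraMap E (Localization.AtPrime q) x ∈
        sInf (minimalPrimes (Localization.AtPrime q)) := by
      rw [Ideal.mem_sInf]
      intro w hw
      have hwp : w.IsPrime := hw.1.1
      by_cases hfield : IsField (Localization.AtPrime q ⧸ w)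
      · have : w.IsMaximal := Ideal.Quotient.maximal_of_isField w hfield
        rw [IsLocalRing.eq_maximalIdeal this]
        exact hxq
      · have hess : Algebra.EssFiniteType (Localization.AtPrime q ⧸ w)
            (FractionRing (Localization.AtPrime q ⧸ w)) :=
          Algebra.EssFiniteType.of_isLocalization _
            (nonZeroDivisors (Localization.AtPrime q ⧸ w))
        have hlocw : IsLocalRing (Localization.AtPrime q ⧸ w) :=
          IsLocalRing.of_surjective' _ Ideal.Quotient.mk_surjective
        obtain ⟨R, _, _, _, algR, _, _, _, hloc, hinj⟩ :=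
          DvrDomination.exists_dvr_algebra (Localization.AtPrime q ⧸ w) hfield
            (FractionRing (Localization.AtPrime q ⧸ w))
            (IsFractionRing.injective _ _)
        let g : Localization.AtPrime q →+* R :=
          (algebraMap (Localization.AtPrime q ⧸ w) R).comp (Ideal.Quotient.mk w)
        have hg : IsLocalHom g := by
          have h1 : IsLocalHom (Ideal.Quotient.mk w) :=
            IsLocalHom.of_surjective _ Ideal.Quotient.mk_surjective
          exact RingHom.isLocalHom_comp _ _
        let _ : Algebra A R := (g.comp (algebraMap A (Localization.AtPrime q))).toAlgebra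
        let ψ : E →ₐ[A] R :=
          { g.comp (algebraMap E (Localization.AtPrime q)) with
            commutes' := fun a => by
              change g (algebraMap E _ (algebraMap A E a)) = g (algebraMap A _ a)
              rw [← IsScalarTower.algebraMap_apply] }
        have hψg : ∀ y, ψ y = g (algebraMap E (Localization.AtPrime q) y) := fun _ => rfl
        have hNR : IsNoetherianRing (R ⊗[A] E) := Algebra.FiniteType.isNoetherianRing R _
        have hψ : q = (maximalIdeal R).comap ψ := by
          ext y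
          rw [Ideal.mem_comap, hψg, mem_maximalIdeal, mem_nonunits_iff,
            isUnit_map_iff g, ← mem_nonunits_iff, ← mem_maximalIdeal,
            IsLocalization.AtPrime.to_map_mem_maximal_iff _ q]
        have hcore := UnivOpenCore.core (A := A) (E := E) (R := R)
          (hredK (ResidueField R)) q (RingHom.ker χ) hmax ψ hψ
          (fun Q _ hQE hQR t ht s hs n =>
            dvrOpen_transfer χ q hq hχ hUO R Q hQE hQR t ht s hs n) x hx
        rw [hψg] at hcore
        rw [← Ideal.Quotient.eq_zero_iff_mem]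
        apply hinj
        rw [map_zero]
        exact hcore
    have h3 : sInf (minimalPrimes (Localization.AtPrime q)) =
        nilradical (Localization.AtPrime q) := Ideal.sInf_minimalPrimes
    rw [h3, nilradical_eq_bot_iff.mpr hredE] at hnil
    exact hnil
  have hbij : Function.Bijective (toC χ q hq) := by
    refine ⟨?_, toC_surjective χ q hq hχ⟩
    rw [injective_iff_map_eq_zero]
    intro x hx
    have h1 := mem_ker_toC χ q hq x hx
    have h2 : (RingHom.ker χ).map (algebraMap E (Localization.AtPrime q)) ≤ ⊥ := by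
      rw [Ideal.map_le_iff_le_comap]
      intro y hy
      exact key y hy
    exact h2 h1
  have hflat : Module.Flat A (Localization.AtPrime q) := Module.Flat.trans A E _
  exact Module.Flat.of_linearEquiv (AlgEquiv.ofBijective (toC χ q hq) hbij).symm.toLinearEquiv

end

end Groth.Agent.Ega43.UnivOpenFlat
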