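import Groth.Agent.Ega43.DvrOpenLoc
import Groth.Agent.Ega43.LocalFlat
import Groth.Agent.Ega43.GeomFibreRed
import Groth.Agent.Ega43.UnivOpenDvr
import Mathlib.AlgebraicGeometry.Morphisms.UniversallyOpen
import Mathlib.AlgebraicGeometry.Noetherian

set_option autoImplicit false

open CategoryTheory CategoryTheory.Limits AlgebraicGeometry TensorProduct IsLocalRing

namespace Groth.Agent.Ega43.UnivOpenFlatGeom

universe u

/-- A point of `Spec 𝒪_x` containing `𝔪_y 𝒪_x` lies over `y`. -/
theorem apply_fromSpecStalk_eq {X Y : Scheme.{u}} (f : X ⟶ Y) (x : X)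
    (z : Spec (X.presheaf.stalk x)) :
    f (X.fromSpecStalk x z) = f x ↔
      (maximalIdeal (Y.presheaf.stalk (f x))).map (f.stalkMap x).hom ≤ z.asIdeal := by
  have h1 : f (X.fromSpecStalk x z) = Y.fromSpecStalk (f x) (Spec.map (f.stalkMap x) z) := by
    rw [← Scheme.Hom.comp_apply, ← Scheme.Hom.comp_apply, Scheme.SpecMap_stalkMap_fromSpecStalk]
  rw [h1, Ideal.map_le_iff_le_comap]
  constructor
  · intro h
    have h2 : Spec.map (f.stalkMap x) z = closedPoint (Y.presheaf.stalk (f x)) := by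
      apply (Y.fromSpecStalk (f x)).isEmbedding.injective
      rw [h]
      exact Scheme.fromSpecStalk_closedPoint.symm
    have h3 := congrArg PrimeSpectrum.asIdeal h2
    exact h3.symm.le
  · intro h
    have h2 : Spec.map (f.stalkMap x) z = closedPoint (Y.presheaf.stalk (f x)) := by
      apply PrimeSpectrum.ext
      refine le_antisymm ?_ h
      exact IsLocalRing.le_maximalIdeal (Spec.map (f.stalkMap x) z).2.ne_top
    rw [h2]
    exact Scheme.fromSpecStalk_closedPoint

/-- The point of the fibre of `f` over `f x` corresponding to a minimal prime over `𝔪_y 𝒪_x` is the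
generic point of an irreducible component of the fibre through `x`. -/
theorem exists_fiber_point {X Y : Scheme.{u}} (f : X ⟶ Y) (x : X)
    (z : Spec (X.presheaf.stalk x))
    (hz : z.asIdeal ∈ ((maximalIdeal (Y.presheaf.stalk (f x))).map
      (f.stalkMap x).hom).minimalPrimes) :
    ∃ w : ↥(f.fiber (f x)), f.fiberι (f x) w = X.fromSpecStalk x z ∧
      f.asFiber x ∈ closure {w} ∧ ∀ w' : ↥(f.fiber (f x)), w ∈ closure {w'} → w' = w := by
  have hfz : f (X.fromSpecStalk x z) = f x := (apply_fromSpecStalk_eq f x z).mpr hz.1.2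
  have h1 : X.fromSpecStalk x z ∈ Set.range (f.fiberι (f x)) := by
    rw [Scheme.Hom.range_fiberι]
    exact hfz
  obtain ⟨w, hw⟩ := h1
  refine ⟨w, hw, ?_, ?_⟩
  · rw [← specializes_iff_mem_closure,
      ← (f.fiberι (f x)).isEmbedding.isInducing.specializes_iff, hw, Scheme.Hom.fiberι_asFiber]
    have h2 : X.fromSpecStalk x z ∈ Set.range (X.fromSpecStalk x) := ⟨z, rfl⟩
    rw [Scheme.range_fromSpecStalk] at h2
    exact h2
  · intro w' hw'
    rw [← specializes_iff_mem_closure,
      ← (f.fiberι (f x)).isEmbedding.isInducing.specializes_iff, hw] at hw'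
    have h2 : X.fromSpecStalk x z ∈ Set.range (X.fromSpecStalk x) := ⟨z, rfl⟩
    rw [Scheme.range_fromSpecStalk] at h2
    have h3 : f.fiberι (f x) w' ⤳ x := hw'.trans h2
    have h4 : f.fiberι (f x) w' ∈ Set.range (X.fromSpecStalk x) := by
      rw [Scheme.range_fromSpecStalk]
      exact h3
    obtain ⟨v, hv⟩ := h4
    rw [← hv, (X.fromSpecStalk x).isEmbedding.isInducing.specializes_iff] at hw'
    have h5 : v.asIdeal ≤ z.asIdeal := (PrimeSpectrum.le_iff_specializes v z).mpr hw'
    have h6 : f (X.fromSpecStalk x v) = f x := by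
      rw [hv]
      have : f.fiberι (f x) w' ∈ Set.range (f.fiberι (f x)) := ⟨w', rfl⟩
      rw [Scheme.Hom.range_fiberι] at this
      exact this
    have h7 := (apply_fromSpecStalk_eq f x v).mp h6
    have h8 : z.asIdeal ≤ v.asIdeal := hz.2 ⟨v.2, h7⟩ h5
    have h9 : v = z := PrimeSpectrum.ext (le_antisymm h5 h8)
    apply (f.fiberι (f x)).isEmbedding.injective
    rw [hw, ← hv, h9]

/-- Abstract form of `flat_stalkMap` below. -/
theorem flat_aux {X Y : Scheme.{u}} (f : X ⟶ Y) (A B : CommRingCat.{u}) [Algebra A B]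
    (a : Spec A ⟶ Y) [Mono a] (b : Spec B ⟶ X) [Flat b]
    (h : b ≫ f = Spec.map (CommRingCat.ofHom (algebraMap A B)) ≫ a)
    [IsLocalRing A] [IsNoetherianRing A] [_root_.IsReduced A] [IsLocalRing B]
    [IsLocalHom (algebraMap A B)] [Algebra.EssFiniteType A B]
    (hred : _root_.IsReduced (AlgebraicClosure (ResidueField A) ⊗[A] B))
    (hopen : ∀ z : PrimeSpectrum B,
      z.asIdeal ∈ ((maximalIdeal A).map (algebraMap A B)).minimalPrimes →
      EGA43.IsUnivOpenAt f (b z)) : Module.Flat A B := by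
  refine LocalFlat.flat_of_dvrOpen_minimalPrimes hred ?_
  intro z hz hzmin
  refine UnivOpenFlat.dvrOpen_atPrime z ?_
  intro R _ _ _ _ Q _ hQB hQR t ht s hs n
  exact UnivOpenDvr.dvrOpen_of_isUnivOpenAt f (A := A) (B := B) a b h ⟨z, hz⟩
    (hopen ⟨z, hz⟩ hzmin) R Q hQB hQR t ht s hs n

/-- EGA IV 15.2.3. -/
theorem flat_stalkMap {X Y : Scheme.{u}} [IsLocallyNoetherian Y]
    (f : X ⟶ Y) [LocallyOfFiniteType f] (x : X)
    (hopen : ∀ z : ↥(f.fiber (f x)), f.asFiber x ∈ closure {z} →
      (∀ z' : ↥(f.fiber (f x)), z ∈ closure {z'} → z' = z) →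
      EGA43.IsUnivOpenAt f ((f.fiberι (f x)) z))
    (hred : FBase.IsGeomReducedAt (k := Y.residueField (f x)) (f.fiberToSpecResidueField (f x))
      (f.asFiber x))
    (hy : _root_.IsReduced (Y.presheaf.stalk (f x))) :
    (f.stalkMap x).hom.Flat := by
  let _ : Algebra (Y.presheaf.stalk (f x)) (X.presheaf.stalk x) := (f.stalkMap x).hom.toAlgebra
  have halg : CommRingCat.ofHom (algebraMap (Y.presheaf.stalk (f x)) (X.presheaf.stalk x)) =
    f.stalkMap x := rfl
  have hess : Algebra.EssFiniteType (Y.presheaf.stalk (f x)) (X.presheaf.stalk x) :=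
    LocallyOfFiniteType.stalkMap f x
  have hloc : IsLocalHom (algebraMap (Y.presheaf.stalk (f x)) (X.presheaf.stalk x)) :=
    f.toLRSHom.prop x
  have hflat : Flat (X.fromSpecStalk x) := StalkPull.flat_fromSpecStalk X x
  have hredK := GeomFibreStalk.isReduced_of_isGeomReducedAt f x hred halg
  have h : X.fromSpecStalk x ≫ f = Spec.map (CommRingCat.ofHom
      (algebraMap (Y.presheaf.stalk (f x)) (X.presheaf.stalk x))) ≫ Y.fromSpecStalk (f x) := by
    rw [halg]
    exact (Scheme.SpecMap_stalkMap_fromSpecStalk f).symm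
  exact flat_aux f (Y.presheaf.stalk (f x)) (X.presheaf.stalk x) (Y.fromSpecStalk (f x))
    (X.fromSpecStalk x) h hredK (by
      intro z hz
      obtain ⟨w, hw, hw1, hw2⟩ := exists_fiber_point f x z hz
      rw [← hw]
      exact hopen w hw1 hw2)

/-- A universally open morphism is universally open at every point. -/
theorem isUnivOpenAt_of_universallyOpen {X Y : Scheme.{u}} (f : X ⟶ Y) [UniversallyOpen f] (x : X) :
    EGA43.IsUnivOpenAt f x := by
  intro Y' g x' _ U hU
  exact (pullback.snd f g).isOpenMap.image_mem_nhds hU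

end Groth.Agent.Ega43.UnivOpenFlatGeom
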