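import Mathlib.AlgebraicGeometry.Morphisms.UniversallyOpen
import Mathlib.AlgebraicGeometry.PullbackCarrier
import Mathlib.AlgebraicGeometry.Pullbacks
import Mathlib.RingTheory.TensorProduct.MvPolynomial
import Mathlib.LinearAlgebra.TensorProduct.Finiteness
import Mathlib.Algebra.MvPolynomial.Equiv

/-!
# Universal openness of affine morphisms is checked on polynomial rings

`Spec B ⟶ Spec A` is universally open as soon as `Spec B[x₁,…,xₙ] ⟶ Spec A[x₁,…,xₙ]` is open for every `n`.
-/

set_option autoImplicit false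
open CategoryTheory AlgebraicGeometry TensorProduct
universe u

namespace Groth.Agent.Ega43.UnivOpenPoly

section square

variable {A B C : Type u} [CommRing A] [CommRing B] [CommRing C] [Algebra A B] [Algebra A C]

attribute [local instance] Algebra.TensorProduct.rightAlgebra MvPolynomial.algebraMvPolynomial

/-- The map `A[x] → C`. -/
noncomputable def evC {n : ℕ} (c : Fin n → C) : MvPolynomial (Fin n) A →+* C :=
  (MvPolynomial.aeval c).toRingHom

/-- The map `B[x] → C ⊗[A] B`. -/
noncomputable def evD {n : ℕ} (c : Fin n → C) : MvPolynomial (Fin n) B →+* C ⊗[A] B :=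
  MvPolynomial.eval₂Hom (Algebra.TensorProduct.includeRight : B →ₐ[A] C ⊗[A] B).toRingHom
    (fun i => c i ⊗ₜ 1)

lemma isPushout_ev {n : ℕ} (c : Fin n → C) :
    IsPushout (CommRingCat.ofHom (evC (A := A) c))
      (CommRingCat.ofHom (MvPolynomial.map (σ := Fin n) (algebraMap A B)))
      (CommRingCat.ofHom (algebraMap C (C ⊗[A] B)))
      (CommRingCat.ofHom (evD (A := A) (B := B) c)) := by
  let a1 : Algebra (MvPolynomial (Fin n) A) C := (evC (A := A) c).toAlgebra
  let a2 : Algebra (MvPolynomial (Fin n) B) (C ⊗[A] B) := (evD (A := A) (B := B) c).toAlgebra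
  have t1 : IsScalarTower A (MvPolynomial (Fin n) A) C := .of_algebraMap_eq fun x => by
    change _ = evC (A := A) c _
    simp [evC]
  have t2 : IsScalarTower (MvPolynomial (Fin n) A) C (C ⊗[A] B) := inferInstance
  have t3 : IsScalarTower B (MvPolynomial (Fin n) B) (C ⊗[A] B) := .of_algebraMap_eq fun x => by
    change _ = evD (A := A) (B := B) c _
    simp [evD, Algebra.TensorProduct.right_algebraMap_apply]
  have t4 : IsScalarTower A (MvPolynomial (Fin n) B) (C ⊗[A] B) := .of_algebraMap_eq fun x => by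
    change _ = evD (A := A) (B := B) c _
    simp only [evD, MvPolynomial.algebraMap_eq, IsScalarTower.algebraMap_apply A B (MvPolynomial (Fin n) B)]
    simp
  have t5 : IsScalarTower (MvPolynomial (Fin n) A) (MvPolynomial (Fin n) B) (C ⊗[A] B) :=
    .of_algebraMap_eq' <| by
      change (algebraMap C (C ⊗[A] B)).comp (evC (A := A) c) =
        (evD (A := A) (B := B) c).comp (MvPolynomial.map (σ := Fin n) (algebraMap A B))
      refine MvPolynomial.ringHom_ext (fun r => ?_) (fun i => ?_)
      · simp [evC, evD]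
      · simp [evC, evD]
  have : Algebra.IsPushout A C B (C ⊗[A] B) := inferInstance
  have key : Algebra.IsPushout (MvPolynomial (Fin n) A) C (MvPolynomial (Fin n) B) (C ⊗[A] B) :=
    (Algebra.IsPushout.comp_iff A (MvPolynomial (Fin n) A) B (MvPolynomial (Fin n) B)).mp
      inferInstance
  exact CommRingCat.isPushout_of_isPushout (MvPolynomial (Fin n) A) C (MvPolynomial (Fin n) B)
    (C ⊗[A] B)

lemma exists_evD (g : C ⊗[A] B) : ∃ (n : ℕ) (c : Fin n → C) (p : MvPolynomial (Fin n) B),
    evD (A := A) (B := B) c p = g := by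
  obtain ⟨S, hS⟩ := TensorProduct.exists_finset g
  let e := S.equivFin
  refine ⟨S.card, fun i => (e.symm i).1.1,
    ∑ i, MvPolynomial.X i * MvPolynomial.C (e.symm i).1.2, ?_⟩
  rw [map_sum, hS]
  have : ∀ i : Fin S.card, evD (A := A) (B := B) (fun i => (e.symm i).1.1)
      (MvPolynomial.X i * MvPolynomial.C (e.symm i).1.2) =
      (e.symm i).1.1 ⊗ₜ[A] (e.symm i).1.2 := fun i => by
    simp [evD]
  rw [Finset.sum_congr rfl (fun i _ => this i), ← Finset.sum_coe_sort S]
  exact e.symm.sum_comp (fun i : S => i.1.1 ⊗ₜ[A] i.1.2)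

end square

/-- If `A[x₁,…,xₙ] → B[x₁,…,xₙ]` is open on spectra for every `n`, then so is `C → C ⊗[A] B` for
every `A`-algebra `C`. -/
theorem isOpenMap_tensor_of_mvPolynomial {A B : Type u} [CommRing A] [CommRing B] [Algebra A B]
    (h : ∀ n : ℕ, IsOpenMap
      (PrimeSpectrum.comap (MvPolynomial.map (σ := Fin n) (algebraMap A B))))
    (C : Type u) [CommRing C] [Algebra A C] :
    IsOpenMap (PrimeSpectrum.comap (algebraMap C (C ⊗[A] B))) := by
  rw [(PrimeSpectrum.isTopologicalBasis_basic_opens).isOpenMap_iff]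
  rintro _ ⟨g, rfl⟩
  obtain ⟨n, c, p, rfl⟩ := exists_evD (A := A) (B := B) g
  have hpb := AlgebraicGeometry.isPullback_SpecMap_of_isPushout _ _ _ _
    (isPushout_ev (A := A) (B := B) c)
  have key := AlgebraicGeometry.Scheme.image_preimage_eq_of_isPullback hpb.flip
    (PrimeSpectrum.basicOpen p : Set (PrimeSpectrum (MvPolynomial (Fin n) B)))
  have e1 : (Spec.map (CommRingCat.ofHom (evD (A := A) (B := B) c))).base ⁻¹'
      (PrimeSpectrum.basicOpen p : Set (PrimeSpectrum (MvPolynomial (Fin n) B))) =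
      (PrimeSpectrum.basicOpen (evD (A := A) (B := B) c p) : Set (PrimeSpectrum (C ⊗[A] B))) := rfl
  rw [e1] at key
  change IsOpen ((Spec.map (CommRingCat.ofHom (algebraMap C (C ⊗[A] B)))).base ''
    (PrimeSpectrum.basicOpen (evD (A := A) (B := B) c p) : Set (PrimeSpectrum (C ⊗[A] B))))
  rw [key]
  exact ((h n) _ (PrimeSpectrum.basicOpen p).isOpen).preimage
    (Spec.map (CommRingCat.ofHom (evC (A := A) c))).continuous

/-- Universal openness of `Spec B ⟶ Spec A` can be checked on polynomial rings. -/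
theorem universallyOpen_of_mvPolynomial {A B : Type u} [CommRing A] [CommRing B] [Algebra A B]
    (h : ∀ n : ℕ, IsOpenMap
      (PrimeSpectrum.comap (MvPolynomial.map (σ := Fin n) (algebraMap A B)))) :
    UniversallyOpen (Spec.map (CommRingCat.ofHom (algebraMap A B))) := by
  refine ⟨MorphismProperty.universally_mk' _ _ fun {T} g _ ↦ ?_⟩
  wlog hT : ∃ R, T = Spec R
  · refine (IsZariskiLocalAtTarget.iff_of_openCover T.affineCover).mpr fun i ↦ ?_
    refine (MorphismProperty.cancel_left_of_respectsIso _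
      ((Limits.pullbackRightPullbackFstIso ..).inv ≫ (Limits.pullbackSymmetry ..).hom) _).mp ?_
    simpa [Scheme.Cover.pullbackHom] using! this h _ _ ⟨_, rfl⟩
  obtain ⟨R, rfl⟩ := hT
  obtain ⟨ψ, rfl⟩ := Spec.map_surjective g
  algebraize [ψ.hom]
  refine (MorphismProperty.cancel_left_of_respectsIso _ (pullbackSpecIso A R B).inv _).mp ?_
  convert_to! topologically _
    (Spec.map <| CommRingCat.ofHom (algebraMap R (TensorProduct A R B)))
  · exact pullbackSpecIso_inv_fst ..
  exact isOpenMap_tensor_of_mvPolynomial h R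

end Groth.Agent.Ega43.UnivOpenPoly
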